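import Cfsg.Agent.Fus.SL2Aut

/-!
Abelian `p`-groups `H` of rank at most two and groups `A ≤ Aut(H)` with a strongly `p`-embedded
subgroup (`SEOut p A`): `H` is homocyclic of rank two, and elementary abelian if `p ≥ 5`.
-/

set_option autoImplicit false

namespace Cfsg.Agent.FusSE

open Cfsg

section RelIndexChain

variable {H : Type*} [Group H] {p : ℕ}

/-- A version of `SEOut.no_chain` with relative indices at most `p`. -/
theorem SEOut.no_chain_relIndex [Finite H] [Fact p.Prime] (hH : IsPGroup p H)
    {A : Subgroup (MulAut H)} (h : SEOut p A) {n : ℕ}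
    {c : ℕ → Subgroup H} (h0 : c 0 = ⊥) (hn : c n = ⊤) (hmono : Monotone c)
    (hnormal : ∀ i < n, ((c i).subgroupOf (c (i + 1))).Normal)
    (hrel : ∀ i < n, (c i).relIndex (c (i + 1)) ≤ p)
    (hinv : ∀ α ∈ A, ∀ i, ∀ x ∈ c i, α x ∈ c i) : False := by
  have hp : p.Prime := Fact.out
  refine h.no_chain hH h0 hn hmono hnormal (fun i hi => ?_) hinv
  have hle : c i ≤ c (i + 1) := hmono (Nat.le_succ i)
  have h1 : (c i).relIndex (c (i + 1)) ∣ Nat.card (c (i + 1)) := Subgroup.relIndex_dvd_card _ _
  obtain ⟨k, hk⟩ := (hH.to_subgroup (c (i + 1))).exists_card_eq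
  rw [hk] at h1
  obtain ⟨j, -, hj⟩ := (Nat.dvd_prime_pow hp).mp h1
  have h2 := hrel i hi
  have h3 : Nat.card (c (i + 1)) = (c i).relIndex (c (i + 1)) * Nat.card (c i) := by
    have h4 := Subgroup.index_mul_card ((c i).subgroupOf (c (i + 1)))
    have h5 : Nat.card ((c i).subgroupOf (c (i + 1))) = Nat.card (c i) :=
      Nat.card_congr (Subgroup.subgroupOfEquivOfLe hle).toEquiv
    rw [h5] at h4
    exact h4.symm
  rw [hj] at h2 h3
  have hj1 : j ≤ 1 := by
    by_contra hcon
    have : p ^ 2 ≤ p ^ j := Nat.pow_le_pow_right hp.pos (by omega)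
    have h6 : p * p ≤ p * 1 := by rw [mul_one, ← sq]; exact this.trans h2
    exact absurd (Nat.le_of_mul_le_mul_left h6 hp.pos) (not_le.mpr hp.one_lt)
  interval_cases j
  · right
    rw [pow_zero, one_mul] at h3
    exact (Subgroup.eq_of_le_of_card_ge hle h3.le).symm
  · left
    rw [h3, pow_one]

end RelIndexChain

section Abelian

variable {H : Type*} [CommGroup H] {p : ℕ}

/-- The elements of order dividing `p ^ i`. -/
def om (H : Type*) [CommGroup H] (p i : ℕ) : Subgroup H := (powMonoidHom (p ^ i) : H →* H).ker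

theorem mem_om {i : ℕ} {x : H} : x ∈ om H p i ↔ x ^ p ^ i = 1 := Iff.rfl

theorem om_zero : om H p 0 = ⊥ := by
  ext x
  rw [mem_om, pow_zero, pow_one, Subgroup.mem_bot]

theorem om_mono : Monotone (om H p) := by
  apply monotone_nat_of_le_succ
  intro i x hx
  rw [mem_om] at hx ⊢
  rw [pow_succ, pow_mul, hx, one_pow]

theorem om_invariant (α : MulAut H) (i : ℕ) (x : H) (hx : x ∈ om H p i) : α x ∈ om H p i := by
  rw [mem_om] at hx ⊢
  rw [← map_pow, hx, map_one]

/-- relative indices do not grow under pull back. -/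
theorem relIndex_comap_le [Finite H] (f : H →* H) (K L : Subgroup H) :
    (K.comap f).relIndex (L.comap f) ≤ K.relIndex L := by
  rw [Subgroup.relIndex_comap]
  exact Subgroup.relIndex_le_of_le_right (Subgroup.map_comap_le f L)
    (Subgroup.FiniteIndex.index_ne_zero)

theorem om_succ_eq_comap (i : ℕ) : om H p (i + 1) = (om H p 1).comap (powMonoidHom (p ^ i)) := by
  ext x
  rw [Subgroup.mem_comap, mem_om, mem_om, powMonoidHom_apply, pow_one, ← pow_mul, ← pow_succ]

theorem om_eq_comap (i : ℕ) : om H p i = (⊥ : Subgroup H).comap (powMonoidHom (p ^ i)) := rfl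

/-- An abelian `p`-group of rank at most two has no `A`-invariant subgroup of order `p`. -/
theorem SEOut.card_ne_prime_of_rank_two [Finite H] [Fact p.Prime] (hH : IsPGroup p H)
    {A : Subgroup (MulAut H)} (h : SEOut p A) (hr : Nat.card (om H p 1) ≤ p ^ 2)
    {Z : Subgroup H} (hZ : Nat.card Z = p) (hinv : ∀ α ∈ A, ∀ x ∈ Z, α x ∈ Z) : False := by
  have hp : p.Prime := Fact.out
  obtain ⟨n, hn⟩ := hH.exists_card_eq
  have hZom : Z ≤ om H p 1 := by
    intro x hx
    rw [mem_om, pow_one]
    have : orderOf (⟨x, hx⟩ : Z) ∣ p := hZ ▸ orderOf_dvd_natCard _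
    have h1 := orderOf_dvd_iff_pow_eq_one.mp this
    exact congrArg Subtype.val h1
  let c : ℕ → Subgroup H := fun i =>
    if i % 2 = 0 then om H p (i / 2) else Z.comap (powMonoidHom (p ^ (i / 2)))
  have hc0 : ∀ i, c (2 * i) = om H p i := by
    intro i
    have h1 : (2 * i) % 2 = 0 := by omega
    have h2 : (2 * i) / 2 = i := by omega
    simp only [c, h1, h2, if_true]
  have hc1 : ∀ i, c (2 * i + 1) = Z.comap (powMonoidHom (p ^ i)) := by
    intro i
    have h1 : ¬ (2 * i + 1) % 2 = 0 := by omega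
    have h2 : (2 * i + 1) / 2 = i := by omega
    simp only [c, h1, h2, if_false]
  have hZrel : Z.relIndex (om H p 1) ≤ p := by
    have h4 := Subgroup.index_mul_card (Z.subgroupOf (om H p 1))
    have h5 : Nat.card (Z.subgroupOf (om H p 1)) = p := by
      exact (Nat.card_congr (Subgroup.subgroupOfEquivOfLe hZom).toEquiv).trans hZ
    rw [h5] at h4
    have h6 : (Z.subgroupOf (om H p 1)).index * p ≤ p * p := by rw [h4, ← sq]; exact hr
    exact Nat.le_of_mul_le_mul_right h6 hp.pos
  have hbotrel : (⊥ : Subgroup H).relIndex Z ≤ p := by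
    rw [Subgroup.relIndex_bot_left, hZ]
  refine h.no_chain_relIndex hH (n := 2 * n) (c := c) ?_ ?_ ?_ ?_ ?_ ?_
  · have := hc0 0
    rw [mul_zero] at this
    rw [this, om_zero]
  · rw [hc0, Subgroup.eq_top_iff']
    intro x
    rw [mem_om, ← hn]
    exact pow_card_eq_one'
  · apply monotone_nat_of_le_succ
    intro i
    obtain ⟨j, rfl | rfl⟩ := Nat.even_or_odd' i
    · rw [hc0, hc1, om_eq_comap]
      exact Subgroup.comap_mono bot_le
    · have h1 : 2 * j + 1 + 1 = 2 * (j + 1) := by ring
      rw [hc1, h1, hc0, om_succ_eq_comap]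
      exact Subgroup.comap_mono hZom
  · intro i _
    exact inferInstance
  · intro i _
    obtain ⟨j, rfl | rfl⟩ := Nat.even_or_odd' i
    · rw [hc0, hc1, om_eq_comap]
      exact (relIndex_comap_le _ _ _).trans hbotrel
    · have h1 : 2 * j + 1 + 1 = 2 * (j + 1) := by ring
      rw [hc1, h1, hc0, om_succ_eq_comap]
      exact (relIndex_comap_le _ _ _).trans hZrel
  · intro α hα i x hx
    obtain ⟨j, rfl | rfl⟩ := Nat.even_or_odd' i
    · rw [hc0] at hx ⊢
      exact om_invariant α j x hx
    · rw [hc1] at hx ⊢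
      rw [Subgroup.mem_comap, powMonoidHom_apply] at hx ⊢
      rw [← map_pow]
      exact hinv α hα _ hx

/-- For a finite abelian `p`-group the Frattini subgroup lies in the `p`-th powers. -/
theorem frattini_le_range_pow [Finite H] [hp : Fact p.Prime] :
    frattini H ≤ (powMonoidHom p : H →* H).range := by
  intro x hx
  by_contra hxR
  -- a maximal subgroup containing the `p`-th powers but not `x`
  obtain ⟨M, hM⟩ := Set.Finite.exists_maximal
    (s := {M : Subgroup H | (powMonoidHom p : H →* H).range ≤ M ∧ x ∉ M}) (Set.toFinite _)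
    ⟨_, le_rfl, hxR⟩
  have hMmem := hM.prop
  have hco : IsCoatom M := by
    refine ⟨?_, ?_⟩
    · rintro rfl
      exact hMmem.2 (Subgroup.mem_top x)
    · intro K hK
      have hxK : x ∈ K := by
        by_contra hxK
        exact absurd (hM.le_of_ge ⟨hMmem.1.trans hK.le, hxK⟩ hK.le) (not_le_of_gt hK)
      rw [Subgroup.eq_top_iff']
      intro y
      by_cases hy : y ∈ M
      · exact hK.le hy
      · -- `x ∈ M ⊔ ⟨y⟩`
        have h1 : x ∈ M ⊔ Subgroup.zpowers y := by
          by_contra hx'
          have h2 := hM.le_of_ge (y := M ⊔ Subgroup.zpowers y) ⟨hMmem.1.trans le_sup_left, hx'⟩ le_sup_left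
          exact hy (h2 ((le_sup_right : Subgroup.zpowers y ≤ _) (Subgroup.mem_zpowers y)))
        obtain ⟨m, hm, z, ⟨j, hj⟩, hmz⟩ := Subgroup.mem_sup.mp h1
        have hj' : y ^ j = z := hj
        have hyp : y ^ p ∈ M := hMmem.1 ⟨y, rfl⟩
        have hcop : IsCoprime j (p : ℤ) := by
          rw [Int.isCoprime_iff_gcd_eq_one]
          by_contra hne
          have hdvd : (p : ℤ) ∣ j := by
            have hpc : ¬ Nat.Coprime j.natAbs p := by
              intro hc
              apply hne
              rw [Int.gcd_eq_natAbs]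
              simpa using hc
            have := (Nat.Prime.coprime_iff_not_dvd hp.out).not_left.mp (fun hc => hpc hc.symm)
            exact Int.natCast_dvd.mpr (by simpa using this)
          obtain ⟨l, rfl⟩ := hdvd
          apply hMmem.2
          rw [← hmz, ← hj', zpow_mul, zpow_natCast]
          exact M.mul_mem hm (M.zpow_mem hyp l)
        obtain ⟨a, b, hab⟩ := hcop
        have hyK : y = (y ^ j) ^ a * (y ^ p) ^ b := by
          rw [← zpow_natCast, ← zpow_mul, ← zpow_mul, ← zpow_add]
          have : j * a + (p : ℤ) * b = 1 := by rw [← hab]; ring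
          rw [this, zpow_one]
        rw [hyK]
        refine K.mul_mem (K.zpow_mem ?_ a) (K.zpow_mem (hK.le hyp) b)
        have : y ^ j = m⁻¹ * x := by rw [← hmz, hj']; group
        rw [this]
        exact K.mul_mem (K.inv_mem (hK.le hm)) hxK
  exact hMmem.2 ((frattini_le_coatom hco) hx)

theorem card_om_one_le [Finite H] [hp : Fact p.Prime] (hfr : (frattini H).index ≤ p ^ 2) :
    Nat.card (om H p 1) ≤ p ^ 2 := by
  have h1 : (powMonoidHom p : H →* H).range.index ≤ (frattini H).index :=
    Subgroup.index_antitone frattini_le_range_pow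
  have h2 := Subgroup.card_mul_index (om H p 1)
  have h3 : (om H p 1).index = Nat.card (powMonoidHom p : H →* H).range := by
    have h4 : om H p 1 = (powMonoidHom p : H →* H).ker := by
      ext x; rw [mem_om, pow_one]; rfl
    rw [h4, Subgroup.index_ker]
  have h4 := Subgroup.card_mul_index (powMonoidHom p : H →* H).range
  rw [h3] at h2
  have h5 : Nat.card (om H p 1) = (powMonoidHom p : H →* H).range.index := by
    have hpos : 0 < Nat.card (powMonoidHom p : H →* H).range := Nat.card_pos
    apply Nat.eq_of_mul_eq_mul_left hpos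
    rw [h4, ← h2, mul_comm]
  rw [h5]
  exact h1.trans hfr

theorem card_om_succ_le [Finite H] [Fact p.Prime] (hr : Nat.card (om H p 1) ≤ p ^ 2) (i : ℕ) :
    Nat.card (om H p (i + 1)) ≤ p ^ 2 * Nat.card (om H p i) := by
  have hle : om H p i ≤ om H p (i + 1) := om_mono (Nat.le_succ i)
  have h4 := Subgroup.index_mul_card ((om H p i).subgroupOf (om H p (i + 1)))
  have h5 : Nat.card ((om H p i).subgroupOf (om H p (i + 1))) = Nat.card (om H p i) :=
    Nat.card_congr (Subgroup.subgroupOfEquivOfLe hle).toEquiv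
  rw [h5] at h4
  rw [← h4]
  apply Nat.mul_le_mul_right
  have h6 : (om H p i).relIndex (om H p (i + 1)) ≤ (⊥ : Subgroup H).relIndex (om H p 1) := by
    conv_lhs => rw [om_succ_eq_comap, om_eq_comap]
    exact relIndex_comap_le _ _ _
  rw [Subgroup.relIndex_bot_left] at h6
  exact h6.trans hr

theorem card_om_le [Finite H] [Fact p.Prime] (hr : Nat.card (om H p 1) ≤ p ^ 2) (i : ℕ) :
    Nat.card (om H p i) ≤ (p ^ i) ^ 2 := by
  induction i with
  | zero => rw [om_zero, Subgroup.card_bot]; simp
  | succ i ih =>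
    refine (card_om_succ_le hr i).trans ?_
    calc p ^ 2 * Nat.card (om H p i) ≤ p ^ 2 * (p ^ i) ^ 2 := Nat.mul_le_mul_left _ ih
      _ = (p ^ (i + 1)) ^ 2 := by ring

/-- An abelian `p`-group of rank two and exponent `p ^ (k+1)` in which every element of order `p` is a
`p ^ k`-th power is homocyclic. -/
theorem exists_homocyclic_equiv [Finite H] [Fact p.Prime] {k : ℕ}
    (hexp : ∀ x : H, x ^ p ^ (k + 1) = 1) (hr : Nat.card (om H p 1) = p ^ 2)
    (hpow : ∀ z ∈ om H p 1, ∃ x : H, x ^ p ^ k = z) :
    Nonempty (H ≃* Multiplicative (ZMod (p ^ (k + 1)) × ZMod (p ^ (k + 1)))) := by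
  have hp : p.Prime := Fact.out
  have hcardH : Nat.card H ≤ (p ^ (k + 1)) ^ 2 := by
    have h1 := card_om_le hr.le (k + 1)
    have h2 : om H p (k + 1) = ⊤ := by
      rw [Subgroup.eq_top_iff']
      exact hexp
    rwa [h2, Subgroup.card_top] at h1
  have hne : NeZero (p ^ (k + 1)) := ⟨pow_ne_zero _ hp.ne_zero⟩
  -- two independent elements of order `p`
  have hnt : Nontrivial (om H p 1) := Finite.one_lt_card_iff_nontrivial.mp (by
    rw [hr]; exact Nat.one_lt_pow two_ne_zero hp.one_lt)
  obtain ⟨⟨z, hz⟩, hz1⟩ := exists_ne (1 : om H p 1)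
  have hz1' : z ≠ 1 := fun h => hz1 (Subtype.ext h)
  have hzp : z ^ p = 1 := by have := mem_om.mp hz; rwa [pow_one] at this
  have hoz : orderOf z = p := orderOf_eq_prime hzp hz1'
  obtain ⟨w, hw, hwz⟩ : ∃ w ∈ om H p 1, w ∉ Subgroup.zpowers z := by
    by_contra hcon
    push Not at hcon
    have h1 : om H p 1 ≤ Subgroup.zpowers z := hcon
    have h2 := Subgroup.card_le_of_le h1
    rw [hr, Nat.card_zpowers, hoz] at h2
    have h3 : p * p ≤ p * 1 := by rw [mul_one, ← sq]; exact h2
    exact absurd (Nat.le_of_mul_le_mul_left h3 hp.pos) (not_le.mpr hp.one_lt)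
  have hwp : w ^ p = 1 := by have := mem_om.mp hw; rwa [pow_one] at this
  obtain ⟨x, hx⟩ := hpow z hz
  obtain ⟨y, hy⟩ := hpow w hw
  let f (t : H) : ZMod (p ^ (k + 1)) →+ Additive H :=
    ZMod.lift (p ^ (k + 1)) ⟨zmultiplesHom (Additive H) (Additive.ofMul t), by
      rw [zmultiplesHom_apply, natCast_zsmul, ← ofMul_pow, hexp]; rfl⟩
  have hf : ∀ t, f t 1 = Additive.ofMul t := by
    intro t
    have h := ZMod.lift_coe (p ^ (k + 1)) (⟨zmultiplesHom (Additive H) (Additive.ofMul t), by
      rw [zmultiplesHom_apply, natCast_zsmul, ← ofMul_pow, hexp]; rfl⟩ :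
        {f : ℤ →+ Additive H // f ((p ^ (k + 1) : ℕ) : ℤ) = 0}) 1
    simpa [f] using h
  have hfv : ∀ t s, f t s = Additive.ofMul (t ^ s.val) := by
    intro t s
    have h : s = s.val • (1 : ZMod (p ^ (k + 1))) := by simp
    conv_lhs => rw [h]
    rw [map_nsmul, hf, ofMul_pow]
  let g : (ZMod (p ^ (k + 1)) × ZMod (p ^ (k + 1))) →+ Additive H := AddMonoidHom.coprod (f x) (f y)
  have hg : ∀ s t, g (s, t) = Additive.ofMul (x ^ s.val * y ^ t.val) := by
    intro s t
    show f x s + f y t = _
    rw [hfv, hfv, ofMul_mul]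
  -- key: `x ^ a * y ^ b = 1` forces `p ^ (k+1)` to divide `a` and `b`
  have hkey : ∀ j ≤ k + 1, ∀ a b : ℕ, x ^ a * y ^ b = 1 → p ^ j ∣ a ∧ p ^ j ∣ b := by
    intro j
    induction j with
    | zero => intro _ a b _; simp
    | succ j ih =>
      intro hj a b hab
      obtain ⟨⟨a', rfl⟩, ⟨b', rfl⟩⟩ := ih (by omega) a b hab
      have h1 : z ^ a' * w ^ b' = 1 := by
        have h2 : (x ^ (p ^ j * a') * y ^ (p ^ j * b')) ^ p ^ (k - j) = 1 := by rw [hab, one_pow]
        rw [mul_pow, ← pow_mul, ← pow_mul] at h2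
        have h3 : p ^ j * a' * p ^ (k - j) = p ^ k * a' := by
          rw [mul_right_comm, ← pow_add]; congr 2; omega
        have h4 : p ^ j * b' * p ^ (k - j) = p ^ k * b' := by
          rw [mul_right_comm, ← pow_add]; congr 2; omega
        rwa [h3, h4, pow_mul, pow_mul, hx, hy] at h2
      have hb' : p ∣ b' := by
        by_contra hb'
        apply hwz
        have h2 : w ^ b' ∈ Subgroup.zpowers z := by
          have : w ^ b' = (z ^ a')⁻¹ := by rw [eq_inv_iff_mul_eq_one, mul_comm]; exact h1
          rw [this]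
          exact inv_mem (pow_mem (Subgroup.mem_zpowers z) _)
        have hcop : Nat.Coprime b' p := ((Nat.Prime.coprime_iff_not_dvd hp).mpr hb').symm
        obtain ⟨c, hc⟩ := Nat.exists_mul_mod_eq_one_of_coprime hcop hp.one_lt
        have h3 : (w ^ b') ^ c = w := by
          rw [← pow_mul]
          conv_rhs => rw [← pow_one w]
          rw [pow_eq_pow_iff_modEq]
          have h5 : b' * c ≡ 1 [MOD p] := by
            rw [Nat.ModEq, hc.2, Nat.mod_eq_of_lt hp.one_lt]
          exact h5.of_dvd (orderOf_dvd_of_pow_eq_one hwp)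
        rw [← h3]
        exact pow_mem h2 _
      have ha' : p ∣ a' := by
        obtain ⟨b'', rfl⟩ := hb'
        rw [pow_mul, hwp, one_pow, mul_one] at h1
        rw [← hoz]
        exact orderOf_dvd_of_pow_eq_one h1
      rw [pow_succ]
      exact ⟨mul_dvd_mul_left _ ha', mul_dvd_mul_left _ hb'⟩
  have hginj : Function.Injective g := by
    rw [injective_iff_map_eq_zero]
    rintro ⟨s, t⟩ hst
    rw [hg, ofMul_eq_zero] at hst
    obtain ⟨h1, h2⟩ := hkey (k + 1) le_rfl _ _ hst
    have h3 := (ZMod.natCast_eq_zero_iff _ _).mpr h1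
    have h4 := (ZMod.natCast_eq_zero_iff _ _).mpr h2
    rw [ZMod.natCast_zmod_val] at h3 h4
    rw [h3, h4]; rfl
  have hbij : Function.Bijective g := by
    have hcard2 : Nat.card (ZMod (p ^ (k + 1)) × ZMod (p ^ (k + 1))) = (p ^ (k + 1)) ^ 2 := by
      rw [Nat.card_prod, Nat.card_zmod, sq]
    refine (Nat.bijective_iff_injective_and_card g).mpr ⟨hginj, ?_⟩
    apply le_antisymm
    · exact Nat.card_le_card_of_injective g hginj
    · rw [hcard2]; exact hcardH
  exact ⟨(AddEquiv.toMultiplicativeLeft (AddEquiv.ofBijective g hbij)).symm⟩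

/-- An automorphism in `A` trivial on the elements of order `p` is trivial. -/
theorem SEOut.eq_one_of_trivial_on_om [Finite H] [Fact p.Prime] (hH : IsPGroup p H)
    {A : Subgroup (MulAut H)} (h : SEOut p A) {α : MulAut H} (hα : α ∈ A)
    (htriv : ∀ z ∈ om H p 1, α z = z) : α = 1 := by
  obtain ⟨n, hn⟩ := hH.exists_card_eq
  have h1 : α ∈ Inn H := by
    refine h.mem_inn_of_actsTriv hH (n := n) (c := om H p) om_zero ?_ om_mono
      (fun α _ i x hx => om_invariant α i x hx) hα ?_
    · rw [Subgroup.eq_top_iff']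
      intro x
      rw [mem_om, ← hn]
      exact pow_card_eq_one'
    · intro i _ x hx
      rw [mem_om, mul_pow, inv_pow, ← map_pow, htriv, mul_inv_cancel]
      rw [mem_om, pow_one, ← pow_mul, ← pow_succ]
      exact hx
  obtain ⟨g, rfl⟩ := h1
  ext x
  rw [MulAut.conj_apply, MulAut.one_apply, mul_comm g x, mul_inv_cancel_right]

theorem SEOut.rank_two [Finite H] [Fact p.Prime] (hH : IsPGroup p H)
    {A : Subgroup (MulAut H)} (h : SEOut p A) (hr : Nat.card (om H p 1) ≤ p ^ 2) :
    ((∀ x : H, x ^ p = 1) ∧ Nat.card H = p ^ 2) ∨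
      (p ≤ 3 ∧ ∃ k : ℕ, Nonempty (H ≃* Multiplicative (ZMod (p ^ k) × ZMod (p ^ k)))) := by
  have hp : p.Prime := Fact.out
  have hnt : Nontrivial H := by
    by_contra hnt
    rw [not_nontrivial_iff_subsingleton] at hnt
    exact h.not_isCyclic isCyclic_of_subsingleton
  -- the exponent
  obtain ⟨k, hk, hkx⟩ : ∃ k : ℕ, (∀ x : H, x ^ p ^ (k + 1) = 1) ∧ ∃ x : H, x ^ p ^ k ≠ 1 := by
    have hex : ∃ n, ∀ x : H, x ^ p ^ n = 1 := by
      obtain ⟨n, hn⟩ := hH.exists_card_eq
      exact ⟨n, fun x => by rw [← hn]; exact pow_card_eq_one'⟩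
    classical
    have hmin : ∀ m < Nat.find hex, ¬ ∀ x : H, x ^ p ^ m = 1 := fun m hm => Nat.find_min hex hm
    have hspec := Nat.find_spec hex
    cases hfe : Nat.find hex with
    | zero =>
      exfalso
      rw [hfe] at hspec
      obtain ⟨x, hx⟩ := exists_ne (1 : H)
      exact hx (by simpa using hspec x)
    | succ k =>
      rw [hfe] at hspec
      refine ⟨k, hspec, ?_⟩
      have := hmin k (by omega)
      push Not at this
      exact this
  -- `E = H ^ (p ^ k)`
  let E : Subgroup H := (powMonoidHom (p ^ k) : H →* H).range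
  have hEom : E ≤ om H p 1 := by
    rintro _ ⟨x, rfl⟩
    rw [mem_om, powMonoidHom_apply, ← pow_mul, pow_one, ← pow_succ]
    exact hk x
  have hEinv : ∀ α ∈ A, ∀ x ∈ E, α x ∈ E := by
    rintro α _ _ ⟨y, rfl⟩
    exact ⟨α y, (map_pow α y _).symm⟩
  have hEbot : E ≠ ⊥ := by
    obtain ⟨x, hx⟩ := hkx
    intro hbot
    have : x ^ p ^ k ∈ E := ⟨x, rfl⟩
    rw [hbot, Subgroup.mem_bot] at this
    exact hx this
  have hEcard : Nat.card E = p ^ 2 := by
    obtain ⟨j, hj⟩ := (hH.to_subgroup E).exists_card_eq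
    have h1 : p ^ j ≤ p ^ 2 := by
      rw [← hj]
      exact (Subgroup.card_le_of_le hEom).trans hr
    have h2 : j ≤ 2 := (Nat.pow_le_pow_iff_right hp.one_lt).mp h1
    have h3 : j ≠ 0 := by
      rintro rfl
      exact hEbot (Subgroup.eq_bot_of_card_eq _ (by rw [hj, pow_zero]))
    have h4 : j ≠ 1 := by
      rintro rfl
      rw [pow_one] at hj
      exact h.card_ne_prime_of_rank_two hH hr hj hEinv
    have h5 : j = 2 := by omega
    rw [hj, h5]
  have hEeq : E = om H p 1 := Subgroup.eq_of_le_of_card_ge hEom (by rw [hEcard]; exact hr)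
  have hcardom : Nat.card (om H p 1) = p ^ 2 := by rw [← hEeq]; exact hEcard
  have hpow : ∀ z ∈ om H p 1, ∃ x : H, x ^ p ^ k = z := by
    intro z hz
    rw [← hEeq] at hz
    exact hz
  cases k with
  | zero =>
    left
    have h1 : ∀ x : H, x ^ p = 1 := by
      intro x
      have := hk x
      rwa [zero_add, pow_one] at this
    refine ⟨h1, ?_⟩
    have h2 : om H p 1 = ⊤ := by
      rw [Subgroup.eq_top_iff']
      intro x
      rw [mem_om, pow_one]
      exact h1 x
    rw [h2, Subgroup.card_top] at hcardom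
    exact hcardom
  | succ k =>
    right
    refine ⟨?_, k + 1 + 1, exists_homocyclic_equiv hk hcardom hpow⟩
    by_contra hp3
    have hp5 : 5 ≤ p := by
      by_contra hcon
      have h4 : p = 4 := by omega
      rw [h4] at hp
      exact absurd hp (by decide)
    -- an element of order `p`
    obtain ⟨v, hvA, hvI, m, hvm⟩ := h.exists_pow
    obtain ⟨u, huA, hu1, hup⟩ : ∃ u ∈ A, u ≠ 1 ∧ u ^ p = 1 := by
      have hv1 : v ≠ 1 := fun h => hvI (h ▸ one_mem _)
      classical
      have hex : ∃ m, v ^ p ^ m = 1 := ⟨m, hvm⟩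
      have hmin : ∀ m < Nat.find hex, ¬ v ^ p ^ m = 1 := fun m hm => Nat.find_min hex hm
      have hspec := Nat.find_spec hex
      cases hfe : Nat.find hex with
      | zero =>
        exfalso
        rw [hfe] at hspec
        exact hv1 (by simpa using hspec)
      | succ j =>
        rw [hfe] at hspec
        refine ⟨v ^ p ^ j, A.pow_mem hvA _, hmin j (by omega), ?_⟩
        rw [← pow_mul, ← pow_succ]
        exact hspec
    apply hu1
    apply h.eq_one_of_trivial_on_om hH huA
    -- `u` acts quadratically on `om H p 1`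
    have hquad : ∀ z ∈ om H p 1, u (u z * z⁻¹) = u z * z⁻¹ := by
      have hup' : u ^ p ^ 1 = 1 := by rw [pow_one]; exact hup
      set C : Subgroup H := fixedBy u ⊓ om H p 1 with hC
      have hCinv : ∀ x ∈ C, u x ∈ C := by
        rintro x ⟨hx1, hx2⟩
        have hx3 : u x = x := hx1
        rw [hx3]
        exact ⟨hx1, hx2⟩
      have hCbot : C ≠ ⊥ := by
        have hntO : Nontrivial (om H p 1) := Finite.one_lt_card_iff_nontrivial.mp (by
          rw [hcardom]; exact Nat.one_lt_pow two_ne_zero hp.one_lt)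
        -- restrict `u` to `om H p 1`
        let u' : MulAut (om H p 1) :=
          { toFun := fun z => ⟨u z, om_invariant u 1 z z.2⟩
            invFun := fun z => ⟨u.symm z, om_invariant u.symm 1 z z.2⟩
            left_inv := fun z => Subtype.ext (u.symm_apply_apply z)
            right_inv := fun z => Subtype.ext (u.apply_symm_apply z)
            map_mul' := fun z w => Subtype.ext (map_mul u (z : H) (w : H)) }
        have hu'n : ∀ n : ℕ, ∀ z : om H p 1, (((u' ^ n) z : om H p 1) : H) = (u ^ n) (z : H) := by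
          intro n
          induction n with
          | zero => intro z; rfl
          | succ n ih =>
            intro z
            rw [pow_succ', MulAut.mul_apply, pow_succ', MulAut.mul_apply, ← ih]
            rfl
        have hu'p : u' ^ p ^ 1 = 1 := by
          ext z
          rw [hu'n, hup']
          rfl
        have h1 := fixedBy_ne_bot (hH.to_subgroup (om H p 1)) hu'p
        rw [Ne, Subgroup.eq_bot_iff_forall] at h1
        push Not at h1
        obtain ⟨z, hz, hz1⟩ := h1
        intro hbot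
        apply hz1
        have : (z : H) ∈ C := ⟨congrArg Subtype.val (mem_fixedBy.mp hz), z.2⟩
        rw [hbot, Subgroup.mem_bot] at this
        exact Subtype.ext this
      have hCle : C ≤ om H p 1 := inf_le_right
      have hCcard : Nat.card (om H p 1) = p * Nat.card C ∨ om H p 1 = C := by
        obtain ⟨j, hj⟩ := (hH.to_subgroup C).exists_card_eq
        have h1 : p ^ j ≤ p ^ 2 := by
          rw [← hj, ← hcardom]
          exact Subgroup.card_le_of_le hCle
        have h2 : j ≤ 2 := (Nat.pow_le_pow_iff_right hp.one_lt).mp h1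
        have h3 : j ≠ 0 := by
          rintro rfl
          exact hCbot (Subgroup.eq_bot_of_card_eq _ (by rw [hj, pow_zero]))
        have h4 : j = 1 ∨ j = 2 := by omega
        rcases h4 with rfl | rfl
        · left; rw [hcardom, hj, pow_one, sq]
        · right
          exact (Subgroup.eq_of_le_of_card_ge hCle (by rw [hj, hcardom])).symm
      intro z hz
      have h1 := triv_on_factor hCle inferInstance hCcard
        (fun x hx => om_invariant u 1 x hx) hCinv hup' z hz
      exact h1.1
    intro z hz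
    obtain ⟨x, rfl⟩ := hpow z hz
    obtain ⟨w, hw⟩ : ∃ w : H, w = x ^ p ^ k := ⟨_, rfl⟩
    have hwp : x ^ p ^ (k + 1) = w ^ p := by rw [hw, ← pow_mul, ← pow_succ]
    rw [hwp] at hz ⊢
    obtain ⟨a, ha⟩ : ∃ a : H, a = u w * w⁻¹ := ⟨_, rfl⟩
    have hua : u w = w * a := by rw [ha, mul_comm w]; group
    obtain ⟨b, hb⟩ : ∃ b : H, b = u a * a⁻¹ := ⟨_, rfl⟩
    have hub : u a = a * b := by rw [hb, mul_comm a]; group
    have hbp : b ^ p = 1 := by
      have h1 := hquad _ hz
      have h2 : u (w ^ p) * (w ^ p)⁻¹ = a ^ p := by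
        rw [map_pow, hua, mul_pow, mul_comm (w ^ p), mul_inv_cancel_right]
      rw [h2, map_pow, hub, mul_pow] at h1
      exact mul_eq_left.mp h1
    have hbom : b ∈ om H p 1 := by rw [mem_om, pow_one]; exact hbp
    obtain ⟨c, hc⟩ : ∃ c : H, c = u b * b⁻¹ := ⟨_, rfl⟩
    have huc : u b = b * c := by rw [hc, mul_comm b]; group
    have hucc : u c = c := by rw [hc]; exact hquad b hbom
    have hcp : c ^ p = 1 := by
      have := om_invariant u 1 b hbom
      rw [mem_om, pow_one] at this
      rw [hc, mul_pow, this, inv_pow, hbp, inv_one, mul_one]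
    have hun : ∀ n : ℕ, (u ^ n) w = w * a ^ n * b ^ (n.choose 2) * c ^ (n.choose 3) := by
      intro n
      induction n with
      | zero => simp
      | succ n ih =>
        rw [pow_succ', MulAut.mul_apply, ih, map_mul, map_mul, map_mul, map_pow, map_pow, map_pow,
          hucc, huc, hub, hua]
        have e2 : (n + 1).choose 2 = n + n.choose 2 := by
          rw [Nat.choose_succ_succ' n 1, Nat.choose_one_right]
        have e3 : (n + 1).choose 3 = n.choose 2 + n.choose 3 := Nat.choose_succ_succ' n 2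
        rw [e2, e3, mul_pow, mul_pow, pow_succ, pow_add, pow_add]
        generalize a ^ n = x1
        generalize b ^ n = x2
        generalize b ^ n.choose 2 = x3
        generalize c ^ n.choose 2 = x4
        generalize c ^ n.choose 3 = x5
        clear * -
        calc w * a * (x1 * x2) * (x3 * x4) * x5 = w * (a * x1) * (x2 * x3) * (x4 * x5) := by
              simp only [mul_assoc]
          _ = w * (x1 * a) * (x2 * x3) * (x4 * x5) := by rw [mul_comm a x1]
    have hfinal := hun p
    rw [hup, MulAut.one_apply] at hfinal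
    have hd2 : p ∣ p.choose 2 := hp.dvd_choose_self two_ne_zero (by omega)
    have hd3 : p ∣ p.choose 3 := hp.dvd_choose_self three_ne_zero (by omega)
    obtain ⟨d2, hd2⟩ := hd2
    obtain ⟨d3, hd3⟩ := hd3
    rw [hd2, hd3, pow_mul, pow_mul, hbp, hcp, one_pow, one_pow, mul_one, mul_one] at hfinal
    have hap : a ^ p = 1 := mul_eq_left.mp hfinal.symm
    rw [map_pow, hua, mul_pow, hap, mul_one]

end Abelian

end Cfsg.Agent.FusSE
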