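import Cfsg.Agent.Fus.XLift
import Cfsg.Agent.Fus.FocSys
set_option autoImplicit false
set_option linter.unusedSectionVars false
set_option linter.unusedVariables false

/-!
# The intersection of two normal subsystems: lifts (helper85)
-/

namespace Cfsg.Agent.Fus

open Cfsg Cfsg.FusionSystem Cfsg.Agent.H85

variable {Ω : Type*} [Group Ω] {S T T₁ T₂ : Subgroup Ω} {F : FusionSystem S} {E : FusionSystem T}
  {E₁ : FusionSystem T₁} {E₂ : FusionSystem T₂} {p : ℕ}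

theorem strongInv_self (F : FusionSystem S) : StrongInv F F := by
  intro P Q f g hPQ _ hf hfQ hg
  have hgP := hg.mono hPQ
  refine ⟨fun y => g (f (minv P g y)), hg.comp (hf.comp hgP.minv_isMap fun y hy => hgP.minv_mem hy) (fun y hy =>
    hfQ _ (hgP.minv_mem hy)), fun x hx => ?_⟩
  show g (f (minv P g (g x))) = g (f x)
  rw [hgP.minv_apply hx]

theorem invariant_self [Finite S] [Fact p.Prime] (hS : IsPGroup p S) (hF : F.IsSaturated p) : F.IsInvariantIn F :=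
  isInvariantIn_of_strongInv hS hF (fun _ _ h => h) (stronglyClosed_self F) (strongInv_self F)

/-- pulling back the membership in a normal subsystem -/
theorem m_pull [Finite S] (hE : E.IsInvariantIn F) {P Q : Subgroup Ω} (hPT : P ≤ T) {χ g : Ω → Ω}
    (hχ : IsMap F (P ⊔ centralizerIn S P) χ) (hQ : img P χ = Q) (hg : Good F F Q g)
    (hgE : IsMap E (Q ⊔ centralizerIn T Q) g) :
    IsMap E (P ⊔ centralizerIn T P) (fun x => minv (P ⊔ centralizerIn S P) χ (g (χ x))) := by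
  subst hQ
  have hTS := hE.2.1.1
  have hCTS : centralizerIn T P ≤ centralizerIn S P := fun c hc =>
    mem_centralizerIn.2 ⟨hTS (mem_centralizerIn.1 hc).1, (mem_centralizerIn.1 hc).2⟩
  have hPR : P ≤ P ⊔ centralizerIn S P := le_sup_left
  have hCR : centralizerIn S P ≤ P ⊔ centralizerIn S P := le_sup_right
  have hYR : P ⊔ centralizerIn T P ≤ P ⊔ centralizerIn S P := sup_le_sup_left hCTS P
  have hYT : P ⊔ centralizerIn T P ≤ T := sup_le hPT (centralizerIn_le P)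
  have hχC : ∀ c ∈ centralizerIn S P, χ c ∈ centralizerIn S (img P χ) := fun c hc => by
    rw [mem_centralizerIn]
    exact ⟨hχ.mem (hCR hc), hχ.map_centralizer (P := P) hPR (hCR hc) (mem_centralizerIn.mp hc).2⟩
  have hχY := hχ.mono hYR
  have hχT : ∀ x ∈ P ⊔ centralizerIn T P, χ x ∈ T := fun x hx => sc_map_mem hE.2.1 hχY hx (hYT hx)
  have hV : img (P ⊔ centralizerIn T P) χ ≤ img P χ ⊔ centralizerIn T (img P χ) := by
    rw [hχY.img_le_iff]
    refine hχY.forall_sup_mem (fun x hx => le_sup_left (a := img P χ) (subset_img hx)) fun c hc => ?_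
    refine le_sup_right (a := img P χ) (mem_centralizerIn.2 ⟨hχT c (le_sup_right (a := P) hc), ?_⟩)
    exact (mem_centralizerIn.1 (hχC c (hCTS hc))).2
  have hgV := hgE.mono hV
  have hVW : img (P ⊔ centralizerIn T P) χ ≤ img (P ⊔ centralizerIn S P) χ ⊓ T :=
    le_inf (img_mono hYR) (by rw [hχY.img_le_iff]; exact hχT)
  -- `g` maps `V` to `W`
  have hgW : ∀ x ∈ img (P ⊔ centralizerIn T P) χ, g x ∈ img (P ⊔ centralizerIn S P) χ ⊓ T := by
    intro x hx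
    refine ⟨?_, hgV.mem hx⟩
    obtain ⟨y, hy, rfl⟩ := hχY.mem_img.1 hx
    have h1 : ∀ y ∈ P ⊔ centralizerIn S P, g (χ y) ∈ img (P ⊔ centralizerIn S P) χ := by
      have hm : ∀ x ∈ P ⊔ centralizerIn S P, χ x ∈ img P χ ⊔ centralizerIn S (img P χ) :=
        hχ.forall_sup_mem (fun x hx => le_sup_left (a := img P χ) (subset_img hx))
          fun c hc => le_sup_right (a := img P χ) (hχC c hc)
      have h1 : IsMap F (P ⊔ centralizerIn S P) (fun x => g (χ x)) := hg.isMap.comp hχ hm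
      refine h1.forall_sup_mem (fun x hx => ?_) fun c hc => ?_
      · exact img_mono le_sup_left (hg.mem _ (subset_img hx))
      · have h3 := hg.triv _ (hχC c hc)
        have h4 := Subgroup.mul_mem _ (subset_img (f := χ) (le_sup_right (a := P) hc)) (img_mono (f := χ) le_sup_left h3)
        rwa [mul_inv_cancel_left] at h4
    exact h1 y (hYR hy)
  have hmi : IsMap F (img (P ⊔ centralizerIn S P) χ ⊓ T) (minv (P ⊔ centralizerIn S P) χ) :=
    hχ.minv_isMap.mono inf_le_left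
  obtain ⟨h, hh, hhx⟩ := strongInv_of_invariant hE _ _ g (minv (P ⊔ centralizerIn S P) χ) hVW inf_le_right hgV hgW hmi
  have himg : img (img (P ⊔ centralizerIn T P) χ) (minv (P ⊔ centralizerIn S P) χ) = P ⊔ centralizerIn T P := by
    rw [← hχY.img_comp, img_congr (g := id)]
    · exact img_id
    · intro x hx; exact hχ.minv_apply (hYR hx)
  rw [himg] at hh
  refine hh.congr fun x hx => ?_
  have h1 := hhx (χ x) (subset_img hx)
  rwa [hχ.minv_apply (hYR hx)] at h1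

/-- lifts to `P C_S(P)` lying in both subsystems -/
structure Lft (E₁ : FusionSystem T₁) (E₂ : FusionSystem T₂) (F : FusionSystem S) (P : Subgroup Ω) (g : Ω → Ω) :
    Prop where
  good : Good F F P g
  m1 : IsMap E₁ (P ⊔ centralizerIn T₁ P) g
  m2 : IsMap E₂ (P ⊔ centralizerIn T₂ P) g

/-- good lifts preserve `P C_T(P)` -/
theorem Good.mem_T [Finite S] (hTS : T ≤ S) {P : Subgroup Ω} {g : Ω → Ω} (hg : Good F F P g)
    (hgE : IsMap E (P ⊔ centralizerIn T P) g) : ∀ x ∈ P ⊔ centralizerIn T P, g x ∈ P ⊔ centralizerIn T P := by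
  refine hgE.forall_sup_mem (fun x hx => le_sup_left (a := P) (hg.mem x hx)) fun c hc => ?_
  have hc' : c ∈ centralizerIn S P := mem_centralizerIn.2 ⟨hTS (mem_centralizerIn.1 hc).1, (mem_centralizerIn.1 hc).2⟩
  exact le_sup_right (a := P) (mem_centralizerIn.2 ⟨hgE.mem (le_sup_right (a := P) hc),
    (mem_centralizerIn.1 (hg.mem_C hc')).2⟩)

namespace Lft

variable {P : Subgroup Ω} {g h : Ω → Ω}

theorem congr (hg : Lft E₁ E₂ F P g) (h1 : T₁ ≤ S) (h2 : T₂ ≤ S) (hgh : ∀ x ∈ P ⊔ centralizerIn S P, g x = h x) :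
    Lft E₁ E₂ F P h where
  good := hg.good.congr hgh
  m1 := hg.m1.congr fun x hx => hgh x (sup_le_sup_left (fun c hc => mem_centralizerIn.2
    ⟨h1 (mem_centralizerIn.1 hc).1, (mem_centralizerIn.1 hc).2⟩) P hx)
  m2 := hg.m2.congr fun x hx => hgh x (sup_le_sup_left (fun c hc => mem_centralizerIn.2
    ⟨h2 (mem_centralizerIn.1 hc).1, (mem_centralizerIn.1 hc).2⟩) P hx)

theorem comp [Finite S] (hg : Lft E₁ E₂ F P g) (hh : Lft E₁ E₂ F P h) (h1 : T₁ ≤ S) (h2 : T₂ ≤ S) :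
    Lft E₁ E₂ F P (fun x => g (h x)) where
  good := hg.good.comp hh.good
  m1 := hg.m1.comp hh.m1 (hh.good.mem_T h1 hh.m1)
  m2 := hg.m2.comp hh.m2 (hh.good.mem_T h2 hh.m2)

theorem id' (h1 : T₁ ≤ S) (hP1 : P ≤ T₁) (hP2 : P ≤ T₂) : Lft E₁ E₂ F P (fun x => x) where
  good := Good.id' le_rfl (hP1.trans h1)
  m1 := isMap_id' (sup_le hP1 (centralizerIn_le P))
  m2 := isMap_id' (sup_le hP2 (centralizerIn_le P))

theorem pow [Finite S] {κ : MulAut ↥(P ⊔ centralizerIn S P)} (hg : Lft E₁ E₂ F P (ofAut κ)) (h1 : T₁ ≤ S)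
    (h2 : T₂ ≤ S) (n : ℕ) : Lft E₁ E₂ F P (ofAut (κ ^ n)) := by
  induction n with
  | zero =>
    refine (Lft.id' (E₁ := E₁) (E₂ := E₂) (F := F) h1 (le_sup_left.trans hg.m1.le)
      (le_sup_left.trans hg.m2.le)).congr h1 h2 fun x hx => ?_
    rw [pow_zero, ofAut_one hx]
  | succ n ih => exact (hg.comp ih h1 h2).congr h1 h2 fun x hx => (ofAut_pow_succ κ n hx).symm

theorem minv' [Finite S] (hg : Lft E₁ E₂ F P g) (h1 : T₁ ≤ S) (h2 : T₂ ≤ S) :
    Lft E₁ E₂ F P (minv (P ⊔ centralizerIn S P) g) := by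
  have hf := finite_of_le hg.good.isMap.le
  have hf' : Finite (MulAut ↥(P ⊔ centralizerIn S P)) := finite_mulAut
  obtain ⟨n, hn0, hn⟩ := (isOfFinOrder_iff_pow_eq_one.1 (isOfFinOrder_of_finite hg.good.aut))
  have hga : Lft E₁ E₂ F P (ofAut hg.good.aut) := hg.congr h1 h2 fun x hx => (hg.good.ofAut_aut hx).symm
  refine (hga.pow h1 h2 (n - 1)).congr h1 h2 fun x hx => ?_
  have h3 : hg.good.aut ^ (n - 1) = hg.good.aut⁻¹ := by
    rw [eq_inv_iff_mul_eq_one, ← pow_succ, Nat.sub_add_cancel hn0, hn]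
  have h4 : g (ofAut hg.good.aut⁻¹ x) = x := by
    rw [← hg.good.ofAut_aut (ofAut_mem _ hx), ofAut_apply_inv _ hx]
  rw [h3]
  conv_rhs => rw [← h4]
  rw [hg.good.isMap.minv_apply (ofAut_mem _ hx)]

end Lft

/-- the automorphisms with a lift in both systems -/
def xo (E₁ : FusionSystem T₁) (E₂ : FusionSystem T₂) (F : FusionSystem S) [Finite S] (P : Subgroup Ω) :
    Subgroup (MulAut P) where
  carrier := {α | (T₁ ≤ S ∧ T₂ ≤ S ∧ P ≤ T₁ ∧ P ≤ T₂) → ∃ g, Lft E₁ E₂ F P g ∧ ∀ x ∈ P, g x = ofAut α x}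
  one_mem' := fun ⟨h1, _, h3, h4⟩ => ⟨fun x => x, Lft.id' h1 h3 h4, fun x hx => (ofAut_one hx).symm⟩
  mul_mem' := by
    rintro a b ha hb h
    obtain ⟨g, hg, hga⟩ := ha h
    obtain ⟨k, hk, hkb⟩ := hb h
    exact ⟨_, hg.comp hk h.1 h.2.1, fun x hx => by
      show g (k x) = _
      rw [ofAut_mul _ _ hx, hkb x hx, hga _ (ofAut_mem b hx)]⟩
  inv_mem' := by
    rintro a ha h
    obtain ⟨g, hg, hga⟩ := ha h
    refine ⟨_, hg.minv' h.1 h.2.1, fun x hx => ?_⟩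
    have hx' := le_sup_left (b := centralizerIn S P) (ofAut_mem a⁻¹ hx)
    have : x = g (ofAut a⁻¹ x) := by rw [hga _ (ofAut_mem _ hx), ofAut_apply_inv a hx]
    conv_lhs => rw [this]
    exact hg.good.isMap.minv_apply hx'

theorem mem_xo [Finite S] (h1 : T₁ ≤ S) (h2 : T₂ ≤ S) {P : Subgroup Ω} (hP1 : P ≤ T₁) (hP2 : P ≤ T₂) {α : MulAut P} :
    α ∈ xo E₁ E₂ F P ↔ ∃ g, Lft E₁ E₂ F P g ∧ ∀ x ∈ P, g x = ofAut α x :=
  ⟨fun h => h ⟨h1, h2, hP1, hP2⟩, fun h _ => h⟩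

/-- the hypotheses -/
structure AndHyp (E₁ : FusionSystem T₁) (E₂ : FusionSystem T₂) (F : FusionSystem S) (p : ℕ) : Prop where
  hS : IsPGroup p S
  n1 : E₁.IsNormalIn F p
  n2 : E₂.IsNormalIn F p

namespace AndHyp

variable (h : AndHyp E₁ E₂ F p)
include h

variable [Finite S] [Fact p.Prime]

theorem sat : F.IsSaturated p := (isNormalIn_iff_ext.1 h.n1).1.2.1
theorem s1 : E₁.IsSaturated p := (isNormalIn_iff_ext.1 h.n1).1.1
theorem s2 : E₂.IsSaturated p := (isNormalIn_iff_ext.1 h.n2).1.1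
theorem i1 : E₁.IsInvariantIn F := (isNormalIn_iff_ext.1 h.n1).1.2.2
theorem i2 : E₂.IsInvariantIn F := (isNormalIn_iff_ext.1 h.n2).1.2.2
theorem sc1 : F.StronglyClosed T₁ := h.i1.2.1
theorem sc2 : F.StronglyClosed T₂ := h.i2.2.1
theorem t1 : T₁ ≤ S := h.sc1.1
theorem t2 : T₂ ≤ S := h.sc2.1
theorem sc : F.StronglyClosed (T₁ ⊓ T₂) := sc_inf h.sc1 h.sc2
theorem tS : T₁ ⊓ T₂ ≤ S := h.sc.1
theorem symm : AndHyp E₂ E₁ F p := ⟨h.hS, h.n2, h.n1⟩

theorem mem_xo {P : Subgroup Ω} (hP : P ≤ T₁ ⊓ T₂) {α : MulAut P} :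
    α ∈ xo E₁ E₂ F P ↔ ∃ g, Lft E₁ E₂ F P g ∧ ∀ x ∈ P, g x = ofAut α x :=
  Fus.mem_xo h.t1 h.t2 (hP.trans inf_le_left) (hP.trans inf_le_right)

/-- pull back of lifts -/
theorem lft_pull {P Q : Subgroup Ω} (hP : P ≤ T₁ ⊓ T₂) {χ g : Ω → Ω}
    (hχ : IsMap F (P ⊔ centralizerIn S P) χ) (hQ : img P χ = Q) (hg : Lft E₁ E₂ F Q g) :
    Lft E₁ E₂ F P (fun x => minv (P ⊔ centralizerIn S P) χ (g (χ x))) where
  good := hg.good.pull (invariant_self h.hS h.sat) (hP.trans h.tS) hχ hQ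
  m1 := m_pull h.i1 (hP.trans inf_le_left) hχ hQ hg.good hg.m1
  m2 := m_pull h.i2 (hP.trans inf_le_right) hχ hQ hg.good hg.m2

/-- transport back of `xo` along maps defined on `P C_S(P)` -/
theorem xo_pull {P Q : Subgroup Ω} (hP : P ≤ T₁ ⊓ T₂) {χ : Ω → Ω}
    (hχ : IsMap F (P ⊔ centralizerIn S P) χ) (hQ : img P χ = Q) {α : MulAut P} {β : MulAut Q}
    (hβ : ∀ x ∈ P, ofAut β (χ x) = χ (ofAut α x)) (hβx : β ∈ xo E₁ E₂ F Q) : α ∈ xo E₁ E₂ F P := by
  have hχP := hχ.mono (Q := P) le_sup_left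
  have hQT : Q ≤ T₁ ⊓ T₂ := by
    rw [← hQ, hχP.img_le_iff]
    exact fun x hx => sc_map_mem h.sc hχP hx (hP hx)
  obtain ⟨g, hg, hgβ⟩ := (h.mem_xo hQT).1 hβx
  refine (h.mem_xo hP).2 ⟨_, h.lft_pull hP hχ hQ hg, fun x hx => ?_⟩
  show minv (P ⊔ centralizerIn S P) χ (g (χ x)) = ofAut α x
  have hχx : χ x ∈ Q := by rw [← hQ]; exact subset_img hx
  rw [hgβ _ hχx, hβ x hx, hχ.minv_apply (le_sup_left (a := P) (ofAut_mem α hx))]

/-- `xo` is invariant under maps between fully centralized subgroups -/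
theorem xo_iff {P Q : Subgroup Ω} (hP : P ≤ T₁ ⊓ T₂) (hPc : F.IsFullyCentralized P) (hQc : F.IsFullyCentralized Q)
    {f : Ω → Ω} (hf : IsMap F P f) (hQ : img P f = Q) {α : MulAut P} {β : MulAut Q}
    (hβ : ∀ x ∈ P, ofAut β (f x) = f (ofAut α x)) : α ∈ xo E₁ E₂ F P ↔ β ∈ xo E₁ E₂ F Q := by
  have hQT : Q ≤ T₁ ⊓ T₂ := by
    rw [← hQ, hf.img_le_iff]
    exact fun x hx => sc_map_mem h.sc hf hx (hP hx)
  constructor
  · intro hα
    have himg : img Q (minv P f) = P := by rw [← hQ]; exact hf.img_minv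
    have hmi : IsMap F Q (minv P f) := by rw [← hQ]; exact hf.minv_isMap
    obtain ⟨χ, hχ, hχf⟩ := recep_exists_extend_centralizer (sat_receptive h.hS h.sat hPc) hmi himg
    refine h.xo_pull hQT hχ ((img_congr hχf).trans himg) (β := α) (fun y hy => ?_) hα
    rw [← hQ] at hy
    obtain ⟨x, hx, rfl⟩ := hf.mem_img.1 hy
    have hfx : f x ∈ Q := by rw [← hQ]; exact subset_img hx
    have hfx' : f (ofAut α x) ∈ Q := by rw [← hQ]; exact subset_img (ofAut_mem α hx)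
    rw [hχf _ hfx, hf.minv_apply hx, hβ x hx, hχf _ hfx', hf.minv_apply (ofAut_mem α hx)]
  · intro hβx
    obtain ⟨χ, hχ, hχf⟩ := recep_exists_extend_centralizer (sat_receptive h.hS h.sat hQc) hf hQ
    exact h.xo_pull hP hχ ((img_congr hχf).trans hQ) (fun x hx => by
      rw [hχf x hx, hβ x hx, hχf _ (ofAut_mem α hx)]) hβx

end AndHyp

/-- transport from the fully centralized conjugates -/
def xa (E₁ : FusionSystem T₁) (E₂ : FusionSystem T₂) (F : FusionSystem S) [Finite S] (P : Subgroup Ω) :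
    Subgroup (MulAut P) where
  carrier := {α | α ∈ F.autGroup P ∧ ∀ (f : Ω → Ω) (hf : IsMap F P f), F.IsFullyCentralized (img P f) →
    hf.trans rfl α ∈ xo E₁ E₂ F (img P f)}
  one_mem' := ⟨Subgroup.one_mem _, fun f hf _ => by rw [map_one]; exact Subgroup.one_mem _⟩
  mul_mem' := fun ha hb => ⟨Subgroup.mul_mem _ ha.1 hb.1, fun f hf hn => by
    rw [map_mul]; exact Subgroup.mul_mem _ (ha.2 f hf hn) (hb.2 f hf hn)⟩
  inv_mem' := fun ha => ⟨Subgroup.inv_mem _ ha.1, fun f hf hn => by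
    rw [map_inv]; exact Subgroup.inv_mem _ (ha.2 f hf hn)⟩

namespace AndHyp

variable (h : AndHyp E₁ E₂ F p) [Finite S] [Fact p.Prime]
include h

theorem xo_leF {P : Subgroup Ω} (hP : P ≤ T₁ ⊓ T₂) : xo E₁ E₂ F P ≤ F.autGroup P := by
  intro α hα
  obtain ⟨g, hg, hgα⟩ := (h.mem_xo hP).1 hα
  exact (mem_autGroup_iff (hP.trans h.tS)).2 (hg.good.isMapE.congr hgα)

theorem mem_xa_iff {P Q : Subgroup Ω} (hP : P ≤ T₁ ⊓ T₂) (hQc : F.IsFullyCentralized Q)
    {f : Ω → Ω} (hf : IsMap F P f) (hQ : img P f = Q) {α : MulAut P} {β : MulAut Q}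
    (hβ : ∀ x ∈ P, ofAut β (f x) = f (ofAut α x)) : α ∈ xa E₁ E₂ F P ↔ β ∈ xo E₁ E₂ F Q := by
  have hQT : Q ≤ T₁ ⊓ T₂ := by
    rw [← hQ, hf.img_le_iff]
    exact fun x hx => sc_map_mem h.sc hf hx (hP hx)
  have e : hf.trans hQ α = β := trans_eq_of hf hQ hβ
  constructor
  · rintro ⟨-, h2⟩
    subst hQ
    have := h2 f hf hQc
    rwa [e] at this
  · intro hβx
    have hβF := h.xo_leF hQT hβx
    refine ⟨?_, fun k hk hkc => ?_⟩
    · rw [← e] at hβF
      exact (hf.trans_mem_iff hQ).1 hβF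
    · -- the map `k f⁻¹ : Q → img P k`
      have hmi : IsMap F Q (minv P f) := by rw [← hQ]; exact hf.minv_isMap
      have himi : img Q (minv P f) = P := by rw [← hQ]; exact hf.img_minv
      have hkf : IsMap F Q (fun y => k (minv P f y)) := hk.comp hmi fun y hy => hf.minv_mem (by rw [hQ]; exact hy)
      have himg : img Q (fun y => k (minv P f y)) = img P k := by rw [hmi.img_comp, himi]
      refine (h.xo_iff hQT hQc hkc hkf himg fun y hy => ?_).1 hβx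
      rw [← hQ] at hy
      obtain ⟨x, hx, rfl⟩ := hf.mem_img.1 hy
      show ofAut (hk.trans rfl α) (k (minv P f (f x))) = k (minv P f (ofAut β (f x)))
      rw [hf.minv_apply hx, hβ x hx, hf.minv_apply (ofAut_mem α hx), hk.ofAut_trans rfl α hx]

theorem xa_eq_xo {P : Subgroup Ω} (hP : P ≤ T₁ ⊓ T₂) (hPc : F.IsFullyCentralized P) :
    xa E₁ E₂ F P = xo E₁ E₂ F P := by
  ext α
  exact h.mem_xa_iff hP hPc (isMap_id' (hP.trans h.tS)) img_id' (fun x _ => rfl)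

/-- equivariance of `xa` -/
theorem xa_equi {P Q : Subgroup Ω} (hP : P ≤ T₁ ⊓ T₂) {f : Ω → Ω} (hf : IsMap F P f) (hQ : img P f = Q)
    {α : MulAut P} {β : MulAut Q} (hβ : ∀ x ∈ P, ofAut β (f x) = f (ofAut α x)) :
    α ∈ xa E₁ E₂ F P ↔ β ∈ xa E₁ E₂ F Q := by
  have hQT : Q ≤ T₁ ⊓ T₂ := by
    rw [← hQ, hf.img_le_iff]
    exact fun x hx => sc_map_mem h.sc hf hx (hP hx)
  obtain ⟨R, hQR, hR⟩ := exists_fullyCentralized (F := F) (hQT.trans h.tS)
  obtain ⟨k, hk, hkR⟩ := isConj_iff.1 hQR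
  have hfQ : ∀ x ∈ P, f x ∈ Q := fun x hx => by rw [← hQ]; exact subset_img hx
  have hkf : IsMap F P (fun x => k (f x)) := hk.comp hf hfQ
  have himg : img P (fun x => k (f x)) = R := by rw [hf.img_comp, hQ, hkR]
  rw [h.mem_xa_iff hQT hR hk hkR (β := hk.trans hkR β) fun x hx => hk.ofAut_trans hkR β hx,
    h.mem_xa_iff hP hR hkf himg (β := hk.trans hkR β) fun x hx => ?_]
  show ofAut (hk.trans hkR β) (k (f x)) = k (f (ofAut α x))
  rw [hk.ofAut_trans hkR β (hfQ x hx), hβ x hx]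

end AndHyp

end Cfsg.Agent.Fus
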