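import Cfsg.Agent.Fus.And1
set_option autoImplicit false
set_option linter.unusedSectionVars false
set_option linter.unusedVariables false

/-!
# The intersection of two normal subsystems: the focal condition (helper85)
-/

namespace Cfsg.Agent.Fus

open Cfsg Cfsg.FusionSystem Cfsg.Agent.H85

variable {Ω : Type*} [Group Ω] {S T T₁ T₂ : Subgroup Ω} {F : FusionSystem S} {E : FusionSystem T}
  {E₁ : FusionSystem T₁} {E₂ : FusionSystem T₂} {p : ℕ}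

theorem cen_conj {V P : Subgroup Ω} {n c : Ω} (hn : n ∈ Subgroup.normalizer (P : Set Ω)) (hc : c ∈ centralizerIn V P)
    (hV : n * c * n⁻¹ ∈ V) : n * c * n⁻¹ ∈ centralizerIn V P := by
  refine mem_centralizerIn.2 ⟨hV, fun y hy => ?_⟩
  have h1 : n⁻¹ * y * n⁻¹⁻¹ ∈ P := (Subgroup.mem_normalizer_iff.1 (Subgroup.inv_mem _ hn) y).1 hy
  have h2 := (mem_centralizerIn.1 hc).2 _ h1
  calc y * (n * c * n⁻¹) = n * ((n⁻¹ * y * n⁻¹⁻¹) * c) * n⁻¹ := by group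
    _ = n * (c * (n⁻¹ * y * n⁻¹⁻¹)) * n⁻¹ := by rw [h2]
    _ = n * c * n⁻¹ * y := by group

/-- `N_S(P)` normalizes `P C_T(P)` -/
theorem norm_sup_cen [Finite S] (hT : F.StronglyClosed T) {P : Subgroup Ω} (hP : P ≤ S) {n : Ω}
    (hn : n ∈ normalizerIn S P) : n ∈ Subgroup.normalizer ((P ⊔ centralizerIn T P : Subgroup Ω) : Set Ω) := by
  have hYS : P ⊔ centralizerIn T P ≤ S := sup_le hP ((centralizerIn_le P).trans hT.1)
  have := finite_of_le hYS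
  refine mem_normalizer_of_conj ?_
  have hm : IsMap F (P ⊔ centralizerIn T P) (fun x => n * x * n⁻¹) := isMap_conj hYS hn.1
  exact hm.forall_sup_mem (fun x hx => le_sup_left (a := P) ((Subgroup.mem_normalizer_iff.1 hn.2 x).1 hx))
    (fun c hc => le_sup_right (a := P) (cen_conj hn.2 hc (sc_conj_mem hT hn.1 (mem_centralizerIn.1 hc).1)))

/-- elements of `N_S(P)` inducing on `P C_T(P)` an automorphism in `E` act as elements of `T` -/
theorem conj_eq_T [Finite S] [Fact p.Prime] (hS : IsPGroup p S) (hF : F.IsSaturated p) (hE : E.IsInvariantIn F)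
    (hEs : E.IsSaturated p) {P : Subgroup Ω} (hPT : P ≤ T) (hPn : F.IsFullyNormalized P) {s : Ω}
    (hs : s ∈ normalizerIn S P) (hsE : IsMap E (P ⊔ centralizerIn T P) (fun x => s * x * s⁻¹)) :
    ∃ t ∈ normalizerIn T P, ∀ x ∈ P ⊔ centralizerIn T P, s * x * s⁻¹ = t * x * t⁻¹ := by
  have hTS := hE.2.1.1
  have hfT := finite_of_le hTS
  have hTp := isPGroup_of_le hS hTS
  have hPE := fullyNormalized_of_stronglyClosed hS hF hE.1 hE.2.1 hPT hPn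
  have hsyl := sylIn_stabAut hTp hEs hPE
  have hYT : P ⊔ centralizerIn T P ≤ T := sup_le hPT (centralizerIn_le P)
  have hfY := finite_of_le hYT
  have hfA := finite_mulAut (P := P ⊔ centralizerIn T P)
  have hsY := norm_sup_cen hE.2.1 (hPT.trans hTS) hs
  have hσE : conjAut s hsY ∈ stabAut E (P ⊔ centralizerIn T P) P :=
    mem_stabAut.2 ⟨(mem_autGroup_iff hYT).2 (hsE.congr fun x hx => (ofAut_conjAut s hsY hx).symm), fun x hx => by
      rw [ofAut_conjAut s hsY hx]; exact Subgroup.mem_normalizer_iff.1 hs.2 x⟩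
  have h1 := hsyl.eq_of_le (C := autInducedBy (normalizerIn S P) (P ⊔ centralizerIn T P) ⊓
      stabAut E (P ⊔ centralizerIn T P) P) inf_le_right
    ((isPGroup_autInducedBy (isPGroup_of_le hS (normalizerIn_le P)) _).to_le inf_le_left)
    (le_inf (autInducedBy_mono (inf_le_inf_right _ hTS)) hsyl.le)
  have h2 : conjAut s hsY ∈ autInducedBy (normalizerIn T P) (P ⊔ centralizerIn T P) := by
    rw [h1]; exact ⟨conjAut_mem hs hsY, hσE⟩
  obtain ⟨t, ht, htx⟩ := mem_autInducedBy'.1 h2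
  exact ⟨t, ht, fun x hx => by rw [← htx x hx, ofAut_conjAut s hsY hx]⟩

theorem Good.triv_sup {P : Subgroup Ω} {g : Ω → Ω} (hg : Good E F P g) {x : Ω} (hx : x ∈ P ⊔ centralizerIn S P) :
    x⁻¹ * g x ∈ P := by
  obtain ⟨y, hy, c, hc, rfl⟩ := (mem_sup_iff_of_normalizes (N := P) (A := centralizerIn S P)
    ((centralizerIn_le_normalizerIn P).trans inf_le_right)).1 hx
  have hcN : c⁻¹ ∈ Subgroup.normalizer (P : Set Ω) :=
    Subgroup.inv_mem _ ((centralizerIn_le_normalizerIn P).trans inf_le_right hc)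
  rw [hg.isMap.map_mul (le_sup_left (a := P) hy) (le_sup_right (a := P) hc)]
  have h1 := (Subgroup.mem_normalizer_iff.1 hcN _).1 (P.mul_mem (P.inv_mem hy) (hg.mem y hy))
  have h2 := P.mul_mem h1 (hg.triv c hc)
  have e : c⁻¹ * (y⁻¹ * g y) * c⁻¹⁻¹ * (c⁻¹ * g c) = (y * c)⁻¹ * (g y * g c) := by group
  rwa [e] at h2

/-- the value at `s` of an extension -/
theorem val_mem_T [Finite S] [Fact p.Prime] (hS : IsPGroup p S) (hF : F.IsSaturated p) (hE : E.IsInvariantIn F)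
    (hEs : E.IsSaturated p) {P N : Subgroup Ω} (hPT : P ≤ T) (hPn : F.IsFullyNormalized P) {s : Ω}
    (hs : s ∈ normalizerIn S P) (hsE : IsMap E (P ⊔ centralizerIn T P) (fun x => s * x * s⁻¹)) {g : Ω → Ω}
    (hg : IsMap F N g) (hsN : s ∈ N) (hCN : centralizerIn S P ≤ N) (hgC : ∀ c ∈ centralizerIn S P, c⁻¹ * g c ∈ P) :
    s⁻¹ * g s ∈ T := by
  have hTS := hE.2.1.1
  obtain ⟨t, ht, hst⟩ := conj_eq_T hS hF hE hEs hPT hPn hs hsE
  have hc : t⁻¹ * s ∈ centralizerIn S P := by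
    refine mem_centralizerIn.2 ⟨S.mul_mem (S.inv_mem (hTS ht.1)) hs.1, fun y hy => ?_⟩
    have h1 := hst y (le_sup_left (a := P) hy)
    calc y * (t⁻¹ * s) = t⁻¹ * (t * y * t⁻¹) * s := by group
      _ = t⁻¹ * (s * y * s⁻¹) * s := by rw [h1]
      _ = t⁻¹ * s * y := by group
  have htN : t ∈ N := by
    have := N.mul_mem hsN (N.inv_mem (hCN hc))
    have e : s * (t⁻¹ * s)⁻¹ = t := by group
    rwa [e] at this
  have hcS := (mem_centralizerIn.1 hc).1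
  have e1 : g s = g t * g (t⁻¹ * s) := by
    rw [← hg.map_mul htN (hCN hc)]; congr 1; group
  have h1 : t⁻¹ * g t ∈ T := T.mul_mem (T.inv_mem ht.1) (sc_map_mem hE.2.1 hg htN ht.1)
  have h2 := sc_conj_mem hE.2.1 (S.inv_mem hcS) h1
  have h3 := T.mul_mem h2 (hPT (hgC _ hc))
  rw [e1]
  have e : (t⁻¹ * s)⁻¹ * (t⁻¹ * g t) * (t⁻¹ * s)⁻¹⁻¹ * ((t⁻¹ * s)⁻¹ * g (t⁻¹ * s)) = s⁻¹ * (g t * g (t⁻¹ * s)) := by
    group
  rwa [e] at h3

/-- the automorphisms of `P C_S(P)` which are lifts -/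
def AndHyp.K (h : AndHyp E₁ E₂ F p) [Finite S] (P : Subgroup Ω) (hP : P ≤ T₁ ⊓ T₂) :
    Subgroup (MulAut ↥(P ⊔ centralizerIn S P)) where
  carrier := {κ | Lft E₁ E₂ F P (ofAut κ)}
  one_mem' := (Lft.id' h.n1.1.2.2.2.1.1 (hP.trans inf_le_left) (hP.trans inf_le_right)).congr h.n1.1.2.2.2.1.1
    h.n2.1.2.2.2.1.1 fun x hx => (ofAut_one hx).symm
  mul_mem' := by
    intro a b ha hb
    exact (ha.comp hb h.n1.1.2.2.2.1.1 h.n2.1.2.2.2.1.1).congr h.n1.1.2.2.2.1.1 h.n2.1.2.2.2.1.1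
      fun x hx => (ofAut_mul _ _ hx).symm
  inv_mem' := by
    intro a ha
    refine (ha.minv' h.n1.1.2.2.2.1.1 h.n2.1.2.2.2.1.1).congr h.n1.1.2.2.2.1.1 h.n2.1.2.2.2.1.1 fun x hx => ?_
    have hx' := ofAut_mem a⁻¹ hx
    conv_lhs => rw [← ofAut_apply_inv a hx]
    exact ha.good.isMap.minv_apply hx'

theorem ofAut_pow_conj {R P : Subgroup Ω} (hPR : P ≤ R) {κ : MulAut R} {s : Ω}
    (hκ : ∀ x ∈ P, ofAut κ x = s * x * s⁻¹) (hκP : ∀ x ∈ P, ofAut κ x ∈ P) (n : ℕ) :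
    ∀ x ∈ P, ofAut (κ ^ n) x = s ^ n * x * (s ^ n)⁻¹ := by
  induction n with
  | zero => intro x hx; rw [pow_zero, pow_zero, ofAut_one (hPR hx)]; group
  | succ n ih =>
    intro x hx
    rw [pow_succ, ofAut_mul _ _ (hPR hx), hκ x hx, ih _ (by rw [← hκ x hx]; exact hκP x hx), pow_succ]
    group

namespace AndHyp

variable (h : AndHyp E₁ E₂ F p) [Finite S] [Fact p.Prime]

theorem mem_K {P : Subgroup Ω} {hP : P ≤ T₁ ⊓ T₂} {κ : MulAut ↥(P ⊔ centralizerIn S P)} :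
    κ ∈ h.K P hP ↔ Lft E₁ E₂ F P (ofAut κ) := Iff.rfl

include h

theorem K_le {P : Subgroup Ω} (hP : P ≤ T₁ ⊓ T₂) : h.K P hP ≤ stabAut F (P ⊔ centralizerIn S P) P := fun κ hκ => by
  have hRS : P ⊔ centralizerIn S P ≤ S := sup_le (hP.trans h.tS) (centralizerIn_le P)
  refine mem_stabAut_of_img hRS le_sup_left ((mem_autGroup_iff hRS).2 hκ.good.isMap) hκ.good.img_eq

theorem K_norm {P : Subgroup Ω} (hP : P ≤ T₁ ⊓ T₂) :
    stabAut F (P ⊔ centralizerIn S P) P ≤ Subgroup.normalizer (h.K P hP : Set (MulAut ↥(P ⊔ centralizerIn S P))) := by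
  have hRS : P ⊔ centralizerIn S P ≤ S := sup_le (hP.trans h.tS) (centralizerIn_le P)
  refine conj_le_normalizer_of fun α hα κ hκ => ?_
  have hα' := mem_stabAut.1 (Subgroup.inv_mem _ hα)
  have hm := isMap_ofAut hRS hα'.1
  have hfP := finite_of_le (hP.trans h.tS)
  have himg : img P (ofAut α⁻¹) = P := (hm.mono le_sup_left).img_eq fun x hx => (hα'.2 x (le_sup_left (a := P) hx)).1 hx
  refine (h.lft_pull hP hm himg hκ).congr h.t1 h.t2 fun x hx => ?_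
  have h1 := ofAut_mem α⁻¹ hx
  have h2 := ofAut_mem κ h1
  show minv (P ⊔ centralizerIn S P) (ofAut α⁻¹) (ofAut κ (ofAut α⁻¹ x)) = _
  rw [ofAut_mul _ _ hx, ofAut_mul _ _ h1]
  conv_lhs => rw [← ofAut_inv_apply α h2]
  exact hm.minv_apply (ofAut_mem α h2)

/-- lifts inducing conjugations by elements of `S` on `P` are conjugations -/
theorem lift_conj {P : Subgroup Ω} (hP : P ≤ T₁ ⊓ T₂) (hPn : F.IsFullyNormalized P)
    {κ : MulAut ↥(P ⊔ centralizerIn S P)} (hκ : Lft E₁ E₂ F P (ofAut κ)) {s₀ : Ω} (hs₀ : s₀ ∈ S)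
    (hκs : ∀ x ∈ P, ofAut κ x = s₀ * x * s₀⁻¹) :
    ∃ s ∈ normalizerIn S P, ∀ x ∈ P ⊔ centralizerIn S P, ofAut κ x = s * x * s⁻¹ := by
  have hPS := hP.trans h.tS
  have hRS : P ⊔ centralizerIn S P ≤ S := sup_le (hP.trans h.tS) (centralizerIn_le P)
  have hPR : P ≤ P ⊔ centralizerIn S P := le_sup_left
  have hfR := finite_of_le hRS
  have hfA := finite_mulAut (P := P ⊔ centralizerIn S P)
  have hsyl := (sylIn_stabAut h.hS h.sat hPn).inf_normal (h.K_le hP) (h.K_norm hP)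
  let V : Subgroup (MulAut ↥(P ⊔ centralizerIn S P)) :=
    { carrier := {κ | κ ∈ h.K P hP ∧ ∃ s ∈ S, ∀ x ∈ P, ofAut κ x = s * x * s⁻¹}
      one_mem' := ⟨Subgroup.one_mem _, 1, S.one_mem, fun x hx => by rw [ofAut_one (hPR hx)]; group⟩
      mul_mem' := by
        rintro a b ⟨ha, s, hs, has⟩ ⟨hb, t, ht, hbt⟩
        refine ⟨Subgroup.mul_mem _ ha hb, s * t, S.mul_mem hs ht, fun x hx => ?_⟩
        rw [ofAut_mul _ _ (hPR hx), has _ (hb.good.mem x hx), hbt x hx]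
        group
      inv_mem' := by
        rintro a ⟨ha, s, hs, has⟩
        have hai := Subgroup.inv_mem _ ha
        refine ⟨hai, s⁻¹, S.inv_mem hs, fun x hx => ?_⟩
        have h1 := has _ (hai.good.mem x hx)
        rw [ofAut_apply_inv a (hPR hx)] at h1
        conv_rhs => rw [h1]
        group }
  have hV : IsPGroup p V := by
    rintro ⟨a, ha, s, hs, has⟩
    obtain ⟨k, hk⟩ := h.hS ⟨s, hs⟩
    have hk' : s ^ p ^ k = 1 := by simpa using congrArg Subtype.val hk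
    have hap := Subgroup.pow_mem _ ha (p ^ k)
    have h1 : ∀ x ∈ P, ofAut (a ^ p ^ k) x = x := fun x hx => by
      rw [ofAut_pow_conj hPR has ha.good.mem (p ^ k) x hx, hk']; group
    obtain ⟨m, hm⟩ := pow_eq_one_of_stab h.hS hRS hPR h1 (fun x hx => hap.good.triv_sup hx)
    refine ⟨k + m, ?_⟩
    ext1
    rw [pow_add]
    simpa [pow_mul] using hm
  have h1 := hsyl.eq_of_le (C := V) (fun x hx => hx.1) hV (by
    rintro x ⟨hx, hxK⟩
    obtain ⟨s, hs, hsx⟩ := mem_autInducedBy'.1 hx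
    exact ⟨hxK, s, hs.1, fun y hy => hsx y (hPR hy)⟩)
  have h2 : κ ∈ V := ⟨hκ, s₀, hs₀, hκs⟩
  rw [← h1] at h2
  obtain ⟨s, hs, hsx⟩ := mem_autInducedBy'.1 h2.1
  exact ⟨s, hs, hsx⟩

/-- lifts as automorphisms -/
theorem exists_K {P : Subgroup Ω} (hP : P ≤ T₁ ⊓ T₂) {α : MulAut P} (hα : α ∈ xo E₁ E₂ F P) :
    ∃ κ ∈ h.K P hP, ∀ x ∈ P, ofAut κ x = ofAut α x := by
  obtain ⟨g, hg, hgα⟩ := (h.mem_xo hP).1 hα
  refine ⟨hg.good.aut, hg.congr h.t1 h.t2 fun x hx => (hg.good.ofAut_aut hx).symm, fun x hx => ?_⟩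
  rw [hg.good.ofAut_aut (le_sup_left (a := P) hx), hgα x hx]

/-- The focal condition. -/
theorem foc {P : Subgroup Ω} (hPc : TCen F (T₁ ⊓ T₂) P) (hPn : F.IsFullyNormalized P) {v x : MulAut P}
    (hv : v ∈ xa E₁ E₂ F P) (hvS : v ∈ autInducedBy S P) (hx : x ∈ xa E₁ E₂ F P)
    (hxv : x * v * x⁻¹ ∈ autInducedBy S P) : v⁻¹ * (x * v * x⁻¹) ∈ autInducedBy (T₁ ⊓ T₂) P := by
  have hP := hPc.1
  have hPS := hP.trans h.tS
  have hRS : P ⊔ centralizerIn S P ≤ S := sup_le (hP.trans h.tS) (centralizerIn_le P)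
  have hPR : P ≤ P ⊔ centralizerIn S P := le_sup_left
  have hPf := sat_fullyCentralized h.hS h.sat hPn
  rw [h.xa_eq_xo hP hPf] at hv hx
  obtain ⟨κv, hκv, hκvx⟩ := h.exists_K hP hv
  obtain ⟨κ, hκ, hκx⟩ := h.exists_K hP hx
  obtain ⟨s₀, hs₀, hvs₀⟩ := mem_autInducedBy'.1 hvS
  obtain ⟨s₂, hs₂, hvs₂⟩ := mem_autInducedBy'.1 hxv
  obtain ⟨s, hs, hsx⟩ := h.lift_conj hP hPn hκv hs₀ fun y hy => by rw [hκvx y hy, hvs₀ y hy]
  have hκ₁ : κ * κv * κ⁻¹ ∈ h.K P hP := Subgroup.mul_mem _ (Subgroup.mul_mem _ hκ hκv) (Subgroup.inv_mem _ hκ)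
  have hκi : ∀ y ∈ P, ofAut κ⁻¹ y = ofAut x⁻¹ y := by
    intro y hy
    have h1 := ofAut_mem x⁻¹ hy
    have h2 := hκx _ h1
    rw [ofAut_apply_inv x hy] at h2
    conv_lhs => rw [← h2]
    exact ofAut_inv_apply κ (hPR h1)
  obtain ⟨s₁, hs₁, hs₁x⟩ := h.lift_conj hP hPn hκ₁ hs₂ fun y hy => by
    have h1 := ofAut_mem x⁻¹ hy
    have h2 := ofAut_mem v h1
    rw [← hvs₂ y hy, ofAut_mul _ _ (hPR hy), ofAut_mul _ _ (ofAut_mem _ (hPR hy)), hκi y hy, hκvx _ h1, hκx _ h2,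
      ofAut_mul _ _ hy, ofAut_mul _ _ h1]
  -- extension of `κ`
  have hRrec := receptive_of_isCentric h.hS h.sat (fc_sup_centric hPf)
  have hκm : IsMap F (P ⊔ centralizerIn S P) (ofAut κ) := hκ.good.isMap
  obtain ⟨g, hg, hgκ⟩ := recep_exists_extend hRrec hκm (img_ofAut κ)
  have hext : ∀ y ∈ P ⊔ centralizerIn S P, ofAut κ (s * y * s⁻¹) = s₁ * ofAut κ y * s₁⁻¹ := by
    intro y hy
    have h1 := ofAut_mem κ hy
    rw [← hsx y hy, ← hs₁x _ h1, ofAut_mul _ _ h1, ofAut_mul _ _ (ofAut_mem _ h1), ofAut_inv_apply κ hy]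
  have hsN : s ∈ FusionSystem.extender S (P ⊔ centralizerIn S P) hκm.hom :=
    (mem_extender_hom hκm).2 ⟨hs.1, norm_sup_cen (T := S) (stronglyClosed_self F) hPS hs, s₁, hs₁.1, hext⟩
  have hRN : P ⊔ centralizerIn S P ≤ FusionSystem.extender S (P ⊔ centralizerIn S P) hκm.hom := le_extender_hom hκm
  have hCN : centralizerIn S P ≤ FusionSystem.extender S (P ⊔ centralizerIn S P) hκm.hom :=
    (le_sup_right (a := P)).trans hRN
  have hgC : ∀ c ∈ centralizerIn S P, c⁻¹ * g c ∈ P := fun c hc => by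
    rw [hgκ c (le_sup_right (a := P) hc)]; exact hκ.good.triv c hc
  have hsP : ∀ {V : Subgroup Ω}, V ≤ S → P ⊔ centralizerIn V P ≤ P ⊔ centralizerIn S P := fun hV =>
    sup_le_sup_left (fun c hc => mem_centralizerIn.2 ⟨hV (mem_centralizerIn.1 hc).1, (mem_centralizerIn.1 hc).2⟩) P
  have hw1 : s⁻¹ * g s ∈ T₁ := val_mem_T h.hS h.sat h.i1 h.s1 (hP.trans inf_le_left) hPn hs
    (hκv.m1.congr fun y hy => hsx y (hsP h.t1 hy)) hg hsN hCN hgC
  have hw2 : s⁻¹ * g s ∈ T₂ := val_mem_T h.hS h.sat h.i2 h.s2 (hP.trans inf_le_right) hPn hs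
    (hκv.m2.congr fun y hy => hsx y (hsP h.t2 hy)) hg hsN hCN hgC
  -- conjugation by `g s`
  have hgs : ∀ y ∈ P, ofAut (x * v * x⁻¹) y = g s * y * (g s)⁻¹ := by
    intro y hy
    have hyi := ofAut_mem x⁻¹ hy
    have hsy : s * ofAut x⁻¹ y * s⁻¹ ∈ P := (Subgroup.mem_normalizer_iff.1 hs.2 _).1 hyi
    have h1 := hg.map_conj hsN (hRN (hPR hyi))
    rw [hgκ _ (hPR hyi), hgκ _ (hPR hsy), hκx _ hyi, ofAut_apply_inv x hy, hκx _ hsy, ← hsx _ (hPR hyi),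
      hκvx _ hyi] at h1
    rw [ofAut_mul _ _ hy, ofAut_mul _ _ hyi, h1]
  refine mem_autInducedBy'.2 ⟨s⁻¹ * g s, ⟨hw1, hw2⟩, fun y hy => ?_⟩
  have h3 : ofAut (x * v * x⁻¹) y ∈ P := ofAut_mem _ hy
  have h4 : s⁻¹ * ofAut (x * v * x⁻¹) y * s⁻¹⁻¹ ∈ P := (Subgroup.mem_normalizer_iff.1 (Subgroup.inv_mem _ hs.2) _).1 h3
  have h5 : ofAut v (s⁻¹ * ofAut (x * v * x⁻¹) y * s⁻¹⁻¹) = ofAut (x * v * x⁻¹) y := by
    rw [← hκvx _ h4, hsx _ (hPR h4)]; group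
  rw [ofAut_mul _ _ hy]
  conv_lhs => rw [← h5]
  rw [ofAut_inv_apply v h4, hgs y hy]
  group

theorem autT {P : Subgroup Ω} (hPc : TCen F (T₁ ⊓ T₂) P) : autInducedBy (T₁ ⊓ T₂) P ≤ xa E₁ E₂ F P := by
  intro α hα
  have hP := hPc.1
  have hPS := hP.trans h.tS
  obtain ⟨Q, hPQ, hQn⟩ := exists_fullyNormalized (F := F) hPS
  obtain ⟨χ, hχ, himg, hχN⟩ := sat_exists_normalizer_map h.hS h.sat hQn hPQ
  have hQc := hPc.conj h.sc hPQ
  have hQ := hQc.1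
  have hQS := hQn.1
  obtain ⟨t, ht, htx⟩ := mem_autInducedBy'.1 hα
  have htN : t ∈ normalizerIn S P := ⟨h.tS ht, mem_normalizer_of_ofAut htx⟩
  have hPN : P ≤ normalizerIn S P := le_normalizerIn hPS
  have hχt := hχN t htN
  have hχT : χ t ∈ T₁ ⊓ T₂ := sc_map_mem h.sc hχ htN ht
  refine (h.mem_xa_iff hP (sat_fullyCentralized h.hS h.sat hQn) (hχ.mono hPN) himg
    (β := conjAut (χ t) hχt.2) fun x hx => ?_).2 ?_
  · have hχx : χ x ∈ Q := by rw [← himg]; exact subset_img hx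
    rw [ofAut_conjAut _ _ hχx, htx x hx, hχ.map_conj htN (hPN hx)]
  · refine (h.mem_xo hQ).2 ⟨fun x => χ t * x * (χ t)⁻¹, ⟨⟨isMap_conj (sup_le hQS (centralizerIn_le Q)) hχt.1,
      isMap_conj hQS hχt.1, fun x hx => (Subgroup.mem_normalizer_iff.1 hχt.2 x).1 hx, fun c hc => ?_⟩, ?_, ?_⟩,
      fun x hx => (ofAut_conjAut _ _ hx).symm⟩
    · refine hQc.cent h.tS ?_
      have h1 := cen_conj hχt.2 hc (S.mul_mem (S.mul_mem hχt.1 (mem_centralizerIn.1 hc).1) (S.inv_mem hχt.1))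
      have h2 := Subgroup.mul_mem _ (Subgroup.inv_mem _ hc) h1
      refine mem_centralizerIn.2 ⟨?_, (mem_centralizerIn.1 h2).2⟩
      have h3 := sc_conj_mem h.sc (S.inv_mem (mem_centralizerIn.1 hc).1) hχT
      have h4 := (T₁ ⊓ T₂).mul_mem h3 ((T₁ ⊓ T₂).inv_mem hχT)
      have e : c⁻¹ * χ t * c⁻¹⁻¹ * (χ t)⁻¹ = c⁻¹ * (χ t * c * (χ t)⁻¹) := by group
      rwa [e] at h4
    · exact isMap_conj (sup_le (hQ.trans inf_le_left) (centralizerIn_le Q)) hχT.1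
    · exact isMap_conj (sup_le (hQ.trans inf_le_right) (centralizerIn_le Q)) hχT.2

theorem pre : FocPre F p (T₁ ⊓ T₂) (TCen F (T₁ ⊓ T₂)) (xa E₁ E₂ F) where
  hS := h.hS
  sat := h.sat
  sc := h.sc
  top := ⟨le_rfl, fun R hR => by
    obtain ⟨f, hf, rfl⟩ := isConj_iff.1 hR
    rw [sc_img_eq h.sc hf le_rfl]
    exact centralizerIn_le _⟩
  le P hP := hP.1
  mono P Q hP hPQ hQ := hP.mono h.sc hPQ hQ
  img P f hP hf := hP.conj h.sc hf.isConj
  cen P hP := hP.cent h.tS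
  leF P hP := fun α hα => hα.1
  equi P f hf hP α hα := (h.xa_equi hP.1 hf rfl fun x hx => hf.ofAut_trans rfl α hx).1 hα
  autT P hP := h.autT hP
  foc P hP hPn v hv hvS x hx hxv := h.foc hP hPn hv hvS hx hxv

end AndHyp

end Cfsg.Agent.Fus
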