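import Cfsg.Agent.Fus.And2
import Cfsg.Agent.Fus.PPow1
set_option autoImplicit false
set_option linter.unusedSectionVars false
set_option linter.unusedVariables false

/-!
# The intersection of two normal subsystems: restriction and extension (helper85)
-/

namespace Cfsg.Agent.Fus

open Cfsg Cfsg.FusionSystem Cfsg.Agent.H85

variable {Ω : Type*} [Group Ω] {S T T₁ T₂ : Subgroup Ω} {F : FusionSystem S} {E : FusionSystem T}
  {E₁ : FusionSystem T₁} {E₂ : FusionSystem T₂} {p : ℕ}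

/-- transport of pairs `P ⊴ Q` to `P` fully normalized, `Q` fully centralized -/
theorem exists_trAnd [Finite S] [Fact p.Prime] (hS : IsPGroup p S) (hF : F.IsSaturated p) {P Q : Subgroup Ω}
    (hPQ : P ≤ Q) (hQS : Q ≤ S) (hQN : Q ≤ Subgroup.normalizer (P : Set Ω)) :
    ∃ χ, IsMap F Q χ ∧ F.IsFullyNormalized (img P χ) ∧ F.IsFullyCentralized (img Q χ) := by
  obtain ⟨Q₁, hQQ₁, hQ₁n⟩ := exists_fullyNormalized (F := F) hQS
  obtain ⟨f, hf, himgf, -⟩ := sat_exists_normalizer_map hS hF hQ₁n hQQ₁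
  have hfQ := hf.mono (le_normalizerIn hQS)
  have hfP := hfQ.mono hPQ
  have hP₁S : img P f ≤ S := hfP.img_le
  obtain ⟨P₂, hP₁P₂, hP₂n⟩ := exists_fullyNormalized (F := F) hP₁S
  obtain ⟨k, hk, himgk, -⟩ := sat_exists_normalizer_map hS hF hP₂n hP₁P₂
  have hfinP := finite_of_le hP₁S
  have hQ₁N : Q₁ ≤ normalizerIn S (img P f) := by
    intro y hy
    rw [← himgf] at hy
    obtain ⟨q, hq, rfl⟩ := hfQ.mem_img.1 hy
    refine ⟨hfQ.mem hq, mem_normalizer_of_conj fun z hz => ?_⟩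
    obtain ⟨x, hx, rfl⟩ := hfP.mem_img.1 hz
    rw [← hfQ.map_conj hq (hPQ hx)]
    exact subset_img ((Subgroup.mem_normalizer_iff.1 (hQN hq) x).1 hx)
  have hfQ1 : ∀ x ∈ Q, f x ∈ Q₁ := fun x hx => by rw [← himgf]; exact subset_img hx
  have hkf : IsMap F Q (fun x => k (f x)) := (hk.mono hQ₁N).comp hfQ hfQ1
  have himg : img Q (fun x => k (f x)) = img Q₁ k := by rw [hfQ.img_comp, himgf]
  refine ⟨fun x => k (f x), hkf, ?_, ?_⟩
  · have : img P (fun x => k (f x)) = img (img P f) k := hfP.img_comp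
    rw [this, himgk]; exact hP₂n
  · rw [himg]
    have hkQ := hk.mono hQ₁N
    have hQ₁c := sat_fullyCentralized hS hF hQ₁n
    refine ⟨hkQ.img_le, fun R hR => ?_⟩
    refine (hQ₁c.2 R (isConj_trans hkQ.isConj hR)).trans ?_
    have hCN : centralizerIn S Q₁ ≤ normalizerIn S (img P f) := by
      refine le_trans (fun c hc => ?_) (centralizerIn_le_normalizerIn (img P f))
      refine mem_centralizerIn.2 ⟨(mem_centralizerIn.1 hc).1, fun y hy => (mem_centralizerIn.1 hc).2 y ?_⟩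
      rw [← himgf]; exact img_mono hPQ hy
    refine card_le_of_map (hk.mono hCN) (centralizerIn_le _) fun x hx => ?_
    exact mem_centralizerIn.2 ⟨hk.mem (hCN hx), hk.map_centralizer hQ₁N (hCN hx) (mem_centralizerIn.1 hx).2⟩

/-- `p'`-automorphisms which are in `E` on a centric subgroup -/
theorem mem_of_restr' [Finite S] [Fact p.Prime] (hS : IsPGroup p S) (hE : E.IsInvariantIn F)
    (hEs : E.IsSaturated p) {Y W : Subgroup Ω} (hW : W ≤ S) (hY : E.IsCentric Y) (hYW : Y ≤ W)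
    (hWN : W ≤ Subgroup.normalizer (Y : Set Ω)) {κ : MulAut W} (hκ : κ ∈ F.autGroup W)
    (hco : (orderOf κ).Coprime p) (hκY : ∀ y ∈ Y, ofAut κ y ∈ Y) (hκE : IsMap E Y (ofAut κ)) :
    IsMap E (W ⊓ T) (ofAut κ) := by
  obtain ⟨β, hβ, hβκ, hβo⟩ := exists_restrict_mem hW (inf_le_left : W ⊓ T ≤ W) hκ fun x hx =>
    ⟨ofAut_mem κ hx.1, sc_map_mem hE.2.1 (isMap_ofAut hW hκ) hx.1 hx.2⟩
  have hYWT : Y ≤ W ⊓ T := le_inf hYW hY.1
  have h1 : β ∈ E.autGroup (W ⊓ T) := mem_of_restr_centric hS hE hEs hY hYWT inf_le_right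
    (inf_le_left.trans hWN) hβ (hco.coprime_dvd_left hβo) (fun y hy => by
      rw [hβκ y (hYWT hy)]; exact hκY y hy) (hκE.congr fun y hy => (hβκ y (hYWT hy)).symm)
  exact (isMap_ofAut inf_le_right h1).congr hβκ

theorem triv_sup' {P A V : Subgroup Ω} {f : Ω → Ω} (hf : IsMap F (P ⊔ A) f)
    (hA : A ≤ Subgroup.normalizer (P : Set Ω)) (h1 : ∀ x ∈ P, f x ∈ P) (hPV : P ≤ V)
    (h2 : ∀ a ∈ A, a⁻¹ * f a ∈ V) : ∀ x ∈ P ⊔ A, x⁻¹ * f x ∈ V := by
  intro x hx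
  obtain ⟨y, hy, c, hc, rfl⟩ := (mem_sup_iff_of_normalizes hA).1 hx
  have hcN : c⁻¹ ∈ Subgroup.normalizer (P : Set Ω) := Subgroup.inv_mem _ (hA hc)
  rw [hf.map_mul (le_sup_left (a := P) hy) (le_sup_right (a := P) hc)]
  have h3 := (Subgroup.mem_normalizer_iff.1 hcN _).1 (P.mul_mem (P.inv_mem hy) (h1 y hy))
  have h4 := V.mul_mem (hPV h3) (h2 c hc)
  have e : c⁻¹ * (y⁻¹ * f y) * c⁻¹⁻¹ * (c⁻¹ * f c) = (y * c)⁻¹ * (f y * f c) := by group
  rwa [e] at h4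

/-- `[Q, C_S(P)] ≤ P` -/
theorem comm_mem_of_tcen (hT : F.StronglyClosed T) {P : Subgroup Ω} (hPc : TCen F T P) {q c : Ω} (hq : q ∈ T)
    (hqN : q ∈ Subgroup.normalizer (P : Set Ω)) (hc : c ∈ centralizerIn S P) : q * c * q⁻¹ * c⁻¹ ∈ P := by
  refine hPc.cent hT.1 ?_
  have hcS := (mem_centralizerIn.1 hc).1
  have h1 := cen_conj hqN hc (S.mul_mem (S.mul_mem (hT.1 hq) hcS) (S.inv_mem (hT.1 hq)))
  have h2 := Subgroup.mul_mem _ h1 (Subgroup.inv_mem _ hc)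
  refine mem_centralizerIn.2 ⟨?_, (mem_centralizerIn.1 h2).2⟩
  have h3 := T.mul_mem hq (sc_conj_mem hT hcS (T.inv_mem hq))
  have e : q * (c * q⁻¹ * c⁻¹) = q * c * q⁻¹ * c⁻¹ := by group
  rwa [e] at h3

theorem cen_mono {V P Q : Subgroup Ω} (h : P ≤ Q) : centralizerIn V Q ≤ centralizerIn V P := fun c hc =>
  mem_centralizerIn.2 ⟨(mem_centralizerIn.1 hc).1, fun y hy => (mem_centralizerIn.1 hc).2 y (h hy)⟩

theorem cen_mono_left {V W P : Subgroup Ω} (h : V ≤ W) : centralizerIn V P ≤ centralizerIn W P := fun c hc =>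
  mem_centralizerIn.2 ⟨h (mem_centralizerIn.1 hc).1, (mem_centralizerIn.1 hc).2⟩

theorem exists_exp [Finite S] [Fact p.Prime] (hS : IsPGroup p S) : ∃ e : ℕ, ∀ x ∈ S, x ^ p ^ e = 1 := by
  obtain ⟨n, hn⟩ := IsPGroup.iff_card.1 hS
  refine ⟨n, fun x hx => ?_⟩
  have h1 : (⟨x, hx⟩ : S) ^ Nat.card S = 1 := pow_card_eq_one'
  rw [hn] at h1
  simpa using congrArg Subtype.val h1

namespace AndHyp

variable (h : AndHyp E₁ E₂ F p) [Finite S] [Fact p.Prime]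
include h

/-- `p'`-lifts -/
theorem exists_pK {P : Subgroup Ω} (hP : P ≤ T₁ ⊓ T₂) {α : MulAut P} (hα : α ∈ xo E₁ E₂ F P)
    (hco : (orderOf α).Coprime p) :
    ∃ κ ∈ h.K P hP, (orderOf κ).Coprime p ∧ ∀ x ∈ P, ofAut κ x = ofAut α x := by
  have hRS : P ⊔ centralizerIn S P ≤ S := sup_le (hP.trans h.tS) (centralizerIn_le P)
  have hfR := finite_of_le hRS
  have hfA := finite_mulAut (P := P ⊔ centralizerIn S P)
  obtain ⟨κ, hκ, hκα⟩ := h.exists_K hP hα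
  obtain ⟨k, hk, hko⟩ := exists_pprime_pow (p := p) κ hco
  refine ⟨κ ^ k, Subgroup.pow_mem _ hκ k, hko, fun x hx => ?_⟩
  rw [ofAut_pow_restrict le_sup_left hκα k x hx, pow_eq_self_of_modEq (pow_orderOf_eq_one α) hk]

theorem fcCentric {P : Subgroup Ω} (hP : P ≤ T₁ ⊓ T₂) (hPf : F.IsFullyCentralized P) :
    E₁.IsCentric (P ⊔ centralizerIn T₁ P) := by
  have := finite_of_le h.t1
  exact fc_sup_centric (fullyCentralized_of_stronglyClosed h.hS h.sat h.i1.1 h.sc1 (hP.trans inf_le_left) hPf)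

/-- the commutator of `α` and conjugation by `b ∈ C_S(P)` -/
theorem comm_step {P Q : Subgroup Ω} (hPc : TCen F (T₁ ⊓ T₂) P) (hPQ : P ≤ Q) (hQ : Q ≤ T₁ ⊓ T₂)
    (hQN : Q ≤ Subgroup.normalizer (P : Set Ω)) {α : MulAut Q}
    (hα : α ∈ xa E₁ E₂ F Q) (hco : (orderOf α).Coprime p) (hαP : ∀ x ∈ P, ofAut α x ∈ P) {b : Ω}
    (hb : b ∈ centralizerIn S P) :
    ∃ z ∈ P, ∀ x ∈ Q, ofAut α (b * x * b⁻¹) = (z * b) * ofAut α x * (z * b)⁻¹ := by
  have hQc := hPc.mono h.sc hPQ hQ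
  have hQS := hQ.trans h.tS
  have hPS := hPQ.trans hQS
  have hfP := finite_of_le hPS
  have hfQ := finite_of_le hQS
  have hfA := finite_mulAut (P := Q)
  have hbN : b ∈ Subgroup.normalizer (Q : Set Ω) := by
    refine mem_normalizer_of_conj fun q hq => ?_
    have h1 := comm_mem_of_tcen h.sc hPc (hQ hq) (hQN hq) hb
    have h2 := Q.mul_mem (Q.inv_mem (hPQ h1)) hq
    have e : (q * b * q⁻¹ * b⁻¹)⁻¹ * q = b * q * b⁻¹ := by group
    rwa [e] at h2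
  have hbP : ∀ x ∈ P, b * x * b⁻¹ = x := fun x hx => by
    rw [← (mem_centralizerIn.1 hb).2 x hx]; group
  have hbQ : ∀ x ∈ Q, x⁻¹ * (b * x * b⁻¹) ∈ P := fun q hq => by
    have h1 := comm_mem_of_tcen h.sc hPc (Subgroup.inv_mem _ (hQ hq)) (Subgroup.inv_mem _ (hQN hq)) hb
    have e : q⁻¹ * b * q⁻¹⁻¹ * b⁻¹ = q⁻¹ * (b * q * b⁻¹) := by group
    rwa [e] at h1
  have hcbF : conjAut b hbN ∈ F.autGroup Q := conjAut_mem_autGroup hQS (mem_centralizerIn.1 hb).1 hbN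
  have hαi : ∀ x ∈ P, ofAut α⁻¹ x ∈ P := by
    intro x hx
    have hαm := isMap_ofAut hQS (hα.1)
    have himg : img P (ofAut α) = P := (hαm.mono hPQ).img_eq hαP
    rw [← himg] at hx
    obtain ⟨y, hy, rfl⟩ := (hαm.mono hPQ).mem_img.1 hx
    rw [ofAut_inv_apply α (hPQ hy)]; exact hy
  -- the commutator
  have hαA := h.pre.pprime_mem_focA hQc hα hco
  have h2 : conjAut b hbN * α⁻¹ * (conjAut b hbN)⁻¹ ∈ focA F p (T₁ ⊓ T₂) (xa E₁ E₂ F) Q := by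
    refine (h.pre.focA_equi hQc (isMap_ofAut hQS hcbF) (img_ofAut _) fun x hx => ?_).1 (Subgroup.inv_mem _ hαA)
    rw [ofAut_mul _ _ (ofAut_mem _ hx), ofAut_inv_apply _ hx, ofAut_mul _ _ hx]
  have hγ : α * (conjAut b hbN * α⁻¹ * (conjAut b hbN)⁻¹) ∈ focA F p (T₁ ⊓ T₂) (xa E₁ E₂ F) Q :=
    Subgroup.mul_mem _ hαA h2
  have hval : ∀ x ∈ Q, ofAut (α * (conjAut b hbN * α⁻¹ * (conjAut b hbN)⁻¹)) (b * ofAut α x * b⁻¹) =
      ofAut α (b * x * b⁻¹) := by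
    intro x hx
    have h3 := ofAut_mem α hx
    have e : b * ofAut α x * b⁻¹ = ofAut (conjAut b hbN) (ofAut α x) := (ofAut_conjAut b hbN h3).symm
    have h4 := ofAut_mem (conjAut b hbN) h3
    rw [e, ofAut_mul _ _ h4, ofAut_mul _ _ h4, ofAut_inv_apply _ h3, ofAut_mul _ _ h3, ofAut_inv_apply _ hx,
      ofAut_conjAut b hbN hx]
  have hfix : ∀ x ∈ P, ofAut (α * (conjAut b hbN * α⁻¹ * (conjAut b hbN)⁻¹)) x = x := by
    intro x hx
    have h3 := hαi x hx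
    have h4 := hval _ (hPQ h3)
    rw [ofAut_apply_inv α (hPQ hx), hbP x hx, hbP _ h3, ofAut_apply_inv α (hPQ hx)] at h4
    exact h4
  have htriv : ∀ x ∈ Q, x⁻¹ * ofAut (α * (conjAut b hbN * α⁻¹ * (conjAut b hbN)⁻¹)) x ∈ P := by
    intro x hx
    -- `x = b α(y) b⁻¹`
    have hx1 : b⁻¹ * x * b ∈ Q := by
      have := (Subgroup.mem_normalizer_iff.1 (Subgroup.inv_mem _ hbN) x).1 hx
      rwa [inv_inv] at this
    have hy := ofAut_mem α⁻¹ hx1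
    have h4 := hval _ hy
    rw [ofAut_apply_inv α hx1] at h4
    have e : b * (b⁻¹ * x * b) * b⁻¹ = x := by group
    rw [e] at h4
    rw [h4]
    -- `y⁻¹ (b y b⁻¹) ∈ P`
    have h5 := hbQ _ hy
    have h6 := hαP _ h5
    have hbyb : b * ofAut α⁻¹ (b⁻¹ * x * b) * b⁻¹ ∈ Q := (Subgroup.mem_normalizer_iff.1 hbN _).1 hy
    rw [(isMap_ofAut hQS hα.1).map_mul (Q.inv_mem hy) hbyb, (isMap_ofAut hQS hα.1).map_inv hy,
      ofAut_apply_inv α hx1] at h6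
    have h7 := hbQ _ hx1
    rw [e] at h7
    have h8 := P.mul_mem (P.inv_mem h7) h6
    have e2 : ((b⁻¹ * x * b)⁻¹ * x)⁻¹ * ((b⁻¹ * x * b)⁻¹ * ofAut α (b * ofAut α⁻¹ (b⁻¹ * x * b) * b⁻¹)) =
      x⁻¹ * ofAut α (b * ofAut α⁻¹ (b⁻¹ * x * b) * b⁻¹) := by group
    rwa [e2] at h8
  obtain ⟨g, hg, t, ht, htx⟩ := h.pre.exists_T_of_pelement hQc hγ (pow_eq_one_of_stab h.hS hQS hPQ hfix htriv)
  have hgP := hg.mono hPQ
  have htC : t ∈ centralizerIn (T₁ ⊓ T₂) (img P g) := by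
    refine mem_centralizerIn.2 ⟨ht, fun y hy => ?_⟩
    obtain ⟨x, hx, rfl⟩ := hgP.mem_img.1 hy
    have h3 := htx x (hPQ hx)
    rw [hfix x hx] at h3
    calc g x * t = t * g x * t⁻¹ * t := by rw [← h3]
      _ = t * g x := by group
  obtain ⟨z, hz, hzt⟩ := hgP.mem_img.1 ((hPc.conj h.sc hgP.isConj).cent h.tS htC)
  refine ⟨z, hz, fun x hx => ?_⟩
  have h3 := ofAut_mem α hx
  have h4 : b * ofAut α x * b⁻¹ ∈ Q := (Subgroup.mem_normalizer_iff.1 hbN _).1 h3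
  have h5 := htx _ h4
  rw [hval x hx, ← hzt, ← hg.map_conj (hPQ hz) h4] at h5
  have h6 : b * x * b⁻¹ ∈ Q := (Subgroup.mem_normalizer_iff.1 hbN _).1 hx
  have h7 := hg.inj (ofAut_mem α h6) (Q.mul_mem (Q.mul_mem (hPQ hz) h4) (Q.inv_mem (hPQ hz))) h5
  rw [h7]; group

/-- lifts from extended automorphisms -/
theorem lft_of_ext {P Q W : Subgroup Ω} (hP : P ≤ T₁ ⊓ T₂) (hQ : Q ≤ T₁ ⊓ T₂) (hQf : F.IsFullyCentralized Q)
    (hW : W ≤ S) (hPW : P ⊔ centralizerIn S P ≤ W) (hQW : Q ⊔ centralizerIn S Q ≤ W)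
    (hWN : W ≤ normalizerIn S Q) {κ : MulAut W} (hκ : κ ∈ F.autGroup W) (hco : (orderOf κ).Coprime p)
    (hκP : ∀ x ∈ P, ofAut κ x ∈ P) (hκC : ∀ c ∈ centralizerIn S P, c⁻¹ * ofAut κ c ∈ P)
    (hκQ : Lft E₁ E₂ F Q (ofAut κ)) : Lft E₁ E₂ F P (ofAut κ) := by
  have hκm := isMap_ofAut hW hκ
  have key : ∀ {V : Subgroup Ω}, V ≤ S → P ⊔ centralizerIn V P ≤ P ⊔ centralizerIn S P := fun hV =>
    sup_le_sup_left (cen_mono_left hV) P
  have key' : ∀ {V : Subgroup Ω}, V ≤ S → Q ⊔ centralizerIn V Q ≤ Q ⊔ centralizerIn S Q := fun hV =>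
    sup_le_sup_left (cen_mono_left hV) Q
  refine ⟨⟨hκm.mono hPW, hκm.mono (le_sup_left.trans hPW), hκP, hκC⟩, ?_, ?_⟩
  · refine (mem_of_restr' h.hS h.i1 h.s1 hW (h.fcCentric hQ hQf) ((key' h.t1).trans hQW)
      (fun w hw => norm_sup_cen h.sc1 (hQ.trans h.tS) (hWN hw)) hκ hco (hκQ.good.mem_T h.t1 hκQ.m1) hκQ.m1).mono ?_
    exact le_inf ((key h.t1).trans hPW) (sup_le (hP.trans inf_le_left) (centralizerIn_le P))
  · refine (mem_of_restr' h.hS h.i2 h.s2 hW (h.symm.fcCentric (hQ.trans (inf_comm T₁ T₂).le) hQf) ((key' h.t2).trans hQW)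
      (fun w hw => norm_sup_cen h.sc2 (hQ.trans h.tS) (hWN hw)) hκ hco (hκQ.good.mem_T h.t2 hκQ.m2) hκQ.m2).mono ?_
    exact le_inf ((key h.t2).trans hPW) (sup_le (hP.trans inf_le_right) (centralizerIn_le P))

theorem res_step {P Q : Subgroup Ω} (hPc : TCen F (T₁ ⊓ T₂) P) (hPQ : P ≤ Q) (hQ : Q ≤ T₁ ⊓ T₂)
    (hQN : Q ≤ Subgroup.normalizer (P : Set Ω)) (hPn : F.IsFullyNormalized P) (hQf : F.IsFullyCentralized Q)
    {α : MulAut Q} (hα : α ∈ xa E₁ E₂ F Q) (hco : (orderOf α).Coprime p) (hαP : ∀ x ∈ P, ofAut α x ∈ P)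
    {β : MulAut P} (hβ : ∀ x ∈ P, ofAut β x = ofAut α x) : β ∈ xa E₁ E₂ F P := by
  have hP := hPc.1
  have hQc := hPc.mono h.sc hPQ hQ
  have hQS := hQ.trans h.tS
  have hPS := hPQ.trans hQS
  have hfP := finite_of_le hPS
  have hfQ := finite_of_le hQS
  obtain ⟨κ, hκ, hκo, hκα⟩ := h.exists_pK hQ (by rwa [← h.xa_eq_xo hQ hQf]) hco
  have hκ' : Lft E₁ E₂ F Q (ofAut κ) := hκ
  have hRS : Q ⊔ centralizerIn S Q ≤ S := sup_le hQS (centralizerIn_le Q)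
  have hbN : ∀ b ∈ centralizerIn S P, b ∈ normalizerIn S Q := by
    intro b hb
    refine ⟨(mem_centralizerIn.1 hb).1, mem_normalizer_of_conj fun q hq => ?_⟩
    have h1 := comm_mem_of_tcen h.sc hPc (hQ hq) (hQN hq) hb
    have h2 := Q.mul_mem (Q.inv_mem (hPQ h1)) hq
    have e : (q * b * q⁻¹ * b⁻¹)⁻¹ * q = b * q * b⁻¹ := by group
    rwa [e] at h2
  have hPQC : centralizerIn S Q ≤ centralizerIn S P := cen_mono hPQ
  have hcs : ∀ b ∈ centralizerIn S P, ∃ z ∈ P, ∀ x ∈ Q, ofAut κ (b * x * b⁻¹) = (z * b) * ofAut κ x * (z * b)⁻¹ := by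
    intro b hb
    obtain ⟨z, hz, hzx⟩ := h.comm_step hPc hPQ hQ hQN hα hco hαP hb
    refine ⟨z, hz, fun x hx => ?_⟩
    rw [hκα _ ((Subgroup.mem_normalizer_iff.1 (hbN b hb).2 _).1 hx), hκα x hx, hzx x hx]
  obtain ⟨κ', hκ'F, hκ'o, hκ'R, hκ'B⟩ := exists_lift_ext h.hS h.sat hQf (B := centralizerIn S P)
    ((mem_autGroup_iff hRS).2 hκ'.good.isMap) hκ'.good.mem hκ'.good.triv hκo hbN (by
      intro b hb
      obtain ⟨z, hz, hzx⟩ := hcs b hb
      refine ⟨z * b, Subgroup.mul_mem _ (le_sup_left (a := Q ⊔ centralizerIn S Q) (le_sup_left (a := Q) (hPQ hz)))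
        (le_sup_right (a := Q ⊔ centralizerIn S Q) hb), hzx, fun c hc => ?_⟩
      have h1 := cen_conj (hbN b hb).2 hc (S.mul_mem (S.mul_mem (hbN b hb).1 (mem_centralizerIn.1 hc).1)
        (S.inv_mem (hbN b hb).1))
      have h2 := (mem_centralizerIn.1 h1).2 z (hPQ hz)
      have e : z * b * c * (z * b)⁻¹ * (b * c * b⁻¹)⁻¹ = z * (b * c * b⁻¹) * z⁻¹ * (b * c * b⁻¹)⁻¹ := by group
      rw [e, h2]
      have e2 : b * c * b⁻¹ * z * z⁻¹ * (b * c * b⁻¹)⁻¹ = 1 := by group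
      rw [e2]; exact Q.one_mem)
  have hWS : Q ⊔ centralizerIn S Q ⊔ centralizerIn S P ≤ S := sup_le hRS (centralizerIn_le P)
  have hQW : Q ⊔ centralizerIn S Q ≤ Q ⊔ centralizerIn S Q ⊔ centralizerIn S P := le_sup_left
  have hQW' : Q ≤ Q ⊔ centralizerIn S Q ⊔ centralizerIn S P := (le_sup_left (a := Q)).trans hQW
  have hCW : centralizerIn S P ≤ Q ⊔ centralizerIn S Q ⊔ centralizerIn S P := le_sup_right
  have hκm := isMap_ofAut hWS hκ'F
  have hκQ : ∀ x ∈ Q, ofAut κ' x = ofAut α x := fun x hx => by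
    rw [hκ'R x (le_sup_left (a := Q) hx), hκα x hx]
  have hκP : ∀ x ∈ P, ofAut κ' x ∈ P := fun x hx => by rw [hκQ x (hPQ hx)]; exact hαP x hx
  have hκC : ∀ c ∈ centralizerIn S P, ofAut κ' c ∈ centralizerIn S P := by
    intro c hc
    have h1 := hκm.map_centralizer (hPQ.trans hQW') (hCW hc) (mem_centralizerIn.1 hc).2
    rw [(hκm.mono (hPQ.trans hQW')).img_eq hκP] at h1
    exact mem_centralizerIn.2 ⟨hκm.mem (hCW hc), h1⟩
  have hCN : centralizerIn S Q ≤ Subgroup.normalizer (P : Set Ω) :=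
    hPQC.trans ((centralizerIn_le_normalizerIn P).trans inf_le_right)
  have hCN' : centralizerIn S P ≤ Subgroup.normalizer (P : Set Ω) :=
    (centralizerIn_le_normalizerIn P).trans inf_le_right
  obtain ⟨e, he⟩ := exists_exp h.hS
  have hPCW : P ⊔ centralizerIn S P ≤ Q ⊔ centralizerIn S Q ⊔ centralizerIn S P :=
    sup_le (hPQ.trans hQW') hCW
  have hPC₁ : P ⊔ centralizerIn S Q ≤ P ⊔ centralizerIn S P := sup_le_sup_left hPQC P
  have htriv : ∀ b ∈ P ⊔ centralizerIn S P, b⁻¹ * ofAut κ' b ∈ P := by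
    refine coprime_mod (κ := κ') (A₀ := P) (A₁ := P ⊔ centralizerIn S Q) (B := P ⊔ centralizerIn S P)
      hPCW hPC₁ le_sup_left (sup_le Subgroup.le_normalizer hCN) hκP ?_ ?_ (pow_orderOf_eq_one κ') (N := p ^ e)
      (fun a ha => he a (hWS (hPCW (hPC₁ ha)))) (Nat.Coprime.pow_right _ hκ'o)
    · refine triv_sup' (hκm.mono (hPC₁.trans hPCW)) hCN hκP le_rfl fun c hc => ?_
      refine hPc.cent h.tS (mem_centralizerIn.2 ⟨?_, ?_⟩)
      · rw [hκ'R c (le_sup_right (a := Q) hc)]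
        exact hQ (hκ'.good.triv c hc)
      · exact (mem_centralizerIn.1 (Subgroup.mul_mem _ (Subgroup.inv_mem _ (hPQC hc)) (hκC c (hPQC hc)))).2
    · refine triv_sup' (hκm.mono hPCW) hCN' hκP le_sup_left fun b hb => ?_
      obtain ⟨z, hz, hzx⟩ := hcs b hb
      have h1 := hκ'B b hb (z * b) (S.mul_mem (hPS hz) (mem_centralizerIn.1 hb).1) hzx
      have h2 : b⁻¹ * z * b ∈ P := by
        have := (Subgroup.mem_normalizer_iff.1 (Subgroup.inv_mem _ (hCN' hb)) z).1 hz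
        rwa [inv_inv] at this
      have h3 := Subgroup.mul_mem _ (le_sup_left (b := centralizerIn S Q) h2) (le_sup_right (a := P) h1)
      have e : b⁻¹ * z * b * ((z * b)⁻¹ * ofAut κ' b) = b⁻¹ * ofAut κ' b := by group
      rwa [e] at h3
  have hWN : Q ⊔ centralizerIn S Q ⊔ centralizerIn S P ≤ normalizerIn S Q :=
    sup_le (sup_le (le_normalizerIn hQS) (centralizerIn_le_normalizerIn Q)) hbN
  have hL := h.lft_of_ext hP hQ hQf hWS hPCW hQW hWN hκ'F hκ'o hκP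
    (fun c hc => htriv c (le_sup_right (a := P) hc)) (hκ'.congr h.t1 h.t2 fun x hx => (hκ'R x hx).symm)
  rw [h.xa_eq_xo hP (sat_fullyCentralized h.hS h.sat hPn)]
  exact (h.mem_xo hP).2 ⟨_, hL, fun x hx => by rw [hκQ x (hPQ hx), hβ x hx]⟩

end AndHyp

end Cfsg.Agent.Fus
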