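import Cfsg.Agent.Fus.And3
set_option autoImplicit false
set_option linter.unusedSectionVars false
set_option linter.unusedVariables false

/-!
# The intersection of two normal subsystems: the automizer data (helper85)
-/

namespace Cfsg.Agent.Fus

open Cfsg Cfsg.FusionSystem Cfsg.Agent.H85

variable {Ω : Type*} [Group Ω] {S T T₁ T₂ : Subgroup Ω} {F : FusionSystem S} {E : FusionSystem T}
  {E₁ : FusionSystem T₁} {E₂ : FusionSystem T₂} {p : ℕ}

/-- images of normalized pairs -/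
theorem img_le_normalizer [Finite S] {P Q : Subgroup Ω} (hPQ : P ≤ Q) (hQN : Q ≤ Subgroup.normalizer (P : Set Ω))
    {f : Ω → Ω} (hf : IsMap F Q f) : img Q f ≤ Subgroup.normalizer (img P f : Set Ω) := by
  intro y hy
  obtain ⟨q, hq, rfl⟩ := hf.mem_img.1 hy
  have := finite_of_le (hf.mono hPQ).img_le
  refine mem_normalizer_of_conj fun z hz => ?_
  obtain ⟨x, hx, rfl⟩ := (hf.mono hPQ).mem_img.1 hz
  rw [← hf.map_conj hq (hPQ hx)]
  exact subset_img ((Subgroup.mem_normalizer_iff.1 (hQN hq) x).1 hx)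

namespace FocPre

variable {ℋ : Subgroup Ω → Prop} {X : (P : Subgroup Ω) → Subgroup (MulAut P)}
variable (h : FocPre F p T ℋ X) [Finite S] [Fact p.Prime]
include h

/-- `Aut_T(P)` is Sylow in the focal group -/
theorem focA_sylIn {P : Subgroup Ω} (hP : ℋ P) (hn : F.IsFullyNormalized P) :
    H85.SylIn p (autInducedBy T P) (focA F p T X P) := by
  have hfP := finite_of_le (h.leS hP)
  have hfA := finite_mulAut (P := P)
  have hTp := isPGroup_of_le h.hS h.TS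
  obtain ⟨D, hD, hDs⟩ := exists_sylIn (p := p) (h.autT_le_focA hP) (isPGroup_autInducedBy hTp P)
  have h1 := h.focA_syl hP hn hDs.le hDs.isPGroup hD
  rwa [le_antisymm h1 hD] at hDs

/-- extension of `p`-elements -/
theorem ext_pel {P Q : Subgroup Ω} (hP : ℋ P) (hPQ : P ≤ Q) (hQ : Q ≤ T) (hQN : Q ≤ Subgroup.normalizer (P : Set Ω))
    (hn : F.IsFullyNormalized P) {α : MulAut P} (hα : α ∈ focA F p T X P) (hk : ∃ k : ℕ, α ^ p ^ k = 1)
    (hc : ∀ q ∈ Q, ∃ q' ∈ Q, ∀ x ∈ P, ofAut α (q * x * q⁻¹) = q' * ofAut α x * q'⁻¹) :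
    ∃ β ∈ focA F p T X Q, ∀ x ∈ P, ofAut β x = ofAut α x := by
  have hQc := h.mono P Q hP hPQ hQ
  have hPS := h.leS hP
  have hQS := h.leS hQc
  have hfP := finite_of_le hPS
  have hfQ := finite_of_le hQS
  have hfA := finite_mulAut (P := P)
  have hTp := isPGroup_of_le h.hS h.TS
  have h1 : Subgroup.zpowers α ≤ Subgroup.normalizer (autInducedBy Q P : Set (MulAut P)) := by
    rw [Subgroup.zpowers_le]
    have : Finite (autInducedBy Q P) := inferInstance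
    refine mem_normalizer_of_conj fun β hβ => ?_
    obtain ⟨q, hq, hqx⟩ := mem_autInducedBy'.1 hβ
    obtain ⟨q', hq', hqx'⟩ := hc q hq
    refine mem_autInducedBy'.2 ⟨q', hq', fun x hx => ?_⟩
    have h2 := ofAut_mem α⁻¹ hx
    rw [ofAut_mul _ _ hx, ofAut_mul _ _ h2, hqx _ h2, hqx' _ h2, ofAut_apply_inv α hx]
  have hz : IsPGroup p (Subgroup.zpowers α) := by
    obtain ⟨k, hk⟩ := hk
    rintro ⟨_, n, rfl⟩
    refine ⟨k, ?_⟩
    ext1
    show (α ^ n) ^ p ^ k = 1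
    rw [← zpow_natCast, ← zpow_mul, mul_comm, zpow_mul, zpow_natCast, hk, one_zpow]
  have h2 := isPGroup_sup_of_normalizes hz (isPGroup_autInducedBy (isPGroup_of_le h.hS hQS) P) h1
  have hle : autInducedBy Q P ⊔ Subgroup.zpowers α ≤ focA F p T X P := by
    refine sup_le ((autInducedBy_mono hQ).trans (h.autT_le_focA hP)) ?_
    rw [Subgroup.zpowers_le]; exact hα
  obtain ⟨x, hx, hxT⟩ := (h.focA_sylIn hP hn).exists_cj_le hle h2
  have hxF := h.focA_le_autF hP hx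
  have hxm := isMap_ofAut hPS hxF
  obtain ⟨t, ht, htx⟩ := mem_autInducedBy'.1 (hxT (conj_mem_cj (le_sup_right (a := autInducedBy Q P)
    (Subgroup.mem_zpowers α))))
  have hrec := sat_receptive' h.hS h.sat hn
  obtain ⟨g, hg, hgx⟩ := recep_exists_extend_of_le hrec hxm (img_ofAut x) hPQ (by
    intro q hq
    have hqN := hQN hq
    obtain ⟨r, hr, hrx⟩ := mem_autInducedBy'.1 (hxT (conj_mem_cj (le_sup_left (b := Subgroup.zpowers α)
      (conjAut_mem hq hqN))))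
    refine ⟨hQS hq, hqN, r, h.TS hr, fun y hy => ?_⟩
    have h3 := hrx _ (ofAut_mem x hy)
    rw [ofAut_mul _ _ (ofAut_mem x hy), ofAut_mul _ _ (ofAut_mem _ (ofAut_mem x hy)), ofAut_inv_apply x hy,
      ofAut_conjAut _ _ hy] at h3
    exact h3)
  have hgP : ∀ y ∈ P, g y ∈ P := fun y hy => by rw [hgx y hy]; exact ofAut_mem x hy
  have himgP : Fus.img P g = P := (hg.mono hPQ).img_eq hgP
  have hPim : P ≤ Fus.img Q g := by
    conv_lhs => rw [← himgP]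
    exact img_mono hPQ
  have hgT : ∀ q ∈ Q, g q ∈ T := fun q hq => sc_map_mem h.sc hg hq (hQ hq)
  -- `x α y = t x(y) t⁻¹`
  have hxα : ∀ y ∈ P, ofAut x (ofAut α y) = t * ofAut x y * t⁻¹ := by
    intro y hy
    have h3 := htx _ (ofAut_mem x hy)
    rwa [ofAut_mul _ _ (ofAut_mem x hy), ofAut_mul _ _ (ofAut_mem _ (ofAut_mem x hy)), ofAut_inv_apply x hy] at h3
  have htN : t ∈ Subgroup.normalizer (Fus.img Q g : Set Ω) := by
    have hfi := finite_of_le hg.img_le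
    refine mem_normalizer_of_conj fun z hz => ?_
    obtain ⟨q, hq, rfl⟩ := hg.mem_img.1 hz
    obtain ⟨q', hq', hqq⟩ := hc q hq
    have h3 : (g q')⁻¹ * (t * g q * t⁻¹) ∈ P := by
      refine h.cen P hP (mem_centralizerIn.2 ⟨T.mul_mem (T.inv_mem (hgT q' hq'))
        (T.mul_mem (T.mul_mem ht (hgT q hq)) (T.inv_mem ht)), fun w hw => ?_⟩)
      -- `w = x (α y)`
      have hy := ofAut_mem x⁻¹ hw
      have hy2 := ofAut_mem α⁻¹ hy
      have h4 := hqq _ hy2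
      rw [ofAut_apply_inv α hy] at h4
      have h5 : q * ofAut α⁻¹ (ofAut x⁻¹ w) * q⁻¹ ∈ P := (Subgroup.mem_normalizer_iff.1 (hQN hq) _).1 hy2
      have h6 := hxα _ h5
      rw [h4, ← hgx _ h5, hg.map_conj hq (hPQ hy2)] at h6
      have h7 : q' * ofAut x⁻¹ w * q'⁻¹ ∈ P := (Subgroup.mem_normalizer_iff.1 (hQN hq') _).1 hy
      rw [← hgx _ h7, hg.map_conj hq' (hPQ hy), hgx _ hy, ofAut_apply_inv x hw, hgx _ hy2] at h6
      have h8 := hxα _ hy2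
      rw [ofAut_apply_inv α hy, ofAut_apply_inv x hw] at h8
      -- `h6 : g q' * w * (g q')⁻¹ = t * (g q * x(y₂) * (g q)⁻¹) * t⁻¹`, `h8 : w = t * x(y₂) * t⁻¹`
      have h9 : ofAut x (ofAut α⁻¹ (ofAut x⁻¹ w)) = t⁻¹ * w * t := by
        rw [eq_comm]; conv_lhs => rw [h8]
        group
      rw [h9] at h6
      calc w * ((g q')⁻¹ * (t * g q * t⁻¹)) = (g q')⁻¹ * (g q' * w * (g q')⁻¹) * (t * g q * t⁻¹) := by group
        _ = (g q')⁻¹ * (t * (g q * (t⁻¹ * w * t) * (g q)⁻¹) * t⁻¹) * (t * g q * t⁻¹) := by rw [h6]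
        _ = (g q')⁻¹ * (t * g q * t⁻¹) * w := by group
    have h4 := Subgroup.mul_mem _ (subset_img (f := g) hq') (hPim h3)
    rwa [mul_inv_cancel_left] at h4
  have hcm : IsMap F (Fus.img Q g) (fun y => t * y * t⁻¹) := isMap_conj hg.img_le (h.TS ht)
  have hcN : ∀ y ∈ Fus.img Q g, t * y * t⁻¹ ∈ Fus.img Q g := fun y hy => (Subgroup.mem_normalizer_iff.1 htN y).1 hy
  have hβm : IsMap F Q (fun y => minv Q g (t * g y * t⁻¹)) :=
    hg.minv_isMap.comp (hcm.comp hg fun y hy => subset_img hy) fun y hy => hcN _ (subset_img hy)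
  obtain ⟨β, hβ, hβx⟩ := hβm.exists_aut (hβm.img_eq fun y hy => hg.minv_mem (hcN _ (subset_img hy)))
  have hgβ : ∀ y ∈ Q, g (ofAut β y) = t * g y * t⁻¹ := fun y hy => by
    rw [hβx y hy]; exact hg.apply_minv (hcN _ (subset_img hy))
  refine ⟨β, (h.focA_equi hQc hg rfl (β := conjAut t htN) fun y hy => ?_).2
    (h.autT_le_focA (h.img Q g hQc hg) (conjAut_mem ht htN)), fun y hy => ?_⟩
  · rw [ofAut_conjAut _ _ (subset_img hy), hgβ y hy]
  · refine hg.inj (ofAut_mem β (hPQ hy)) (hPQ (ofAut_mem α hy)) ?_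
    rw [hgβ y (hPQ hy), hgx y hy, hgx _ (ofAut_mem α hy), hxα y hy]

end FocPre

namespace AndHyp

variable (h : AndHyp E₁ E₂ F p) [Finite S] [Fact p.Prime]
include h

theorem res_normal {P Q : Subgroup Ω} (hPc : TCen F (T₁ ⊓ T₂) P) (hPQ : P ≤ Q) (hQ : Q ≤ T₁ ⊓ T₂)
    (hQN : Q ≤ Subgroup.normalizer (P : Set Ω)) {α : MulAut Q} (hα : α ∈ xa E₁ E₂ F Q)
    (hco : (orderOf α).Coprime p) {β : MulAut P} (hβ : ∀ x ∈ P, ofAut β x = ofAut α x) : β ∈ xa E₁ E₂ F P := by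
  obtain ⟨χ, hχ, hPn, hQf⟩ := exists_trAnd h.hS h.sat hPQ (hQ.trans h.tS) hQN
  have hχP := hχ.mono hPQ
  have hα' := (h.xa_equi hQ hχ rfl fun x hx => hχ.ofAut_trans rfl α hx).1 hα
  refine (h.xa_equi hPc.1 hχP rfl fun x hx => hχP.ofAut_trans rfl β hx).2
    (h.res_step (hPc.conj h.sc hχP.isConj) (img_mono hPQ) ?_ (img_le_normalizer hPQ hQN hχ) hPn hQf hα'
      (by rw [orderOf_trans]; exact hco) ?_ ?_)
  · rw [hχ.img_le_iff]; exact fun x hx => sc_map_mem h.sc hχ hx (hQ hx)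
  · intro y hy
    obtain ⟨x, hx, rfl⟩ := hχP.mem_img.1 hy
    rw [hχ.ofAut_trans rfl α (hPQ hx), ← hβ x hx]
    exact subset_img (ofAut_mem β hx)
  · intro y hy
    obtain ⟨x, hx, rfl⟩ := hχP.mem_img.1 hy
    rw [hχ.ofAut_trans rfl α (hPQ hx), hχP.ofAut_trans rfl β hx, hβ x hx]

theorem res {Q : Subgroup Ω} (hQ : Q ≤ T₁ ⊓ T₂) {α : MulAut Q} (hα : α ∈ xa E₁ E₂ F Q)
    (hco : (orderOf α).Coprime p) : ∀ (n : ℕ) {P : Subgroup Ω}, Nat.card Q - Nat.card P = n →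
    TCen F (T₁ ⊓ T₂) P → P ≤ Q → ∀ {β : MulAut P}, (∀ x ∈ P, ofAut β x = ofAut α x) → β ∈ xa E₁ E₂ F P := by
  intro n
  induction n using Nat.strong_induction_on with
  | _ n ih =>
    intro P hn hPc hPQ β hβ
    have hQS := hQ.trans h.tS
    have hfQ := finite_of_le hQS
    rcases eq_or_lt_of_le hPQ with rfl | hlt
    · have : β = α := ofAut_injective hβ
      rwa [this]
    · have hR := lt_inf_normalizer (isPGroup_of_le h.hS hQS) hlt
      have hRQ : Q ⊓ Subgroup.normalizer (P : Set Ω) ≤ Q := inf_le_left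
      have hfP := finite_of_le (hPQ.trans hQS)
      have hαm := isMap_ofAut hQS hα.1
      have hαP : ∀ x ∈ P, ofAut α x ∈ P := fun x hx => by rw [← hβ x hx]; exact ofAut_mem β hx
      have himg : img P (ofAut α) = P := (hαm.mono hPQ).img_eq hαP
      have hinv : ∀ x ∈ Q ⊓ Subgroup.normalizer (P : Set Ω), ofAut α x ∈ Q ⊓ Subgroup.normalizer (P : Set Ω) := by
        intro x hx
        refine ⟨ofAut_mem α hx.1, mem_normalizer_of_conj fun y hy => ?_⟩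
        rw [← himg] at hy
        obtain ⟨w, hw, rfl⟩ := (hαm.mono hPQ).mem_img.1 hy
        rw [← hαm.map_conj hx.1 (hPQ hw)]
        exact hαP _ ((Subgroup.mem_normalizer_iff.1 hx.2 w).1 hw)
      obtain ⟨γ, hγ, hγα, hγo⟩ := exists_restrict_mem hQS hRQ hα.1 hinv
      have hγx : γ ∈ xa E₁ E₂ F (Q ⊓ Subgroup.normalizer (P : Set Ω)) := by
        refine ih (Nat.card Q - Nat.card ↥(Q ⊓ Subgroup.normalizer (P : Set Ω))) ?_ rfl
          (hPc.mono h.sc hR.le (hRQ.trans hQ)) hRQ hγα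
        have hfR := finite_of_le hRQ
        have h1 : Nat.card P < Nat.card ↥(Q ⊓ Subgroup.normalizer (P : Set Ω)) := card_lt_of_lt (S := Q) hRQ hR
        have h2 : Nat.card ↥(Q ⊓ Subgroup.normalizer (P : Set Ω)) ≤ Nat.card Q := Subgroup.card_le_of_le hRQ
        omega
      exact h.res_normal hPc hR.le (hRQ.trans hQ) inf_le_right hγx (hco.coprime_dvd_left hγo) fun x hx => by
        rw [hβ x hx, hγα x (hR.le hx)]

theorem focData : FocData F p (T₁ ⊓ T₂) (TCen F (T₁ ⊓ T₂)) (xa E₁ E₂ F) where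
  toFocPre := h.pre
  res P Q hP hPQ hQ α hα hco β hβ := h.res hQ hα hco _ rfl hP hPQ hβ

/-- extension of `p'`-elements -/
theorem ext_pprime {P Q : Subgroup Ω} (hPc : TCen F (T₁ ⊓ T₂) P) (hPQ : P ≤ Q) (hQ : Q ≤ T₁ ⊓ T₂)
    (hQN : Q ≤ Subgroup.normalizer (P : Set Ω)) (hPn : F.IsFullyNormalized P) (hQf : F.IsFullyCentralized Q)
    {α : MulAut P} (hα : α ∈ xa E₁ E₂ F P) (hco : (orderOf α).Coprime p)
    (hc : ∀ q ∈ Q, ∃ q' ∈ Q, ∀ x ∈ P, ofAut α (q * x * q⁻¹) = q' * ofAut α x * q'⁻¹) :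
    ∃ β ∈ focA F p (T₁ ⊓ T₂) (xa E₁ E₂ F) Q, ∀ x ∈ P, ofAut β x = ofAut α x := by
  have hP := hPc.1
  have hQc := hPc.mono h.sc hPQ hQ
  have hQS := hQ.trans h.tS
  have hPS := hPQ.trans hQS
  have hfP := finite_of_le hPS
  have hfQ := finite_of_le hQS
  have hPf := sat_fullyCentralized h.hS h.sat hPn
  obtain ⟨κ, hκ, hκo, hκα⟩ := h.exists_pK hP (by rwa [← h.xa_eq_xo hP hPf]) hco
  have hκ' : Lft E₁ E₂ F P (ofAut κ) := hκ
  have hRS : P ⊔ centralizerIn S P ≤ S := sup_le hPS (centralizerIn_le P)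
  have hQNS : Q ≤ normalizerIn S P := le_inf hQS hQN
  have hc' : ∀ q ∈ Q, ∃ q' ∈ Q, ∀ x ∈ P, ofAut κ (q * x * q⁻¹) = q' * ofAut κ x * q'⁻¹ := by
    intro q hq
    obtain ⟨q', hq', hqq⟩ := hc q hq
    refine ⟨q', hq', fun x hx => ?_⟩
    rw [hκα _ ((Subgroup.mem_normalizer_iff.1 (hQN hq) _).1 hx), hκα x hx, hqq x hx]
  obtain ⟨κ', hκ'F, hκ'o, hκ'R, hκ'B⟩ := exists_lift_ext h.hS h.sat hPf (B := Q)
    ((mem_autGroup_iff hRS).2 hκ'.good.isMap) hκ'.good.mem hκ'.good.triv hκo hQNS (by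
      intro q hq
      obtain ⟨q', hq', hqq⟩ := hc' q hq
      refine ⟨q', le_sup_right (a := P ⊔ centralizerIn S P) hq', hqq, fun c hc => ?_⟩
      have h1 := comm_mem_of_tcen h.sc hPc (hQ hq) (hQN hq) hc
      have h2 := comm_mem_of_tcen h.sc hPc (hQ hq') (hQN hq') hc
      have h3 := P.mul_mem h2 (P.inv_mem h1)
      have e : q' * c * q'⁻¹ * c⁻¹ * (q * c * q⁻¹ * c⁻¹)⁻¹ = q' * c * q'⁻¹ * (q * c * q⁻¹)⁻¹ := by group
      rwa [e] at h3)
  have hWS : P ⊔ centralizerIn S P ⊔ Q ≤ S := sup_le hRS hQS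
  have hPW : P ⊔ centralizerIn S P ≤ P ⊔ centralizerIn S P ⊔ Q := le_sup_left
  have hQW : Q ≤ P ⊔ centralizerIn S P ⊔ Q := le_sup_right
  have hκm := isMap_ofAut hWS hκ'F
  have hκP : ∀ x ∈ P, ofAut κ' x = ofAut α x := fun x hx => by
    rw [hκ'R x (le_sup_left (a := P) hx), hκα x hx]
  have hκQ : ∀ q ∈ Q, ofAut κ' q ∈ Q := by
    intro q hq
    obtain ⟨q', hq', hqq⟩ := hc' q hq
    have h1 := hκ'B q hq q' (hQS hq') hqq
    have h2 : q'⁻¹ * ofAut κ' q ∈ P := hPc.cent h.tS (mem_centralizerIn.2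
      ⟨(T₁ ⊓ T₂).mul_mem ((T₁ ⊓ T₂).inv_mem (hQ hq')) (sc_map_mem h.sc hκm (hQW hq) (hQ hq)),
        (mem_centralizerIn.1 h1).2⟩)
    have h3 := Q.mul_mem hq' (hPQ h2)
    rwa [mul_inv_cancel_left] at h3
  have hCC : centralizerIn S Q ≤ centralizerIn S P := cen_mono hPQ
  have hCW : centralizerIn S P ≤ P ⊔ centralizerIn S P ⊔ Q := (le_sup_right (a := P)).trans hPW
  have hQC : ∀ c ∈ centralizerIn S Q, c⁻¹ * ofAut κ' c ∈ Q := fun c hc => by
    rw [hκ'R c (le_sup_right (a := P) (hCC hc))]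
    exact hPQ (hκ'.good.triv c (hCC hc))
  have hWN : P ⊔ centralizerIn S P ⊔ Q ≤ normalizerIn S P :=
    sup_le (sup_le (le_normalizerIn hPS) (centralizerIn_le_normalizerIn P)) hQNS
  have hL := h.lft_of_ext hQ hP hPf hWS (sup_le hQW (hCC.trans hCW)) hPW hWN hκ'F hκ'o hκQ hQC
    (hκ'.congr h.t1 h.t2 fun x hx => (hκ'R x hx).symm)
  obtain ⟨β, hβ, hβκ, hβo⟩ := exists_restrict_mem hWS hQW hκ'F hκQ
  refine ⟨β, h.pre.pprime_mem_focA hQc ?_ (hκ'o.coprime_dvd_left hβo), fun x hx => by rw [hβκ x (hPQ hx), hκP x hx]⟩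
  rw [h.xa_eq_xo hQ hQf]
  exact (h.mem_xo hQ).2 ⟨_, hL, fun x hx => (hβκ x hx).symm⟩

/-- the extension condition -/
theorem hext {P Q : Subgroup Ω} (hPc : TCen F (T₁ ⊓ T₂) P) (hPQ : P ≤ Q) (hQ : Q ≤ T₁ ⊓ T₂)
    (hQN : Q ≤ Subgroup.normalizer (P : Set Ω)) {α : MulAut P}
    (hα : α ∈ focA F p (T₁ ⊓ T₂) (xa E₁ E₂ F) P)
    (hc : ∀ q ∈ Q, ∃ q' ∈ Q, ∀ x ∈ P, ofAut α (q * x * q⁻¹) = q' * ofAut α x * q'⁻¹) :
    ∃ β ∈ focA F p (T₁ ⊓ T₂) (xa E₁ E₂ F) Q, ∀ x ∈ P, ofAut β x = ofAut α x := by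
  have hQc := hPc.mono h.sc hPQ hQ
  have hQS := hQ.trans h.tS
  have hPS := hPQ.trans hQS
  obtain ⟨χ, hχ, hPn, hQf⟩ := exists_trAnd h.hS h.sat hPQ hQS hQN
  have hχP := hχ.mono hPQ
  have hP'c := hPc.conj h.sc hχP.isConj
  have hQ' : img Q χ ≤ T₁ ⊓ T₂ := by
    rw [hχ.img_le_iff]; exact fun x hx => sc_map_mem h.sc hχ hx (hQ hx)
  have hPQ' : img P χ ≤ img Q χ := img_mono hPQ
  have hQN' := img_le_normalizer hPQ hQN hχ
  have hα' := (h.pre.focA_equi hPc hχP rfl fun x hx => hχP.ofAut_trans rfl α hx).1 hα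
  -- the condition for powers
  have hfP := finite_of_le (hP'c.1.trans h.tS)
  have hfA := finite_mulAut (P := img P χ)
  have hcn : ∀ n : ℕ, ∀ q ∈ img Q χ, ∃ q' ∈ img Q χ, ∀ x ∈ img P χ,
      ofAut ((hχP.trans rfl α) ^ n) (q * x * q⁻¹) = q' * ofAut ((hχP.trans rfl α) ^ n) x * q'⁻¹ := by
    intro n
    induction n with
    | zero =>
      intro q hq
      refine ⟨q, hq, fun x hx => ?_⟩
      rw [pow_zero, ofAut_one hx, ofAut_one ((Subgroup.mem_normalizer_iff.1 (hQN' hq) x).1 hx)]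
    | succ n ih =>
      intro q hq
      obtain ⟨q₁, hq₁, h1⟩ := ih q hq
      obtain ⟨r, hr, rfl⟩ := hχ.mem_img.1 hq₁
      obtain ⟨r', hr', h2⟩ := hc r hr
      refine ⟨χ r', subset_img hr', fun x hx => ?_⟩
      have hqx : q * x * q⁻¹ ∈ img P χ := (Subgroup.mem_normalizer_iff.1 (hQN' hq) x).1 hx
      rw [pow_succ', ofAut_mul _ _ hqx, ofAut_mul _ _ hx, h1 x hx]
      obtain ⟨y, hy, hyx⟩ := hχP.mem_img.1 (ofAut_mem ((hχP.trans rfl α) ^ n) hx)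
      have hry : r * y * r⁻¹ ∈ P := (Subgroup.mem_normalizer_iff.1 (hQN hr) y).1 hy
      rw [← hyx, ← hχ.map_conj hr (hPQ hy), hχP.ofAut_trans rfl α hry, h2 y hy,
        hχ.map_conj hr' (hPQ (ofAut_mem α hy)), hχP.ofAut_trans rfl α hy]
  obtain ⟨i, j, hij, hi, hj⟩ := exists_p_mul_pprime (p := p) (hχP.trans rfl α)
  obtain ⟨β₁, hβ₁, hβ₁x⟩ := h.pre.ext_pel hP'c hPQ' hQ' hQN' hPn (Subgroup.pow_mem _ hα' i) hi (hcn i)
  obtain ⟨β₂, hβ₂, hβ₂x⟩ := h.ext_pprime hP'c hPQ' hQ' hQN' hPn hQf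
    (h.pre.focA_le_X hP'c (Subgroup.pow_mem _ hα' j)) hj (hcn j)
  -- transport back
  have hmi : IsMap F (img Q χ) (minv Q χ) := hχ.minv_isMap
  have himg : img (img Q χ) (minv Q χ) = Q := hχ.img_minv
  refine ⟨hmi.trans himg (β₁ * β₂), ?_, fun x hx => ?_⟩
  · refine (h.pre.focA_equi (hQc.conj h.sc hχ.isConj) hmi himg fun x hx => hmi.ofAut_trans himg _ hx).1
      (Subgroup.mul_mem _ hβ₁ hβ₂)
  · have hχx : χ x ∈ img Q χ := subset_img (hPQ hx)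
    have hχxP : χ x ∈ img P χ := subset_img hx
    have h1 := hmi.ofAut_trans himg (β₁ * β₂) hχx
    rw [hχ.minv_apply (hPQ hx)] at h1
    rw [h1, ofAut_mul _ _ hχx, hβ₂x _ hχxP, hβ₁x _ (ofAut_mem _ hχxP), ← ofAut_mul _ _ hχxP, ← hij,
      hχP.ofAut_trans rfl α hx, hχ.minv_apply (hPQ (ofAut_mem α hx))]

theorem locData : LocData p (T₁ ⊓ T₂) (TCen F (T₁ ⊓ T₂)) (focA F p (T₁ ⊓ T₂) (xa E₁ E₂ F)) :=
  h.focData.toLocData fun P Q hP hPQ hQ hQN α hα hc => h.hext hP hPQ hQ hQN hα hc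

end AndHyp

end Cfsg.Agent.Fus
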