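import Cfsg.Agent.Fus.FocSys2
set_option autoImplicit false
set_option linter.unusedSectionVars false
set_option linter.unusedVariables false

/-!
# The intersection of two normal subsystems (helper85)
-/

namespace Cfsg.Agent.Fus

open Cfsg Cfsg.FusionSystem Cfsg.Agent.H85

variable {Ω : Type*} [Group Ω] {S T T₁ T₂ U : Subgroup Ω} {F : FusionSystem S} {E : FusionSystem T}
  {E₁ : FusionSystem T₁} {E₂ : FusionSystem T₂} {D : FusionSystem U} {p : ℕ}

theorem mem_of_mod (hE : E.IsInvariantIn F) {Y : Subgroup Ω} (hYT : Y ≤ T) {κ e : MulAut Y}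
    (hκ : κ ∈ F.autGroup Y) (hco : (orderOf κ).Coprime p) (he : e ∈ E.autGroup Y) {k : ℕ}
    (hk : (κ⁻¹ * e) ^ p ^ k = 1) : κ ∈ E.autGroup Y := by
  have hκn : κ⁻¹ ∈ Subgroup.normalizer (E.autGroup Y : Set (MulAut Y)) := by
    have h1 : F.autGroup Y ≤ Subgroup.normalizer (E.autGroup Y : Set (MulAut Y)) :=
      conj_le_normalizer_of fun α hα β hβ => inv_normal hE hYT hα hβ
    exact h1 (Subgroup.inv_mem _ hκ)
  have h3 := pow_mul_mem_of_normalizes hκn he (orderOf κ)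
  have h4 : (κ⁻¹) ^ orderOf κ = 1 := by rw [inv_pow, pow_orderOf_eq_one, inv_one]
  rw [h4, inv_one, one_mul] at h3
  have h5 : κ⁻¹ * e ∈ E.autGroup Y := by
    refine mem_of_pow_coprime (n := orderOf κ) (N := p ^ k) (Nat.Coprime.pow_right _ hco) h3 ?_
    rw [hk]; exact Subgroup.one_mem _
  have h6 := Subgroup.mul_mem _ he (Subgroup.inv_mem _ h5)
  have e6 : e * (κ⁻¹ * e)⁻¹ = κ := by group
  rwa [e6] at h6

/-- comparison of lifts in `F` and in a normal subsystem -/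
theorem lift_mem_E [Finite S] [Fact p.Prime] (hS : IsPGroup p S) (hE : E.IsInvariantIn F) {Q : Subgroup Ω}
    (hQT : Q ≤ T) {κ : MulAut ↥(Q ⊔ centralizerIn S Q)} {κ₁ : MulAut ↥(Q ⊔ centralizerIn T Q)}
    (hκ : PGood D F p Q κ) (hκ₁ : PGood D E p Q κ₁) (heq : ∀ x ∈ Q, ofAut κ x = ofAut κ₁ x) :
    IsMap E (Q ⊔ centralizerIn T Q) (ofAut κ) := by
  have hTS := hE.2.1.1
  have hfT := finite_of_le hTS
  have hQS := hQT.trans hTS
  have hRS : Q ⊔ centralizerIn S Q ≤ S := sup_le hQS (centralizerIn_le Q)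
  have hYT : Q ⊔ centralizerIn T Q ≤ T := sup_le hQT (centralizerIn_le Q)
  have hYR : Q ⊔ centralizerIn T Q ≤ Q ⊔ centralizerIn S Q := sup_le_sup_left (cen_mono_left hTS) Q
  have hκm : IsMap F (Q ⊔ centralizerIn S Q) (ofAut κ) := hκ.good.isMap
  have hinv : ∀ x ∈ Q ⊔ centralizerIn T Q, ofAut κ x ∈ Q ⊔ centralizerIn T Q := by
    refine (hκm.mono hYR).forall_sup_mem (fun x hx => le_sup_left (a := Q) (hκ.good.mem x hx)) fun c hc => ?_
    refine le_sup_right (a := Q) (mem_centralizerIn.2 ⟨?_, (mem_centralizerIn.1 (hκ.good.mem_C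
      (cen_mono_left hTS hc))).2⟩)
    exact sc_map_mem hE.2.1 hκm (hYR (le_sup_right (a := Q) hc)) (mem_centralizerIn.1 hc).1
  obtain ⟨κY, hκY, hκYx, hκYo⟩ := exists_restrict_mem hRS hYR hκ.memF hinv
  have hQY : Q ≤ Q ⊔ centralizerIn T Q := le_sup_left
  -- `κY⁻¹`
  have hκi := hκ.inv
  have hκYi : ∀ x ∈ Q ⊔ centralizerIn T Q, ofAut κY⁻¹ x = ofAut κ⁻¹ x := by
    intro x hx
    have h1 := ofAut_mem κY⁻¹ hx
    have h2 := hκYx _ h1
    rw [ofAut_apply_inv κY hx] at h2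
    conv_rhs => rw [h2]
    rw [ofAut_inv_apply κ (hYR h1)]
  obtain ⟨k, hk⟩ := pow_eq_one_of_stab hS (hYT.trans hTS) hQY (κ := κY⁻¹ * κ₁) (fun y hy => by
      rw [ofAut_mul _ _ (hQY hy), ← heq y hy, ← hκYx y (hQY hy), ofAut_inv_apply κY (hQY hy)]) (fun x hx => by
      rw [ofAut_mul _ _ hx]
      have h1 := hκ₁.good.triv_sup hx
      have h2 : ofAut κ₁ x = x * (x⁻¹ * ofAut κ₁ x) := by group
      have h3 := hκi.good.triv_sup (hYR hx)
      rw [h2, ofAut_map_mul κY⁻¹ hx (hQY h1), hκYi x hx, ← mul_assoc]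
      refine Q.mul_mem h3 ?_
      rw [hκYi _ (hQY h1)]
      exact hκi.good.mem _ h1)
  have h1 := mem_of_mod hE hYT hκY (hκ.co.coprime_dvd_left hκYo) hκ₁.memF hk
  exact (isMap_ofAut hYT h1).congr hκYx

theorem strongInv_restrict (hEF : E.IsSubsystemOf F) (h : StrongInv D F) : StrongInv D E := fun P Q f g hPQ hQ hf hfQ hg =>
  h P Q f g hPQ hQ hf hfQ (isSubsystemOf_iff.1 hEF _ _ hg)

/-- invariance in an intermediate subsystem -/
theorem invariant_restrict [Finite S] [Fact p.Prime] (hS : IsPGroup p S) (hEF : E.IsSubsystemOf F)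
    (hEs : E.IsSaturated p) (hTS : T ≤ S) (hD : D.IsInvariantIn F) (hDE : D.IsSubsystemOf E) (hUT : U ≤ T) :
    D.IsInvariantIn E := by
  have := finite_of_le hTS
  exact isInvariantIn_of_strongInv (isPGroup_of_le hS hTS) hEs hDE (sc_of_subsystem hEF hD.2.1 hUT)
    (strongInv_restrict hEF (strongInv_of_invariant hD))

theorem isSubsystemOf_trans {R : Subgroup Ω} {A : FusionSystem R} (h1 : D.IsSubsystemOf E) (h2 : E.IsSubsystemOf A) :
    D.IsSubsystemOf A :=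
  isSubsystemOf_iff.2 fun P f hf => isSubsystemOf_iff.1 h2 P f (isSubsystemOf_iff.1 h1 P f hf)

namespace AndHyp

variable (h : AndHyp E₁ E₂ F p) [Finite S] [Fact p.Prime]
include h

theorem fs_invF : h.locData.fs.IsInvariantIn F :=
  h.focData.fs_invariant h.locData fun R hRc hRr => tcen_of_radical h.hS h.sat h.sc hRc hRr

theorem fs_sat : h.locData.fs.IsSaturated p := h.focData.fs_saturated' h.locData

theorem tcenT : TCen F (T₁ ⊓ T₂) (T₁ ⊓ T₂) := h.pre.top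

theorem fT : F.IsFullyCentralized (T₁ ⊓ T₂) := sat_fullyCentralized h.hS h.sat (isFullyNormalized_of_sc h.sc)

theorem lift_top {α : MulAut ↥(T₁ ⊓ T₂)} (hα : α ∈ h.locData.fs.autGroup (T₁ ⊓ T₂)) :
    ∃ g, Lft E₁ E₂ F (T₁ ⊓ T₂) g ∧ ∀ x ∈ T₁ ⊓ T₂, g x = ofAut α x := by
  have := finite_of_le h.tS
  rw [h.locData.fs_autGroup (isPGroup_of_le h.hS h.tS) h.tcenT] at hα
  have h1 := h.pre.focA_le_X h.tcenT hα
  rw [h.xa_eq_xo le_rfl h.fT] at h1
  exact (h.mem_xo le_rfl).1 h1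

theorem fs_normal : h.locData.fs.IsNormalIn F p := by
  refine isNormalIn_iff_ext.2 ⟨⟨h.fs_sat, h.sat, h.fs_invF⟩, fun α hα => ?_⟩
  obtain ⟨g, hg, hgα⟩ := h.lift_top hα
  exact ⟨g, hg.good.isMap, hgα, hg.good.triv⟩

/-- maps of `Aut_D(P)` are in `E₁` -/
theorem fs_le_E : h.locData.fs.IsSubsystemOf E₁ := by
  have hfT := finite_of_le h.tS
  have hf1 := finite_of_le h.t1
  refine isSubsystemOf_iff.2 fun P f hf => ?_
  refine h.locData.fs_ind (fun P f => IsMap E₁ P f) (fun _ _ _ h1 h2 => h2.congr h1) ?_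
    (fun _ _ _ _ _ h1 h2 => h2.comp h1 fun x hx => subset_img hx) (fun _ _ _ h1 => h1.minv_isMap) hf
  intro R hR α hα P hPR
  refine IsMap.mono ?_ hPR
  have hRT := hR.1
  obtain ⟨Q, hRQ, hQn⟩ := exists_fullyNormalized (F := F) (hRT.trans h.tS)
  obtain ⟨k, hk, hkQ⟩ := isConj_iff.1 hRQ
  have hQ := hR.conj h.sc hRQ
  have hx := h.pre.focA_le_X hR hα
  have hx' := (h.mem_xa_iff hRT (sat_fullyCentralized h.hS h.sat hQn) hk hkQ
    (β := hk.trans hkQ α) fun x hx => hk.ofAut_trans hkQ α hx).1 hx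
  obtain ⟨g, hg, hgx⟩ := (h.mem_xo hQ.1).1 hx'
  have hg1 : IsMap E₁ Q g := hg.m1.mono le_sup_left
  have hmi : IsMap F Q (minv R k) := by rw [← hkQ]; exact hk.minv_isMap
  obtain ⟨l, hl, hlx⟩ := strongInv_of_invariant h.i1 Q Q g (minv R k) le_rfl (hQ.1.trans inf_le_left) hg1
    hg.good.mem hmi
  have himg : img Q (minv R k) = R := by rw [← hkQ]; exact hk.img_minv
  rw [himg] at hl
  refine hl.congr fun x hx => ?_
  have hkx : k x ∈ Q := by rw [← hkQ]; exact subset_img hx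
  have h1 := hlx _ hkx
  rw [hk.minv_apply hx, hgx _ hkx, hk.ofAut_trans hkQ α hx, hk.minv_apply (ofAut_mem α hx)] at h1
  exact h1

theorem fs_normal_E : h.locData.fs.IsNormalIn E₁ p := by
  have hf1 := finite_of_le h.t1
  refine isNormalIn_iff_ext.2 ⟨⟨h.fs_sat, h.s1, invariant_restrict h.hS h.i1.1 h.s1 h.t1 h.fs_invF h.fs_le_E
    inf_le_left⟩, fun α hα => ?_⟩
  obtain ⟨g, hg, hgα⟩ := h.lift_top hα
  exact ⟨g, hg.m1, hgα, fun c hc => hg.good.triv c (cen_mono_left h.t1 hc)⟩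

end AndHyp

/-- maximality -/
theorem AndHyp.fs_max (h : AndHyp E₁ E₂ F p) [Finite S] [Fact p.Prime] {D : FusionSystem (T₁ ⊓ T₂)}
    (hD : D.IsNormalIn F p) (hD1 : D.IsNormalIn E₁ p)
    (hD2 : D.IsNormalIn E₂ p) : D.IsSubsystemOf h.locData.fs := by
  have hfT := finite_of_le h.tS
  have hf1 := finite_of_le h.t1
  have hf2 := finite_of_le h.t2
  have hDi := (isNormalIn_iff_ext.1 hD).1.2.2
  have hDs := (isNormalIn_iff_ext.1 hD).1.1
  refine isSubsystemOf_iff.2 fun P f hf => ?_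
  refine le_iff.1 (alperin_coprime (isPGroup_of_le h.hS h.tS) hDs fun P hPn hPc hPr α hα hco => ?_) P f hf
  have hPT := hPn.1
  have hPTc : TCen F (T₁ ⊓ T₂) P := (tcen_iff_isCentric hDi.1 fun P f hP hf => dec_of_invariant hDi hP hf).2 hPc
  refine h.locData.fs_isMap hPTc (h.pre.pprime_mem_focA hPTc ?_ hco)
  obtain ⟨Q, hPQ, hQn⟩ := exists_fullyNormalized (F := F) (hPT.trans h.tS)
  obtain ⟨k, hk, hkQ⟩ := isConj_iff.1 hPQ
  have hQT := (hPTc.conj h.sc hPQ).1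
  refine (h.mem_xa_iff hPT (sat_fullyCentralized h.hS h.sat hQn) hk hkQ
    (β := hk.trans hkQ α) fun x hx => hk.ofAut_trans hkQ α hx).2 ((h.mem_xo hQT).2 ?_)
  have hQc : D.IsCentric Q := hkQ ▸ eCentric_img hDi hPc hk
  have hα' : hk.trans hkQ α ∈ D.autGroup Q := inv_trans_mem hDi hPT hk hkQ hα
  have hco' : (orderOf (hk.trans hkQ α)).Coprime p := by rw [orderOf_trans]; exact hco
  obtain ⟨κ, hκ, hκx⟩ := exists_pgood h.hS hD hQc hα' hco'
  obtain ⟨κ₁, hκ₁, hκ₁x⟩ := exists_pgood (isPGroup_of_le h.hS h.t1) hD1 hQc hα' hco'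
  obtain ⟨κ₂, hκ₂, hκ₂x⟩ := exists_pgood (isPGroup_of_le h.hS h.t2) hD2 hQc hα' hco'
  refine ⟨ofAut κ, ⟨⟨hκ.good.isMap, hκ.good.isMapF, hκ.good.mem, hκ.good.triv⟩, ?_, ?_⟩, hκx⟩
  · exact lift_mem_E h.hS h.i1 (hQT.trans inf_le_left) hκ hκ₁ fun x hx => by rw [hκx x hx, hκ₁x x hx]
  · exact lift_mem_E h.hS h.i2 (hQT.trans inf_le_right) hκ hκ₂ fun x hx => by rw [hκx x hx, hκ₂x x hx]

/-- The intersection of two normal subsystems. -/
theorem exists_meet [Finite S] [Fact p.Prime] (hS : IsPGroup p S) (h₁ : E₁.IsNormalIn F p) (h₂ : E₂.IsNormalIn F p) :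
    ∃ D : FusionSystem (T₁ ⊓ T₂), (D.IsNormalIn F p ∧ D.IsNormalIn E₁ p ∧ D.IsNormalIn E₂ p) ∧
      ∀ D' : FusionSystem (T₁ ⊓ T₂), D'.IsNormalIn F p → D'.IsNormalIn E₁ p → D'.IsNormalIn E₂ p →
        D'.IsSubsystemOf D := by
  have h : AndHyp E₁ E₂ F p := ⟨hS, h₁, h₂⟩
  refine ⟨h.locData.fs, ⟨h.fs_normal, h.fs_normal_E, ?_⟩, fun D' hF h1 h2 => h.fs_max hF h1 h2⟩
  -- by symmetry
  have hf2 := finite_of_le h.t2
  refine isNormalIn_iff_ext.2 ⟨⟨h.fs_sat, h.s2, ?_⟩, fun α hα => ?_⟩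
  · refine invariant_restrict h.hS h.i2.1 h.s2 h.t2 h.fs_invF ?_ inf_le_right
    have hfT := finite_of_le h.tS
    refine isSubsystemOf_iff.2 fun P f hf => ?_
    refine h.locData.fs_ind (fun P f => IsMap E₂ P f) (fun _ _ _ h1 h2 => h2.congr h1) ?_
      (fun _ _ _ _ _ h1 h2 => h2.comp h1 fun x hx => subset_img hx) (fun _ _ _ h1 => h1.minv_isMap) hf
    intro R hR α hα P hPR
    refine IsMap.mono ?_ hPR
    have hRT := hR.1
    obtain ⟨Q, hRQ, hQn⟩ := exists_fullyNormalized (F := F) (hRT.trans h.tS)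
    obtain ⟨k, hk, hkQ⟩ := isConj_iff.1 hRQ
    have hQ := hR.conj h.sc hRQ
    have hx := h.pre.focA_le_X hR hα
    have hx' := (h.mem_xa_iff hRT (sat_fullyCentralized h.hS h.sat hQn) hk hkQ
      (β := hk.trans hkQ α) fun x hx => hk.ofAut_trans hkQ α hx).1 hx
    obtain ⟨g, hg, hgx⟩ := (h.mem_xo hQ.1).1 hx'
    have hg1 : IsMap E₂ Q g := hg.m2.mono le_sup_left
    have hmi : IsMap F Q (minv R k) := by rw [← hkQ]; exact hk.minv_isMap
    obtain ⟨l, hl, hlx⟩ := strongInv_of_invariant h.i2 Q Q g (minv R k) le_rfl (hQ.1.trans inf_le_right) hg1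
      hg.good.mem hmi
    have himg : img Q (minv R k) = R := by rw [← hkQ]; exact hk.img_minv
    rw [himg] at hl
    refine hl.congr fun x hx => ?_
    have hkx : k x ∈ Q := by rw [← hkQ]; exact subset_img hx
    have h1 := hlx _ hkx
    rw [hk.minv_apply hx, hgx _ hkx, hk.ofAut_trans hkQ α hx, hk.minv_apply (ofAut_mem α hx)] at h1
    exact h1
  · obtain ⟨g, hg, hgα⟩ := h.lift_top hα
    exact ⟨g, hg.m2, hgα, fun c hc => hg.good.triv c (cen_mono_left h.t2 hc)⟩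

end Cfsg.Agent.Fus
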