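import Mathlib
set_option autoImplicit false

/-!
# Thompson's A×B lemma for automorphisms (helper85)
-/

namespace Cfsg.Agent.Fus

theorem axb_aut {p : ℕ} [hp : Fact p.Prime] {R : Type*} [Group R] [Finite R] (hR : IsPGroup p R)
    (B : Subgroup (MulAut R)) (hB : IsPGroup p B) (α : MulAut R) (hα : (orderOf α).Coprime p)
    (hc : ∀ b ∈ B, b * α = α * b) (hfix : ∀ r : R, (∀ b ∈ B, b r = r) → α r = r) : α = 1 := by
  let R₀ : Subgroup R :=
    { carrier := {r | α r = r}
      one_mem' := map_one α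
      mul_mem' := fun {a b} ha hb => by
        show α (a * b) = a * b
        rw [map_mul, ha, hb]
      inv_mem' := fun {a} ha => by
        show α a⁻¹ = a⁻¹
        rw [map_inv, ha] }
  have hm : ∀ r, r ∈ R₀ ↔ α r = r := fun r => Iff.rfl
  have hBR : ∀ b ∈ B, ∀ r ∈ R₀, b r ∈ R₀ := by
    intro b hb r hr
    rw [hm] at hr ⊢
    have h1 := DFunLike.congr_fun (hc b hb) r
    rw [MulAut.mul_apply, MulAut.mul_apply, hr] at h1
    exact h1.symm
  by_cases htop : R₀ = ⊤
  · ext r
    have : r ∈ R₀ := by rw [htop]; trivial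
    exact this
  exfalso
  letI act : MulAction B (R ⧸ R₀) :=
    { smul := fun b => Quotient.map' (fun x => (b : MulAut R) x) (fun x y hxy => by
        rw [QuotientGroup.leftRel_apply] at hxy ⊢
        have := hBR b b.2 _ hxy
        rwa [map_mul, map_inv] at this)
      one_smul := fun x => by
        induction x using Quotient.inductionOn'
        rfl
      mul_smul := fun a b x => by
        induction x using Quotient.inductionOn'
        rfl }
  have hsm : ∀ (b : B) (x : R), b • (x : R ⧸ R₀) = (((b : MulAut R) x : R) : R ⧸ R₀) := fun b x => rfl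
  have hp1 : p ∣ Nat.card (R ⧸ R₀) := by
    have h1 : R₀.index ≠ 1 := fun h => htop (Subgroup.index_eq_one.1 h)
    obtain ⟨n, hn⟩ := hR.index R₀
    rcases n with _ | n
    · exact absurd (by simpa using hn) h1
    · show p ∣ R₀.index
      rw [hn, pow_succ]; exact dvd_mul_left _ _
  have hfix1 : ((1 : R) : R ⧸ R₀) ∈ MulAction.fixedPoints B (R ⧸ R₀) := by
    intro b
    rw [hsm, map_one]
  obtain ⟨y, hy, hne⟩ := hB.exists_fixed_point_of_prime_dvd_card_of_fixed_point (R ⧸ R₀) hp1 hfix1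
  obtain ⟨x, rfl⟩ := QuotientGroup.mk_surjective y
  have hx : x ∉ R₀ := by
    intro hx
    apply hne
    rw [QuotientGroup.eq]
    simpa using hx
  have hbx : ∀ b ∈ B, α (x⁻¹ * b x) = x⁻¹ * b x := by
    intro b hb
    have h1 := hy ⟨b, hb⟩
    rw [hsm, eq_comm, QuotientGroup.eq] at h1
    exact h1
  -- y = α x * x⁻¹ is fixed by B
  have h2 : ∀ b ∈ B, b (α x * x⁻¹) = α x * x⁻¹ := by
    intro b hb
    have h3 := hbx b hb
    rw [map_mul, map_inv] at h3
    have h4 := DFunLike.congr_fun (hc b hb) x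
    rw [MulAut.mul_apply, MulAut.mul_apply] at h4
    rw [map_mul, map_inv, h4]
    have h5 : α (b x) = α x * (x⁻¹ * b x) := by rw [← h3]; group
    rw [h5]; group
  have h3 : α (α x * x⁻¹) = α x * x⁻¹ := hfix _ h2
  have h4 : ∀ n : ℕ, (α ^ n) x = (α x * x⁻¹) ^ n * x := by
    intro n
    induction n with
    | zero => simp
    | succ n ih =>
      rw [pow_succ', MulAut.mul_apply, ih, map_mul, map_pow, h3, pow_succ, mul_assoc, mul_assoc, inv_mul_cancel,
        mul_one]
  have h5 : (α x * x⁻¹) ^ orderOf α = 1 := by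
    have := h4 (orderOf α)
    rw [pow_orderOf_eq_one, MulAut.one_apply] at this
    exact (mul_eq_right.1 this.symm)
  obtain ⟨k, hk⟩ := hR (α x * x⁻¹)
  have h6 : orderOf (α x * x⁻¹) ∣ 1 := by
    have e1 := orderOf_dvd_of_pow_eq_one h5
    have e2 := orderOf_dvd_of_pow_eq_one hk
    rw [← (hα.pow_right k)]
    exact Nat.dvd_gcd e1 e2
  have h7 : α x * x⁻¹ = 1 := orderOf_eq_one_iff.1 (Nat.dvd_one.1 h6)
  exact hx (mul_inv_eq_one.1 h7)

end Cfsg.Agent.Fus
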