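import Cfsg.Agent.Fus.Graph
set_option autoImplicit false
set_option maxHeartbeats 400000

/-!
# Characteristic bisets of saturated fusion systems (helper88)

`c : Subgroup (S × S) → ℕ` encodes the `S × S`-set with `c K` orbits of type `(S × S) / K`.
-/

namespace Cfsg.Agent.Fus.Bi

open Cfsg Cfsg.Agent.Fus Cfsg.Agent.Fus.Burn

variable {Ω : Type*} [Group Ω] {S : Subgroup Ω} {F : FusionSystem S} {p : ℕ}

/-- the identity map on `R` -/
theorem idm (F : FusionSystem S) {R : Subgroup Ω} (hR : R ≤ S) : IsMap F R id := isMap_id hR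

/-- `F`-stability of the marks at the graphs of order at least `k`. -/
def Stab [Finite S] (F : FusionSystem S) (c : Subgroup (S × S) → ℕ) (k : ℕ) : Prop :=
  ∀ (P : Subgroup Ω) (f : Ω → Ω) (h : IsMap F P f), k ≤ Nat.card P →
    mark c (graph h) = mark c (graph (idm F h.img_le))

/-- The support condition. -/
def Supp (F : FusionSystem S) (c : Subgroup (S × S) → ℕ) : Prop := ∀ K, c K ≠ 0 → K ∈ FT F

theorem stab_mem_FT [Finite S] {c : Subgroup (S × S) → ℕ} (hc : Supp F c)
    {z : Subgroup (S × S) × ℕ × Set (S × S)} (hz : z ∈ carr c) : Burn.stab (uact (S × S)) z ∈ FT F := by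
  obtain ⟨h1, h2⟩ := exists_cj_of_mem_carr hz
  exact FT_conj h2 (hc _ h1)

theorem mark_eq_zero [Finite S] {c : Subgroup (S × S) → ℕ} (hc : Supp F c) {H : Subgroup (S × S)} (hH : H ∉ FT F) :
    mark c H = 0 := by
  rw [← ncard_fixS_carr, Set.ncard_eq_zero ((finite_carr c).subset fun z hz => hz.1),
    Set.eq_empty_iff_forall_notMem]
  rintro z ⟨hz, hzH⟩
  exact hH (mem_FT_of_le (stab_mem_FT hc hz) hzH)

/-- The key comparison: `k : N → S` carries `N_D(Δ(P,f))` into `N_D(Δ(P₀,f₀))`. -/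
theorem mark_modEq [Finite S] {c : Subgroup (S × S) → ℕ} (hc : Supp F c) {P P₀ N : Subgroup Ω} {f f₀ k : Ω → Ω}
    (hf : IsMap F P f) (hf₀ : IsMap F P₀ f₀) (hk : IsMap F N k)
    (hPN : ∀ z ∈ Subgroup.normalizer (graph hf : Set (S × S)), (z.1 : Ω) ∈ N)
    (hP : P ≤ N) (hkP : img P k = P₀) (hfk : ∀ x ∈ P, f₀ (k x) = f x)
    {n : ℕ} (hn : Nat.card P = n) (hst : Stab F c (n + 1)) :
    mark c (graph hf) ≡ mark c (graph hf₀) [MOD wt (graph hf)] ∧
      Nat.card (Subgroup.normalizer (graph hf : Set (S × S))) ≤ Nat.card (Subgroup.normalizer (graph hf₀ : Set (S × S))) := by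
  classical
  set Nz := Subgroup.normalizer (graph hf : Set (S × S)) with hNz
  -- the homomorphism `κ`
  let κ : Nz →* S × S :=
    { toFun := fun z => (⟨k (z.1.1 : Ω), hk.mem (hPN z.1 z.2)⟩, z.1.2)
      map_one' := by
        apply Prod.ext
        · exact Subtype.ext hk.map_one
        · rfl
      map_mul' := by
        intro z w
        apply Prod.ext
        · exact Subtype.ext (hk.map_mul (hPN z.1 z.2) (hPN w.1 w.2))
        · rfl }
  have hκ1 : ∀ z : Nz, ((κ z).1 : Ω) = k (z.1.1 : Ω) := fun z => rfl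
  have hκ2 : ∀ z : Nz, (κ z).2 = z.1.2 := fun z => rfl
  have hκinj : Function.Injective κ := by
    intro z w hzw
    have h1 : k (z.1.1 : Ω) = k (w.1.1 : Ω) := congrArg (fun u : S × S => (u.1 : Ω)) hzw
    have h2 : z.1.2 = w.1.2 := (Prod.ext_iff.mp hzw).2
    apply Subtype.ext
    apply Prod.ext
    · exact Subtype.ext (hk.inj (hPN z.1 z.2) (hPN w.1 w.2) h1)
    · exact h2
  -- the image of the graph
  have hle : graph hf ≤ Nz := Subgroup.le_normalizer
  have hκΔ : ((graph hf).subgroupOf Nz).map κ = graph hf₀ := by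
    ext z
    constructor
    · rintro ⟨w, hw, rfl⟩
      have hw1 : (w.1.1 : Ω) ∈ P := hw.1
      have hw2 : (w.1.2 : Ω) = f w.1.1 := hw.2
      refine ⟨?_, ?_⟩
      · rw [hκ1, ← hkP]; exact subset_img hw1
      · rw [hκ1, hκ2, hfk _ hw1]; exact hw2
    · rintro ⟨hz1, hz2⟩
      rw [← hkP, (hk.mono hP).mem_img] at hz1
      obtain ⟨x, hx, hxz⟩ := hz1
      have hmem : ((⟨x, hf.le hx⟩, ⟨f x, hf.mem hx⟩) : S × S) ∈ graph hf := ⟨hx, rfl⟩
      refine ⟨⟨_, hle hmem⟩, hmem, ?_⟩
      apply Prod.ext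
      · exact Subtype.ext hxz
      · apply Subtype.ext
        show f x = (z.2 : Ω)
        rw [hz2, ← hxz, hfk x hx]
  have hκN : ∀ z : Nz, κ z ∈ Subgroup.normalizer (graph hf₀ : Set (S × S)) := by
    intro z
    apply mem_normalizer_of_conj
    intro w hw
    rw [← hκΔ] at hw ⊢
    obtain ⟨u, hu, rfl⟩ := hw
    refine ⟨z * u * z⁻¹, ?_, by rw [map_mul, map_mul, map_inv]⟩
    exact (Subgroup.mem_normalizer_iff.mp z.2 u).mp hu
  refine ⟨?_, ?_⟩
  swap
  · refine Nat.card_le_card_of_injective (fun z : Nz => (⟨κ z, hκN z⟩ :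
      Subgroup.normalizer (graph hf₀ : Set (S × S)))) ?_
    intro z w hzw
    exact hκinj (congrArg Subtype.val hzw)
  -- the congruence
  set Δ := (graph hf).subgroupOf Nz with hΔ
  have hΔn : Δ.Normal := by
    rw [hΔ]
    exact Subgroup.normal_in_normalizer
  rw [← ncard_fixS_carr, ← ncard_fixS_carr]
  have h0 := ncard_modEq (G := Nz) ((uact (S × S)).comp Nz.subtype) ((uact (S × S)).comp κ) Δ
    (A := fixS (uact (S × S)) (carr c) (graph hf)) (B := fixS (uact (S × S)) (carr c) (graph hf₀))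
    ((finite_carr c).subset fun z hz => hz.1) ((finite_carr c).subset fun z hz => hz.1) ?_ ?_ ?_ ?_ ?_
  · exact h0
  · rintro g z ⟨hz, hzf⟩
    refine ⟨carr_inv c _ z hz, fun h hh => ?_⟩
    rw [← mem_stab]
    show h ∈ Burn.stab (uact (S × S)) (uact (S × S) (g : S × S) z)
    rw [stab_apply]
    apply hzf
    have := (Subgroup.mem_normalizer_iff.mp (Nz.inv_mem g.2) h).mp hh
    rwa [inv_inv] at this
  · rintro g z ⟨hz, hzf⟩
    refine ⟨carr_inv c _ z hz, fun h hh => ?_⟩
    rw [← mem_stab]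
    show h ∈ Burn.stab (uact (S × S)) (uact (S × S) (κ g) z)
    rw [stab_apply]
    apply hzf
    have := (Subgroup.mem_normalizer_iff.mp (Subgroup.inv_mem _ (hκN g)) h).mp hh
    rwa [inv_inv] at this
  · rintro z ⟨hz, hzf⟩ g hg
    exact hzf _ hg
  · rintro z ⟨hz, hzf⟩ g hg
    have : κ g ∈ graph hf₀ := by rw [← hκΔ]; exact ⟨g, hg, rfl⟩
    exact hzf _ this
  · intro H hH
    have e1 : fixS ((uact (S × S)).comp Nz.subtype) (fixS (uact (S × S)) (carr c) (graph hf)) H =
        fixS (uact (S × S)) (carr c) (H.map Nz.subtype) := by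
      ext z
      constructor
      · rintro ⟨⟨hz, hzf⟩, hzH⟩
        refine ⟨hz, ?_⟩
        rintro _ ⟨g, hg, rfl⟩
        exact hzH g hg
      · rintro ⟨hz, hzH⟩
        refine ⟨⟨hz, fun h hh => hzH h ⟨⟨h, hle hh⟩, hH.le hh, rfl⟩⟩, fun g hg => hzH _ ⟨g, hg, rfl⟩⟩
    have e2 : fixS ((uact (S × S)).comp κ) (fixS (uact (S × S)) (carr c) (graph hf₀)) H =
        fixS (uact (S × S)) (carr c) (H.map κ) := by
      ext z
      constructor
      · rintro ⟨⟨hz, hzf⟩, hzH⟩
        refine ⟨hz, ?_⟩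
        rintro _ ⟨g, hg, rfl⟩
        exact hzH g hg
      · rintro ⟨hz, hzH⟩
        refine ⟨⟨hz, fun h hh => ?_⟩, fun g hg => hzH _ ⟨g, hg, rfl⟩⟩
        rw [← hκΔ] at hh
        obtain ⟨g, hg, rfl⟩ := hh
        exact hzH _ ⟨g, hH.le hg, rfl⟩
    rw [e1, e2, ncard_fixS_carr, ncard_fixS_carr]
    by_cases hK : H.map Nz.subtype ∈ FT F
    · obtain ⟨A, χ, hχ, hKχ⟩ := hK
      have hAN : A ≤ N := by
        intro x hx
        have h1 : ((⟨x, hχ.le hx⟩, ⟨χ x, hχ.mem hx⟩) : S × S) ∈ H.map Nz.subtype := by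
          rw [hKχ]; exact ⟨hx, rfl⟩
        obtain ⟨g, hg, hgx⟩ := h1
        have h2 := hPN g.1 g.2
        have h3 : (g.1.1 : Ω) = x := congrArg (fun u : S × S => (u.1 : Ω)) hgx
        rwa [h3] at h2
      have hcard : n + 1 ≤ Nat.card A := by
        have h1 : Nat.card (H.map Nz.subtype) = Nat.card A := by rw [hKχ, card_graph]
        rw [Subgroup.card_map_of_injective Nz.subtype_injective] at h1
        have h2 : Nat.card Δ = n := by
          rw [hΔ, Nat.card_congr (Subgroup.subgroupOfEquivOfLe hle).toEquiv, card_graph, hn]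
        have h3 : Nat.card Δ < Nat.card H := by
          refine lt_of_le_of_ne (Subgroup.card_le_of_le hH.le) fun h => ?_
          exact hH.ne (Subgroup.eq_of_le_of_card_ge hH.le h.ge)
        omega
      have hk' := hk.mono hAN
      have hχ' : IsMap F (img A k) (fun y => χ (minv A k y)) :=
        hχ.comp hk'.minv_isMap fun y hy => hk'.minv_mem hy
      have hκK : H.map κ = graph hχ' := by
        ext z
        constructor
        · rintro ⟨g, hg, rfl⟩
          have h1 : (g : S × S) ∈ graph hχ := by rw [← hKχ]; exact ⟨g, hg, rfl⟩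
          refine ⟨?_, ?_⟩
          · rw [hκ1]; exact subset_img h1.1
          · rw [hκ1, hκ2]
            show (g.1.2 : Ω) = χ (minv A k (k g.1.1))
            rw [hk'.minv_apply h1.1]
            exact h1.2
        · rintro ⟨h1, h2⟩
          obtain ⟨x, hx, hxz⟩ := hk'.mem_img.mp h1
          have h3 : ((⟨x, hχ.le hx⟩, ⟨χ x, hχ.mem hx⟩) : S × S) ∈ H.map Nz.subtype := by
            rw [hKχ]; exact ⟨hx, rfl⟩
          obtain ⟨g, hg, hgx⟩ := h3
          refine ⟨g, hg, ?_⟩
          have h4 : (g.1.1 : Ω) = x := congrArg (fun u : S × S => (u.1 : Ω)) hgx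
          have h5 : (g.1.2 : Ω) = χ x := congrArg (fun u : S × S => (u.2 : Ω)) hgx
          apply Prod.ext
          · apply Subtype.ext
            rw [hκ1, h4, hxz]
          · apply Subtype.ext
            rw [hκ2, h5, h2]
            show χ x = χ (minv A k z.1)
            rw [← hxz, hk'.minv_apply hx]
      have himg : img (img A k) (fun y => χ (minv A k y)) = img A χ := by
        ext y
        rw [hχ'.mem_img, hχ.mem_img]
        constructor
        · rintro ⟨u, hu, rfl⟩
          exact ⟨_, hk'.minv_mem hu, rfl⟩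
        · rintro ⟨x, hx, rfl⟩
          exact ⟨k x, subset_img hx, by simp only [hk'.minv_apply hx]⟩
      rw [hKχ, hκK, hst A χ hχ hcard, hst _ _ hχ' (by rw [hk'.card_img]; exact hcard)]
      congr 1
      ext z
      rw [mem_graph, mem_graph, himg]
    · have hK2 : H.map κ ∉ FT F := by
        rintro ⟨B, ψ, hψ, hB⟩
        apply hK
        have h1 : ∀ z ∈ H.map Nz.subtype, (z.1 : Ω) ∈ N ∧ k (z.1 : Ω) ∈ B ∧ (z.2 : Ω) = ψ (k (z.1 : Ω)) := by
          rintro _ ⟨g, hg, rfl⟩
          have h2 : κ g ∈ graph hψ := by rw [← hB]; exact ⟨g, hg, rfl⟩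
          exact ⟨hPN g.1 g.2, h2.1, h2.2⟩
        have h3 : pr1 (H.map Nz.subtype) ≤ N := by
          intro x hx
          obtain ⟨z, hz, rfl⟩ := mem_pr1.mp hx
          exact (h1 z hz).1
        have h4 : IsMap F (pr1 (H.map Nz.subtype)) (fun x => ψ (k x)) := by
          refine hψ.comp (hk.mono h3) fun x hx => ?_
          obtain ⟨z, hz, rfl⟩ := mem_pr1.mp hx
          exact (h1 z hz).2.1
        refine mem_FT_of h4 fun z hz => ⟨mem_pr1.mpr ⟨z, hz, rfl⟩, (h1 z hz).2.2⟩
      rw [mark_eq_zero hc hK, mark_eq_zero hc hK2]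

/-- The requirement on the common mark `m` for the maps with image `R`. -/
def Pr [Finite S] (F : FusionSystem S) (c : Subgroup (S × S) → ℕ) (R : Subgroup Ω) (m : ℕ) : Prop :=
  ∀ K ∈ FT F, pr2 K = R → mark c K ≤ m ∧ mark c K ≡ m [MOD wt K]

theorem wt_mul_card {G : Type*} [Group G] (H : Subgroup G) :
    wt H * Nat.card H = Nat.card (Subgroup.normalizer (H : Set G)) := by
  unfold wt
  rw [mul_comm]
  have h1 := Subgroup.relIndex_mul_relIndex (⊥ : Subgroup G) H
    (Subgroup.normalizer (H : Set G)) bot_le Subgroup.le_normalizer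
  rwa [Subgroup.relIndex_bot_left, Subgroup.relIndex_bot_left] at h1

theorem wt_map {G : Type*} [Group G] [Finite G] (e : G ≃* G) (H : Subgroup G) :
    wt (H.map e.toMonoidHom) = wt H := by
  have h1 := wt_mul_card H
  have h2 := wt_mul_card (H.map e.toMonoidHom)
  have h3 : (Subgroup.normalizer (H : Set G)).map e.toMonoidHom =
      Subgroup.normalizer ((H.map e.toMonoidHom : Subgroup G) : Set G) := by
    ext x
    rw [Subgroup.mem_normalizer_iff]
    constructor
    · rintro ⟨y, hy, rfl⟩ z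
      constructor
      · rintro ⟨w, hw, rfl⟩
        exact ⟨y * w * y⁻¹, (Subgroup.mem_normalizer_iff.mp hy w).mp hw, by simp⟩
      · rintro ⟨w, hw, hwz⟩
        refine ⟨y⁻¹ * w * y, ?_, ?_⟩
        · rw [SetLike.mem_coe, Subgroup.mem_normalizer_iff.mp hy]
          have : y * (y⁻¹ * w * y) * y⁻¹ = w := by group
          rwa [this]
        · have h4 : e w = e y * z * (e y)⁻¹ := hwz
          show e (y⁻¹ * w * y) = z
          rw [map_mul, map_mul, map_inv, h4]
          group
    · intro h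
      refine ⟨e.symm x, ?_, e.apply_symm_apply x⟩
      rw [SetLike.mem_coe, Subgroup.mem_normalizer_iff]
      intro w
      constructor
      · intro hw
        obtain ⟨v, hv, hvw⟩ := (h (e w)).mp ⟨w, hw, rfl⟩
        have h4 : e v = x * e w * x⁻¹ := hvw
        have h5 : v = e.symm x * w * (e.symm x)⁻¹ := by
          apply e.injective
          rw [h4, map_mul, map_mul, map_inv, e.apply_symm_apply]
        rwa [← h5]
      · intro hw
        have h4 : x * e w * x⁻¹ ∈ H.map e.toMonoidHom := by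
          refine ⟨_, hw, ?_⟩
          show e _ = _
          rw [map_mul, map_mul, map_inv, e.apply_symm_apply]
        obtain ⟨v, hv, hvw⟩ := (h (e w)).mpr h4
        have h5 : v = w := e.injective hvw
        rwa [← h5]
  have h4 : Nat.card (H.map e.toMonoidHom) = Nat.card H := Subgroup.card_map_of_injective e.injective
  have h5 : Nat.card ((Subgroup.normalizer (H : Set G)).map e.toMonoidHom) =
      Nat.card (Subgroup.normalizer (H : Set G)) := Subgroup.card_map_of_injective e.injective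
  rw [← h3, h4, h5, ← h1] at h2
  exact Nat.eq_of_mul_eq_mul_right Nat.card_pos h2

/-- A symmetry. -/
structure Sym [Finite S] (F : FusionSystem S) (c : Subgroup (S × S) → ℕ) (α β : S ≃* S) : Prop where
  ft : ∀ H ∈ FT F, H.map (α.prodCongr β).toMonoidHom ∈ FT F
  ft' : ∀ H, H.map (α.prodCongr β).toMonoidHom ∈ FT F → H ∈ FT F
  mark : ∀ H, Burn.mark c (H.map (α.prodCongr β).toMonoidHom) = Burn.mark c H

theorem map_symm_map {G : Type*} [Group G] (e : G ≃* G) (H : Subgroup G) :
    (H.map e.symm.toMonoidHom).map e.toMonoidHom = H := by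
  ext x
  constructor
  · rintro ⟨_, ⟨y, hy, rfl⟩, rfl⟩
    have : e (e.symm y) = y := e.apply_symm_apply y
    show e (e.symm y) ∈ H
    rwa [this]
  · intro hx
    exact ⟨e.symm x, ⟨x, hx, rfl⟩, e.apply_symm_apply x⟩

theorem map_map_symm {G : Type*} [Group G] (e : G ≃* G) (H : Subgroup G) :
    (H.map e.toMonoidHom).map e.symm.toMonoidHom = H := map_symm_map e.symm H

theorem pr2_map_eq {α β : S ≃* S} {H K : Subgroup (S × S)} (h : pr2 H = pr2 K) :
    pr2 (H.map (α.prodCongr β).toMonoidHom) = pr2 (K.map (α.prodCongr β).toMonoidHom) := by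
  have key : ∀ {H K : Subgroup (S × S)}, pr2 H ≤ pr2 K →
      pr2 (H.map (α.prodCongr β).toMonoidHom) ≤ pr2 (K.map (α.prodCongr β).toMonoidHom) := by
    intro H K h y hy
    obtain ⟨z, ⟨w, hw, rfl⟩, rfl⟩ := mem_pr2.mp hy
    obtain ⟨v, hv, hvw⟩ := mem_pr2.mp (h (mem_pr2.mpr ⟨w, hw, rfl⟩))
    refine mem_pr2.mpr ⟨_, ⟨v, hv, rfl⟩, ?_⟩
    have h2 : v.2 = w.2 := Subtype.ext hvw
    show ((β v.2 : S) : Ω) = (β w.2 : S)
    rw [h2]
  exact le_antisymm (key h.le) (key h.ge)

theorem pr2_map_eq' {α β : S ≃* S} {H K : Subgroup (S × S)} (h : pr2 K = pr2 (H.map (α.prodCongr β).toMonoidHom)) :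
    pr2 (K.map (α.prodCongr β).symm.toMonoidHom) = pr2 H := by
  have key : ∀ {H K : Subgroup (S × S)}, pr2 H ≤ pr2 K →
      pr2 (H.map (α.prodCongr β).symm.toMonoidHom) ≤ pr2 (K.map (α.prodCongr β).symm.toMonoidHom) := by
    intro H K h y hy
    obtain ⟨z, ⟨w, hw, rfl⟩, rfl⟩ := mem_pr2.mp hy
    obtain ⟨v, hv, hvw⟩ := mem_pr2.mp (h (mem_pr2.mpr ⟨w, hw, rfl⟩))
    refine mem_pr2.mpr ⟨_, ⟨v, hv, rfl⟩, ?_⟩
    have h2 : v.2 = w.2 := Subtype.ext hvw
    show ((β.symm v.2 : S) : Ω) = (β.symm w.2 : S)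
    rw [h2]
  rw [← map_map_symm (α.prodCongr β) H]
  exact le_antisymm (key h.le) (key h.ge)

theorem Pr.map [Finite S] {c : Subgroup (S × S) → ℕ} {α β : S ≃* S} (hs : Sym F c α β) {H : Subgroup (S × S)} {m : ℕ} :
    Pr F c (pr2 (H.map (α.prodCongr β).toMonoidHom)) m ↔ Pr F c (pr2 H) m := by
  constructor
  · intro h K hK hKH
    have h1 := h _ (hs.ft K hK) (pr2_map_eq hKH)
    rwa [hs.mark, wt_map] at h1
  · intro h K hK hKH
    have h0 := map_symm_map (α.prodCongr β) K
    have h1 := h _ (hs.ft' (K.map (α.prodCongr β).symm.toMonoidHom) (by rwa [h0])) (pr2_map_eq' hKH)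
    rw [← hs.mark, ← wt_map (α.prodCongr β), h0] at h1
    exact h1

open Classical in
/-- The canonical common mark. -/
noncomputable def M0 [Finite S] (F : FusionSystem S) (c : Subgroup (S × S) → ℕ) (R : Subgroup Ω) : ℕ :=
  sInf {m | Pr F c R m}

theorem M0_spec [Finite S] {c : Subgroup (S × S) → ℕ} {R : Subgroup Ω} (h : ∃ m, Pr F c R m) : Pr F c R (M0 F c R) :=
  Nat.sInf_mem h

theorem M0_map [Finite S] {c : Subgroup (S × S) → ℕ} {α β : S ≃* S} (hs : Sym F c α β) (H : Subgroup (S × S)) :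
    M0 F c (pr2 (H.map (α.prodCongr β).toMonoidHom)) = M0 F c (pr2 H) := by
  unfold M0
  congr 1
  ext m
  exact Pr.map hs

theorem sym_conj [Finite S] (c : Subgroup (S × S) → ℕ) (g : S × S) : Sym F c (MulAut.conj g.1) (MulAut.conj g.2) := by
  have key : ∀ H : Subgroup (S × S), Cj H (H.map ((MulAut.conj g.1).prodCongr (MulAut.conj g.2)).toMonoidHom) := by
    intro H
    refine ⟨g, fun x => ?_⟩
    constructor
    · rintro ⟨y, hy, rfl⟩
      have : g⁻¹ * ((MulAut.conj g.1).prodCongr (MulAut.conj g.2)).toMonoidHom y * g = y := by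
        apply Prod.ext
        · show g.1⁻¹ * (g.1 * y.1 * g.1⁻¹) * g.1 = y.1
          group
        · show g.2⁻¹ * (g.2 * y.2 * g.2⁻¹) * g.2 = y.2
          group
      rwa [this]
    · intro h
      refine ⟨_, h, ?_⟩
      apply Prod.ext
      · show g.1 * (g.1⁻¹ * x.1 * g.1) * g.1⁻¹ = x.1
        group
      · show g.2 * (g.2⁻¹ * x.2 * g.2) * g.2⁻¹ = x.2
        group
  exact ⟨fun H hH => FT_conj (key H) hH, fun H hH => FT_conj (key H).symm hH, fun H => (mark_congr c (key H)).symm⟩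

/-- The corrected function inherits the symmetries. -/
theorem sym_add [Finite S] {c δ : Subgroup (S × S) → ℕ} {k : ℕ} {M : Subgroup (S × S) → ℕ} {α β : S ≃* S}
    (hs : Sym F c α β) (hδ : ∀ K, δ K ≠ 0 → K ∈ FT F ∧ Nat.card K = k)
    (hM : ∀ K ∈ FT F, Nat.card K = k → mark (fun K => c K + δ K) K = M K)
    (hMs : ∀ K ∈ FT F, M (K.map (α.prodCongr β).toMonoidHom) = M K) : Sym F (fun K => c K + δ K) α β := by
  have hδS : Supp F δ := fun K hK => (hδ K hK).1
  set e := (α.prodCongr β).toMonoidHom with he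
  have h1 : ∀ K ∈ FT F, Nat.card K = k → mark δ (K.map e) = mark δ K := by
    intro K hK hk
    have h2 := hM K hK hk
    have hkc : Nat.card (K.map e) = k := by
      rw [Subgroup.card_map_of_injective (α.prodCongr β).injective, hk]
    have h3 : mark (fun K => c K + δ K) (K.map e) = M (K.map e) := hM _ (hs.ft K hK) hkc
    have h4 : mark c (K.map e) = mark c K := hs.mark K
    have h5 : M (K.map e) = M K := hMs K hK
    rw [mark_add] at h2 h3
    rw [h4, h5] at h3
    omega
  have hfix : ∀ H : Subgroup (S × S), fixS ((uact (S × S)).comp e) (carr δ) H = fixS (uact (S × S)) (carr δ) (H.map e) := by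
    intro H
    ext z
    constructor
    · rintro ⟨hz, hzH⟩
      refine ⟨hz, ?_⟩
      rintro _ ⟨g, hg, rfl⟩
      exact hzH g hg
    · rintro ⟨hz, hzH⟩
      exact ⟨hz, fun g hg => hzH _ ⟨g, hg, rfl⟩⟩
  have hst : ∀ z ∈ carr δ, Nat.card (Burn.stab (uact (S × S)) z) = k := by
    intro z hz
    obtain ⟨h1, h2⟩ := exists_cj_of_mem_carr hz
    rw [h2.card_eq]
    exact (hδ _ h1).2
  obtain ⟨b, hb1, hb2⟩ := exists_equivariant (uact (S × S)) ((uact (S × S)).comp e) {K | Nat.card K = k} _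
    (carr δ) (carr δ) (finite_carr δ) (finite_carr δ) rfl (carr_inv δ) (fun g z hz => carr_inv δ (e g) z hz)
    hst (by
      intro z hz
      have h3 : (Burn.stab ((uact (S × S)).comp e) z).map e = Burn.stab (uact (S × S)) z := by
        ext g
        constructor
        · rintro ⟨w, hw, rfl⟩
          exact hw
        · intro hg
          refine ⟨(α.prodCongr β).symm g, ?_, (α.prodCongr β).apply_symm_apply g⟩
          show uact (S × S) (e ((α.prodCongr β).symm g)) z = z
          have : e ((α.prodCongr β).symm g) = g := (α.prodCongr β).apply_symm_apply g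
          rw [this]
          exact hg
      have h4 := hst z hz
      rw [← h3, Subgroup.card_map_of_injective (α.prodCongr β).injective] at h4
      exact h4)
    (by
      intro K hK
      rw [hfix, ncard_fixS_carr, ncard_fixS_carr]
      by_cases hKF : K ∈ FT F
      · exact (h1 K hKF hK).symm
      · rw [mark_eq_zero hδS hKF, mark_eq_zero hδS fun h => hKF (hs.ft' K h)])
  refine ⟨hs.ft, hs.ft', fun H => ?_⟩
  rw [mark_add, mark_add, hs.mark]
  congr 1
  rw [← ncard_fixS_carr, ← ncard_fixS_carr, ← hfix]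
  exact (ncard_eq_of_bijOn (fixS_bijOn hb1 hb2 (carr_inv δ) H)).symm

theorem exists_step [Finite S] {c : Subgroup (S × S) → ℕ} {k : ℕ} (hst : Stab F c (k + 1))
    (hM : ∀ R : Subgroup Ω, R ≤ S → Nat.card R = k → ∃ m, Pr F c R m) :
    ∃ δ : Subgroup (S × S) → ℕ, Supp F δ ∧ (∀ K, δ K ≠ 0 → Nat.card K = k) ∧
      Stab F (fun K => c K + δ K) k ∧
      (∀ H : Subgroup (S × S), k < Nat.card H → mark (fun K => c K + δ K) H = mark c H) ∧
      ∀ α β : S ≃* S, Sym F c α β → Sym F (fun K => c K + δ K) α β := by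
  classical
  have hM0 : ∀ K ∈ FT F, Nat.card K = k → Pr F c (pr2 K) (M0 F c (pr2 K)) := by
    rintro _ ⟨P, f, h, rfl⟩ hk
    rw [card_graph] at hk
    rw [pr2_graph]
    exact M0_spec (hM _ h.img_le (by rw [h.card_img, hk]))
  obtain ⟨δ, h1, h2, h3, h4⟩ := exists_correct (FT F) (fun H K hc hH => FT_conj hc hH) k c (fun H => M0 F c (pr2 H))
    (by
      rintro H hH hk K ⟨g, hg⟩
      have h1 : K = H.map ((MulAut.conj g.1).prodCongr (MulAut.conj g.2)).toMonoidHom := by
        rw [cj_eq_map hg]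
        rfl
      rw [h1]
      exact (M0_map (sym_conj c g) H).symm)
    (fun H hH hk => (hM0 H hH hk H hH rfl).1)
    (fun H hH hk => (hM0 H hH hk H hH rfl).2)
  refine ⟨δ, fun K hK => (h1 K hK).1, fun K hK => (h1 K hK).2, ?_, h3, ?_⟩
  · intro P f h hk
    rcases Nat.eq_or_lt_of_le hk with hk | hk
    · rw [h2 _ (graph_mem_FT h) (by rw [card_graph, ← hk]),
        h2 _ (graph_mem_FT _) (by rw [card_graph, h.card_img, ← hk]), pr2_graph, pr2_graph, img_id]
    · rw [h3 _ (by rw [card_graph]; exact hk), h3 _ (by rw [card_graph, h.card_img]; exact hk)]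
      exact hst P f h hk
  · intro α β hs
    exact sym_add hs h1 h2 fun K _ => M0_map hs K

/-- In the saturated case the required common marks exist. -/
theorem exists_pr [Finite S] [Fact p.Prime] (hS : IsPGroup p S) (hF : F.IsSaturated p)
    {c : Subgroup (S × S) → ℕ} (hc : Supp F c) {k : ℕ} (hst : Stab F c (k + 1)) {R : Subgroup Ω} (hR : R ≤ S)
    (hk : Nat.card R = k) : ∃ m, Pr F c R m := by
  obtain ⟨Q, hRQ, hQ⟩ := exists_fullyNormalized (F := F) hR
  obtain ⟨h₀, hh₀, hh₀R, hh₀N⟩ := exists_normalizer_map hS (sat_fullyAutomized hS hF hQ) (sat_receptive' hS hF hQ) hRQ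
  have hh : IsMap F R h₀ := hh₀.mono (le_normalizerIn hR)
  have hf₀ : IsMap F Q (minv R h₀) := by
    have := hh.minv_isMap
    rwa [hh₀R] at this
  have hD : IsPGroup p (S × S) := by
    intro z
    obtain ⟨a, ha⟩ := hS z.1
    obtain ⟨b, hb⟩ := hS z.2
    refine ⟨a + b, ?_⟩
    apply Prod.ext
    · show z.1 ^ (p ^ (a + b)) = 1
      rw [pow_add, pow_mul, ha, one_pow]
    · show z.2 ^ (p ^ (a + b)) = 1
      rw [pow_add, mul_comm, pow_mul, hb, one_pow]
  refine ⟨mark c (graph hf₀) + (carr c).ncard * wt (graph hf₀), ?_⟩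
  rintro _ ⟨P, f, hf, rfl⟩ himg
  rw [pr2_graph] at himg
  have hcP : Nat.card P = k := by rw [← hk, ← himg, hf.card_img]
  -- the map `P → Q`
  have hf1 : IsMap F P (fun x => h₀ (f x)) := hh.comp hf fun x hx => by rw [← himg]; exact subset_img hx
  have himg1 : img P (fun x => h₀ (f x)) = Q := by rw [hf.img_comp, himg, hh₀R]
  set Nz := Subgroup.normalizer (graph hf : Set (S × S)) with hNz
  have hPN : P ≤ pr1 Nz := by
    intro x hx
    have hmem : ((⟨x, hf.le hx⟩, ⟨f x, hf.mem hx⟩) : S × S) ∈ graph hf := ⟨hx, rfl⟩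
    exact mem_pr1.mpr ⟨_, Subgroup.le_normalizer hmem, rfl⟩
  obtain ⟨κ, hκ, hκf⟩ := recep_exists_extend_of_le (sat_receptive' hS hF hQ) hf1 himg1 hPN (by
    intro n hn
    obtain ⟨z, hz, rfl⟩ := mem_pr1.mp hn
    obtain ⟨h1, h2, h3⟩ := mem_normalizer_graph hf hz
    refine ⟨z.1.2, h1, h₀ z.2, hh₀.mem ⟨z.2.2, by rw [← himg]; exact h2⟩, fun x hx => ?_⟩
    show h₀ (f _) = _
    rw [h3 x hx]
    have h4 : (z.2 : Ω) ∈ FusionSystem.normalizerIn S R := ⟨z.2.2, by rw [← himg]; exact h2⟩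
    have h5 : f x ∈ FusionSystem.normalizerIn S R :=
      le_normalizerIn hR (by rw [← himg]; exact subset_img hx)
    exact hh₀.map_conj h4 h5)
  have hkP : img P κ = Q := by rw [img_congr hκf, himg1]
  obtain ⟨hmod, hcardN⟩ := mark_modEq hc hf hf₀ hκ (fun z hz => mem_pr1.mpr ⟨z, hz, rfl⟩) hPN hkP
    (fun x hx => by
      rw [hκf x hx, hh.minv_apply (by rw [← himg]; exact subset_img hx)]) hcP hst
  -- weights are powers of `p`
  have hwt : ∀ {P' : Subgroup Ω} {f' : Ω → Ω} (h' : IsMap F P' f'),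
      wt (graph h') * Nat.card (graph h') = Nat.card (Subgroup.normalizer (graph h' : Set (S × S))) := by
    intro P' f' h'
    exact wt_mul_card _
  have hwtp : ∀ {P' : Subgroup Ω} {f' : Ω → Ω} (h' : IsMap F P' f'), ∃ j, wt (graph h') = p ^ j := by
    intro P' f' h'
    have h1 : wt (graph h') ∣ Nat.card (Subgroup.normalizer (graph h' : Set (S × S))) := ⟨_, (hwt h').symm⟩
    obtain ⟨j, hj⟩ := IsPGroup.iff_card.mp (hD.to_subgroup (Subgroup.normalizer (graph h' : Set (S × S))))
    rw [hj] at h1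
    obtain ⟨i, -, hi⟩ := (Nat.dvd_prime_pow Fact.out).mp h1
    exact ⟨i, hi⟩
  have hdvd : wt (graph hf) ∣ wt (graph hf₀) := by
    obtain ⟨i, hi⟩ := hwtp hf
    obtain ⟨j, hj⟩ := hwtp hf₀
    have h1 := hwt hf
    have h2 := hwt hf₀
    have h3 : Nat.card (graph hf) = Nat.card (graph hf₀) := by
      rw [card_graph, card_graph, ← hkP, (hκ.mono hPN).card_img]
    have h4 : 0 < Nat.card (graph hf₀) := Nat.card_pos
    have h5 : wt (graph hf) ≤ wt (graph hf₀) := by
      rw [← h1, ← h2, h3] at hcardN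
      exact Nat.le_of_mul_le_mul_right hcardN h4
    rw [hi, hj] at h5 ⊢
    exact pow_dvd_pow p ((Nat.pow_le_pow_iff_right (Fact.out : p.Prime).one_lt).mp h5)
  constructor
  · have h1 : mark c (graph hf) ≤ (carr c).ncard := by
      rw [← ncard_fixS_carr]
      exact Set.ncard_le_ncard (fun z hz => hz.1) (finite_carr c)
    have h2 : 0 < wt (graph hf₀) := by
      obtain ⟨j, hj⟩ := hwtp hf₀
      rw [hj]
      exact pow_pos (Fact.out : p.Prime).pos j
    calc mark c (graph hf) ≤ (carr c).ncard := h1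
      _ ≤ (carr c).ncard * wt (graph hf₀) := Nat.le_mul_of_pos_right _ h2
      _ ≤ _ := Nat.le_add_left _ _
  · refine hmod.trans ?_
    have h1 : (carr c).ncard * wt (graph hf₀) ≡ 0 [MOD wt (graph hf)] :=
      (Nat.modEq_zero_iff_dvd).mpr (Dvd.dvd.mul_left hdvd _)
    have h2 := Nat.ModEq.add_left (mark c (graph hf₀)) h1
    rw [add_zero] at h2
    exact h2.symm

end Cfsg.Agent.Fus.Bi
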