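import Cfsg.Agent.Fus.Biset
import Cfsg.Agent.Fus.Alperin
set_option autoImplicit false
set_option maxHeartbeats 400000

/-!
# Existence of characteristic bisets (helper88)
-/

namespace Cfsg.Agent.Fus.Bi

open Cfsg Cfsg.Agent.Fus Cfsg.Agent.Fus.Burn

variable {Ω : Type*} [Group Ω] {S : Subgroup Ω} {F : FusionSystem S} {p : ℕ}

theorem mark_bot {G : Type*} [Group G] [Finite G] (c : Subgroup G → ℕ) : mark c ⊥ = (carr c).ncard := by
  rw [← ncard_fixS_carr]
  congr 1
  ext z
  refine ⟨fun h => h.1, fun h => ⟨h, fun g hg => ?_⟩⟩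
  rw [Subgroup.mem_bot.mp hg, map_one]
  rfl

/-- `|S| * r = |S|` -/
theorem exists_ratio [Finite S] [Fact p.Prime] (hS : IsPGroup p S) {P : Subgroup Ω} (hP : P ≤ S)
    (hlt : Nat.card P < Nat.card S) : ∃ r, Nat.card S = Nat.card P * r ∧ p ∣ r := by
  obtain ⟨r, hr⟩ := Subgroup.card_dvd_of_le hP
  obtain ⟨a, ha⟩ := IsPGroup.iff_card.mp hS
  refine ⟨r, hr, ?_⟩
  have h1 : r ∣ p ^ a := by rw [← ha, hr]; exact dvd_mul_left _ _
  obtain ⟨j, -, hj⟩ := (Nat.dvd_prime_pow Fact.out).mp h1
  rcases Nat.eq_zero_or_pos j with rfl | hj0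
  · rw [pow_zero] at hj
    rw [hj, mul_one] at hr
    omega
  · rw [hj]
    exact dvd_pow_self p (by omega)

theorem dvd_mark_bot [Finite S] [Fact p.Prime] (hS : IsPGroup p S) {δ : Subgroup (S × S) → ℕ} (hδ : Supp F δ)
    (hk : ∀ K, δ K ≠ 0 → Nat.card K < Nat.card S) : Nat.card S * p ∣ mark δ ⊥ := by
  rw [mark_bot]
  refine dvd_ncard (uact (S × S)) _ _ (carr δ) (finite_carr δ) rfl (carr_inv δ) ?_
  intro z hz
  obtain ⟨h1, h2⟩ := exists_cj_of_mem_carr hz
  obtain ⟨P, f, h, hP⟩ := stab_mem_FT hδ hz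
  have h3 : Nat.card P < Nat.card S := by
    rw [← card_graph h, ← hP, h2.card_eq]
    exact hk _ h1
  have h4 := Subgroup.card_mul_index (Burn.stab (uact (S × S)) z)
  obtain ⟨r, hr, hpr⟩ := exists_ratio hS h.le h3
  have h5 : (Burn.stab (uact (S × S)) z).index = Nat.card S * r := by
    have h6 : Nat.card (Burn.stab (uact (S × S)) z) = Nat.card P := by rw [hP, card_graph]
    rw [h6, Nat.card_prod] at h4
    have h7 : 0 < Nat.card P := by
      have := finite_of_le h.le
      exact Nat.card_pos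
    refine Nat.eq_of_mul_eq_mul_left h7 ?_
    rw [h4]
    nth_rw 1 [hr]
    ring
  rw [h5]
  exact mul_dvd_mul_left _ hpr

/-- The normalizer of the graph of an automorphism of `S`. -/
theorem card_norm_graph [Finite S] {f : Ω → Ω} (h : IsMap F S f) :
    Nat.card (Subgroup.normalizer (graph h : Set (S × S))) = Nat.card S * Nat.card (Subgroup.center S) := by
  have himg : img S f = S := h.img_eq fun x hx => h.mem hx
  rw [← Nat.card_prod]
  refine Nat.card_congr
    { toFun := fun z => (z.1.1, ⟨⟨f z.1.1, h.mem z.1.1.2⟩⁻¹ * z.1.2, ?_⟩)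
      invFun := fun w => ⟨(w.1, ⟨f w.1, h.mem w.1.2⟩ * (w.2 : S)), ?_⟩
      left_inv := ?_
      right_inv := ?_ }
  · rw [Subgroup.mem_center_iff]
    intro w
    have hw : (w : Ω) ∈ img S f := by rw [himg]; exact w.2
    obtain ⟨x, hx, hxw⟩ := h.mem_img.mp hw
    obtain ⟨-, -, h3⟩ := mem_normalizer_graph h z.2
    have h4 := h3 x hx
    rw [h.map_conj z.1.1.2 hx, hxw] at h4
    apply Subtype.ext
    show (w : Ω) * ((f z.1.1)⁻¹ * (z.1.2 : Ω)) = (f z.1.1)⁻¹ * (z.1.2 : Ω) * w
    have h5 : (z.1.2 : Ω) * w = f z.1.1 * w * (f z.1.1)⁻¹ * z.1.2 := by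
      rw [h4]; group
    rw [mul_assoc, h5]
    group
  · refine mem_normalizer_graph' h (fun x hx => S.mul_mem (S.mul_mem w.1.2 hx) (S.inv_mem w.1.2)) fun x hx => ?_
    rw [h.map_conj w.1.2 hx]
    have h1 : (⟨f x, h.mem hx⟩ : S) * (w.2 : S) = (w.2 : S) * ⟨f x, h.mem hx⟩ :=
      (Subgroup.mem_center_iff.mp w.2.2 _)
    have h2 : f x * ((w.2 : S) : Ω) = ((w.2 : S) : Ω) * f x := congrArg Subtype.val h1
    show f w.1 * f x * (f w.1)⁻¹ = f w.1 * ((w.2 : S) : Ω) * f x * (f w.1 * ((w.2 : S) : Ω))⁻¹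
    rw [mul_assoc (f w.1) ((w.2 : S) : Ω), ← h2]
    group
  · intro z
    apply Subtype.ext
    apply Prod.ext
    · rfl
    · show (⟨f z.1.1, h.mem z.1.1.2⟩ : S) * (⟨f z.1.1, h.mem z.1.1.2⟩⁻¹ * z.1.2) = z.1.2
      rw [mul_inv_cancel_left]
  · intro w
    apply Prod.ext
    · rfl
    · apply Subtype.ext
      show (⟨f w.1, h.mem w.1.2⟩ : S)⁻¹ * (⟨f w.1, h.mem w.1.2⟩ * (w.2 : S)) = w.2
      rw [inv_mul_cancel_left]

theorem wt_graph_self [Finite S] {f : Ω → Ω} (h : IsMap F S f) : wt (graph h) = Nat.card (Subgroup.center S) := by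
  have h1 := wt_mul_card (graph h)
  rw [card_norm_graph h, card_graph, mul_comm] at h1
  exact Nat.eq_of_mul_eq_mul_left Nat.card_pos h1

theorem eq_of_card_eq [Finite S] {P : Subgroup Ω} (hP : P ≤ S) (h : Nat.card P = Nat.card S) : P = S :=
  Subgroup.eq_of_le_of_card_ge hP h.ge

/-- The graphs of the automorphisms of `S` in `F`. -/
theorem card_FTS [Finite S] (F : FusionSystem S) :
    Nat.card {H : Subgroup (S × S) // H ∈ FT F ∧ Nat.card H = Nat.card S} = Nat.card (F.autGroup S) := by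
  symm
  refine Nat.card_congr (Equiv.ofBijective (fun α => ⟨graph (isMap_ofAut le_rfl α.2), graph_mem_FT _,
    card_graph _⟩) ⟨?_, ?_⟩)
  · intro α β h
    have h1 : graph (isMap_ofAut (le_refl S) α.2) = graph (isMap_ofAut (le_refl S) β.2) :=
      congrArg Subtype.val h
    apply Subtype.ext
    refine ofAut_injective fun x hx => ?_
    have h2 : ((⟨x, hx⟩, ⟨ofAut α.1 x, (isMap_ofAut (le_refl S) α.2).mem hx⟩) : S × S) ∈
        graph (isMap_ofAut (le_refl S) β.2) := by
      rw [← h1]; exact ⟨hx, rfl⟩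
    exact h2.2
  · rintro ⟨H, ⟨P, f, h, rfl⟩, hc⟩
    rw [card_graph] at hc
    obtain rfl : P = S := eq_of_card_eq h.le hc
    have himg := h.img_eq fun x hx => h.mem hx
    refine ⟨⟨h.aut himg, h.aut_mem himg⟩, ?_⟩
    apply Subtype.ext
    ext z
    rw [mem_graph, mem_graph]
    constructor
    · rintro ⟨h1, h2⟩
      refine ⟨h1, ?_⟩
      rw [h2]
      exact h.ofAut_aut himg h1
    · rintro ⟨h1, h2⟩
      refine ⟨h1, ?_⟩
      rw [h2]
      exact (h.ofAut_aut himg h1).symm

/-- If all points of `carr c` have stabilizers of order `|S|`, then `|carr c| = |Aut_F(S)| * m`. -/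
theorem mark_bot_of_top [Finite S] {c : Subgroup (S × S) → ℕ} (hc : Supp F c)
    (hk : ∀ K, c K ≠ 0 → Nat.card K = Nat.card S) {m : ℕ}
    (hm : ∀ (f : Ω → Ω) (h : IsMap F S f), mark c (graph h) = m) :
    mark c ⊥ = Nat.card (F.autGroup S) * m := by
  classical
  let T := {H : Subgroup (S × S) // H ∈ FT F ∧ Nat.card H = Nat.card S}
  have : Finite T := inferInstance
  let _ : Fintype T := Fintype.ofFinite _
  have hcz : ∀ z ∈ carr c, Nat.card (Burn.stab (uact (S × S)) z) = Nat.card S := by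
    intro z hz
    obtain ⟨h1, h2⟩ := exists_cj_of_mem_carr hz
    rw [h2.card_eq]
    exact hk _ h1
  rw [mark_bot]
  have e : (carr c) ≃ Σ H : T, fixS (uact (S × S)) (carr c) H.1 :=
    { toFun := fun z => ⟨⟨Burn.stab (uact (S × S)) z.1, stab_mem_FT hc z.2, hcz _ z.2⟩, ⟨z.1, z.2, fun h hh => hh⟩⟩
      invFun := fun z => ⟨z.2.1, z.2.2.1⟩
      left_inv := fun z => rfl
      right_inv := by
        rintro ⟨⟨H, hH, hHc⟩, ⟨z, hz, hzH⟩⟩
        have h1 : H = Burn.stab (uact (S × S)) z :=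
          Subgroup.eq_of_le_of_card_ge (fun h hh => hzH h hh) (by rw [hcz z hz, hHc])
        subst h1
        rfl }
  have hfin : ∀ H : T, Finite (fixS (uact (S × S)) (carr c) H.1) := fun H =>
    ((finite_carr c).subset fun z hz => hz.1).to_subtype
  rw [← Nat.card_coe_set_eq, Nat.card_congr e, Nat.card_sigma]
  have h1 : ∀ H : T, Nat.card (fixS (uact (S × S)) (carr c) H.1) = m := by
    rintro ⟨H, ⟨P, f, h, rfl⟩, hHc⟩
    rw [card_graph] at hHc
    obtain rfl : P = S := eq_of_card_eq h.le hHc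
    rw [Nat.card_coe_set_eq, ncard_fixS_carr]
    exact hm f h
  rw [Finset.sum_congr rfl fun H _ => h1 H, Finset.sum_const, smul_eq_mul, Finset.card_univ,
    ← Nat.card_eq_fintype_card, card_FTS F]

theorem card_autInducedBy_self [Finite S] :
    Nat.card (autInducedBy S S) * Nat.card (Subgroup.center S) = Nat.card S := by
  rw [← inn_eq_autInducedBy]
  show Nat.card (MulAut.conj : S →* MulAut S).range * _ = _
  have h1 : (MulAut.conj : S →* MulAut S).ker = Subgroup.center S := by
    ext x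
    rw [MonoidHom.mem_ker, Subgroup.mem_center_iff]
    constructor
    · intro h y
      have h2 : (MulAut.conj x) y = y := by rw [h]; rfl
      rw [MulAut.conj_apply, mul_inv_eq_iff_eq_mul] at h2
      exact h2.symm
    · intro h
      ext1 y
      rw [MulAut.conj_apply, ← h y, mul_inv_cancel_right]
      rfl
  rw [← Subgroup.index_ker, h1, mul_comm]
  exact Subgroup.card_mul_index _

/-- The descent. -/
theorem descend [Finite S] {Q : (Subgroup (S × S) → ℕ) → Prop} {k₀ : ℕ} (hk₀ : 1 ≤ k₀)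
    (h0 : ∃ c, Supp F c ∧ Stab F c k₀ ∧ Q c)
    (hstep : ∀ c k, k < k₀ → Supp F c → Stab F c (k + 1) → Q c → ∃ c', Supp F c' ∧ Stab F c' k ∧ Q c') :
    ∃ c, Supp F c ∧ Stab F c 1 ∧ Q c := by
  refine Nat.decreasingInduction' (P := fun k => ∃ c, Supp F c ∧ Stab F c k ∧ Q c) ?_ hk₀ h0
  rintro k hk - ⟨c, h1, h2, h3⟩
  exact hstep c k hk h1 h2 h3

theorem supp_add [Finite S] {c d : Subgroup (S × S) → ℕ} (hc : Supp F c) (hd : Supp F d) :
    Supp F (fun K => c K + d K) := by
  intro K hK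
  by_cases h : c K = 0
  · exact hd K (by intro h'; exact hK (by show c K + d K = 0; rw [h, h']))
  · exact hc K h

/-- The automorphisms preserving the graphs. -/
structure PresFT [Finite S] (F : FusionSystem S) (α β : S ≃* S) : Prop where
  ft : ∀ H ∈ FT F, H.map (α.prodCongr β).toMonoidHom ∈ FT F
  ft' : ∀ H, H.map (α.prodCongr β).toMonoidHom ∈ FT F → H ∈ FT F

theorem Sym.pres [Finite S] {c : Subgroup (S × S) → ℕ} {α β : S ≃* S} (h : Sym F c α β) : PresFT F α β := ⟨h.ft, h.ft'⟩

/-- A characteristic biset. -/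
structure IsChar [Finite S] (F : FusionSystem S) (p : ℕ) (c : Subgroup (S × S) → ℕ) : Prop where
  supp : Supp F c
  stab : ∀ (P : Subgroup Ω) (f : Ω → Ω) (h : IsMap F P f), mark c (graph h) = mark c (graph (idm F h.img_le))
  size : ∃ n, mark c ⊥ = Nat.card S * n ∧ ¬ p ∣ n
  self : mark c (graph (idm F (le_refl S))) = Nat.card (Subgroup.center S)
  sym : ∀ α β : S ≃* S, PresFT F α β → Sym F c α β

theorem exists_isChar [Finite S] [Fact p.Prime] (hS : IsPGroup p S) (hF : F.IsSaturated p) :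
    ∃ c, IsChar F p c := by
  have hpos : 1 ≤ Nat.card S := Nat.card_pos
  have final : (∃ c, Supp F c ∧ Stab F c 1 ∧ (∃ n, mark c ⊥ = Nat.card S * n ∧ ¬ p ∣ n) ∧
      mark c (graph (idm F (le_refl S))) = Nat.card (Subgroup.center S) ∧
      ∀ α β : S ≃* S, PresFT F α β → Sym F c α β) → ∃ c, IsChar F p c := by
    rintro ⟨c, h1, h2, h3, h4, h5⟩
    refine ⟨c, h1, fun P f h => h2 P f h ?_, h3, h4, h5⟩
    have := finite_of_le h.le
    exact Nat.card_pos
  refine final (descend (F := F) (Q := fun c => (∃ n, mark c ⊥ = Nat.card S * n ∧ ¬ p ∣ n) ∧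
      mark c (graph (idm F (le_refl S))) = Nat.card (Subgroup.center S) ∧
      ∀ α β : S ≃* S, PresFT F α β → Sym F c α β) hpos ?_ ?_)
  · -- the start
    obtain ⟨δ, h1, h2, h3, -⟩ := exists_correct (FT F) (fun H K hc hH => FT_conj hc hH) (Nat.card S)
      (fun _ => 0) (fun _ => Nat.card (Subgroup.center S)) (fun _ _ _ _ _ => rfl)
      (by
        intro H _ _
        unfold mark
        simp)
      (by
        rintro _ ⟨P, f, h, rfl⟩ hk
        rw [card_graph] at hk
        have hPS : P = S := eq_of_card_eq h.le hk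
        subst hPS
        rw [wt_graph_self h]
        have h1 : mark (fun _ => 0) (graph h) = 0 := by unfold mark; simp
        rw [h1]
        exact ((Nat.modEq_zero_iff_dvd).mpr (dvd_refl _)).symm)
    have hsym : ∀ α β : S ≃* S, PresFT F α β → Sym F (fun K => 0 + δ K) α β := by
      intro α β h
      refine sym_add (c := fun _ => 0) ⟨h.ft, h.ft', fun H => ?_⟩ h1 h2 fun _ _ => rfl
      unfold mark
      simp
    simp only [zero_add] at h2 h3 hsym
    have hδ : Supp F δ := fun K hK => (h1 K hK).1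
    have hm : ∀ (f : Ω → Ω) (h : IsMap F S f), mark δ (graph h) = Nat.card (Subgroup.center S) :=
      fun f h => h2 _ (graph_mem_FT h) (card_graph h)
    refine ⟨δ, hδ, ?_, ?_, hm id _, hsym⟩
    · intro P f h hk
      have hPS : P = S := Subgroup.eq_of_le_of_card_ge h.le hk
      subst hPS
      rw [hm f h]
      refine (h2 _ (graph_mem_FT _) ?_).symm
      rw [card_graph, h.card_img]
    · obtain ⟨-, R, hR⟩ := sat_fullyAutomized hS hF (isFullyNormalized_self (F := F))
      have h5 := R.not_dvd_index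
      refine ⟨(R : Subgroup (F.autGroup S)).index, ?_, ?_⟩
      · rw [mark_bot_of_top hδ (fun K hK => (h1 K hK).2) hm, ← Subgroup.card_mul_index (R : Subgroup (F.autGroup S)),
          hR, Nat.card_congr (Subgroup.subgroupOfEquivOfLe (autInducedBy_le_autGroup (F := F) (le_refl S))).toEquiv,
          mul_right_comm, card_autInducedBy_self]
      · have := finite_mulAut (P := S)
        exact h5
  · rintro c k hk hc hst ⟨⟨n, hn, hpn⟩, hself, hsym⟩
    obtain ⟨δ, h1, h2, h3, h4, h5⟩ := exists_step hst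
      (fun R hR hRk => exists_pr hS hF hc hst hR hRk)
    refine ⟨_, supp_add hc h1, h3, ?_, ?_, fun α β h => h5 α β (hsym α β h)⟩
    · obtain ⟨m, hm⟩ := dvd_mark_bot hS h1 (fun K hK => by rw [h2 K hK]; exact hk)
      refine ⟨n + p * m, ?_, ?_⟩
      · rw [mark_add, hn, hm]; ring
      · intro h
        exact hpn ((Nat.dvd_add_left (dvd_mul_right p m)).mp h)
    · rw [h4 _ (by rw [card_graph]; exact hk), hself]

/-- The version for arbitrary fusion systems. -/
theorem exists_stable [Finite S] (F : FusionSystem S) :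
    ∃ c, Supp F c ∧ (∀ (P : Subgroup Ω) (f : Ω → Ω) (h : IsMap F P f),
      mark c (graph h) = mark c (graph (idm F h.img_le))) ∧ mark c (graph (idm F (le_refl S))) ≠ 0 := by
  have hN : ∀ H : Subgroup (S × S), wt H ∣ Nat.card (S × S) := fun H =>
    (Dvd.intro _ (wt_mul_card H)).trans (Subgroup.card_subgroup_dvd_card _)
  have hpos : 1 ≤ Nat.card S := Nat.card_pos
  have final : (∃ c, Supp F c ∧ Stab F c 1 ∧ mark c (graph (idm F (le_refl S))) ≠ 0) →
      ∃ c, Supp F c ∧ (∀ (P : Subgroup Ω) (f : Ω → Ω) (h : IsMap F P f),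
      mark c (graph h) = mark c (graph (idm F h.img_le))) ∧ mark c (graph (idm F (le_refl S))) ≠ 0 := by
    rintro ⟨c, h1, h2, h3⟩
    refine ⟨c, h1, fun P f h => h2 P f h ?_, h3⟩
    have := finite_of_le h.le
    exact Nat.card_pos
  refine final (descend (F := F) (Q := fun c => mark c (graph (idm F (le_refl S))) ≠ 0) hpos ?_ ?_)
  · obtain ⟨δ, h1, h2, h3, -⟩ := exists_correct (FT F) (fun H K hc hH => FT_conj hc hH) (Nat.card S)
      (fun _ => 0) (fun _ => Nat.card (S × S)) (fun _ _ _ _ _ => rfl)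
      (by
        intro H _ _
        unfold mark
        simp)
      (by
        intro H _ _
        have h1 : mark (fun _ : Subgroup (S × S) => 0) H = 0 := by unfold mark; simp
        rw [h1]
        exact ((Nat.modEq_zero_iff_dvd).mpr (hN H)).symm)
    simp only [zero_add] at h2 h3
    refine ⟨δ, fun K hK => (h1 K hK).1, ?_, ?_⟩
    · intro P f h hk
      have hPS : P = S := Subgroup.eq_of_le_of_card_ge h.le hk
      subst hPS
      rw [h2 _ (graph_mem_FT h) (card_graph h)]
      refine (h2 _ (graph_mem_FT _) ?_).symm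
      rw [card_graph, h.card_img]
    · rw [h2 _ (graph_mem_FT _) (card_graph _)]
      exact Nat.card_pos.ne'
  · rintro c k hk hc hst hself
    set N := Nat.card (S × S) with hNd
    have hN0 : N ≠ 0 := Nat.card_pos.ne'
    have hc' : Supp F (fun K => N * c K) := by
      intro K hK
      exact hc K (by intro h; exact hK (by show N * c K = 0; rw [h, mul_zero]))
    have hst' : Stab F (fun K => N * c K) (k + 1) := by
      intro P f h hk
      rw [mark_smul, mark_smul, hst P f h hk]
    obtain ⟨δ, h1, h2, h3, h4, -⟩ := exists_step hst' (fun R hR hRk => by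
      refine ⟨N * (carr c).ncard, fun K hK himg => ⟨?_, ?_⟩⟩
      · rw [mark_smul]
        refine Nat.mul_le_mul_left _ ?_
        rw [← ncard_fixS_carr]
        exact Set.ncard_le_ncard (fun z hz => hz.1) (finite_carr c)
      · rw [mark_smul]
        have h5 : ∀ m, N * m ≡ 0 [MOD wt K] := fun m =>
          (Nat.modEq_zero_iff_dvd).mpr ((hN _).mul_right m)
        exact (h5 _).trans (h5 _).symm)
    refine ⟨_, supp_add hc' h1, h3, ?_⟩
    rw [h4 _ (by rw [card_graph]; exact hk), mark_smul]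
    exact mul_ne_zero hN0 hself

end Cfsg.Agent.Fus.Bi
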