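import Mathlib
set_option autoImplicit false
set_option maxHeartbeats 400000

/-!
# Finite `G`-sets and their marks (helper88)

Actions are given as homomorphisms `ρ : G →* Equiv.Perm X`, on invariant subsets `A` of `X`.
-/

namespace Cfsg.Agent.Fus.Burn

universe u v w

variable {G : Type u} [Group G] {X : Type v} {Y : Type w}

/-- The stabilizer of a point. -/
def stab (ρ : G →* Equiv.Perm X) (x : X) : Subgroup G where
  carrier := {g | ρ g x = x}
  one_mem' := by simp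
  mul_mem' := by
    intro a b ha hb
    show ρ (a * b) x = x
    rw [map_mul, Equiv.Perm.mul_apply, show ρ b x = x from hb, show ρ a x = x from ha]
  inv_mem' := by
    intro a ha
    show ρ a⁻¹ x = x
    rw [map_inv, Equiv.Perm.inv_eq_iff_eq]
    exact (show ρ a x = x from ha).symm

theorem mem_stab {ρ : G →* Equiv.Perm X} {x : X} {g : G} : g ∈ stab ρ x ↔ ρ g x = x := Iff.rfl

/-- The fixed points of `H` in `A`. -/
def fixS (ρ : G →* Equiv.Perm X) (A : Set X) (H : Subgroup G) : Set X := {x | x ∈ A ∧ ∀ h ∈ H, ρ h x = x}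

theorem mem_fixS {ρ : G →* Equiv.Perm X} {A : Set X} {H : Subgroup G} {x : X} :
    x ∈ fixS ρ A H ↔ x ∈ A ∧ H ≤ stab ρ x := Iff.rfl

/-- `A` is invariant. -/
def Inv (ρ : G →* Equiv.Perm X) (A : Set X) : Prop := ∀ g, ∀ x ∈ A, ρ g x ∈ A

/-- The orbit. -/
def orb (ρ : G →* Equiv.Perm X) (x : X) : Set X := {y | ∃ g, ρ g x = y}

theorem self_mem_orb (ρ : G →* Equiv.Perm X) (x : X) : x ∈ orb ρ x := ⟨1, by simp⟩

theorem orb_inv (ρ : G →* Equiv.Perm X) (x : X) : Inv ρ (orb ρ x) := by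
  rintro g _ ⟨h, rfl⟩
  exact ⟨g * h, by simp⟩

theorem orb_subset {ρ : G →* Equiv.Perm X} {A : Set X} (hA : Inv ρ A) {x : X} (hx : x ∈ A) : orb ρ x ⊆ A := by
  rintro _ ⟨g, rfl⟩
  exact hA g x hx

theorem inv_apply_mem {ρ : G →* Equiv.Perm X} {A : Set X} (hA : Inv ρ A) {g : G} {x : X} (hx : ρ g x ∈ A) :
    x ∈ A := by
  have h := hA g⁻¹ _ hx
  rw [← Equiv.Perm.mul_apply, ← map_mul, inv_mul_cancel, map_one] at h
  exact h

theorem diff_inv {ρ : G →* Equiv.Perm X} {A : Set X} (hA : Inv ρ A) (x : X) : Inv ρ (A \ orb ρ x) := by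
  rintro g y ⟨hy, hyo⟩
  exact ⟨hA g y hy, fun h => hyo (inv_apply_mem (orb_inv ρ x) h)⟩

theorem apply_eq_iff {ρ : G →* Equiv.Perm X} {g h : G} {x : X} : ρ g x = ρ h x ↔ g⁻¹ * h ∈ stab ρ x := by
  rw [mem_stab, map_mul, map_inv, Equiv.Perm.mul_apply, Equiv.Perm.inv_eq_iff_eq]
  exact eq_comm

theorem orb_bijOn {ρ : G →* Equiv.Perm X} {σ : G →* Equiv.Perm Y} {x : X} {y : Y} (hst : stab ρ x = stab σ y)
    {e : X → Y} (he : ∀ g, e (ρ g x) = σ g y) : Set.BijOn e (orb ρ x) (orb σ y) ∧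
      ∀ g, ∀ z ∈ orb ρ x, e (ρ g z) = σ g (e z) := by
  refine ⟨⟨?_, ?_, ?_⟩, ?_⟩
  · rintro _ ⟨g, rfl⟩
    exact ⟨g, (he g).symm⟩
  · rintro _ ⟨g, rfl⟩ _ ⟨h, rfl⟩ hgh
    rw [he, he, apply_eq_iff, ← hst, ← apply_eq_iff] at hgh
    exact hgh
  · rintro _ ⟨g, rfl⟩
    exact ⟨ρ g x, ⟨g, rfl⟩, he g⟩
  · rintro g _ ⟨h, rfl⟩
    rw [← Equiv.Perm.mul_apply, ← map_mul, he, he, map_mul, Equiv.Perm.mul_apply]

theorem fixS_bijOn {ρ : G →* Equiv.Perm X} {σ : G →* Equiv.Perm Y} {A : Set X} {B : Set Y} {e : X → Y}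
    (h1 : Set.BijOn e A B) (h2 : ∀ g, ∀ z ∈ A, e (ρ g z) = σ g (e z)) (hA : Inv ρ A) (H : Subgroup G) :
    Set.BijOn e (fixS ρ A H) (fixS σ B H) := by
  refine ⟨?_, h1.injOn.mono fun x hx => hx.1, ?_⟩
  · rintro x ⟨hx, hxH⟩
    refine ⟨h1.mapsTo hx, fun h hh => ?_⟩
    rw [← h2 h x hx, hxH h hh]
  · rintro y ⟨hy, hyH⟩
    obtain ⟨x, hx, rfl⟩ := h1.surjOn hy
    refine ⟨x, ⟨hx, fun h hh => ?_⟩, rfl⟩
    apply h1.injOn (hA h x hx) hx
    rw [h2 h x hx, hyH h hh]

theorem fixS_mono {ρ : G →* Equiv.Perm X} {A C : Set X} (h : C ⊆ A) (H : Subgroup G) :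
    fixS ρ C H ⊆ fixS ρ A H := fun _ hz => ⟨h hz.1, hz.2⟩

theorem fixS_diff {ρ : G →* Equiv.Perm X} {A C : Set X} (H : Subgroup G) :
    fixS ρ (A \ C) H = fixS ρ A H \ fixS ρ C H := by
  ext x
  constructor
  · rintro ⟨⟨h1, h2⟩, h3⟩
    exact ⟨⟨h1, h3⟩, fun h => h2 h.1⟩
  · rintro ⟨⟨h1, h3⟩, h2⟩
    exact ⟨⟨h1, fun h => h2 ⟨h, h3⟩⟩, h3⟩

theorem ncard_eq_of_bijOn {e : X → Y} {A : Set X} {B : Set Y} (h : Set.BijOn e A B) : A.ncard = B.ncard := by
  rw [← h.image_eq, h.injOn.ncard_image]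

theorem exists_orb_map {ρ : G →* Equiv.Perm X} {σ : G →* Equiv.Perm Y} {x : X} {y : Y}
    (hst : stab ρ x = stab σ y) (e' : X → Y) :
    ∃ e : X → Y, (∀ g, e (ρ g x) = σ g y) ∧ ∀ z, z ∉ orb ρ x → e z = e' z := by
  classical
  refine ⟨fun z => if h : ∃ g, ρ g x = z then σ h.choose y else e' z, fun g => ?_, fun z hz => ?_⟩
  · have h : ∃ g', ρ g' x = ρ g x := ⟨g, rfl⟩
    simp only [h, dif_pos]
    rw [apply_eq_iff, ← hst, ← apply_eq_iff]
    exact h.choose_spec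
  · have h : ¬ ∃ g, ρ g x = z := hz
    simp only [h, dif_neg, not_false_eq_true]

/-- Burnside: two finite `G`-sets with the same marks at a family of subgroups containing all the stabilizers are
isomorphic. -/
theorem exists_equivariant [Finite G] [Nonempty Y] (ρ : G →* Equiv.Perm X) (σ : G →* Equiv.Perm Y)
    (𝒦 : Set (Subgroup G)) :
    ∀ (n : ℕ) (A : Set X) (B : Set Y), A.Finite → B.Finite → A.ncard = n → Inv ρ A → Inv σ B →
      (∀ x ∈ A, stab ρ x ∈ 𝒦) → (∀ y ∈ B, stab σ y ∈ 𝒦) →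
      (∀ H ∈ 𝒦, (fixS ρ A H).ncard = (fixS σ B H).ncard) →
      ∃ e : X → Y, Set.BijOn e A B ∧ ∀ g, ∀ x ∈ A, e (ρ g x) = σ g (e x) := by
  intro n
  induction n using Nat.strong_induction_on with
  | _ n ih =>
  intro A B hAf hBf hAn hAi hBi hAs hBs hm
  have hAH : ∀ H, (fixS ρ A H).Finite := fun H => hAf.subset fun z hz => hz.1
  have hBH : ∀ H, (fixS σ B H).Finite := fun H => hBf.subset fun z hz => hz.1
  rcases A.eq_empty_or_nonempty with rfl | hne
  · have hB : B = ∅ := by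
      rw [Set.eq_empty_iff_forall_notMem]
      intro y hy
      have h1 := hm _ (hBs y hy)
      have h2 : y ∈ fixS σ B (stab σ y) := ⟨hy, fun h hh => hh⟩
      have h3 : (fixS ρ (∅ : Set X) (stab σ y)) = ∅ := by
        rw [Set.eq_empty_iff_forall_notMem]
        rintro x ⟨hx, -⟩
        exact hx
      rw [h3, Set.ncard_empty] at h1
      have h5 := (Set.ncard_eq_zero (hBH _)).mp h1.symm
      rw [h5] at h2
      exact h2
    subst hB
    exact ⟨fun _ => Classical.arbitrary Y, Set.bijOn_empty _, fun g x hx => absurd hx (Set.notMem_empty x)⟩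
  · obtain ⟨x, hxA, hxmax⟩ := Set.exists_max_image A (fun x => Nat.card (stab ρ x)) hAf hne
    have hH := hAs x hxA
    have hxfix : x ∈ fixS ρ A (stab ρ x) := ⟨hxA, fun h hh => hh⟩
    have h1 : 0 < (fixS σ B (stab ρ x)).ncard := by
      rw [← hm _ hH]
      exact (Set.ncard_pos (hAH _)).mpr ⟨x, hxfix⟩
    obtain ⟨y, hyB, hyH⟩ := (Set.ncard_pos (hBH _)).mp h1
    have hK := hBs y hyB
    have hle : stab ρ x ≤ stab σ y := fun h hh => hyH h hh
    have h2 : 0 < (fixS ρ A (stab σ y)).ncard := by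
      rw [hm _ hK]
      exact (Set.ncard_pos (hBH _)).mpr ⟨y, hyB, fun h hh => hh⟩
    obtain ⟨x', hx'A, hx'K⟩ := (Set.ncard_pos (hAH _)).mp h2
    have hst : stab ρ x = stab σ y := by
      refine Subgroup.eq_of_le_of_card_ge hle ?_
      exact (Subgroup.card_le_of_le (show stab σ y ≤ stab ρ x' from fun h hh => hx'K h hh)).trans
        (hxmax x' hx'A)
    obtain ⟨e₁, he₁, -⟩ := exists_orb_map hst (fun _ => Classical.arbitrary Y)
    obtain ⟨hb1, hb2⟩ := orb_bijOn hst he₁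
    have hoA := orb_subset hAi hxA
    have hoB := orb_subset hBi hyB
    have horb : ∀ H, (fixS ρ (orb ρ x) H).ncard = (fixS σ (orb σ y) H).ncard := fun H =>
      ncard_eq_of_bijOn (fixS_bijOn hb1 hb2 (orb_inv ρ x) H)
    have hm' : ∀ H ∈ 𝒦, (fixS ρ (A \ orb ρ x) H).ncard = (fixS σ (B \ orb σ y) H).ncard := by
      intro H hH
      rw [fixS_diff, fixS_diff,
        Set.ncard_sdiff (fixS_mono hoA H) ((hAf.subset hoA).subset fun z hz => hz.1),
        Set.ncard_sdiff (fixS_mono hoB H) ((hBf.subset hoB).subset fun z hz => hz.1), hm H hH, horb H]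
    have hlt : (A \ orb ρ x).ncard < n := by
      rw [← hAn]
      refine Set.ncard_lt_ncard ⟨Set.sdiff_subset, fun h => ?_⟩ hAf
      exact (h hxA).2 (self_mem_orb ρ x)
    obtain ⟨e', he'1, he'2⟩ := ih _ hlt (A \ orb ρ x) (B \ orb σ y) hAf.sdiff hBf.sdiff rfl
      (diff_inv hAi x) (diff_inv hBi y) (fun z hz => hAs z hz.1) (fun z hz => hBs z hz.1) hm'
    obtain ⟨e, he, hee'⟩ := exists_orb_map hst e'
    obtain ⟨hc1, hc2⟩ := orb_bijOn hst he
    have hd : Set.BijOn e (A \ orb ρ x) (B \ orb σ y) :=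
      he'1.congr fun z hz => (hee' z hz.2).symm
    refine ⟨e, ?_, ?_⟩
    · have h3 := hc1.union hd ?_
      · rwa [Set.union_sdiff_cancel hoA, Set.union_sdiff_cancel hoB] at h3
      · rw [Set.union_sdiff_cancel hoA]
        intro a ha b hb hab
        by_cases hao : a ∈ orb ρ x
        · by_cases hbo : b ∈ orb ρ x
          · exact hc1.injOn hao hbo hab
          · exfalso
            have h4 := hd.mapsTo ⟨hb, hbo⟩
            rw [← hab] at h4
            exact h4.2 (hc1.mapsTo hao)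
        · by_cases hbo : b ∈ orb ρ x
          · exfalso
            have h4 := hd.mapsTo ⟨ha, hao⟩
            rw [hab] at h4
            exact h4.2 (hc1.mapsTo hbo)
          · exact hd.injOn ⟨ha, hao⟩ ⟨hb, hbo⟩ hab
    · intro g z hz
      by_cases hzo : z ∈ orb ρ x
      · exact hc2 g z hzo
      · rw [hee' z hzo, hee' _ (fun h => hzo (inv_apply_mem (orb_inv ρ x) h))]
        exact he'2 g z ⟨hz, hzo⟩

theorem ncard_eq_of_marks [Finite G] (ρ : G →* Equiv.Perm X) (σ : G →* Equiv.Perm Y)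
    (𝒦 : Set (Subgroup G)) {A : Set X} {B : Set Y} (hA : A.Finite) (hB : B.Finite) (hAi : Inv ρ A)
    (hBi : Inv σ B) (hAs : ∀ x ∈ A, stab ρ x ∈ 𝒦) (hBs : ∀ y ∈ B, stab σ y ∈ 𝒦)
    (hm : ∀ H ∈ 𝒦, (fixS ρ A H).ncard = (fixS σ B H).ncard) : A.ncard = B.ncard := by
  rcases isEmpty_or_nonempty Y with hY | hY
  · have hB0 : B = ∅ := Set.eq_empty_of_isEmpty B
    have hA0 : A = ∅ := by
      rw [Set.eq_empty_iff_forall_notMem]
      intro x hx
      have h1 := hm _ (hAs x hx)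
      have h2 : fixS σ B (stab ρ x) = ∅ := Set.eq_empty_of_isEmpty _
      rw [h2, Set.ncard_empty, Set.ncard_eq_zero (hA.subset fun z hz => hz.1)] at h1
      have h3 : x ∈ fixS ρ A (stab ρ x) := ⟨hx, fun h hh => hh⟩
      rw [h1] at h3
      exact h3
    rw [hA0, hB0, Set.ncard_empty, Set.ncard_empty]
  · obtain ⟨e, he, -⟩ := exists_equivariant ρ σ 𝒦 _ A B hA hB rfl hAi hBi hAs hBs hm
    exact ncard_eq_of_bijOn he

theorem ncard_orb (ρ : G →* Equiv.Perm X) (x : X) : (orb ρ x).ncard = (stab ρ x).index := by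
  let _ : MulAction G X := MulAction.compHom X ρ
  have h1 : MulAction.stabilizer G x = stab ρ x := by
    ext g; rfl
  have h2 : MulAction.orbit G x = orb ρ x := by
    ext y; rfl
  rw [← h1, ← h2]
  exact (MulAction.index_stabilizer G x).symm

theorem stab_apply (ρ : G →* Equiv.Perm X) (g : G) (x : X) {h : G} :
    h ∈ stab ρ (ρ g x) ↔ g⁻¹ * h * g ∈ stab ρ x := by
  rw [mem_stab, mem_stab, map_mul, map_mul, Equiv.Perm.mul_apply, Equiv.Perm.mul_apply, map_inv,
    Equiv.Perm.inv_eq_iff_eq]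

/-- If `m` divides the sizes of all orbits on `A` then `m` divides `|A|`. -/
theorem dvd_ncard (ρ : G →* Equiv.Perm X) (m : ℕ) : ∀ (n : ℕ) (A : Set X), A.Finite → A.ncard = n →
    Inv ρ A → (∀ x ∈ A, m ∣ (stab ρ x).index) → m ∣ n := by
  intro n
  induction n using Nat.strong_induction_on with
  | _ n ih =>
  intro A hAf hAn hAi hst
  rcases A.eq_empty_or_nonempty with rfl | ⟨x, hx⟩
  · rw [Set.ncard_empty] at hAn
    exact ⟨0, hAn.symm⟩
  · have hoA := orb_subset hAi hx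
    have h1 := Set.ncard_sdiff hoA (hAf.subset hoA)
    have hox := ncard_orb ρ x
    have hmx := hst x hx
    rw [← hox] at hmx
    have hpos : 0 < (orb ρ x).ncard := (Set.ncard_pos (hAf.subset hoA)).mpr ⟨x, self_mem_orb ρ x⟩
    have hle : (orb ρ x).ncard ≤ A.ncard := Set.ncard_le_ncard hoA hAf
    have h2 := ih (A \ orb ρ x).ncard (by omega) (A \ orb ρ x) hAf.sdiff rfl (diff_inv hAi x)
      (fun z hz => hst z hz.1)
    have h3 : n = (A \ orb ρ x).ncard + (orb ρ x).ncard := by omega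
    rw [h3]
    exact Dvd.dvd.add h2 hmx

theorem inv_split (τ : G →* Equiv.Perm X) (Δ : Subgroup G) [Δ.Normal] {C : Set X} (hC : Inv τ C) :
    Inv τ {x ∈ C | stab τ x = Δ} ∧ Inv τ {x ∈ C | stab τ x ≠ Δ} := by
  have h1 : ∀ g x, stab τ (τ g x) = Δ ↔ stab τ x = Δ := by
    intro g x
    have hn : ∀ h, h ∈ Δ ↔ g⁻¹ * h * g ∈ Δ := by
      intro h
      constructor
      · intro hh
        have := (inferInstance : Δ.Normal).conj_mem h hh g⁻¹
        rwa [inv_inv] at this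
      · intro hh
        have := (inferInstance : Δ.Normal).conj_mem _ hh g
        have e : g * (g⁻¹ * h * g) * g⁻¹ = h := by group
        rwa [e] at this
    constructor
    · intro h
      ext k
      have h2 : g * k * g⁻¹ ∈ stab τ (τ g x) ↔ k ∈ stab τ x := by
        rw [stab_apply]
        have e : g⁻¹ * (g * k * g⁻¹) * g = k := by group
        rw [e]
      rw [← h2, h, hn]
      have e : g⁻¹ * (g * k * g⁻¹) * g = k := by group
      rw [e]
    · intro h
      ext k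
      rw [stab_apply, h, ← hn]
  exact ⟨fun g x hx => ⟨hC g x hx.1, (h1 g x).mpr hx.2⟩, fun g x hx => ⟨hC g x hx.1, fun h => hx.2 ((h1 g x).mp h)⟩⟩

theorem ncard_split (τ : G →* Equiv.Perm X) (Δ : Subgroup G) {C : Set X} (hC : C.Finite) :
    C.ncard = {x ∈ C | stab τ x = Δ}.ncard + {x ∈ C | stab τ x ≠ Δ}.ncard := by
  rw [← Set.ncard_union_eq ?_ (hC.subset fun z hz => hz.1) (hC.subset fun z hz => hz.1)]
  · congr 1
    ext x
    constructor
    · intro hx
      by_cases h : stab τ x = Δ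
      · exact Or.inl ⟨hx, h⟩
      · exact Or.inr ⟨hx, h⟩
    · rintro (h | h)
      · exact h.1
      · exact h.1
  · rw [Set.disjoint_left]
    rintro x ⟨-, h⟩ ⟨-, h'⟩
    exact h' h

/-- The congruence between the numbers of points of two sets on which all stabilizers contain the normal subgroup `Δ`
and which have the same marks at subgroups properly containing `Δ`. -/
theorem ncard_modEq [Finite G] (ρ : G →* Equiv.Perm X) (σ : G →* Equiv.Perm Y) (Δ : Subgroup G) [Δ.Normal]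
    {A : Set X} {B : Set Y} (hA : A.Finite) (hB : B.Finite) (hAi : Inv ρ A)
    (hBi : Inv σ B) (hAs : ∀ x ∈ A, Δ ≤ stab ρ x) (hBs : ∀ y ∈ B, Δ ≤ stab σ y)
    (hm : ∀ H, Δ < H → (fixS ρ A H).ncard = (fixS σ B H).ncard) : A.ncard ≡ B.ncard [MOD Δ.index] := by
  have h1 : Δ.index ∣ {x ∈ A | stab ρ x = Δ}.ncard :=
    dvd_ncard ρ _ _ _ (hA.subset fun z hz => hz.1) rfl (inv_split ρ Δ hAi).1 (fun x hx => by rw [hx.2])
  have h2 : Δ.index ∣ {x ∈ B | stab σ x = Δ}.ncard :=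
    dvd_ncard σ _ _ _ (hB.subset fun z hz => hz.1) rfl (inv_split σ Δ hBi).1 (fun x hx => by rw [hx.2])
  have h3 : {x ∈ A | stab ρ x ≠ Δ}.ncard = {x ∈ B | stab σ x ≠ Δ}.ncard := by
    refine ncard_eq_of_marks ρ σ {K | Δ < K} (hA.subset fun z hz => hz.1) (hB.subset fun z hz => hz.1)
      (inv_split ρ Δ hAi).2 (inv_split σ Δ hBi).2 (fun x hx => lt_of_le_of_ne (hAs x hx.1) (Ne.symm hx.2))
      (fun x hx => lt_of_le_of_ne (hBs x hx.1) (Ne.symm hx.2)) ?_
    intro H hH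
    have e1 : fixS ρ {x ∈ A | stab ρ x ≠ Δ} H = fixS ρ A H := by
      ext x
      constructor
      · rintro ⟨hx, h⟩; exact ⟨hx.1, h⟩
      · rintro ⟨hx, h⟩
        refine ⟨⟨hx, fun h' => ?_⟩, h⟩
        have : H ≤ stab ρ x := h
        rw [h'] at this
        exact (lt_of_lt_of_le hH this).false
    have e2 : fixS σ {x ∈ B | stab σ x ≠ Δ} H = fixS σ B H := by
      ext x
      constructor
      · rintro ⟨hx, h⟩; exact ⟨hx.1, h⟩
      · rintro ⟨hx, h⟩
        refine ⟨⟨hx, fun h' => ?_⟩, h⟩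
        have : H ≤ stab σ x := h
        rw [h'] at this
        exact (lt_of_lt_of_le hH this).false
    rw [e1, e2]
    exact hm H hH
  rw [ncard_split ρ Δ hA, ncard_split σ Δ hB, h3]
  refine Nat.ModEq.add_right _ ?_
  exact ((Nat.modEq_zero_iff_dvd).mpr h1).trans ((Nat.modEq_zero_iff_dvd).mpr h2).symm

end Cfsg.Agent.Fus.Burn
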