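import Cfsg.Agent.Fus.CProd2
import Cfsg.Agent.Fus.CenE
import Cfsg.Agent.Fus.Solvable
import Cfsg.Agent.Fus.Product
set_option autoImplicit false

/-!
# Central products of normal subsystems, part 1 (helper85)
-/

namespace Cfsg.Agent.Fus

open Cfsg Cfsg.FusionSystem Cfsg.Agent.H85

variable {Ω : Type*} [Group Ω] {S T₁ T₂ T : Subgroup Ω} {F : FusionSystem S} {E₁ : FusionSystem T₁}
  {E₂ : FusionSystem T₂} {D : FusionSystem T} {p : ℕ}

/-- central products of saturated systems are saturated -/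
theorem CProd.saturated [Finite T₁] [Finite T₂] [Fact p.Prime] (h : CProd E₁ E₂ D) (h1 : IsPGroup p T₁)
    (h2 : IsPGroup p T₂) (hs1 : E₁.IsSaturated p) (hs2 : E₂.IsSaturated p) : D.IsSaturated p := by
  obtain ⟨D₀, hD₀, Z, θ, hZ, -, -, -, -, hfac⟩ := isCentralProductOf_of_cprod h
  have hsat := prod_isSaturated h1 h2 hs1 hs2 (isProductSystem_iff.1 hD₀)
  have hfin : Finite ↥(T₁.prod T₂) := Finite.of_equiv _ (Subgroup.prodEquiv T₁ T₂).symm.toEquiv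
  have hp : IsPGroup p ↥(T₁.prod T₂) := by
    have h3 : IsPGroup p (T₁ × T₂) := by
      intro x
      obtain ⟨m, hm⟩ := h1 x.1
      obtain ⟨n, hn⟩ := h2 x.2
      refine ⟨m + n, Prod.ext ?_ ?_⟩
      · show x.1 ^ _ = 1
        rw [pow_add, pow_mul, hm, one_pow]
      · show x.2 ^ _ = 1
        rw [pow_add, mul_comm, pow_mul, hn, one_pow]
    exact h3.of_equiv (Subgroup.prodEquiv T₁ T₂).symm
  have hZc : D₀.IsCentral Z := by
    refine (isCentral_iff_singleton hp hsat).2 ⟨hfac.1, fun x hx => ?_⟩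
    exact ((isCentral_iff_singleton hp hsat).1 (Join.isCentral_center D₀)).2 x (hZ hx)
  have hZs := sc_of_isNormal (Join.isNormal_of_isCentral hZc)
  exact (isFac_of_isFactorSystem hZs hfac).isSaturated hp hsat

theorem sup_conj_mem {G : Type*} [Group G] {K₁ K₂ : Subgroup G} {a : G} (h1 : ∀ κ ∈ K₁, a * κ * a⁻¹ ∈ K₁)
    (h2 : ∀ κ ∈ K₂, a * κ * a⁻¹ ∈ K₂) : ∀ κ ∈ K₁ ⊔ K₂, a * κ * a⁻¹ ∈ K₁ ⊔ K₂ := by
  intro κ hκ
  have : K₁ ⊔ K₂ ≤ (K₁ ⊔ K₂).comap (MulAut.conj a).toMonoidHom :=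
    sup_le (fun k hk => Subgroup.mem_sup_left (h1 k hk)) fun k hk => Subgroup.mem_sup_right (h2 k hk)
  exact this hκ

/-- Alperin-type induction for two invariant subsystems -/
theorem frattini_ind2 [Finite S] [Fact p.Prime] (hS : IsPGroup p S) (hF : F.IsSaturated p)
    (hE₁ : E₁.IsInvariantIn F) (hE₂ : E₂.IsInvariantIn F) {X : FusionSystem S}
    (h1 : ∀ (R : Subgroup Ω) (f : Ω → Ω), T₁ ⊔ T₂ ≤ R → IsMap F R f → IsMap X R f)
    (h2 : ∀ (R : Subgroup Ω) (hR : R ≤ S), F.IsFullyNormalized R → F.IsCentric R → F.IsRadical p R →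
      ∀ κ ∈ kR E₁ F R hE₁.2.1 hR, (orderOf κ).Coprime p → IsMap X R (ofAut κ))
    (h3 : ∀ (R : Subgroup Ω) (hR : R ≤ S), F.IsFullyNormalized R → F.IsCentric R → F.IsRadical p R →
      ∀ κ ∈ kR E₂ F R hE₂.2.1 hR, (orderOf κ).Coprime p → IsMap X R (ofAut κ))
    (h4 : ∀ (R : Subgroup Ω) (hR : R ≤ S), F.IsFullyNormalized R → F.IsCentric R → F.IsRadical p R →
      ∀ t ∈ T₁ ⊔ T₂, ∀ ht : t ∈ Subgroup.normalizer (R : Set Ω),
        conjAut t ht ∈ kR E₁ F R hE₁.2.1 hR ⊔ kR E₂ F R hE₂.2.1 hR) : F ≤ X := by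
  refine alperin_radical_ind hS hF fun R hRn hRc hRr IH α hα => ?_
  have hRS := hRn.1
  have hT₁ := hE₁.2.1
  have hT₂ := hE₂.2.1
  have hT := sc_sup hS hF hT₁ hT₂
  rw [mem_autGroup_iff hRS]
  by_cases hTR : T₁ ⊔ T₂ ≤ R
  · exact h1 R _ hTR (isMap_ofAut hRS hα)
  have hfinR := finite_of_le hRS
  have hfinA := finite_mulAut (P := R)
  set K₁ := kR E₁ F R hT₁ hRS with hK₁
  set K₂ := kR E₂ F R hT₂ hRS with hK₂
  have hKn₁ : ∀ α ∈ F.autGroup R, ∀ κ ∈ K₁, α * κ * α⁻¹ ∈ K₁ := fun α hα κ hκ => kR_conj hE₁ hα hκ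
  have hKn₂ : ∀ α ∈ F.autGroup R, ∀ κ ∈ K₂, α * κ * α⁻¹ ∈ K₂ := fun α hα κ hκ => kR_conj hE₂ hα hκ
  have hKn : ∀ α ∈ F.autGroup R, ∀ κ ∈ K₁ ⊔ K₂, α * κ * α⁻¹ ∈ K₁ ⊔ K₂ := fun α hα =>
    sup_conj_mem (hKn₁ α hα) (hKn₂ α hα)
  have hKF : K₁ ⊔ K₂ ≤ F.autGroup R := sup_le kR_le kR_le
  have hSyl := fa_sylIn (sat_fullyAutomized hS hF hRn)
  have hA : H85.SylIn p (autInducedBy S R ⊓ (K₁ ⊔ K₂)) (K₁ ⊔ K₂) :=
    hSyl.inf_normal hKF (conj_le_normalizer_of hKn)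
  set A := autInducedBy S R ⊓ (K₁ ⊔ K₂) with hAdef
  have hcj : H85.cj α A ≤ K₁ ⊔ K₂ := by
    rintro _ ⟨a, ha, rfl⟩
    exact hKn α hα a ha.2
  obtain ⟨k, hk, hkA⟩ := hA.exists_cj_le hcj (isPGroup_cj hA.isPGroup)
  rw [cj_cj] at hkA
  have hν : k * α ∈ Subgroup.normalizer (A : Set (MulAut R)) := by
    rw [mem_normalizer_iff_cj]
    exact Subgroup.eq_of_le_of_card_ge hkA (card_cj _).ge
  have hνF : k * α ∈ F.autGroup R := Subgroup.mul_mem _ (hKF hk) hα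
  -- `K ≤ Aut_X(R)`
  have hKX : K₁ ⊔ K₂ ≤ X.autGroup R := by
    refine sup_le ?_ ?_
    · refine sylIn_le_of_pprime (hSyl.inf_normal kR_le (conj_le_normalizer_of hKn₁))
        (inf_le_left.trans (autInducedBy_le_autGroup hRS)) fun κ hκ hco => ?_
      rw [mem_autGroup_iff hRS]
      exact h2 R hRS hRn hRc hRr κ hκ hco
    · refine sylIn_le_of_pprime (hSyl.inf_normal kR_le (conj_le_normalizer_of hKn₂))
        (inf_le_left.trans (autInducedBy_le_autGroup hRS)) fun κ hκ hco => ?_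
      rw [mem_autGroup_iff hRS]
      exact h3 R hRS hRn hRc hRr κ hκ hco
  -- `kα` extends
  have hνX : k * α ∈ X.autGroup R := by
    rw [mem_autGroup_iff hRS]
    have hm := isMap_ofAut hRS hνF
    set N := (T₁ ⊔ T₂) ⊓ Subgroup.normalizer (R : Set Ω) with hN
    obtain ⟨g, hg, hgα⟩ := recep_exists_extend_of_le (sat_receptive' hS hF hRn) hm (img_ofAut _)
      (le_sup_left : R ≤ R ⊔ N) (by
        have hle : R ⊔ N ≤ extender S R hm.hom := by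
          refine sup_le (le_extender_hom hm) fun t ht => (mem_extender_hom hm).2 ?_
          refine inExt_of_conj_mem (hT.1 ht.1) (β := conjAut t ht.2) (fun x hx => ofAut_conjAut _ _ hx) ?_
          have h3 : conjAut t ht.2 ∈ A := ⟨conjAut_mem (hT.1 ht.1) ht.2, h4 R hRS hRn hRc hRr t ht.1 ht.2⟩
          exact ((Subgroup.mem_normalizer_iff.1 hν _).1 h3).1
        exact fun n hn => (mem_extender_hom hm).1 (hle hn))
    have hlt : R < R ⊔ N := lt_sup_inf_normalizer hS hRS hT.1 (hRS.trans (sc_le_normalizer hT)) hTR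
    exact ((IH _ g (card_lt_of_lt hg.le hlt) hg).mono le_sup_left).congr hgα
  have h3 := Subgroup.mul_mem _ (Subgroup.inv_mem _ (hKX hk)) hνX
  rw [inv_mul_cancel_left] at h3
  exact (mem_autGroup_iff hRS).1 h3

/-- automorphisms of `R` trivial modulo `T` acting on `R ⊓ T` as elements of `R` -/
def kW (F : FusionSystem S) (T R : Subgroup Ω) (hT : F.StronglyClosed T) (hR : R ≤ S) : Subgroup (MulAut R) where
  carrier := {κ | κ ∈ actsTrivMod F T R hT hR ∧ ∃ r ∈ R, ∀ x ∈ R ⊓ T, ofAut κ x = r * x * r⁻¹}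
  one_mem' := ⟨Subgroup.one_mem _, 1, R.one_mem, fun x hx => by rw [ofAut_one hx.1]; group⟩
  mul_mem' := by
    rintro a b ⟨ha, r, hr, hra⟩ ⟨hb, s, hs, hsb⟩
    refine ⟨Subgroup.mul_mem _ ha hb, r * s, R.mul_mem hr hs, fun x hx => ?_⟩
    have h1 : s * x * s⁻¹ ∈ R ⊓ T := ⟨R.mul_mem (R.mul_mem hs hx.1) (R.inv_mem hs), sc_conj_mem hT (hR hs) hx.2⟩
    rw [ofAut_mul a b hx.1, hsb x hx, hra _ h1]
    group
  inv_mem' := by
    rintro a ⟨ha, r, hr, hra⟩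
    refine ⟨Subgroup.inv_mem _ ha, r⁻¹, R.inv_mem hr, fun x hx => ?_⟩
    have h1 : r⁻¹ * x * r⁻¹⁻¹ ∈ R ⊓ T := ⟨R.mul_mem (R.mul_mem (R.inv_mem hr) hx.1) (R.inv_mem (R.inv_mem hr)),
      sc_conj_mem hT (S.inv_mem (hR hr)) hx.2⟩
    have h2 : ofAut a (r⁻¹ * x * r⁻¹⁻¹) = x := by rw [hra _ h1]; group
    have h3 := ofAut_inv_apply a h1.1
    rw [h2] at h3
    exact h3

theorem kW_conj {R : Subgroup Ω} (hT : F.StronglyClosed T) (hR : R ≤ S) {α κ : MulAut R}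
    (hα : α ∈ F.autGroup R) (hκ : κ ∈ kW F T R hT hR) : α * κ * α⁻¹ ∈ kW F T R hT hR := by
  obtain ⟨h1, r, hr, h2⟩ := hκ
  refine ⟨actsTrivMod_conj hT hR hα h1, ofAut α r, ofAut_mem α hr, fun x hx => ?_⟩
  have h3 : ofAut α⁻¹ x ∈ R ⊓ T := ⟨ofAut_mem _ hx.1,
    sc_map_mem hT (isMap_ofAut hR (Subgroup.inv_mem _ hα)) hx.1 hx.2⟩
  have hm := isMap_ofAut hR hα
  rw [ofAut_mul _ _ hx.1, ofAut_mul _ _ (ofAut_mem _ hx.1), h2 _ h3, hm.map_conj hr h3.1, ofAut_apply_inv α hx.1]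

theorem kW_isPGroup [Finite S] [Fact p.Prime] (hS : IsPGroup p S) {R : Subgroup Ω} (hT : F.StronglyClosed T)
    (hR : R ≤ S) : IsPGroup p (kW F T R hT hR) := by
  have hfinR := finite_of_le hR
  have hfinA := finite_mulAut (P := R)
  obtain ⟨N, hN⟩ := IsPGroup.iff_card.1 hS
  have hpow : ∀ x ∈ S, x ^ p ^ N = 1 := fun x hx => by rw [← hN, pow_card_eq_one_of_mem hx]
  rintro ⟨κ, hκ⟩
  obtain ⟨i, j, hij, ⟨a, ha⟩, hco⟩ := exists_p_mul_pprime (p := p) κ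
  suffices h1 : κ ^ j = 1 by
    rw [h1, mul_one] at hij
    refine ⟨a, Subtype.ext ?_⟩
    show κ ^ p ^ a = 1
    rw [hij]; exact ha
  obtain ⟨h2, r, hr, h3⟩ := Subgroup.pow_mem _ hκ j
  have h5 : (κ ^ j) ^ orderOf (κ ^ j) = 1 := pow_orderOf_eq_one _
  have hcoN : (orderOf (κ ^ j)).Coprime (p ^ N) := Nat.Coprime.pow_right _ hco
  -- trivial on `R ⊓ T`
  have h4 : ∀ x ∈ R ⊓ T, ofAut (κ ^ j) x = x := by
    have h6 : ∀ n : ℕ, ∀ x ∈ R ⊓ T, ofAut ((κ ^ j) ^ n) x = r ^ n * x * (r ^ n)⁻¹ := by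
      intro n
      induction n with
      | zero => intro x hx; rw [pow_zero, pow_zero, ofAut_one hx.1]; group
      | succ n ih =>
        intro x hx
        have h7 : r ^ n * x * (r ^ n)⁻¹ ∈ R ⊓ T := ⟨R.mul_mem (R.mul_mem (R.pow_mem hr n) hx.1)
          (R.inv_mem (R.pow_mem hr n)), sc_conj_mem hT (hR (R.pow_mem hr n)) hx.2⟩
        rw [ofAut_pow_succ _ n hx.1, ih x hx, h3 _ h7, pow_succ']
        group
    have h8 : r ^ p ^ N = 1 := hpow r (hR hr)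
    obtain ⟨u, hu⟩ : ∃ u : ℕ, (κ ^ j) ^ (p ^ N * u) = κ ^ j := by
      obtain ⟨u, hu⟩ := exists_pow_eq_self_of_coprime hcoN.symm
      exact ⟨u, by rw [pow_mul]; exact hu⟩
    intro x hx
    have h10 := h6 (p ^ N * u) x hx
    rw [hu, pow_mul, h8, one_pow] at h10
    rw [h10]; group
  refine ofAut_injective fun x hx => ?_
  rw [ofAut_one hx]
  refine coprime_fix (P := R) (κ := κ ^ j) (A := R ⊓ T) (B := R) le_rfl inf_le_left h4 (fun b hb => ?_) h5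
    (fun a ha => hpow a (hR ha.1)) hcoN x hx
  refine ⟨R.mul_mem (R.inv_mem hb) (ofAut_mem _ hb), ?_⟩
  have h6 := sc_conj_mem hT (S.inv_mem (hR hb)) (h2.2 b hb)
  have e : b⁻¹ * (ofAut (κ ^ j) b * b⁻¹) * b⁻¹⁻¹ = b⁻¹ * ofAut (κ ^ j) b := by group
  rwa [e] at h6

/-- `R ⊓ T₁T₂ = (R ⊓ T₁)(R ⊓ T₂)` for `R` centric radical -/
theorem left_mem_of_mul_mem [Finite S] [Fact p.Prime] (hS : IsPGroup p S) (h₁ : F.StronglyClosed T₁)
    (h₂ : F.StronglyClosed T₂) (hc : Comm T₁ T₂) {R : Subgroup Ω} (hRS : R ≤ S) (hRc : F.IsCentric R)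
    (hRr : F.IsRadical p R) {a b : Ω} (ha : a ∈ T₁) (hb : b ∈ T₂) (hab : a * b ∈ R) : a ∈ R := by
  set W := prL T₁ T₂ (R ⊓ (T₁ ⊔ T₂)) with hW
  have hmem : ∀ {x : Ω}, x ∈ W ↔ x ∈ T₁ ∧ ∃ y ∈ T₂, x * y ∈ R := by
    intro x
    rw [hW, hc.mem_prL inf_le_right]
    refine and_congr_right fun hx => exists_congr fun y => and_congr_right fun hy => ?_
    exact ⟨fun h => h.1, fun h => ⟨h, Subgroup.mul_mem _ (Subgroup.mem_sup_left hx) (Subgroup.mem_sup_right hy)⟩⟩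
  have hWT : W ≤ T₁ := fun x hx => (hmem.1 hx).1
  have hWS : W ≤ S := hWT.trans h₁.1
  suffices h : W ≤ R from h (hmem.2 ⟨ha, b, hb, hab⟩)
  by_contra hne
  have hfW := finite_of_le hWS
  have hRW : R ≤ Subgroup.normalizer (W : Set Ω) := by
    intro r hr
    refine mem_normalizer_of_conj fun x hx => ?_
    obtain ⟨hx1, y, hy, hxy⟩ := hmem.1 hx
    refine hmem.2 ⟨sc_conj_mem h₁ (hRS hr) hx1, r * y * r⁻¹, sc_conj_mem h₂ (hRS hr) hy, ?_⟩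
    have e : r * x * r⁻¹ * (r * y * r⁻¹) = r * (x * y) * r⁻¹ := by group
    rw [e]
    exact R.mul_mem (R.mul_mem hr hxy) (R.inv_mem hr)
  have hlt := lt_sup_inf_normalizer hS hRS hWS hRW hne
  apply hlt.not_ge
  refine sup_le le_rfl ?_
  rintro w ⟨hw, hwn⟩
  obtain ⟨hw1, y, hy, hwy⟩ := hmem.1 hw
  have h1 : conjAut w hwn ∈ kW F T₁ R h₁ hRS := by
    refine ⟨⟨conjAut_mem_autGroup hRS (hWS hw) hwn, fun x hx => ?_⟩, w * y, hwy, fun x hx => ?_⟩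
    · rw [ofAut_conjAut _ _ hx]
      have h1 := sc_conj_mem h₁ (hRS hx) (T₁.inv_mem hw1)
      have := T₁.mul_mem hw1 h1
      have e : w * x * w⁻¹ * x⁻¹ = w * (x * w⁻¹ * x⁻¹) := by group
      rwa [e]
    · rw [ofAut_conjAut _ _ hx.1]
      have h2 := hc x hx.2 y hy
      calc w * x * w⁻¹ = w * (x * y) * y⁻¹ * w⁻¹ := by group
        _ = w * (y * x) * y⁻¹ * w⁻¹ := by rw [h2]
        _ = _ := by group
  have h2 := radical_le hRr (fun _ (h : _ ∈ kW F T₁ R h₁ hRS) => h.1.1) (fun α hα κ hκ => kW_conj h₁ hRS hα hκ) (kW_isPGroup hS h₁ hRS) h1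
  rw [inn_eq_autInducedBy, mem_autInducedBy] at h2
  obtain ⟨b, hb, hb'⟩ := h2
  have h2 : b⁻¹ * w ∈ FusionSystem.centralizerIn S R := by
    rw [mem_centralizerIn]
    refine ⟨S.mul_mem (S.inv_mem (hRS hb)) (hWS hw), fun z hz => ?_⟩
    have h3 := hb' ⟨z, hz⟩
    rw [coe_conjAut] at h3
    simp only at h3
    calc z * (b⁻¹ * w) = b⁻¹ * (b * z * b⁻¹) * w := by group
      _ = b⁻¹ * (w * z * w⁻¹) * w := by rw [h3]
      _ = _ := by group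
  have h3 := centric_centralizer_le hRc h2
  have h4 : w = b * (b⁻¹ * w) := by group
  rw [h4]
  exact R.mul_mem hb h3

end Cfsg.Agent.Fus
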