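import Cfsg.Agent.Fus.Lay4
import Cfsg.Agent.Fus.CoreNorm
set_option autoImplicit false
set_option linter.unusedSectionVars false
set_option linter.unusedVariables false

/-!
# Strongly closed subgroups meeting `O^p`-perfect normal subsystems in the centre (helper85)
-/

namespace Cfsg.Agent.Fus

open Cfsg Cfsg.FusionSystem Cfsg.Agent.H85

variable {Ω : Type*} [Group Ω] {S T U : Subgroup Ω} {F : FusionSystem S} {E : FusionSystem T}
  {D : FusionSystem U} {p : ℕ}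

/-- `E`-radical subgroups are preserved by the maps of `F` -/
theorem radical_inv [Finite S] (hS : IsPGroup p S) (hE : E.IsInvariantIn F) {P : Subgroup Ω} (h : E.IsRadical p P)
    {f : Ω → Ω} (hf : IsMap F P f) : E.IsRadical p (img P f) := by
  have hTS := hE.2.1.1
  have hfT := finite_of_le hTS
  have hPT := h.1
  have hQT : img P f ≤ T := hf.img_le_iff.2 fun x hx => sc_map_mem hE.2.1 hf hx (hPT hx)
  refine ⟨hQT, le_antisymm ?_ (inn_le_opAut (isPGroup_of_le hS hTS) hQT)⟩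
  intro κ hκ
  have hκ' : κ ∈ opAut E p (img P f) := hκ
  have hm := hf.minv_isMap
  have h1 : hm.trans hf.img_minv κ ∈ opAut E p P := opAut_equi hE hQT hm hf.img_minv hκ'
  rw [opAut, h.2, inn_eq_autInducedBy, mem_autInducedBy'] at h1
  obtain ⟨g, hg, h2⟩ := h1
  rw [inn_eq_autInducedBy, mem_autInducedBy']
  refine ⟨f g, subset_img hg, fun y hy => ?_⟩
  obtain ⟨x, hx, rfl⟩ := hf.mem_img.1 hy
  have h3 := h2 x hx
  have h4 := hm.ofAut_trans hf.img_minv κ hy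
  rw [hf.minv_apply hx] at h4
  rw [h4] at h3
  have h5 := congrArg f h3
  rw [hf.apply_minv (ofAut_mem κ hy), hf.map_conj hg hx] at h5
  exact h5

variable {Y : Subgroup Ω}

theorem center_le_of_centric (hZ : E.IsCentral E.center) {P : Subgroup Ω} (hP : E.IsCentric P) : E.center ≤ P := fun z hz =>
  centric_centralizer_le hP (mem_centralizerIn.2 ⟨hZ.1 hz, fun y hy => E.center_le_centralizer hz y (hP.1 hy)⟩)

/-- extension of the `p'`-automorphisms fixing `Y` -/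
theorem ext_fix_aux [Finite S] [Fact p.Prime] (hS : IsPGroup p S) (hEF : E.IsNormalIn F p) (hY : F.StronglyClosed Y)
    (hYT : Y ⊓ T ≤ E.center) {P : Subgroup Ω} (hPn : F.IsFullyNormalized P) (hPc : E.IsCentric P)
    (hPr : E.IsRadical p P) {α : MulAut P} (hα : α ∈ E.autGroup P) (hco : (orderOf α).Coprime p) :
    ∃ g, IsMap F (P ⊔ Y) g ∧ (∀ x ∈ P, g x = ofAut α x) ∧ ∀ y ∈ Y, g y = y := by
  have hF := (isNormalIn_iff_ext.1 hEF).1.2.1
  have hE := (isNormalIn_iff_ext.1 hEF).1.2.2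
  have hTS := hE.2.1.1
  have hfT := finite_of_le hTS
  have hYS := hY.1
  have hPT := hPc.1
  have hPS := hPT.trans hTS
  have hfP := finite_of_le hPS
  have hZc := Join.isCentral_center E
  have hZP := center_le_of_centric hZc hPc
  have hPf := sat_fullyCentralized hS hF hPn
  -- commutators
  have hcom : ∀ y ∈ Y, ∀ x ∈ P, y * x * y⁻¹ * x⁻¹ ∈ Y ⊓ T := by
    intro y hy x hx
    have h1 := Y.mul_mem hy (sc_conj_mem hY (hPS hx) (Y.inv_mem hy))
    have e : y * (x * y⁻¹ * x⁻¹) = y * x * y⁻¹ * x⁻¹ := by group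
    rw [e] at h1
    exact ⟨h1, T.mul_mem (sc_conj_mem hE.2.1 (hYS hy) (hPT hx)) (T.inv_mem (hPT hx))⟩
  have hYN : ∀ y ∈ Y, y ∈ normalizerIn S P := fun y hy => ⟨hYS hy, mem_normalizer_of_conj fun x hx => by
    have := P.mul_mem (hZP (hYT (hcom y hy x hx))) hx
    rwa [inv_mul_cancel_right] at this⟩
  obtain ⟨κ, hκ, hκα⟩ := exists_pgood hS hEF hPc hα hco
  -- the correction
  let N : Subgroup (MulAut P) :=
    { carrier := {κ | κ ∈ E.autGroup P ∧ ∀ x ∈ P, x⁻¹ * ofAut κ x ∈ Y ⊓ T}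
      one_mem' := ⟨Subgroup.one_mem _, fun x hx => by
        rw [ofAut_one hx, inv_mul_cancel]; exact Subgroup.one_mem _⟩
      mul_mem' := by
        rintro κ μ ⟨h1, h3⟩ ⟨k1, k3⟩
        refine ⟨Subgroup.mul_mem _ h1 k1, fun x hx => ?_⟩
        rw [ofAut_mul _ _ hx]
        have e : x⁻¹ * ofAut κ (ofAut μ x) = (x⁻¹ * ofAut μ x) * ((ofAut μ x)⁻¹ * ofAut κ (ofAut μ x)) := by group
        rw [e]
        exact Subgroup.mul_mem _ (k3 x hx) (h3 _ (ofAut_mem μ hx))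
      inv_mem' := by
        rintro κ ⟨h1, h3⟩
        refine ⟨Subgroup.inv_mem _ h1, fun x hx => ?_⟩
        have h5 := h3 _ (ofAut_mem κ⁻¹ hx)
        rw [ofAut_apply_inv κ hx] at h5
        have e : x⁻¹ * ofAut κ⁻¹ x = ((ofAut κ⁻¹ x)⁻¹ * x)⁻¹ := by group
        rw [e]
        exact Subgroup.inv_mem _ h5 }
  have hEfix : ∀ {μ : MulAut P}, μ ∈ E.autGroup P → ∀ z ∈ Y ⊓ T, ofAut μ z = z := fun {μ} hμ z hz =>
    IsFac.central_fixes hZc (isMap_ofAut hPT hμ) (hZP (hYT hz)) (hYT hz)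
  have hNle : N ≤ E.autGroup P := fun _ h => h.1
  have hNp : IsPGroup p N := by
    rintro ⟨μ, h1, h3⟩
    obtain ⟨k, hk⟩ := pow_eq_one_of_stab hS hPS (Q := Y ⊓ T) (fun z hz => hZP (hYT hz)) (fun z hz => hEfix h1 z hz) h3
    exact ⟨k, Subtype.ext hk⟩
  have hNn : ∀ a ∈ E.autGroup P, ∀ ν ∈ N, a * ν * a⁻¹ ∈ N := by
    rintro a ha ν ⟨h1, h3⟩
    refine ⟨Subgroup.mul_mem _ (Subgroup.mul_mem _ ha h1) (Subgroup.inv_mem _ ha), fun x hx => ?_⟩
    have hy := ofAut_mem a⁻¹ hx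
    have h4 := h3 _ hy
    have h5 := hEfix ha _ h4
    rw [ofAut_map_mul a (P.inv_mem hy) (ofAut_mem ν hy), ofAut_map_inv' a hy, ofAut_apply_inv a hx] at h5
    rw [ofAut_mul _ _ hx, ofAut_mul _ _ hy, h5]
    exact h4
  have hcorr : ∀ y ∈ Y, ∃ t ∈ P, ∀ x ∈ P, ofAut α (y * x * y⁻¹) = (t * y) * ofAut α x * (t * y)⁻¹ := by
    intro y hy
    have hyN := (hYN y hy).2
    have hyF : conjAut y hyN ∈ F.autGroup P := conjAut_mem_autGroup hPS (hYS hy) hyN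
    have hval : ∀ x ∈ P, ofAut (α * (conjAut y hyN * α⁻¹ * (conjAut y hyN)⁻¹)) (y * ofAut α x * y⁻¹) =
        ofAut α (y * x * y⁻¹) := by
      intro x hx
      have h3 := ofAut_mem α hx
      have e : y * ofAut α x * y⁻¹ = ofAut (conjAut y hyN) (ofAut α x) := (ofAut_conjAut y hyN h3).symm
      have h4 := ofAut_mem (conjAut y hyN) h3
      rw [e, ofAut_mul _ _ h4, ofAut_mul _ _ h4, ofAut_inv_apply _ h3, ofAut_mul _ _ h3, ofAut_inv_apply _ hx,
        ofAut_conjAut y hyN hx]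
    have hγ : α * (conjAut y hyN * α⁻¹ * (conjAut y hyN)⁻¹) ∈ N := by
      refine ⟨Subgroup.mul_mem _ hα (inv_normal hE hPT hyF (Subgroup.inv_mem _ hα)), fun x hx => ?_⟩
      -- `x = y α(w) y⁻¹`
      have hx1 : y⁻¹ * x * y ∈ P := by
        have := (Subgroup.mem_normalizer_iff.1 (Subgroup.inv_mem _ hyN) x).1 hx
        rwa [inv_inv] at this
      have hw := ofAut_mem α⁻¹ hx1
      have h4 := hval _ hw
      rw [ofAut_apply_inv α hx1] at h4
      have e : y * (y⁻¹ * x * y) * y⁻¹ = x := by group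
      rw [e] at h4
      rw [h4]
      have hyw : y * ofAut α⁻¹ (y⁻¹ * x * y) * y⁻¹ ∈ P := (Subgroup.mem_normalizer_iff.1 hyN _).1 hw
      -- `α (y w y⁻¹ w⁻¹) = y w y⁻¹ w⁻¹`
      have h5 := hcom y hy _ hw
      have h6 := hEfix hα _ h5
      rw [ofAut_map_mul α hyw (P.inv_mem hw), ofAut_map_inv' α hw, ofAut_apply_inv α hx1] at h6
      have h7 := hcom y hy _ hx1
      rw [e] at h7
      rw [← h6] at h5
      have h8 := Subgroup.mul_mem _ (Subgroup.inv_mem _ h7) h5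
      -- `(x (y⁻¹xy)⁻¹)⁻¹ * (α(..) * (y⁻¹ x y)⁻¹)`
      have h9 : (x * (y⁻¹ * x * y)⁻¹)⁻¹ * (ofAut α (y * ofAut α⁻¹ (y⁻¹ * x * y) * y⁻¹) * (y⁻¹ * x * y)⁻¹) =
          (y⁻¹ * x * y) * (x⁻¹ * ofAut α (y * ofAut α⁻¹ (y⁻¹ * x * y) * y⁻¹)) * (y⁻¹ * x * y)⁻¹ := by group
      rw [h9] at h8
      have hz := Subgroup.mul_mem _ (hYT h8) (Subgroup.one_mem _)
      have hc := E.center_le_centralizer (hYT h8) (y⁻¹ * x * y)⁻¹ (T.inv_mem (hPT hx1))
      have h10 : x⁻¹ * ofAut α (y * ofAut α⁻¹ (y⁻¹ * x * y) * y⁻¹) =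
          (y⁻¹ * x * y)⁻¹ * ((y⁻¹ * x * y) * (x⁻¹ * ofAut α (y * ofAut α⁻¹ (y⁻¹ * x * y) * y⁻¹)) *
            (y⁻¹ * x * y)⁻¹) * (y⁻¹ * x * y)⁻¹⁻¹ := by group
      rw [h10, hc, mul_inv_cancel_right]
      exact h8
    have h6 : α * (conjAut y hyN * α⁻¹ * (conjAut y hyN)⁻¹) ∈ Inn P := by
      have := le_opAut hNle hNp hNn hγ
      rw [opAut, hPr.2] at this
      exact this
    rw [inn_eq_autInducedBy, mem_autInducedBy'] at h6
    obtain ⟨t, ht, htx⟩ := h6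
    refine ⟨t, ht, fun x hx => ?_⟩
    have h3 := ofAut_mem α hx
    have h4 : y * ofAut α x * y⁻¹ ∈ P := (Subgroup.mem_normalizer_iff.1 hyN _).1 h3
    rw [← hval x hx, htx _ h4]
    group
  have hcorr' : ∀ y ∈ Y, ∃ t ∈ P, ∀ x ∈ P, ofAut κ (y * x * y⁻¹) = (t * y) * ofAut κ x * (t * y)⁻¹ := by
    intro y hy
    obtain ⟨t, ht, htx⟩ := hcorr y hy
    refine ⟨t, ht, fun x hx => ?_⟩
    rw [hκα _ ((Subgroup.mem_normalizer_iff.1 (hYN y hy).2 x).1 hx), hκα x hx, htx x hx]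
  obtain ⟨κ', hκ', hκ'o, hκ'R, hκ'B⟩ := exists_lift_ext hS hF hPf (B := Y) hκ.memF hκ.good.mem
    hκ.good.triv hκ.co hYN (fun y hy => by
      obtain ⟨t, ht, htx⟩ := hcorr' y hy
      refine ⟨t * y, Subgroup.mul_mem _ (le_sup_left (a := P ⊔ centralizerIn S P) (le_sup_left (a := P) ht))
        (le_sup_right (a := P ⊔ centralizerIn S P) hy), htx, fun c hc => ?_⟩
      have h1 := cen_conj (hYN y hy).2 hc (S.mul_mem (S.mul_mem (hYS hy) (mem_centralizerIn.1 hc).1)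
        (S.inv_mem (hYS hy)))
      have h2 := (mem_centralizerIn.1 h1).2 t ht
      have e : t * y * c * (t * y)⁻¹ * (y * c * y⁻¹)⁻¹ = t * (y * c * y⁻¹) * t⁻¹ * (y * c * y⁻¹)⁻¹ := by group
      rw [e, h2]
      have e2 : y * c * y⁻¹ * t * t⁻¹ * (y * c * y⁻¹)⁻¹ = 1 := by group
      rw [e2]; exact P.one_mem)
  have hRS : P ⊔ centralizerIn S P ≤ S := sup_le hPS (centralizerIn_le P)
  have hWS : P ⊔ centralizerIn S P ⊔ Y ≤ S := sup_le hRS hYS
  have hPR : P ≤ P ⊔ centralizerIn S P := le_sup_left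
  have hCR : centralizerIn S P ≤ P ⊔ centralizerIn S P := le_sup_right
  have hRW : P ⊔ centralizerIn S P ≤ P ⊔ centralizerIn S P ⊔ Y := le_sup_left
  have hYW : Y ≤ P ⊔ centralizerIn S P ⊔ Y := le_sup_right
  have hm := isMap_ofAut hWS hκ'
  obtain ⟨e, he⟩ := exists_exp hS
  have hfixZ : ∀ z ∈ Y ⊓ T, ofAut κ' z = z := fun z hz => by
    have hzP := hZP (hYT hz)
    rw [hκ'R z (hPR hzP), hκα z hzP]; exact hEfix hα z hz
  have hfix1 : ∀ y ∈ Y ⊓ (P ⊔ centralizerIn S P), ofAut κ' y = y := by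
    refine coprime_fix (κ := κ') (A := Y ⊓ T) (fun y hy => hYW hy.1)
      (fun z hz => ⟨hz.1, hPR (hZP (hYT hz))⟩) hfixZ (fun y hy => ?_) (pow_orderOf_eq_one κ') (N := p ^ e)
      (fun a ha => he a (hYS ha.1)) (Nat.Coprime.pow_right _ hκ'o)
    refine ⟨Y.mul_mem (Y.inv_mem hy.1) (sc_map_mem hY hm (hYW hy.1) hy.1), ?_⟩
    rw [hκ'R y hy.2]
    exact hPT (hκ.good.triv_sup hy.2)
  have hfix2 : ∀ y ∈ Y, ofAut κ' y = y := by
    refine coprime_fix (κ := κ') (A := Y ⊓ (P ⊔ centralizerIn S P)) hYW inf_le_left hfix1 (fun y hy => ?_)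
      (pow_orderOf_eq_one κ') (N := p ^ e) (fun a ha => he a (hYS ha.1)) (Nat.Coprime.pow_right _ hκ'o)
    refine ⟨Y.mul_mem (Y.inv_mem hy) (sc_map_mem hY hm (hYW hy) hy), ?_⟩
    obtain ⟨t, ht, htx⟩ := hcorr' y hy
    have h1 := hκ'B y hy (t * y) (S.mul_mem (hPS ht) (hYS hy)) htx
    have h2 : y⁻¹ * t * y ∈ P := by
      have := (Subgroup.mem_normalizer_iff.1 (Subgroup.inv_mem _ (hYN y hy).2) t).1 ht
      rwa [inv_inv] at this
    have h3 := Subgroup.mul_mem _ (hPR h2) (hCR h1)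
    have e3 : y⁻¹ * t * y * ((t * y)⁻¹ * ofAut κ' y) = y⁻¹ * ofAut κ' y := by group
    rwa [e3] at h3
  exact ⟨ofAut κ', hm.mono (sup_le (hPR.trans hRW) hYW), fun x hx => by rw [hκ'R x (hPR hx), hκα x hx], hfix2⟩

/-- the same without the assumption that `P` is fully normalized -/
theorem ext_fix [Finite S] [Fact p.Prime] (hS : IsPGroup p S) (hEF : E.IsNormalIn F p) (hY : F.StronglyClosed Y)
    (hYT : Y ⊓ T ≤ E.center) {P : Subgroup Ω} (hPc : E.IsCentric P)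
    (hPr : E.IsRadical p P) {α : MulAut P} (hα : α ∈ E.autGroup P) (hco : (orderOf α).Coprime p) :
    ∃ g, IsMap F (P ⊔ Y) g ∧ (∀ x ∈ P, g x = ofAut α x) ∧ ∀ y ∈ Y, g y = y := by
  have hF := (isNormalIn_iff_ext.1 hEF).1.2.1
  have hE := (isNormalIn_iff_ext.1 hEF).1.2.2
  have hTS := hE.2.1.1
  have hfT := finite_of_le hTS
  have hYS := hY.1
  have hPT := hPc.1
  have hPS := hPT.trans hTS
  have hfP := finite_of_le hPS
  have hZP := center_le_of_centric (Join.isCentral_center E) hPc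
  have hYN : Y ≤ normalizerIn S P := fun y hy => ⟨hYS hy, mem_normalizer_of_conj fun x hx => by
    have h1 := Y.mul_mem hy (sc_conj_mem hY (hPS hx) (Y.inv_mem hy))
    have e : y * (x * y⁻¹ * x⁻¹) = y * x * y⁻¹ * x⁻¹ := by group
    rw [e] at h1
    have := P.mul_mem (hZP (hYT ⟨h1, T.mul_mem (sc_conj_mem hE.2.1 (hYS hy) (hPT hx)) (T.inv_mem (hPT hx))⟩)) hx
    rwa [inv_mul_cancel_right] at this⟩
  obtain ⟨Q, hPQ, hQn⟩ := exists_fullyNormalized (F := F) hPS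
  obtain ⟨χ, hχ, himg, -⟩ := sat_exists_normalizer_map hS hF hQn hPQ
  have hPN := le_normalizerIn hPS
  have hχP := hχ.mono hPN
  have hχW := hχ.mono (sup_le hPN hYN)
  have hQc : E.IsCentric Q := himg ▸ eCentric_img hE hPc hχP
  have hQr : E.IsRadical p Q := himg ▸ radical_inv hS hE hPr hχP
  have hα' : hχP.trans himg α ∈ E.autGroup Q := inv_trans_mem hE hPT hχP himg hα
  obtain ⟨g, hg, hgα, hgY⟩ := ext_fix_aux hS hEF hY hYT hQn hQc hQr hα' (by rw [orderOf_trans]; exact hco)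
  have hχY : ∀ y ∈ Y, χ y ∈ Y := fun y hy => sc_map_mem hY hχ (hYN hy) hy
  have hPW : P ≤ P ⊔ Y := le_sup_left
  have hYW : Y ≤ P ⊔ Y := le_sup_right
  have hχPQ : ∀ x ∈ P, χ x ∈ Q := fun x hx => by rw [← himg]; exact subset_img hx
  have h1 : ∀ x ∈ P ⊔ Y, χ x ∈ Q ⊔ Y := hχW.forall_sup_mem (fun x hx => le_sup_left (a := Q) (hχPQ x hx))
    fun y hy => le_sup_right (a := Q) (hχY y hy)
  have h2 : IsMap F (P ⊔ Y) (fun x => g (χ x)) := hg.comp hχW h1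
  have h3 : ∀ x ∈ P ⊔ Y, g (χ x) ∈ img (P ⊔ Y) χ := h2.forall_sup_mem (fun x hx => by
      rw [hgα _ (hχPQ x hx), hχP.ofAut_trans himg α hx]
      exact subset_img (hPW (ofAut_mem α hx))) fun y hy => by
      rw [hgY _ (hχY y hy)]; exact subset_img (hYW hy)
  refine ⟨fun x => minv (P ⊔ Y) χ (g (χ x)), hχW.minv_isMap.comp h2 h3, fun x hx => ?_, fun y hy => ?_⟩
  · show minv (P ⊔ Y) χ (g (χ x)) = _
    rw [hgα _ (hχPQ x hx), hχP.ofAut_trans himg α hx, hχW.minv_apply (hPW (ofAut_mem α hx))]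
  · show minv (P ⊔ Y) χ (g (χ y)) = _
    rw [hgY _ (hχY y hy), hχW.minv_apply (hYW hy)]

end Cfsg.Agent.Fus
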