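import Cfsg.Agent.Fus.CPN1
import Cfsg.Agent.Fus.TInv
import Cfsg.Agent.Fus.ExtZ
import Cfsg.Agent.Fus.Lay5
set_option autoImplicit false

/-!
# Central products of normal subsystems, part 2 (helper85)
-/

namespace Cfsg.Agent.Fus

open Cfsg Cfsg.FusionSystem Cfsg.Agent.H85

variable {Ω : Type*} [Group Ω] {S T₁ T₂ T : Subgroup Ω} {F : FusionSystem S} {E₁ : FusionSystem T₁}
  {E₂ : FusionSystem T₂} {D : FusionSystem T} {p : ℕ}

/-- membership in a central product -/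
theorem CProd.isMap_of (h : CProd E₁ E₂ D) {P Q₁ Q₂ : Subgroup Ω} {f f₁ f₂ : Ω → Ω} (hQ₁ : T₁ ⊓ T₂ ≤ Q₁)
    (hQ₂ : T₁ ⊓ T₂ ≤ Q₂) (hf₁ : IsMap E₁ Q₁ f₁) (hf₂ : IsMap E₂ Q₂ f₂) (hP : P ≤ Q₁ ⊔ Q₂)
    (hf : ∀ x ∈ Q₁, ∀ y ∈ Q₂, x * y ∈ P → f (x * y) = f₁ x * f₂ y) : IsMap D P f := by
  have hPT : P ≤ T₁ ⊔ T₂ := hP.trans (sup_le_sup hf₁.le hf₂.le)
  have hcQ : Comm Q₁ Q₂ := fun a ha b hb => h.comm a (hf₁.le ha) b (hf₂.le hb)
  -- components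
  have key : ∀ x ∈ T₁, ∀ y ∈ T₂, x * y ∈ P → x ∈ Q₁ ∧ y ∈ Q₂ := by
    intro x hx y hy hxy
    obtain ⟨q, hq, r, hr, hqr⟩ := hcQ.mem_sup.1 (hP hxy)
    have e1 : q⁻¹ * x = r * y⁻¹ := by
      rw [inv_mul_eq_iff_eq_mul, ← mul_assoc, hqr, mul_inv_cancel_right]
    have h1 : q⁻¹ * x ∈ T₁ ⊓ T₂ := ⟨T₁.mul_mem (T₁.inv_mem (hf₁.le hq)) hx, by
      rw [e1]; exact T₂.mul_mem (hf₂.le hr) (T₂.inv_mem hy)⟩
    constructor
    · have := Q₁.mul_mem hq (hQ₁ h1)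
      rwa [mul_inv_cancel_left] at this
    · have h2 := hQ₂ h1
      rw [e1] at h2
      have := Q₂.mul_mem (Q₂.inv_mem h2) hr
      have e : (r * y⁻¹)⁻¹ * r = y := by group
      rwa [e] at this
  rw [h.isMap_iff]
  refine ⟨by rw [h.eq]; exact hPT, f₁, f₂, hf₁.mono ?_, hf₂.mono ?_, ?_⟩
  · intro x hx
    obtain ⟨h1, y, hy, hxy⟩ := (h.comm.mem_prL hPT).1 hx
    exact (key x h1 y hy hxy).1
  · intro y hy
    obtain ⟨h1, x, hx, hxy⟩ := (h.comm.mem_prR hPT).1 hy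
    exact (key x hx y h1 hxy).2
  · intro x hx y hy hxy
    obtain ⟨h1, h2⟩ := key x hx y hy hxy
    exact hf x h1 y h2 hxy

/-- a pair of commuting normal subsystems with central intersection -/
structure CNorm (F : FusionSystem S) (E₁ : FusionSystem T₁) (E₂ : FusionSystem T₂) (D : FusionSystem T)
    (p : ℕ) : Prop where
  hS : IsPGroup p S
  n1 : E₁.IsNormalIn F p
  n2 : E₂.IsNormalIn F p
  cp : CProd E₁ E₂ D

namespace CNorm

variable (h : CNorm F E₁ E₂ D p)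
include h

theorem symm : CNorm F E₂ E₁ D p := ⟨h.hS, h.n2, h.n1, h.cp.symm⟩
theorem sat : F.IsSaturated p := h.n1.1.2.1
theorem s1 : F.StronglyClosed T₁ := h.n1.1.2.2.2.1
theorem s2 : F.StronglyClosed T₂ := h.n2.1.2.2.2.1
theorem i1 : E₁.IsInvariantIn F := h.n1.1.2.2
theorem i2 : E₂.IsInvariantIn F := h.n2.1.2.2

variable [Finite S] [Fact p.Prime]

theorem sT : F.StronglyClosed T := by
  rw [h.cp.eq]; exact sc_sup h.hS h.sat h.s1 h.s2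

theorem right_le : T₂ ≤ centralizerIn S T₁ := fun y hy =>
  mem_centralizerIn.2 ⟨h.s2.1 hy, fun x hx => h.cp.comm x hx y hy⟩

/-- `T₂` centralizes `E₁` -/
theorem right_le_cenE : T₂ ≤ cenE E₁ F p := by
  have hf1 := finite_of_le h.s1.1
  obtain ⟨N, hN⟩ := IsPGroup.iff_card.1 h.hS
  intro x hx
  refine mem_cenE.2 ⟨h.right_le hx, fun P hP κ hκ => ?_⟩
  have hT2P : T₂ ≤ centralizerIn S P := h.right_le.trans (centralizerIn_anti hP.1)
  have hcen := Join.isCentral_center E₁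
  refine coprime_fix (P := P ⊔ centralizerIn S P) (κ := κ) (A := T₁ ⊓ T₂) (B := T₂) (hT2P.trans le_sup_right)
    inf_le_right (fun a ha => ?_) (fun b hb => ⟨?_, ?_⟩) (pow_orderOf_eq_one κ)
    (fun a ha => by rw [← hN, pow_card_eq_one_of_mem (h.s1.1 ha.1)]) (Nat.Coprime.pow_right N hκ.co) x hx
  · have h1 := h.cp.cen1 ha
    exact IsFac.central_fixes hcen hκ.good.isMapE (center_le_of_centric hcen hP h1) h1
  · exact hP.1 (hκ.good.triv b (hT2P hb))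
  · exact T₂.mul_mem (T₂.inv_mem hb) (sc_map_mem h.s2 hκ.good.isMap (le_sup_right (a := P) (hT2P hb)) hb)

/-- `D` is a subsystem -/
theorem isMapF {P : Subgroup Ω} {f : Ω → Ω} (hf : IsMap D P f) : IsMap F P f := by
  obtain ⟨hP, f₁, f₂, hf₁, hf₂, hff⟩ := (h.cp.isMap_iff _ _).1 hf
  rw [h.cp.eq] at hP
  obtain ⟨g₁, hg₁, hgf₁, hgc₁⟩ := cenE_extends h.hS h.n1 hf₁
  obtain ⟨g₂, hg₂, hgf₂, hgc₂⟩ := cenE_extends h.hS h.n2 hf₂
  have hl := h.right_le_cenE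
  have hr := h.symm.right_le_cenE
  have hdec : ∀ z ∈ P, ∃ x ∈ prL T₁ T₂ P, ∃ y ∈ prR T₁ T₂ P, x * y = z := by
    intro z hz
    obtain ⟨x, hx, y, hy, rfl⟩ := h.cp.comm.mem_sup.1 (hP hz)
    exact ⟨x, (h.cp.comm.mem_prL hP).2 ⟨hx, y, hy, hz⟩, y, (h.cp.comm.mem_prR hP).2 ⟨hy, x, hx, hz⟩, rfl⟩
  have e1 : ∀ x ∈ prL T₁ T₂ P, ∀ y ∈ T₂, g₁ (x * y) = f₁ x * y := by
    intro x hx y hy
    rw [hg₁.map_mul (le_sup_left (a := prL T₁ T₂ P) hx) (le_sup_right (a := prL T₁ T₂ P) (hl hy)), hgf₁ x hx,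
      hgc₁ y (hl hy)]
  have e2 : ∀ x ∈ T₁, ∀ y ∈ prR T₁ T₂ P, g₂ (x * y) = x * f₂ y := by
    intro x hx y hy
    rw [hg₂.map_mul (le_sup_right (a := prR T₁ T₂ P) (hr hx)) (le_sup_left (a := prR T₁ T₂ P) hy), hgf₂ y hy,
      hgc₂ x (hr hx)]
  have h1 : IsMap F P g₁ := by
    refine hg₁.mono fun z hz => ?_
    obtain ⟨x, hx, y, hy, rfl⟩ := hdec z hz
    exact Subgroup.mul_mem _ (le_sup_left (a := prL T₁ T₂ P) hx)
      (le_sup_right (a := prL T₁ T₂ P) (hl ((h.cp.comm.mem_prR hP).1 hy).1))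
  have h2 : ∀ z ∈ P, g₁ z ∈ prR T₁ T₂ P ⊔ cenE E₂ F p := by
    intro z hz
    obtain ⟨x, hx, y, hy, rfl⟩ := hdec z hz
    rw [e1 x hx y ((h.cp.comm.mem_prR hP).1 hy).1]
    exact Subgroup.mul_mem _ (le_sup_right (a := prR T₁ T₂ P) (hr (hf₁.mem hx))) (le_sup_left (a := prR T₁ T₂ P) hy)
  refine (hg₂.comp h1 h2).congr fun z hz => ?_
  obtain ⟨x, hx, y, hy, rfl⟩ := hdec z hz
  have hx' := ((h.cp.comm.mem_prL hP).1 hx).1
  have hy' := ((h.cp.comm.mem_prR hP).1 hy).1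
  show g₂ (g₁ (x * y)) = _
  rw [e1 x hx y hy', e2 _ (hf₁.mem hx) y hy, hff x hx' y hy' hz]

/-- restriction of automorphisms of `T` to `T₁` -/
theorem restr1 {α : MulAut T} (hα : α ∈ F.autGroup T) : ∃ β ∈ F.autGroup T₁, ∀ x ∈ T₁, ofAut β x = ofAut α x := by
  obtain ⟨β, hβ, h1, -⟩ := exists_restrict_mem h.sT.1 h.cp.le_left hα fun x hx =>
    sc_map_mem h.s1 (isMap_ofAut h.sT.1 hα) (h.cp.le_left hx) hx
  exact ⟨β, hβ, h1⟩

theorem restr2 {α : MulAut T} (hα : α ∈ F.autGroup T) : ∃ β ∈ F.autGroup T₂, ∀ x ∈ T₂, ofAut β x = ofAut α x :=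
  h.symm.restr1 hα

/-- invariance under `Aut_F(T)` -/
theorem tInv : TInv F D := by
  intro α hα P f hf
  obtain ⟨hP, f₁, f₂, hf₁, hf₂, hff⟩ := (h.cp.isMap_iff _ _).1 hf
  obtain ⟨α₁, hα₁, hr₁⟩ := h.restr1 hα
  obtain ⟨α₂, hα₂, hr₂⟩ := h.restr2 hα
  have hPT := hP
  rw [h.cp.eq] at hP
  have hm₁ := inv_conj h.i1 hf₁ hα₁
  have hm₂ := inv_conj h.i2 hf₂ hα₂
  have hZ : T₁ ⊓ T₂ ≤ prL T₁ T₂ P := fun z hz =>
    (h.cp.comm.mem_prL hP).2 ⟨hz.1, z⁻¹, T₂.inv_mem hz.2, by rw [mul_inv_cancel]; exact P.one_mem⟩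
  have hZ' : T₁ ⊓ T₂ ≤ prR T₁ T₂ P := fun z hz =>
    (h.cp.comm.mem_prR hP).2 ⟨hz.2, z⁻¹, T₁.inv_mem hz.1, by rw [inv_mul_cancel]; exact P.one_mem⟩
  have hL : prL T₁ T₂ P ≤ T₁ := inf_le_left
  have hR : prR T₁ T₂ P ≤ T₂ := inf_le_left
  have hαm := isMap_ofAut h.sT.1 hα
  have hαi := isMap_ofAut h.sT.1 (Subgroup.inv_mem _ hα)
  have hsc := sc_inf h.s1 h.s2
  have hpre : ∀ z ∈ T₁ ⊓ T₂, ofAut α⁻¹ z ∈ T₁ ⊓ T₂ := fun z hz =>
    sc_map_mem hsc hαi (h.cp.le_left hz.1) hz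
  refine h.cp.isMap_of (Q₁ := img (prL T₁ T₂ P) (ofAut α₁)) (Q₂ := img (prR T₁ T₂ P) (ofAut α₂)) ?_ ?_ hm₁ hm₂ ?_ ?_
  · intro z hz
    refine (mem_img_ofAut α₁ hL).2 ⟨ofAut α⁻¹ z, hZ (hpre z hz), ?_⟩
    rw [hr₁ _ (hpre z hz).1, ofAut_apply_inv α (h.cp.le_left hz.1)]
  · intro z hz
    refine (mem_img_ofAut α₂ hR).2 ⟨ofAut α⁻¹ z, hZ' (hpre z hz), ?_⟩
    rw [hr₂ _ (hpre z hz).2, ofAut_apply_inv α (h.cp.le_left hz.1)]
  · intro w hw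
    obtain ⟨z, hz, rfl⟩ := (mem_img_ofAut α hPT).1 hw
    obtain ⟨x, hx, y, hy, rfl⟩ := h.cp.comm.mem_sup.1 (hP hz)
    have h1 : x ∈ prL T₁ T₂ P := (h.cp.comm.mem_prL hP).2 ⟨hx, y, hy, hz⟩
    have h2 : y ∈ prR T₁ T₂ P := (h.cp.comm.mem_prR hP).2 ⟨hy, x, hx, hz⟩
    rw [hαm.map_mul (h.cp.le_left hx) (h.cp.le_right hy), ← hr₁ x hx, ← hr₂ y hy]
    exact Subgroup.mul_mem _ (Subgroup.mem_sup_left (subset_img h1)) (Subgroup.mem_sup_right (subset_img h2))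
  · intro x' hx' y' hy' hxy
    obtain ⟨x, hx, rfl⟩ := (mem_img_ofAut α₁ hL).1 hx'
    obtain ⟨y, hy, rfl⟩ := (mem_img_ofAut α₂ hR).1 hy'
    have hxT := hL hx
    have hyT := hR hy
    obtain ⟨z, hz, hzz⟩ := (mem_img_ofAut α hPT).1 hxy
    have e1 : x * y = z := by
      refine hαm.inj (T.mul_mem (h.cp.le_left hxT) (h.cp.le_right hyT)) (hPT hz) ?_
      rw [hαm.map_mul (h.cp.le_left hxT) (h.cp.le_right hyT), ← hr₁ x hxT, ← hr₂ y hyT, hzz]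
    have hxyP : x * y ∈ P := by rw [e1]; exact hz
    have e2 : ofAut α₁ x * ofAut α₂ y = ofAut α (x * y) := by
      rw [hαm.map_mul (h.cp.le_left hxT) (h.cp.le_right hyT), hr₁ x hxT, hr₂ y hyT]
    rw [e2, cjf_apply α hPT f hxyP, hff x hxT y hyT hxyP,
      hαm.map_mul (h.cp.le_left (hf₁.mem hx)) (h.cp.le_right (hf₂.mem hy)), ← hr₁ _ (hf₁.mem hx),
      ← hr₂ _ (hf₂.mem hy), ofAut_inv_apply α₁ hxT, ofAut_inv_apply α₂ hyT]

/-- `T₁ ⊓ T₂` lies in the centric radical subgroups -/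
theorem inf_le_radical {R : Subgroup Ω} (hR : R ≤ S) (hRc : F.IsCentric R) (hRr : F.IsRadical p R) :
    T₁ ⊓ T₂ ≤ R := fun a ha =>
  left_mem_of_mul_mem h.hS h.s1 h.s2 h.cp.comm hR hRc hRr ha.1 (T₂.inv_mem ha.2) (by
    rw [mul_inv_cancel]; exact R.one_mem)

theorem inf_T_le {R : Subgroup Ω} (hR : R ≤ S) (hRc : F.IsCentric R) (hRr : F.IsRadical p R) :
    R ⊓ T ≤ (R ⊓ T₁) ⊔ (R ⊓ T₂) := by
  rintro z ⟨hz, hzT⟩
  rw [h.cp.eq] at hzT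
  obtain ⟨x, hx, y, hy, rfl⟩ := h.cp.comm.mem_sup.1 hzT
  have h1 := left_mem_of_mul_mem h.hS h.s1 h.s2 h.cp.comm hR hRc hRr hx hy hz
  have h2 : y ∈ R := by
    have := R.mul_mem (R.inv_mem h1) hz
    rwa [inv_mul_cancel_left] at this
  exact Subgroup.mul_mem _ (Subgroup.mem_sup_left ⟨h1, hx⟩) (Subgroup.mem_sup_right ⟨h2, hy⟩)

/-- `p'`-elements of `kR E₁` are in `D` -/
theorem kR_isMap {R : Subgroup Ω} (hR : R ≤ S) (hRc : F.IsCentric R) (hRr : F.IsRadical p R)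
    {κ : MulAut R} (hκ : κ ∈ kR E₁ F R h.s1 hR) (hco : (orderOf κ).Coprime p) : IsMap D (R ⊓ T) (ofAut κ) := by
  have hZ := h.inf_le_radical hR hRc hRr
  have hRE := eCentric_inf h.hS h.sat h.i1.1 h.s1 hRc hRr
  refine h.cp.isMap_of (Q₁ := R ⊓ T₁) (Q₂ := R ⊓ T₂) (le_inf hZ inf_le_left) (le_inf hZ inf_le_right) hκ.2
    (isMap_id' inf_le_right) (h.inf_T_le hR hRc hRr) fun x hx y hy _ => ?_
  rw [ofAut_map_mul κ hx.1 hy.1, kR_fix h.hS h.n1 hRE hκ hco hy.1 (h.right_le_cenE hy.2)]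

/-- `Aut_T(R) ≤ kR E₁ ⊔ kR E₂` -/
theorem conj_mem_sup {R : Subgroup Ω} (hR : R ≤ S) (hRc : F.IsCentric R) (hRr : F.IsRadical p R)
    {t : Ω} (ht : t ∈ T₁ ⊔ T₂) (htR : t ∈ Subgroup.normalizer (R : Set Ω)) :
    conjAut t htR ∈ kR E₁ F R h.i1.2.1 hR ⊔ kR E₂ F R h.i2.2.1 hR := by
  obtain ⟨a, ha, b, hb, rfl⟩ := h.cp.comm.mem_sup.1 ht
  have hfR := finite_of_le hR
  have haR : a ∈ Subgroup.normalizer (R : Set Ω) := by
    refine mem_normalizer_of_conj fun r hr => ?_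
    have h1 : a * b * r * (a * b)⁻¹ * r⁻¹ ∈ R :=
      R.mul_mem ((Subgroup.mem_normalizer_iff.1 htR r).1 hr) (R.inv_mem hr)
    have h2 : b * r * b⁻¹ * r⁻¹ ∈ T₂ := by
      have h3 := sc_conj_mem h.s2 (hR hr) (T₂.inv_mem hb)
      have e : b * r * b⁻¹ * r⁻¹ = b * (r * b⁻¹ * r⁻¹) := by group
      rw [e]
      exact T₂.mul_mem hb h3
    have h3 : a * r * a⁻¹ * r⁻¹ ∈ T₁ := by
      have h3 := sc_conj_mem h.s1 (hR hr) (T₁.inv_mem ha)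
      have e : a * r * a⁻¹ * r⁻¹ = a * (r * a⁻¹ * r⁻¹) := by group
      rw [e]
      exact T₁.mul_mem ha h3
    have h4 : r * a⁻¹ * r⁻¹ ∈ T₁ := sc_conj_mem h.s1 (hR hr) (T₁.inv_mem ha)
    have e : a * b * r * (a * b)⁻¹ * r⁻¹ = (a * r * a⁻¹ * r⁻¹) * (b * r * b⁻¹ * r⁻¹) := by
      have h5 := h.cp.comm _ h4 _ h2
      calc a * b * r * (a * b)⁻¹ * r⁻¹ = a * ((b * r * b⁻¹ * r⁻¹) * (r * a⁻¹ * r⁻¹)) := by group
        _ = a * ((r * a⁻¹ * r⁻¹) * (b * r * b⁻¹ * r⁻¹)) := by rw [h5]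
        _ = _ := by group
    rw [e] at h1
    have h6 := left_mem_of_mul_mem h.hS h.s1 h.s2 h.cp.comm hR hRc hRr h3 h2 h1
    have h7 := R.mul_mem h6 hr
    rwa [inv_mul_cancel_right] at h7
  have hbR : b ∈ Subgroup.normalizer (R : Set Ω) := by
    have := Subgroup.mul_mem _ (Subgroup.inv_mem _ haR) htR
    rwa [inv_mul_cancel_left] at this
  have e : conjAut (a * b) htR = conjAut a haR * conjAut b hbR := by
    refine ofAut_injective fun x hx => ?_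
    rw [ofAut_mul _ _ hx, ofAut_conjAut _ _ hx, ofAut_conjAut _ _ hx, ofAut_conjAut _ _
      ((Subgroup.mem_normalizer_iff.1 hbR x).1 hx)]
    group
  rw [e]
  exact Subgroup.mul_mem _ (Subgroup.mem_sup_left (conjAut_mem_kR ha haR))
    (Subgroup.mem_sup_right (conjAut_mem_kR hb hbR))

/-- decomposition -/
theorem dec {P : Subgroup Ω} {f : Ω → Ω} (hP : P ≤ T) (hf : IsMap F P f) : Dec D F P f := by
  have hle : F ≤ (decSpecT h.sT h.tInv).toFS := by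
    refine frattini_ind2 h.hS h.sat h.i1 h.i2 (fun R f hTR hf => ?_) (fun R hR hRn hRc hRr κ hκ hco => ?_)
      (fun R hR hRn hRc hRr κ hκ hco => ?_) fun R hR hRn hRc hRr t ht htR => h.conj_mem_sup hR hRc hRr ht htR
    · rw [(decSpecT h.sT h.tInv).isMap_toFS]
      refine ⟨hf, ?_⟩
      rw [← h.cp.eq] at hTR
      have hi : img T f = T := sc_img_eq h.sT hf hTR
      have hfT := hf.mono hTR
      exact ⟨hfT.aut hi, hfT.aut_mem hi, fun x => x, isMap_id' inf_le_right, fun x hx => (hfT.ofAut_aut hi hx.2).symm⟩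
    · rw [(decSpecT h.sT h.tInv).isMap_toFS]
      exact ⟨isMap_ofAut hR hκ.1.1, dec_of_isMap (h.kR_isMap hR hRc hRr hκ hco)⟩
    · rw [(decSpecT h.sT h.tInv).isMap_toFS]
      exact ⟨isMap_ofAut hR hκ.1.1, dec_of_isMap (h.symm.kR_isMap hR hRc hRr hκ hco)⟩
  have h1 := ((decSpecT h.sT h.tInv).isMap_toFS.mp (le_iff.mp hle P f hf)).2
  rwa [inf_eq_left.mpr hP] at h1

theorem invariant : D.IsInvariantIn F :=
  isInvariantIn_of_tInv (isSubsystemOf_iff.2 fun _ _ hf => h.isMapF hf) h.sT h.tInv fun _ _ hP hf => h.dec hP hf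

theorem satD : D.IsSaturated p := by
  have h1 := finite_of_le h.s1.1
  have h2 := finite_of_le h.s2.1
  exact h.cp.saturated (isPGroup_of_le h.hS h.s1.1) (isPGroup_of_le h.hS h.s2.1) h.n1.1.1 h.n2.1.1

/-- extension of automorphisms of order prime to `p` -/
theorem extZ_coprime {α : MulAut T} (hα : α ∈ D.autGroup T) (hco : (orderOf α).Coprime p) : ExtZ F T α := by
  have hf1 := finite_of_le h.s1.1
  have hf2 := finite_of_le h.s2.1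
  have hfT := finite_of_le h.sT.1
  have hS := h.hS
  obtain ⟨-, f₁, f₂, hf₁, hf₂, hff⟩ := (h.cp.isMap_iff _ _).1 (isMap_ofAut le_rfl hα)
  have hL : prL T₁ T₂ T = T₁ := inf_eq_left.2 (h.cp.le_left.trans le_sup_left)
  have hR : prR T₁ T₂ T = T₂ := inf_eq_left.2 (h.cp.le_right.trans le_sup_left)
  rw [hL] at hf₁
  rw [hR] at hf₂
  have ha1 : ∀ x ∈ T₁, ofAut α x = f₁ x := fun x hx => by
    have := hff x hx 1 T₂.one_mem (by rw [mul_one]; exact h.cp.le_left hx)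
    rwa [mul_one, hf₂.map_one, mul_one] at this
  have ha2 : ∀ x ∈ T₂, ofAut α x = f₂ x := fun x hx => by
    have := hff 1 T₁.one_mem x hx (by rw [one_mul]; exact h.cp.le_right hx)
    rwa [one_mul, hf₁.map_one, one_mul] at this
  have hαF : α ∈ F.autGroup T := (mem_autGroup_iff h.sT.1).2 (h.isMapF (isMap_ofAut le_rfl hα))
  obtain ⟨α₁, hα₁, hr₁, ho₁⟩ := exists_restrict_mem h.sT.1 h.cp.le_left hαF fun x hx =>
    sc_map_mem h.s1 (isMap_ofAut h.sT.1 hαF) (h.cp.le_left hx) hx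
  obtain ⟨α₂, hα₂, hr₂, ho₂⟩ := exists_restrict_mem h.sT.1 h.cp.le_right hαF fun x hx =>
    sc_map_mem h.s2 (isMap_ofAut h.sT.1 hαF) (h.cp.le_right hx) hx
  have hα₁E : α₁ ∈ E₁.autGroup T₁ := (mem_autGroup_iff le_rfl).2 (hf₁.congr fun x hx => by rw [hr₁ x hx, ha1 x hx])
  have hα₂E : α₂ ∈ E₂.autGroup T₂ := (mem_autGroup_iff le_rfl).2 (hf₂.congr fun x hx => by rw [hr₂ x hx, ha2 x hx])
  obtain ⟨κ₁, hκ₁, hκα₁⟩ := exists_pgood hS h.n1 isCentric_self hα₁E (Nat.Coprime.coprime_dvd_left ho₁ hco)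
  obtain ⟨κ₂, hκ₂, hκα₂⟩ := exists_pgood hS h.n2 isCentric_self hα₂E (Nat.Coprime.coprime_dvd_left ho₂ hco)
  have hl := h.right_le_cenE
  have hr := h.symm.right_le_cenE
  have hC1 : T ⊔ centralizerIn S T ≤ T₁ ⊔ centralizerIn S T₁ := by
    refine sup_le ?_ ((centralizerIn_anti h.cp.le_left).trans le_sup_right)
    conv_lhs => rw [h.cp.eq]
    exact sup_le_sup_left h.right_le _
  have hC2 : T ⊔ centralizerIn S T ≤ T₂ ⊔ centralizerIn S T₂ := by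
    refine sup_le ?_ ((centralizerIn_anti h.cp.le_right).trans le_sup_right)
    conv_lhs => rw [h.cp.eq, sup_comm]
    exact sup_le_sup_left h.symm.right_le _
  have hm1 := hκ₁.good.isMap.mono hC1
  have hm2 := hκ₂.good.isMap.mono hC2
  have hself1 : ∀ x ∈ T ⊔ centralizerIn S T, ofAut κ₁ x ∈ T ⊔ centralizerIn S T := by
    refine hm1.forall_sup_mem (fun x hx => Subgroup.mem_sup_left (sc_map_mem h.sT hm1 (le_sup_left (a := T) hx) hx))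
      fun c hc => ?_
    have h1 := hκ₁.good.triv c (centralizerIn_anti h.cp.le_left hc)
    have h2 := Subgroup.mul_mem _ (le_sup_right (a := T) hc) (le_sup_left (b := centralizerIn S T) (h.cp.le_left h1))
    rwa [mul_inv_cancel_left] at h2
  have hself2 : ∀ x ∈ T ⊔ centralizerIn S T, ofAut κ₂ x ∈ T ⊔ centralizerIn S T := by
    refine hm2.forall_sup_mem (fun x hx => Subgroup.mem_sup_left (sc_map_mem h.sT hm2 (le_sup_left (a := T) hx) hx))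
      fun c hc => ?_
    have h1 := hκ₂.good.triv c (centralizerIn_anti h.cp.le_right hc)
    have h2 := Subgroup.mul_mem _ (le_sup_right (a := T) hc) (le_sup_left (b := centralizerIn S T) (h.cp.le_right h1))
    rwa [mul_inv_cancel_left] at h2
  have hg : IsMap F (T ⊔ centralizerIn S T) (fun x => ofAut κ₁ (ofAut κ₂ x)) := hm1.comp hm2 hself2
  have hTC : T ⊔ centralizerIn S T ≤ S := hg.le
  have hfTC := finite_of_le hTC
  have hgi : img (T ⊔ centralizerIn S T) (fun x => ofAut κ₁ (ofAut κ₂ x)) = T ⊔ centralizerIn S T :=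
    hg.img_eq fun x hx => hself1 _ (hself2 x hx)
  have hβα : ∀ x ∈ T, ofAut (hg.aut hgi) x = ofAut α x := by
    have h0 : IsMap F T (fun x => ofAut κ₁ (ofAut κ₂ x)) := hg.mono le_sup_left
    have h0' : IsMap F T (ofAut α) := isMap_ofAut h.sT.1 hαF
    have key : ∀ x ∈ T₁ ⊔ T₂, ofAut κ₁ (ofAut κ₂ x) = ofAut α x := by
      have e0 : T = T₁ ⊔ T₂ := h.cp.eq
      have h3 : IsMap F (T₁ ⊔ T₂) (fun x => ofAut κ₁ (ofAut κ₂ x)) := h0.mono e0.ge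
      refine IsMap.eq_on_sup h3 (h0'.mono e0.ge) (fun x hx => ?_) fun x hx => ?_
      · show ofAut κ₁ (ofAut κ₂ x) = _
        rw [(hr hx).2 _ isCentric_self κ₂ hκ₂, hκα₁ x hx, hr₁ x hx]
      · show ofAut κ₁ (ofAut κ₂ x) = _
        have h4 : ofAut α₂ x ∈ T₂ := ofAut_mem _ hx
        rw [hκα₂ x hx, (hl h4).2 _ isCentric_self κ₁ hκ₁, hr₂ x hx]
    intro x hx
    rw [hg.ofAut_aut hgi (le_sup_left (a := T) hx)]
    exact key x (h.cp.eq ▸ hx)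
  refine ⟨hg.aut hgi, hg.aut_mem hgi, hβα, fun c hc => ?_⟩
  rw [inf_centralizer_eq h.sT.1]
  refine ⟨?_, Subgroup.mul_mem _ (Subgroup.inv_mem _ hc) (ofAut_centralizer (hg.aut_mem hgi) h.sT.1 hβα hc)⟩
  rw [hg.ofAut_aut hgi (le_sup_right (a := T) hc)]
  have h1 := hκ₂.good.triv c (centralizerIn_anti h.cp.le_right hc)
  have h2 := hκ₁.good.triv c (centralizerIn_anti h.cp.le_left hc)
  have e1 : ofAut κ₂ c = c * (c⁻¹ * ofAut κ₂ c) := by group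
  have hc1 : c ∈ T₁ ⊔ centralizerIn S T₁ := hC1 (le_sup_right (a := T) hc)
  have hz1 : c⁻¹ * ofAut κ₂ c ∈ T₁ ⊔ centralizerIn S T₁ := le_sup_right (a := T₁) (h.right_le h1)
  have e2 : ofAut κ₁ (ofAut κ₂ c) = ofAut κ₁ c * (c⁻¹ * ofAut κ₂ c) := by
    conv_lhs => rw [e1]
    rw [ofAut_map_mul κ₁ hc1 hz1, (hl h1).2 _ isCentric_self κ₁ hκ₁]
  rw [e2, ← mul_assoc]
  exact T.mul_mem (h.cp.le_left h2) (h.cp.le_right h1)

/-- **Central products of commuting normal subsystems are normal.** -/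
theorem normal : D.IsNormalIn F p := by
  have hfT := finite_of_le h.sT.1
  refine isNormalIn_iff.2 ⟨⟨h.satD, h.sat, h.invariant⟩, ?_⟩
  have h1 : D.autGroup T ≤ extZ F h.sT.1 :=
    autGroup_le_of_coprime (isPGroup_of_le h.hS h.sT.1) h.satD (fun α t ht hα => extZ_conj ht h.sT.1 hα)
      fun α hα hco => h.extZ_coprime hα hco
  exact fun α hα => h1 hα

end CNorm

end Cfsg.Agent.Fus
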