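import Cfsg.Agent.Fus.Lay6
import Cfsg.Agent.Fus.Constrained
set_option autoImplicit false

/-!
# The core centralizes the components (helper85)
-/

namespace Cfsg.Agent.Fus

open Cfsg Cfsg.FusionSystem
open scoped commutatorElement

variable {Ω : Type*} [Group Ω] {S T U : Subgroup Ω} {F : FusionSystem S} {E : FusionSystem T}
  {D : FusionSystem U} {p : ℕ}

/-- intersection of a normal subgroup with a strongly closed subgroup, in a subsystem -/
theorem isNormal_inf_sub [Finite S] [Fact p.Prime] (hS : IsPGroup p S) (hT : F.StronglyClosed T)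
    (hE : E.IsSubsystemOf F) (hEs : E.IsSaturated p) {Q : Subgroup Ω} (hQ : F.IsNormal Q) : E.IsNormal (T ⊓ Q) := by
  have hfinT := finite_of_le hT.1
  have hTp := isPGroup_of_le hS hT.1
  have hfinQ := finite_of_le hQ.1
  have hQp := isPGroup_of_le hS hQ.1
  have hQsc := sc_of_isNormal hQ
  have hRsc : E.StronglyClosed (T ⊓ Q) := sc_of_subsystem hE (sc_inf hT hQsc) inf_le_left
  have hnil : Group.IsNilpotent Q := hQp.isNilpotent
  refine isNormal_of_series hTp hEs (Group.nilpotencyClass Q)
    (fun i => T ⊓ (Subgroup.upperCentralSeries Q i).map Q.subtype) ?_ ?_ ?_ ?_ hRsc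
  · simp
  · simp only [Subgroup.upperCentralSeries_nilpotencyClass]
    rw [← MonoidHom.range_eq_map, Subgroup.range_subtype]
  · intro i j hij
    exact inf_le_inf_left _ (Subgroup.map_mono (Subgroup.upperCentralSeries_mono Q hij))
  · intro i hi
    have hchar : ((Subgroup.upperCentralSeries Q (i + 1)).map Q.subtype).subgroupOf Q =
        Subgroup.upperCentralSeries Q (i + 1) := by
      rw [Subgroup.subgroupOf, Subgroup.comap_map_eq_self_of_injective Q.subtype_injective]
    refine ⟨sc_of_subsystem hE (sc_inf hT (sc_of_isNormal (IsNormal.char hQ (Subgroup.map_subtype_le _) ?_)))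
      inf_le_left, ?_⟩
    · rw [hchar]; infer_instance
    · rw [Subgroup.commutator_le]
      rintro x ⟨hxT, hxQ⟩ y ⟨hyT, ⟨y', hy', rfl⟩⟩
      have hc : ⁅x, (y' : Ω)⁆ = (((⟨x, hxQ⟩ : Q) * y' * (⟨x, hxQ⟩ : Q)⁻¹ * y'⁻¹ : Q) : Ω) := rfl
      refine ⟨?_, ?_⟩
      · show ⁅x, (y' : Ω)⁆ ∈ T
        rw [commutatorElement_def]
        exact T.mul_mem (T.mul_mem (T.mul_mem hxT hyT) (T.inv_mem hxT)) (T.inv_mem hyT)
      · refine ⟨(⟨x, hxQ⟩ : Q) * y' * (⟨x, hxQ⟩ : Q)⁻¹ * y'⁻¹, ?_, hc.symm⟩
        have h1 := (Subgroup.mem_upperCentralSeries_succ_iff (G := Q)).1 hy' ⟨x, hxQ⟩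
        have h2 := (Subgroup.upperCentralSeries Q i).inv_mem h1
        rw [commutatorElement_inv] at h2
        exact h2

theorem isNormalIn.sc (h : E.IsNormalIn F p) : F.StronglyClosed T := h.1.2.2.2.1

/-- induction along proper normal subsystems -/
theorem normal_ind (Pr : ∀ {S : Subgroup Ω}, FusionSystem S → Prop)
    (H : ∀ {S : Subgroup Ω} (F : FusionSystem S) [Finite S], IsPGroup p S → F.IsSaturated p →
      (∀ {T : Subgroup Ω} (E : FusionSystem T), E.IsNormalIn F p → ¬ (T = S ∧ ∀ P, E.Hom P = F.Hom P) → Pr E) → Pr F) :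
    ∀ {S : Subgroup Ω} (F : FusionSystem S) [Finite S], IsPGroup p S → F.IsSaturated p → Pr F := by
  suffices H : ∀ (n m : ℕ) {S : Subgroup Ω} (F : FusionSystem S) [Finite S], Nat.card S = n →
      Nat.card (F.autGroup S) = m → IsPGroup p S → F.IsSaturated p → Pr F from
    fun {S} F _ hS hF => H _ _ F rfl rfl hS hF
  intro n
  induction n using Nat.strong_induction_on with
  | _ n IHn =>
    intro m
    induction m using Nat.strong_induction_on with
    | _ m IHm =>
      intro S F _ hn hm hS hF
      refine H F hS hF fun {T} E hE hne => ?_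
      have hEi := (isNormalIn_iff_ext.1 hE).1
      have hTS : T ≤ S := hEi.2.2.2.1.1
      have hfT := finite_of_le hTS
      have hTp := isPGroup_of_le hS hTS
      rcases hTS.lt_or_eq with hlt | rfl
      · exact IHn (Nat.card T) (by rw [← hn]; exact card_lt_of_lt le_rfl hlt) _ E rfl rfl hTp hEi.1
      · have hlt : Nat.card (E.autGroup T) < Nat.card (F.autGroup T) := by
          have hfA := finite_mulAut (P := T)
          have hle : E.autGroup T ≤ F.autGroup T := fun α hα =>
            (mem_autGroup_iff le_rfl).2 (inv_isMap hEi.2.2 (isMap_ofAut le_rfl hα))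
          by_contra hge
          have := Subgroup.eq_of_le_of_card_ge hle (not_lt.1 hge)
          have h1 := inv_eq_of_autGroup_le hEi.2.2 this.ge
          exact hne ⟨rfl, fun P => by rw [h1]⟩
        exact IHm _ (by rw [← hm]; exact hlt) E hn rfl hTp hEi.1

/-- a subnormal subsystem contained in no proper normal subsystem -/
theorem eq_self_of_subnormal (h : E.IsSubnormalIn F p) :
    (∀ (U : Subgroup Ω) (N : FusionSystem U), N.IsNormalIn F p → T ≤ U → F.IsSubsystemOf N) →
    T = S ∧ ∀ P : Subgroup Ω, E.Hom P = F.Hom P := by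
  induction h with
  | refl F p => exact fun _ => ⟨rfl, fun _ => rfl⟩
  | @step U S E D F p h1 h2 ih =>
    intro hall
    have h3 := hall U D h2 (subnormal_le h1)
    have hUS : U = S := le_antisymm h2.1.2.2.2.1.1 (sub_le h3)
    subst hUS
    have hDF : D = F := by
      refine fusionSystem_ext fun P => ?_
      exact Set.Subset.antisymm (h2.1.2.2.1 P) (h3 P)
    subst hDF
    exact ih hall

/-- quasisimple systems have central core -/
theorem quasisimple_core [Finite S] [Fact p.Prime] (hS : IsPGroup p S) (hq : F.Quasisimple p) : F.core ≤ F.center := by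
  have hn := inner_isNormalIn hS hq.1 (Join.isNormal_core F)
  rcases quasisimple_normal hS hq hn with h | ⟨h1, h2⟩
  · exact h
  · exfalso
    have hSn : F.IsNormal S := by
      have : ∀ Q, Q = S → F.IsNormal Q → F.IsNormal S := by rintro Q rfl h; exact h
      exact this _ h1 (Join.isNormal_core F)
    exact quasisimple_not_constrained hS hq ⟨hq.1, S, hSn, isCentric_of_isNormal hSn (centralizerIn_le _)⟩

/-- a normal subgroup commuting with the maps is central -/
theorem normal_le_center {Q : Subgroup Ω} (hQ : E.IsNormal Q)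
    (h : ∀ (P : Subgroup Ω) (f : Ω → Ω), IsMap E P f → ∃ g, IsMap F (P ⊔ Q) g ∧ (∀ x ∈ P, g x = f x) ∧
      ∀ c ∈ Q, g c = c) : Q ≤ E.center := by
  refine Join.le_center (isCentral_iff_isMap.2 ⟨hQ.1, fun P f hf => ?_⟩)
  obtain ⟨g, hg, hgf, -⟩ := (isNormal_iff_isMap.1 hQ).2 P f hf
  refine ⟨g, hg, hgf, fun x hx => ?_⟩
  obtain ⟨g', -, h1, h2⟩ := h _ g hg
  rw [← h1 x (le_sup_right (a := P) hx), h2 x hx]

/-- the hull of a component has central core -/
theorem Hull.core_le [Finite S] [Fact p.Prime] (hS : IsPGroup p S) {C : FusionSystem U} (h : Hull C F p E)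
    (hcomm : U ≤ centralizerIn T E.core) : E.core ≤ E.center := by
  have hF := h.sat hS
  have hTS := (isNormalIn.sc h.normal).1
  have hQ : F.IsNormal E.core := core_isNormal hS hF h.normal.1.2.2
  have hn := inner_isNormalIn hS hF hQ
  obtain ⟨D, hD, hDc⟩ := exists_cenSub hS hn
  have hle : U ≤ cenE (innerFusionSystem E.core) F p := by
    refine le_trans ?_ (centralizerIn_le_cenE_inner hS hQ.1)
    exact fun x hx => mem_centralizerIn.2 ⟨hTS (mem_centralizerIn.1 (hcomm hx)).1, (mem_centralizerIn.1 (hcomm hx)).2⟩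
  have hsub := h.least _ D hD hle
  have hfT := finite_of_le hTS
  refine normal_le_center (F := F) (Join.isNormal_core E) ?_
  refine (subset_centralizerHom_iff hTS ?_).1 fun P => (hsub P).trans (hDc P)
  refine fun x hx => mem_centralizerIn.2 ⟨hQ.1 hx, fun y hy => ?_⟩
  exact ((mem_centralizerIn.1 (cenE_le (sub_le hsub hy))).2 x hx).symm

/-- the core centralizes the hull of a component -/
theorem Hull.core_le_cenE [Finite S] [Fact p.Prime] (hS : IsPGroup p S) {C : FusionSystem U} (h : Hull C F p E)
    (hc : E.core ≤ E.center) : F.core ≤ cenE E F p := by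
  have hTs := isNormalIn.sc h.normal
  refine sc_le_cenE hS h.normal (h.hyper hS) (sc_of_isNormal (Join.isNormal_core F)) ?_
  rw [inf_comm]
  exact (Join.le_core (isNormal_inf_sub hS hTs h.normal.1.2.2.1 h.normal.1.1 (Join.isNormal_core F))).trans hc

/-- components commute with the core -/
theorem comp_core_comm [Finite S] [Fact p.Prime] (hS : IsPGroup p S) (hF : F.IsSaturated p)
    {C : FusionSystem U} (hC : C.IsComponentIn F p) : U ≤ centralizerIn S F.core := by
  refine normal_ind (p := p) (fun {S} F => ∀ {U : Subgroup Ω} {C : FusionSystem U}, C.IsComponentIn F p →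
    U ≤ centralizerIn S F.core) ?_ F hS hF hC
  intro S F _ hS hF IH U C hC
  obtain ⟨T, E, hE⟩ := exists_hull hS hF hC
  have hTs := isNormalIn.sc hE.normal
  have hTS := hTs.1
  have hUS := subnormal_le hC.1
  by_cases hEF : T = S ∧ ∀ P, E.Hom P = F.Hom P
  · obtain ⟨rfl, h2⟩ := hEF
    have : E = F := fusionSystem_ext h2
    subst this
    obtain ⟨rfl, h3⟩ := eq_self_of_subnormal hC.1 hE.least
    have : C = E := fusionSystem_ext h3
    subst this
    have hc := quasisimple_core hS hC.2
    intro x hx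
    refine mem_centralizerIn.2 ⟨hx, fun y hy => ?_⟩
    exact (Subgroup.mem_centralizer_iff.1 (center_le_centralizer C (hc hy)) x hx).symm
  · have hcomm := IH E hE.normal hEF (hE.compE hS)
    have h1 := hE.core_le_cenE hS (hE.core_le hS hcomm)
    intro x hx
    refine mem_centralizerIn.2 ⟨hUS hx, fun y hy => ?_⟩
    exact ((mem_centralizerIn.1 (cenE_le (h1 hy))).2 x (hE.le hx)).symm

/-- **The core centralizes the layer.** -/
theorem core_centralizes_layer [Finite S] [Fact p.Prime] (hS : IsPGroup p S) (hF : F.IsSaturated p)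
    (hE : E.IsLayerOf F p) : (T ≤ centralizerIn S F.core) ∧ ∀ P : Subgroup Ω, E.Hom P ⊆ F.centralizerHom F.core P := by
  have hQ := Join.isNormal_core F
  have hn := inner_isNormalIn hS hF hQ
  obtain ⟨D, hD, hDc⟩ := exists_cenSub hS hn
  have hsub := hE.2.2 _ D hD fun U C hC => (comp_of_le hS hF hC hD
    ((comp_core_comm hS hF hC).trans (centralizerIn_le_cenE_inner hS hQ.1))).2
  exact ⟨(sub_le hsub).trans cenE_le, fun P => (hsub P).trans (hDc P)⟩

end Cfsg.Agent.Fus
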