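import Cfsg.Agent.Fus.CPN2
import Cfsg.Agent.Fus.Lay7
import Cfsg.Prelude.Def_FusionFitting
set_option autoImplicit false

/-!
# Products of commuting normal subsystems; the generalized Fitting subsystem (helper85)
-/

namespace Cfsg.Agent.Fus

open Cfsg Cfsg.FusionSystem Cfsg.Agent.H85

variable {Ω : Type*} [Group Ω] {S T₁ T₂ T Z : Subgroup Ω} {F : FusionSystem S} {E₁ : FusionSystem T₁}
  {E₂ : FusionSystem T₂} {D : FusionSystem T} {E : FusionSystem T} {p : ℕ}

/-- subsystem over the same subgroup centralizing a given central normal subgroup -/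
theorem exists_sub_fix [Finite S] [Fact p.Prime] (hS : IsPGroup p S) (hE : E.IsNormalIn F p) (hZ : F.IsNormal Z)
    (hZT : Z ≤ T) (hTZ : T ≤ centralizerIn S Z) :
    ∃ E' : FusionSystem T, E'.IsNormalIn F p ∧ E'.IsNormalIn E p ∧ Z ≤ E'.center := by
  have hF := hE.1.2.1
  have hTs := isNormalIn.sc hE
  have hTS := hTs.1
  have hfT := finite_of_le hTS
  have hTp := isPGroup_of_le hS hTS
  obtain ⟨C, hC, hCc⟩ := exists_cenSub hS (inner_isNormalIn hS hF hZ)
  obtain ⟨D, ⟨hDF, hDE, hDC⟩, -⟩ := exists_meet hS hE hC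
  have hle : T ≤ cenE (innerFusionSystem Z) F p := hTZ.trans (centralizerIn_le_cenE_inner hS hZ.1)
  have e : T ⊓ cenE (innerFusionSystem Z) F p = T := inf_eq_left.2 hle
  revert D
  rw [e]
  intro D hDF hDE hDC
  refine ⟨D, hDF, hDE, ?_⟩
  have hab : IsMulCommutative Z := by
    refine ⟨⟨fun a b => Subtype.ext ?_⟩⟩
    exact (mem_centralizerIn.1 (hTZ (hZT b.2))).2 a a.2
  have hZD : D.IsNormal Z := stronglyClosed_abelian_normal hTp hDF.1.1
    (sc_of_subsystem hDF.1.2.2.1 (sc_of_isNormal hZ) hZT) hab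
  refine normal_le_center (F := F) hZD ?_
  refine (subset_centralizerHom_iff hTS ?_).1 fun P => (hDC.1.2.2.1 P).trans (hCc P)
  exact fun x hx => mem_centralizerIn.2 ⟨hZ.1 hx, fun y hy => ((mem_centralizerIn.1 (hTZ hy)).2 x hx).symm⟩

/-- the product of two commuting normal subsystems -/
theorem exists_commuting_product [Finite S] [Fact p.Prime] (hS : IsPGroup p S) (h₁ : E₁.IsNormalIn F p)
    (h₂ : E₂.IsNormalIn F p) (hc : Comm T₁ T₂) : ∃ D : FusionSystem (T₁ ⊔ T₂), D.IsNormalIn F p ∧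
      (T₁ ⊓ T₂ ≤ E₁.center → T₁ ⊓ T₂ ≤ E₂.center → IsCentralProductOf E₁ E₂ D) := by
  have hF := h₁.1.2.1
  have hs1 := isNormalIn.sc h₁
  have hs2 := isNormalIn.sc h₂
  have hf1 := finite_of_le hs1.1
  have hf2 := finite_of_le hs2.1
  by_cases hcen : T₁ ⊓ T₂ ≤ E₁.center ∧ T₁ ⊓ T₂ ≤ E₂.center
  · obtain ⟨D, hD⟩ := exists_centralProduct (E₁ := E₁) (E₂ := E₂) hc rfl hcen.1 hcen.2
    have hcn : CNorm F E₁ E₂ D p := ⟨hS, h₁, h₂, cprod_of_isCentralProductOf hD⟩
    exact ⟨D, hcn.normal, fun _ _ => hD⟩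
  · have hab : IsMulCommutative ↥(T₁ ⊓ T₂) :=
      ⟨⟨fun a b => Subtype.ext (hc a a.2.1 b b.2.2)⟩⟩
    have hZ : F.IsNormal (T₁ ⊓ T₂) := stronglyClosed_abelian_normal hS hF (sc_inf hs1 hs2) hab
    obtain ⟨E₁', h1, -, h1'⟩ := exists_sub_fix hS h₁ hZ inf_le_left fun x hx =>
      mem_centralizerIn.2 ⟨hs1.1 hx, fun y hy => (hc x hx y hy.2).symm⟩
    obtain ⟨E₂', h2, -, h2'⟩ := exists_sub_fix hS h₂ hZ inf_le_right fun x hx =>
      mem_centralizerIn.2 ⟨hs2.1 hx, fun y hy => hc y hy.1 x hx⟩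
    obtain ⟨D, hD⟩ := exists_centralProduct (E₁ := E₁') (E₂ := E₂') hc rfl h1' h2'
    have hcn : CNorm F E₁' E₂' D p := ⟨hS, h1, h2, cprod_of_isCentralProductOf hD⟩
    exact ⟨D, hcn.normal, fun a b => absurd ⟨a, b⟩ hcen⟩

theorem center_inner {Q : Subgroup Ω} {Z : Subgroup Ω} (hZQ : Z ≤ Q) (h : ∀ z ∈ Z, ∀ q ∈ Q, q * z = z * q) :
    Z ≤ (innerFusionSystem Q).center := by
  refine Join.le_center (isCentral_iff_isMap.2 ⟨hZQ, fun P f hf => ?_⟩)
  obtain ⟨hP, g, hg, hgf⟩ := isMap_inner.1 hf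
  refine ⟨fun x => g * x * g⁻¹, isMap_conj (sup_le hP hZQ) hg, fun x hx => (hgf x hx).symm, fun x hx => ?_⟩
  show g * x * g⁻¹ = x
  rw [h x hx g hg, mul_inv_cancel_right]

/-- data for the generalized Fitting subsystem -/
theorem layer_core_data [Finite S] [Fact p.Prime] (hS : IsPGroup p S) (hF : F.IsSaturated p)
    (hE : E.IsLayerOf F p) : Comm F.core T ∧ F.core ⊓ T ≤ (innerFusionSystem F.core).center ∧
      F.core ⊓ T ≤ E.center := by
  obtain ⟨h1, h2⟩ := core_centralizes_layer hS hF hE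
  have hTs := isNormalIn.sc hE.1
  have hc : Comm F.core T := fun x hx y hy => (mem_centralizerIn.1 (h1 hy)).2 x hx
  refine ⟨hc, center_inner inf_le_left fun z hz q hq => hc q hq z hz.2, ?_⟩
  have hn : E.IsNormal (T ⊓ F.core) := isNormal_inf_sub hS hTs hE.1.1.2.2.1 hE.1.1.1 (Join.isNormal_core F)
  rw [inf_comm] at hn
  refine normal_le_center (F := F) hn ?_
  have h3 := (subset_centralizerHom_iff (C := F.core) hTs.1 ?_).1 h2
  · intro P f hf
    obtain ⟨g, hg, hgf, hgc⟩ := h3 P f hf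
    exact ⟨g, hg.mono (sup_le_sup_left inf_le_left _), hgf, fun c hc => hgc c hc.1⟩
  · exact fun x hx => mem_centralizerIn.2 ⟨Join.core_le F hx, fun y hy => ((mem_centralizerIn.1 (h1 hy)).2 x hx).symm⟩

theorem genFitting_cnorm [Finite S] [Fact p.Prime] (hS : IsPGroup p S) (hF : F.IsSaturated p)
    {U : Subgroup Ω} {D : FusionSystem U} (hE : E.IsLayerOf F p)
    (hD : IsCentralProductOf (innerFusionSystem F.core) E D) : CNorm F (innerFusionSystem F.core) E D p := by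
  have hf1 := finite_of_le (Join.core_le F)
  have hf2 := finite_of_le (isNormalIn.sc hE.1).1
  exact ⟨hS, inner_isNormalIn hS hF (Join.isNormal_core F), hE.1, cprod_of_isCentralProductOf hD⟩

/-- **Existence and normality of the generalized Fitting subsystem.** -/
theorem genFitting [Finite S] [Fact p.Prime] (hS : IsPGroup p S) (hF : F.IsSaturated p) :
    (∃ (U : Subgroup Ω) (D : FusionSystem U), D.IsGeneralizedFittingOf F p) ∧
      ∀ (U : Subgroup Ω) (D : FusionSystem U), D.IsGeneralizedFittingOf F p → D.IsNormalIn F p := by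
  constructor
  · obtain ⟨T, E, hE⟩ := exists_layer hS hF
    obtain ⟨hc, h1, h2⟩ := layer_core_data hS hF hE
    have hf1 := finite_of_le (Join.core_le F)
    have hf2 := finite_of_le (isNormalIn.sc hE.1).1
    obtain ⟨D, hD⟩ := exists_centralProduct (E₁ := innerFusionSystem F.core) (E₂ := E) hc rfl h1 h2
    exact ⟨_, D, T, E, hE, hD⟩
  · rintro U D ⟨T, E, hE, hD⟩
    exact (genFitting_cnorm hS hF hE hD).normal

end Cfsg.Agent.Fus
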