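import Cfsg.Agent.Fus.Factor
import Cfsg.Agent.Fus.NormalChar
import Cfsg.Agent.Fus.Join
import Cfsg.Agent.Fus.CentralQuot
set_option autoImplicit false

/-!
# Central products of fusion systems, pointwise (helper85)
-/

namespace Cfsg.Agent.Fus

open Cfsg Cfsg.FusionSystem Cfsg.Agent.H85

variable {Ω : Type*} [Group Ω] {T₁ T₂ T : Subgroup Ω} {E₁ : FusionSystem T₁} {E₂ : FusionSystem T₂}
  {D : FusionSystem T}

/-- the elements of `T₁` occurring as first factors in `P` -/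
def prL (T₁ T₂ P : Subgroup Ω) : Subgroup Ω := T₁ ⊓ (P ⊔ T₂)

/-- the elements of `T₂` occurring as second factors in `P` -/
def prR (T₁ T₂ P : Subgroup Ω) : Subgroup Ω := T₂ ⊓ (P ⊔ T₁)

/-- `T₁` and `T₂` commute -/
def Comm (T₁ T₂ : Subgroup Ω) : Prop := ∀ x ∈ T₁, ∀ y ∈ T₂, x * y = y * x

theorem Comm.mem_sup (hc : Comm T₁ T₂) {x : Ω} : x ∈ T₁ ⊔ T₂ ↔ ∃ a ∈ T₁, ∃ b ∈ T₂, a * b = x :=
  mem_sup_iff_of_normalizes fun b hb => by
    rw [Subgroup.mem_normalizer_iff]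
    intro a
    constructor
    · intro ha
      rw [← hc a ha b hb, mul_inv_cancel_right]; exact ha
    · intro ha
      have h1 := hc _ ha b hb
      have : b * a = b * (b * a * b⁻¹) := by rw [← h1]; group
      have h2 := mul_left_cancel this
      rw [h2]; exact ha

theorem Comm.le_normalizer_right (hc : Comm T₁ T₂) : T₁ ⊔ T₂ ≤ Subgroup.normalizer (T₂ : Set Ω) := by
  intro x hx
  obtain ⟨a, ha, b, hb, rfl⟩ := hc.mem_sup.1 hx
  refine Subgroup.mul_mem _ ?_ (Subgroup.le_normalizer hb)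
  rw [Subgroup.mem_normalizer_iff]
  intro y
  constructor
  · intro hy
    rw [hc a ha y hy, mul_inv_cancel_right]; exact hy
  · intro hy
    have h1 := hc a ha _ hy
    have : a * y = a * (a * y * a⁻¹) := by rw [h1]; group
    have h2 := mul_left_cancel this
    rw [h2]; exact hy

theorem Comm.symm (hc : Comm T₁ T₂) : Comm T₂ T₁ := fun x hx y hy => (hc y hy x hx).symm

theorem Comm.mem_prL (hc : Comm T₁ T₂) {P : Subgroup Ω} (hP : P ≤ T₁ ⊔ T₂) {x : Ω} :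
    x ∈ prL T₁ T₂ P ↔ x ∈ T₁ ∧ ∃ y ∈ T₂, x * y ∈ P := by
  unfold prL
  rw [Subgroup.mem_inf]
  refine and_congr_right fun hx => ?_
  rw [sup_comm, mem_sup_iff_of_normalizes (hP.trans hc.le_normalizer_right)]
  constructor
  · rintro ⟨y, hy, z, hz, rfl⟩
    exact ⟨y⁻¹, T₂.inv_mem hy, by rw [hc _ hx _ (T₂.inv_mem hy), inv_mul_cancel_left]; exact hz⟩
  · rintro ⟨y, hy, hxy⟩
    exact ⟨y⁻¹, T₂.inv_mem hy, x * y, hxy, by rw [← mul_assoc, ← hc _ hx _ (T₂.inv_mem hy), mul_assoc,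
      inv_mul_cancel, mul_one]⟩

theorem Comm.mem_prR (hc : Comm T₁ T₂) {P : Subgroup Ω} (hP : P ≤ T₁ ⊔ T₂) {y : Ω} :
    y ∈ prR T₁ T₂ P ↔ y ∈ T₂ ∧ ∃ x ∈ T₁, x * y ∈ P := by
  have h1 : P ≤ T₂ ⊔ T₁ := by rwa [sup_comm]
  have h2 := hc.symm.mem_prL h1 (x := y)
  have h3 : prL T₂ T₁ P = prR T₁ T₂ P := rfl
  rw [h3] at h2
  rw [h2]
  refine and_congr_right fun hy => ?_
  constructor
  · rintro ⟨x, hx, h⟩
    exact ⟨x, hx, by rw [hc x hx y hy]; exact h⟩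
  · rintro ⟨x, hx, h⟩
    exact ⟨x, hx, by rw [← hc x hx y hy]; exact h⟩

/-- pointwise central product -/
structure CProd (E₁ : FusionSystem T₁) (E₂ : FusionSystem T₂) (D : FusionSystem T) : Prop where
  comm : Comm T₁ T₂
  eq : T = T₁ ⊔ T₂
  cen1 : T₁ ⊓ T₂ ≤ E₁.center
  cen2 : T₁ ⊓ T₂ ≤ E₂.center
  isMap_iff : ∀ P f, IsMap D P f ↔ P ≤ T ∧ ∃ f₁ f₂, IsMap E₁ (prL T₁ T₂ P) f₁ ∧ IsMap E₂ (prR T₁ T₂ P) f₂ ∧
    ∀ x ∈ T₁, ∀ y ∈ T₂, x * y ∈ P → f (x * y) = f₁ x * f₂ y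

theorem pmem {x y : Ω} (hx : x ∈ T₁) (hy : y ∈ T₂) : ((x, y) : Ω × Ω) ∈ T₁.prod T₂ := Subgroup.mem_prod.2 ⟨hx, hy⟩

/-- restriction of the centre of the product -/
theorem center_prod {D₀ : FusionSystem (T₁.prod T₂)} (h : IsProductSystem E₁ E₂ D₀) {Z : Subgroup (Ω × Ω)}
    (hZ : D₀.IsCentral Z) : E₁.IsCentral (Z.map (MonoidHom.fst Ω Ω)) ∧ E₂.IsCentral (Z.map (MonoidHom.snd Ω Ω)) := by
  have hm := isProductSystem_iff.1 h
  obtain ⟨hZ1, hZ2⟩ := isCentral_iff_isMap.1 hZ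
  constructor
  · refine isCentral_iff_isMap.2 ⟨?_, fun P f hf => ?_⟩
    · rintro _ ⟨z, hz, rfl⟩; exact (Subgroup.mem_prod.1 (hZ1 hz)).1
    · have h1 : IsMap D₀ (P.prod ⊥) (fun x => (f x.1, x.2)) := by
        rw [hm]
        have e1 : (P.prod (⊥ : Subgroup Ω)).map (MonoidHom.fst Ω Ω) = P := by
          ext x
          constructor
          · rintro ⟨z, hz, rfl⟩; exact (Subgroup.mem_prod.1 hz).1
          · intro hx; exact ⟨(x, 1), Subgroup.mem_prod.2 ⟨hx, Subgroup.one_mem _⟩, rfl⟩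
        have e2 : (P.prod (⊥ : Subgroup Ω)).map (MonoidHom.snd Ω Ω) ≤ T₂ := by
          rintro _ ⟨z, hz, rfl⟩
          have h3 := Subgroup.mem_bot.1 (Subgroup.mem_prod.1 hz).2
          show z.2 ∈ T₂
          rw [h3]; exact T₂.one_mem
        refine ⟨fun x hx => Subgroup.mem_prod.2 ⟨hf.le (Subgroup.mem_prod.1 hx).1, ?_⟩, f, id, ?_, isMap_id e2,
          fun x _ => rfl⟩
        · rw [Subgroup.mem_bot.1 (Subgroup.mem_prod.1 hx).2]; exact T₂.one_mem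
        · rw [e1]; exact hf
      obtain ⟨g, hg, hgf, hgZ⟩ := hZ2 _ _ h1
      obtain ⟨-, g₁, g₂, hg₁, hg₂, hgg⟩ := (hm _ _).1 hg
      have hle : P ⊔ Z.map (MonoidHom.fst Ω Ω) ≤ (P.prod (⊥ : Subgroup Ω) ⊔ Z).map (MonoidHom.fst Ω Ω) := by
        rw [Subgroup.map_sup]
        refine sup_le_sup_right ?_ _
        intro x hx
        exact ⟨(x, 1), Subgroup.mem_prod.2 ⟨hx, Subgroup.one_mem _⟩, rfl⟩
      refine ⟨g₁, hg₁.mono hle, fun x hx => ?_, ?_⟩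
      · have hxm : ((x, 1) : Ω × Ω) ∈ P.prod (⊥ : Subgroup Ω) := Subgroup.mem_prod.2 ⟨hx, Subgroup.one_mem _⟩
        have h3 := hgf _ hxm
        rw [hgg _ (le_sup_left (b := Z) hxm)] at h3
        exact (Prod.ext_iff.1 h3).1
      · rintro _ ⟨z, hz, rfl⟩
        have h3 := hgZ z hz
        rw [hgg _ (le_sup_right (a := P.prod (⊥ : Subgroup Ω)) hz)] at h3
        exact (Prod.ext_iff.1 h3).1
  · refine isCentral_iff_isMap.2 ⟨?_, fun P f hf => ?_⟩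
    · rintro _ ⟨z, hz, rfl⟩; exact (Subgroup.mem_prod.1 (hZ1 hz)).2
    · have h1 : IsMap D₀ ((⊥ : Subgroup Ω).prod P) (fun x => (x.1, f x.2)) := by
        rw [hm]
        have e1 : ((⊥ : Subgroup Ω).prod P).map (MonoidHom.snd Ω Ω) = P := by
          ext x
          constructor
          · rintro ⟨z, hz, rfl⟩; exact (Subgroup.mem_prod.1 hz).2
          · intro hx; exact ⟨(1, x), Subgroup.mem_prod.2 ⟨Subgroup.one_mem _, hx⟩, rfl⟩
        have e2 : ((⊥ : Subgroup Ω).prod P).map (MonoidHom.fst Ω Ω) ≤ T₁ := by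
          rintro _ ⟨z, hz, rfl⟩
          have h3 := Subgroup.mem_bot.1 (Subgroup.mem_prod.1 hz).1
          show z.1 ∈ T₁
          rw [h3]; exact T₁.one_mem
        refine ⟨fun x hx => Subgroup.mem_prod.2 ⟨?_, hf.le (Subgroup.mem_prod.1 hx).2⟩, id, f, isMap_id e2, ?_,
          fun x _ => rfl⟩
        · rw [Subgroup.mem_bot.1 (Subgroup.mem_prod.1 hx).1]; exact T₁.one_mem
        · rw [e1]; exact hf
      obtain ⟨g, hg, hgf, hgZ⟩ := hZ2 _ _ h1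
      obtain ⟨-, g₁, g₂, hg₁, hg₂, hgg⟩ := (hm _ _).1 hg
      have hle : P ⊔ Z.map (MonoidHom.snd Ω Ω) ≤ ((⊥ : Subgroup Ω).prod P ⊔ Z).map (MonoidHom.snd Ω Ω) := by
        rw [Subgroup.map_sup]
        refine sup_le_sup_right ?_ _
        intro x hx
        exact ⟨(1, x), Subgroup.mem_prod.2 ⟨Subgroup.one_mem _, hx⟩, rfl⟩
      refine ⟨g₂, hg₂.mono hle, fun x hx => ?_, ?_⟩
      · have hxm : ((1, x) : Ω × Ω) ∈ (⊥ : Subgroup Ω).prod P := Subgroup.mem_prod.2 ⟨Subgroup.one_mem _, hx⟩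
        have h3 := hgf _ hxm
        rw [hgg _ (le_sup_left (b := Z) hxm)] at h3
        exact (Prod.ext_iff.1 h3).2
      · rintro _ ⟨z, hz, rfl⟩
        have h3 := hgZ z hz
        rw [hgg _ (le_sup_right (a := (⊥ : Subgroup Ω).prod P) hz)] at h3
        exact (Prod.ext_iff.1 h3).2

/-- the pointwise form of a central product -/
theorem cprod_of_isCentralProductOf [Finite T₁] [Finite T₂] (h : IsCentralProductOf E₁ E₂ D) : CProd E₁ E₂ D := by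
  obtain ⟨D₀, hD₀, Z, θ, hZ, -, -, h1, h2, hfac⟩ := h
  have hm := isProductSystem_iff.1 hD₀
  obtain ⟨hZS, hker, hr, hD⟩ := isFactorSystem_iff.1 hfac
  have hext : ∀ x ∈ T₁, ∀ y ∈ T₂, ext θ (x, y) = x * y := by
    intro x hx y hy
    have e : ((x, y) : Ω × Ω) = (x, 1) * (1, y) := by simp
    rw [e, ext_mul θ (pmem hx T₂.one_mem) (pmem T₁.one_mem hy), ext_apply θ (pmem hx T₂.one_mem),
      ext_apply θ (pmem T₁.one_mem hy), h1, h2]
  have hext' : ∀ x ∈ T₁, ∀ y ∈ T₂, ext θ (x, y) = y * x := by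
    intro x hx y hy
    have e : ((x, y) : Ω × Ω) = (1, y) * (x, 1) := by simp
    rw [e, ext_mul θ (pmem T₁.one_mem hy) (pmem hx T₂.one_mem), ext_apply θ (pmem hx T₂.one_mem),
      ext_apply θ (pmem T₁.one_mem hy), h1, h2]
  have hc : Comm T₁ T₂ := fun x hx y hy => by rw [← hext x hx y hy, hext' x hx y hy]
  have hT : T = T₁ ⊔ T₂ := by
    rw [← hr]
    ext z
    rw [mem_range_iff, hc.mem_sup]
    constructor
    · rintro ⟨⟨x, y⟩, hxy, rfl⟩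
      obtain ⟨hx, hy⟩ := Subgroup.mem_prod.1 hxy
      exact ⟨x, hx, y, hy, (hext x hx y hy).symm⟩
    · rintro ⟨x, hx, y, hy, rfl⟩
      exact ⟨(x, y), pmem hx hy, hext x hx y hy⟩
  have hcen : D₀.IsCentral D₀.center := by
    have : Finite ↥(T₁.prod T₂) := Finite.of_equiv _ (Subgroup.prodEquiv T₁ T₂).symm.toEquiv
    exact Join.isCentral_center D₀
  obtain ⟨hc1, hc2⟩ := center_prod hD₀ hcen
  have hcZ : ∀ z ∈ T₁ ⊓ T₂, ((z, z⁻¹) : Ω × Ω) ∈ D₀.center := by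
    rintro z ⟨hz1, hz2⟩
    apply hZ
    rw [← hker _ (pmem hz1 (T₂.inv_mem hz2)), hext z hz1 _ (T₂.inv_mem hz2), mul_inv_cancel]
  refine ⟨hc, hT, fun z hz => Join.le_center hc1 ⟨_, hcZ z hz, rfl⟩, fun z hz => ?_, fun P f => ?_⟩
  · have h3 : (z⁻¹)⁻¹ ∈ E₂.center := Subgroup.inv_mem _ (Join.le_center hc2 ⟨_, hcZ z hz, rfl⟩)
    rwa [inv_inv] at h3
  · rw [hD, FacMap]
    constructor
    · rintro ⟨hP, g, hg, hi⟩
      rw [hr] at hP
      refine ⟨hP, ?_⟩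
      obtain ⟨-, g₁, g₂, hg₁, hg₂, hgg⟩ := (hm _ _).1 hg
      rw [hT] at hP
      have e1 : (preimageAlong θ P).map (MonoidHom.fst Ω Ω) = prL T₁ T₂ P := by
        ext x
        rw [hc.mem_prL hP]
        constructor
        · rintro ⟨⟨a, b⟩, hab, rfl⟩
          obtain ⟨hab1, hab2⟩ := (mem_preimageAlong θ).1 hab
          obtain ⟨ha, hb⟩ := Subgroup.mem_prod.1 hab1
          rw [hext a ha b hb] at hab2
          exact ⟨ha, b, hb, hab2⟩
        · rintro ⟨hx, y, hy, hxy⟩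
          exact ⟨(x, y), (mem_preimageAlong θ).2 ⟨pmem hx hy, by rw [hext x hx y hy]; exact hxy⟩, rfl⟩
      have e2 : (preimageAlong θ P).map (MonoidHom.snd Ω Ω) = prR T₁ T₂ P := by
        ext x
        rw [hc.mem_prR hP]
        constructor
        · rintro ⟨⟨a, b⟩, hab, rfl⟩
          obtain ⟨hab1, hab2⟩ := (mem_preimageAlong θ).1 hab
          obtain ⟨ha, hb⟩ := Subgroup.mem_prod.1 hab1
          rw [hext a ha b hb] at hab2
          exact ⟨hb, a, ha, hab2⟩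
        · rintro ⟨hy, x', hx', hxy⟩
          exact ⟨(x', x), (mem_preimageAlong θ).2 ⟨pmem hx' hy, by rw [hext x' hx' x hy]; exact hxy⟩, rfl⟩
      rw [e1] at hg₁
      rw [e2] at hg₂
      refine ⟨g₁, g₂, hg₁, hg₂, fun x hx y hy hxy => ?_⟩
      have hmem : ((x, y) : Ω × Ω) ∈ preimageAlong θ P :=
        (mem_preimageAlong θ).2 ⟨pmem hx hy, by rw [hext x hx y hy]; exact hxy⟩
      have h3 := hi _ hmem
      rw [hext x hx y hy, hgg _ hmem] at h3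
      rw [h3, hext _ (hg₁.mem ((hc.mem_prL hP).2 ⟨hx, y, hy, hxy⟩)) _ (hg₂.mem ((hc.mem_prR hP).2 ⟨hy, x, hx, hxy⟩))]
    · rintro ⟨hP, g₁, g₂, hg₁, hg₂, hgg⟩
      refine ⟨by rw [hr]; exact hP, ?_⟩
      rw [hT] at hP
      have hL : ∀ z ∈ preimageAlong θ P, z.1 ∈ T₁ ∧ z.2 ∈ T₂ ∧ z.1 * z.2 ∈ P := by
        rintro ⟨a, b⟩ hab
        obtain ⟨hab1, hab2⟩ := (mem_preimageAlong θ).1 hab
        obtain ⟨ha, hb⟩ := Subgroup.mem_prod.1 hab1
        rw [hext a ha b hb] at hab2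
        exact ⟨ha, hb, hab2⟩
      have h1' : (preimageAlong θ P).map (MonoidHom.fst Ω Ω) ≤ prL T₁ T₂ P := by
        rintro _ ⟨z, hz, rfl⟩
        obtain ⟨ha, hb, hab⟩ := hL z hz
        exact (hc.mem_prL hP).2 ⟨ha, z.2, hb, hab⟩
      have h2' : (preimageAlong θ P).map (MonoidHom.snd Ω Ω) ≤ prR T₁ T₂ P := by
        rintro _ ⟨z, hz, rfl⟩
        obtain ⟨ha, hb, hab⟩ := hL z hz
        exact (hc.mem_prR hP).2 ⟨hb, z.1, ha, hab⟩
      refine ⟨fun z => (g₁ z.1, g₂ z.2), ?_, fun z hz => ?_⟩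
      · rw [hm]
        exact ⟨preimageAlong_le θ P, g₁, g₂, hg₁.mono h1', hg₂.mono h2', fun x _ => rfl⟩
      · obtain ⟨ha, hb, hab⟩ := hL z hz
        have e : z = (z.1, z.2) := rfl
        rw [e, hext _ ha _ hb, hgg _ ha _ hb hab]
        have m1 : g₁ z.1 ∈ T₁ := hg₁.mem (h1' ⟨z, hz, rfl⟩)
        have m2 : g₂ z.2 ∈ T₂ := hg₂.mem (h2' ⟨z, hz, rfl⟩)
        exact (hext _ m1 _ m2).symm

end Cfsg.Agent.Fus
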