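import Cfsg.Agent.Fus.CProd
set_option autoImplicit false

/-!
# Central products of fusion systems: symmetry, factors, existence (helper85)
-/

namespace Cfsg.Agent.Fus

open Cfsg Cfsg.FusionSystem Cfsg.Agent.H85

variable {Ω : Type*} [Group Ω] {T₁ T₂ T : Subgroup Ω} {E₁ : FusionSystem T₁} {E₂ : FusionSystem T₂}
  {D : FusionSystem T}

theorem CProd.symm (h : CProd E₁ E₂ D) : CProd E₂ E₁ D where
  comm := h.comm.symm
  eq := by rw [h.eq, sup_comm]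
  cen1 := by rw [inf_comm]; exact h.cen2
  cen2 := by rw [inf_comm]; exact h.cen1
  isMap_iff := by
    intro P f
    rw [h.isMap_iff]
    refine and_congr_right fun _ => ?_
    constructor
    · rintro ⟨f₁, f₂, h1, h2, h3⟩
      refine ⟨f₂, f₁, h2, h1, fun x hx y hy hxy => ?_⟩
      rw [← h.comm y hy x hx] at hxy ⊢
      rw [h3 y hy x hx hxy]
      have hP : P ≤ T₁ ⊔ T₂ := by rw [← h.eq]; assumption
      have m1 : f₁ y ∈ T₁ := h1.mem ((h.comm.mem_prL hP).2 ⟨hy, x, hx, hxy⟩)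
      have m2 : f₂ x ∈ T₂ := h2.mem ((h.comm.mem_prR hP).2 ⟨hx, y, hy, hxy⟩)
      exact h.comm _ m1 _ m2
    · rintro ⟨f₂, f₁, h2, h1, h3⟩
      refine ⟨f₁, f₂, h1, h2, fun x hx y hy hxy => ?_⟩
      have hP : P ≤ T₁ ⊔ T₂ := by rw [← h.eq]; assumption
      have m1 : f₁ x ∈ T₁ := h1.mem ((h.comm.mem_prL hP).2 ⟨hx, y, hy, hxy⟩)
      have m2 : f₂ y ∈ T₂ := h2.mem ((h.comm.mem_prR hP).2 ⟨hy, x, hx, hxy⟩)
      have hyx : y * x ∈ P := by rw [← h.comm x hx y hy]; exact hxy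
      rw [h.comm x hx y hy, h3 y hy x hx hyx]
      exact (h.comm _ m1 _ m2).symm

theorem CProd.le_left (h : CProd E₁ E₂ D) : T₁ ≤ T := by rw [h.eq]; exact le_sup_left

theorem CProd.le_right (h : CProd E₁ E₂ D) : T₂ ≤ T := by rw [h.eq]; exact le_sup_right

theorem prL_of_le (hc : Comm T₁ T₂) {P : Subgroup Ω} (hP : P ≤ T₁) : prL T₁ T₂ P = P ⊔ (T₁ ⊓ T₂) := by
  ext x
  have hcm : Comm P (T₁ ⊓ T₂) := fun a ha b hb => hc a (hP ha) b hb.2
  rw [hc.mem_prL (hP.trans le_sup_left), hcm.mem_sup]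
  constructor
  · rintro ⟨hx, y, hy, hxy⟩
    have hyT : y ∈ T₁ := (Subgroup.mul_mem_cancel_left _ hx).1 (hP hxy)
    exact ⟨x * y, hxy, y⁻¹, Subgroup.inv_mem _ ⟨hyT, hy⟩, by group⟩
  · rintro ⟨a, ha, b, hb, rfl⟩
    exact ⟨T₁.mul_mem (hP ha) hb.1, b⁻¹, T₂.inv_mem hb.2, by rw [mul_inv_cancel_right]; exact ha⟩

theorem prR_of_le (hc : Comm T₁ T₂) {P : Subgroup Ω} (hP : P ≤ T₁) : prR T₁ T₂ P = T₁ ⊓ T₂ := by
  ext y
  rw [hc.mem_prR (hP.trans le_sup_left)]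
  constructor
  · rintro ⟨hy, x, hx, hxy⟩
    exact ⟨(Subgroup.mul_mem_cancel_left _ hx).1 (hP hxy), hy⟩
  · rintro ⟨h1, h2⟩
    exact ⟨h2, y⁻¹, T₁.inv_mem h1, by rw [inv_mul_cancel]; exact P.one_mem⟩

theorem central_extend [Finite T₁] {Z : Subgroup Ω} (hZ : Z ≤ E₁.center) {P : Subgroup Ω} {f : Ω → Ω}
    (hf : IsMap E₁ P f) : ∃ g, IsMap E₁ (P ⊔ Z) g ∧ (∀ x ∈ P, g x = f x) ∧ ∀ x ∈ Z, g x = x := by
  obtain ⟨g, hg, hgf, hgZ⟩ := (isCentral_iff_isMap.1 (Join.isCentral_center E₁)).2 _ _ hf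
  exact ⟨g, hg.mono (sup_le_sup_left hZ _), hgf, fun x hx => hgZ x (hZ hx)⟩

/-- the factors of a central product are subsystems -/
theorem CProd.isMap_left [Finite T₁] (h : CProd E₁ E₂ D) {P : Subgroup Ω} {f : Ω → Ω} (hf : IsMap E₁ P f) :
    IsMap D P f := by
  obtain ⟨g, hg, hgf, hgZ⟩ := central_extend h.cen1 hf
  have hP := hf.le
  rw [h.isMap_iff]
  refine ⟨hP.trans h.le_left, g, id, ?_, ?_, fun x hx y hy hxy => ?_⟩
  · rw [prL_of_le h.comm hP]; exact hg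
  · rw [prR_of_le h.comm hP]; exact isMap_id inf_le_right
  · have hyT : y ∈ T₁ ⊓ T₂ := ⟨(Subgroup.mul_mem_cancel_left _ hx).1 (hP hxy), hy⟩
    have hxP : x ∈ P ⊔ (T₁ ⊓ T₂) := by
      have : x = (x * y) * y⁻¹ := by group
      rw [this]
      exact Subgroup.mul_mem _ (le_sup_left (a := P) hxy) (le_sup_right (a := P) (Subgroup.inv_mem _ hyT))
    rw [← hgf _ hxy, hg.map_mul hxP (le_sup_right (a := P) hyT), hgZ y hyT]
    rfl

theorem CProd.isMap_right [Finite T₂] (h : CProd E₁ E₂ D) {P : Subgroup Ω} {f : Ω → Ω} (hf : IsMap E₂ P f) :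
    IsMap D P f := h.symm.isMap_left hf

theorem CProd.isMap_left_fix [Finite T₁] (h : CProd E₁ E₂ D) {P : Subgroup Ω} {f : Ω → Ω} (hf : IsMap E₁ P f) :
    ∃ g, IsMap D (P ⊔ T₂) g ∧ (∀ x ∈ P, g x = f x) ∧ ∀ x ∈ T₂, g x = x := by
  obtain ⟨k, hk, hkf, hkZ⟩ := central_extend h.cen1 hf
  have hP := hf.le
  have hcm : Comm P T₂ := fun a ha b hb => h.comm a (hP ha) b hb
  have hPT : P ⊔ T₂ ≤ T₁ ⊔ T₂ := sup_le_sup_right hP _
  -- define g on P T₂ by (x y) ↦ k x * y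
  classical
  let g : Ω → Ω := fun z => if hz : ∃ x ∈ P, ∃ y ∈ T₂, x * y = z then
    k hz.choose * hz.choose_spec.2.choose else z
  have hgdef : ∀ x ∈ P, ∀ y ∈ T₂, g (x * y) = k x * y := by
    intro x hx y hy
    have hz : ∃ x' ∈ P, ∃ y' ∈ T₂, x' * y' = x * y := ⟨x, hx, y, hy, rfl⟩
    have hg : g (x * y) = k hz.choose * hz.choose_spec.2.choose := dif_pos hz
    rw [hg]
    have a1 := hz.choose_spec.1
    have a2 := hz.choose_spec.2.choose_spec.1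
    have a3 := hz.choose_spec.2.choose_spec.2
    generalize hz.choose_spec.2.choose = y' at a2 a3
    generalize hz.choose = x' at a1 a3
    have e : x⁻¹ * x' = y * y'⁻¹ := by
      rw [eq_mul_inv_iff_mul_eq, mul_assoc, a3, inv_mul_cancel_left]
    have m1 : x⁻¹ * x' ∈ P := P.mul_mem (P.inv_mem hx) a1
    have m2 : x⁻¹ * x' ∈ T₁ ⊓ T₂ := ⟨hP m1, by rw [e]; exact T₂.mul_mem hy (T₂.inv_mem a2)⟩
    have e2 : k x' = k x * (x⁻¹ * x') := by
      have : x' = x * (x⁻¹ * x') := by group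
      conv_lhs => rw [this]
      rw [hk.map_mul (le_sup_left (a := P) hx) (le_sup_left (a := P) m1), hkZ _ m2]
    rw [e2, e]; group
  refine ⟨g, ?_, fun x hx => ?_, fun y hy => ?_⟩
  · rw [h.isMap_iff]
    refine ⟨by rw [h.eq]; exact hPT, k, id, ?_, ?_, ?_⟩
    · have : prL T₁ T₂ (P ⊔ T₂) = P ⊔ (T₁ ⊓ T₂) := by
        ext x
        have hcm' : Comm P (T₁ ⊓ T₂) := fun a ha b hb => hcm a ha b hb.2
        rw [h.comm.mem_prL hPT, hcm'.mem_sup]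
        constructor
        · rintro ⟨hx, y, hy, hxy⟩
          obtain ⟨a, ha, b, hb, hab⟩ := hcm.mem_sup.1 hxy
          have e : a⁻¹ * x = b * y⁻¹ := by
            rw [eq_mul_inv_iff_mul_eq, mul_assoc, ← hab, inv_mul_cancel_left]
          refine ⟨a, ha, a⁻¹ * x, ⟨T₁.mul_mem (T₁.inv_mem (hP ha)) hx, ?_⟩, by group⟩
          rw [e]; exact T₂.mul_mem hb (T₂.inv_mem hy)
        · rintro ⟨a, ha, b, hb, rfl⟩
          exact ⟨T₁.mul_mem (hP ha) hb.1, b⁻¹, T₂.inv_mem hb.2, by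
            rw [mul_inv_cancel_right]; exact le_sup_left (a := P) ha⟩
      rw [this]; exact hk
    · exact isMap_id (fun y hy => ((h.comm.mem_prR hPT).1 hy).1)
    · intro x hx y hy hxy
      obtain ⟨a, ha, b, hb, hab⟩ := hcm.mem_sup.1 hxy
      rw [← hab, hgdef a ha b hb]
      have e : a⁻¹ * x = b * y⁻¹ := by
        rw [eq_mul_inv_iff_mul_eq, mul_assoc, ← hab, inv_mul_cancel_left]
      have m2 : a⁻¹ * x ∈ T₁ ⊓ T₂ := ⟨T₁.mul_mem (T₁.inv_mem (hP ha)) hx, by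
        rw [e]; exact T₂.mul_mem hb (T₂.inv_mem hy)⟩
      have e2 : k x = k a * (a⁻¹ * x) := by
        have : x = a * (a⁻¹ * x) := by group
        conv_lhs => rw [this]
        rw [hk.map_mul (le_sup_left (a := P) ha) (le_sup_right (a := P) m2), hkZ _ m2]
      rw [e2, e]
      show k a * b = k a * (b * y⁻¹) * y
      group
  · have := hgdef x hx 1 T₂.one_mem
    rw [mul_one, mul_one] at this
    rw [this, hkf x hx]
  · have := hgdef 1 P.one_mem y hy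
    rw [one_mul, hk.map_one, one_mul] at this
    exact this

/-- the multiplication map -/
def mulHom (hc : Comm T₁ T₂) : ↥(T₁.prod T₂) →* Ω where
  toFun z := z.1.1 * z.1.2
  map_one' := by simp
  map_mul' := by
    rintro ⟨⟨a, b⟩, hab⟩ ⟨⟨c, d⟩, hcd⟩
    show a * c * (b * d) = a * b * (c * d)
    have h1 := (Subgroup.mem_prod.1 hab).2
    have h2 := (Subgroup.mem_prod.1 hcd).1
    have h3 := hc c h2 b h1
    calc a * c * (b * d) = a * (c * b) * d := by group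
      _ = a * (b * c) * d := by rw [h3]
      _ = _ := by group

theorem exists_centralProduct [Finite T₁] [Finite T₂] (hc : Comm T₁ T₂) (hT : T = T₁ ⊔ T₂) (h1 : T₁ ⊓ T₂ ≤ E₁.center)
    (h2 : T₁ ⊓ T₂ ≤ E₂.center) : ∃ D : FusionSystem T, IsCentralProductOf E₁ E₂ D := by
  have : Finite ↥(T₁.prod T₂) := Finite.of_equiv _ (Subgroup.prodEquiv T₁ T₂).symm.toEquiv
  let Z : Subgroup (Ω × Ω) := (mulHom hc).ker.map (T₁.prod T₂).subtype
  have hext : ∀ x ∈ T₁, ∀ y ∈ T₂, ext (mulHom hc) (x, y) = x * y := by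
    intro x hx y hy
    rw [ext_apply _ (pmem hx hy)]; rfl
  have hmZ : ∀ x y : Ω, ((x, y) : Ω × Ω) ∈ Z ↔ x ∈ T₁ ⊓ T₂ ∧ y = x⁻¹ := by
    intro x y
    constructor
    · rintro ⟨z, hz, hzx⟩
      have hz1 : z.1.1 * z.1.2 = 1 := hz
      have e : z.1 = (x, y) := hzx
      obtain ⟨m1, m2⟩ := Subgroup.mem_prod.1 z.2
      rw [e] at hz1 m1 m2
      have hy : y = x⁻¹ := (eq_inv_of_mul_eq_one_right hz1)
      refine ⟨⟨m1, ?_⟩, hy⟩
      have : x = y⁻¹ := by rw [hy, inv_inv]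
      rw [this]; exact T₂.inv_mem m2
    · rintro ⟨⟨m1, m2⟩, rfl⟩
      exact ⟨⟨(x, x⁻¹), pmem m1 (T₂.inv_mem m2)⟩, mul_inv_cancel x, rfl⟩
  have hZle : Z ≤ T₁.prod T₂ := by
    rintro ⟨x, y⟩ hxy
    obtain ⟨⟨m1, m2⟩, rfl⟩ := (hmZ x y).1 hxy
    exact pmem m1 (T₂.inv_mem m2)
  have hcen : (prodSystem E₁ E₂).IsCentral Z := by
    refine isCentral_iff_isMap.2 ⟨hZle, fun P f hf => ?_⟩
    obtain ⟨hP, f₁, f₂, hf₁, hf₂, hff⟩ := isMap_prodSystem.1 hf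
    obtain ⟨g₁, hg₁, hg₁f, hg₁Z⟩ := central_extend h1 hf₁
    obtain ⟨g₂, hg₂, hg₂f, hg₂Z⟩ := central_extend h2 hf₂
    refine ⟨fun z => (g₁ z.1, g₂ z.2), isMap_prodSystem.2 ⟨sup_le hP hZle, g₁, g₂, hg₁.mono ?_, hg₂.mono ?_,
      fun x _ => rfl⟩, fun x hx => ?_, ?_⟩
    · rw [Subgroup.map_sup]
      refine sup_le_sup_left ?_ _
      rintro _ ⟨⟨x, y⟩, hxy, rfl⟩
      exact ((hmZ x y).1 hxy).1
    · rw [Subgroup.map_sup]
      refine sup_le_sup_left ?_ _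
      rintro _ ⟨⟨x, y⟩, hxy, rfl⟩
      obtain ⟨hx, rfl⟩ := (hmZ x y).1 hxy
      exact Subgroup.inv_mem _ hx
    · show (g₁ x.1, g₂ x.2) = f x
      rw [hff x hx, hg₁f _ (fst_mem hx), hg₂f _ (snd_mem hx)]
    · rintro ⟨x, y⟩ hxy
      obtain ⟨hx, rfl⟩ := (hmZ x y).1 hxy
      show (g₁ x, g₂ x⁻¹) = (x, x⁻¹)
      rw [hg₁Z x hx, hg₂Z _ (Subgroup.inv_mem _ hx)]
  have hsc : (prodSystem E₁ E₂).StronglyClosed Z := IsNormal.stronglyClosed (Join.isNormal_of_isCentral hcen)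
  have hker : ∀ x ∈ T₁.prod T₂, ext (mulHom hc) x = 1 ↔ x ∈ Z := by
    rintro ⟨x, y⟩ hxy
    obtain ⟨m1, m2⟩ := Subgroup.mem_prod.1 hxy
    rw [hext x m1 y m2, hmZ]
    constructor
    · intro h
      have hy : y = x⁻¹ := eq_inv_of_mul_eq_one_right h
      refine ⟨⟨m1, ?_⟩, hy⟩
      have : x = y⁻¹ := by rw [hy, inv_inv]
      rw [this]; exact T₂.inv_mem m2
    · rintro ⟨-, rfl⟩; exact mul_inv_cancel x
  have hr : (mulHom hc).range = T := by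
    rw [hT]
    ext z
    rw [mem_range_iff, hc.mem_sup]
    constructor
    · rintro ⟨⟨x, y⟩, hxy, rfl⟩
      obtain ⟨hx, hy⟩ := Subgroup.mem_prod.1 hxy
      exact ⟨x, hx, y, hy, (hext x hx y hy).symm⟩
    · rintro ⟨x, hx, y, hy, rfl⟩
      exact ⟨(x, y), pmem hx hy, hext x hx y hy⟩
  obtain ⟨D, hD⟩ := exists_isFactorSystem (prodSystem E₁ E₂) hsc (mulHom hc) hker hr
  refine ⟨D, prodSystem E₁ E₂, isProductSystem_prodSystem E₁ E₂, Z, mulHom hc, Join.le_center hcen, ?_, ?_, ?_, ?_, hD⟩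
  · rw [eq_bot_iff]
    rintro ⟨x, y⟩ ⟨hxy, hxy2⟩
    obtain ⟨-, rfl⟩ := (hmZ x y).1 hxy
    have := Subgroup.mem_bot.1 (Subgroup.mem_prod.1 hxy2).2
    have hx : x = 1 := inv_eq_one.1 this
    subst hx
    exact Subgroup.mem_bot.2 (by simp)
  · rw [eq_bot_iff]
    rintro ⟨x, y⟩ ⟨hxy, hxy2⟩
    obtain ⟨-, rfl⟩ := (hmZ x y).1 hxy
    have hx : x = 1 := Subgroup.mem_bot.1 (Subgroup.mem_prod.1 hxy2).1
    subst hx
    exact Subgroup.mem_bot.2 (by simp)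
  · intro x hx; show x * 1 = x; exact mul_one x
  · intro y hy; show 1 * y = y; exact one_mul y

theorem isCentralProductOf_of_cprod [Finite T₁] [Finite T₂] (h : CProd E₁ E₂ D) : IsCentralProductOf E₁ E₂ D := by
  obtain ⟨D', hD'⟩ := exists_centralProduct (T := T) h.comm h.eq h.cen1 h.cen2
  have h' := cprod_of_isCentralProductOf hD'
  obtain ⟨D₀, hD₀, Z, θ, hZ, hZ1, hZ2, h1, h2, hfac⟩ := hD'
  refine ⟨D₀, hD₀, Z, θ, hZ, hZ1, hZ2, h1, h2, ?_⟩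
  obtain ⟨a, b, c, d⟩ := isFactorSystem_iff.1 hfac
  refine isFactorSystem_iff.2 ⟨a, b, c, fun P f => ?_⟩
  rw [← d, h.isMap_iff, h'.isMap_iff]

theorem isCentralProductOf_iff [Finite T₁] [Finite T₂] : IsCentralProductOf E₁ E₂ D ↔ CProd E₁ E₂ D :=
  ⟨cprod_of_isCentralProductOf, isCentralProductOf_of_cprod⟩

end Cfsg.Agent.Fus
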