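import Cfsg.Agent.Fus.Chain
import Cfsg.Agent.Fus.TransvFus2
set_option autoImplicit false
set_option maxHeartbeats 400000

/-!
# Saturated fusion systems over 2-groups in which every element is conjugate into the centre (helper88)
-/

namespace Cfsg.Agent.Fus

open Cfsg Cfsg.FusionSystem

variable {Ω : Type*} [Group Ω] {S : Subgroup Ω} {F : FusionSystem S} {p : ℕ}

namespace CH

/-- `C_S(x)` -/
def cS (S : Subgroup Ω) (x : Ω) : Subgroup Ω := centralizerIn S (Subgroup.zpowers x)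

theorem mem_cS {x g : Ω} : g ∈ cS S x ↔ g ∈ S ∧ x * g = g * x := by
  rw [cS, mem_centralizerIn]
  refine and_congr_right fun _ => ⟨fun h => h x (Subgroup.mem_zpowers x), fun h y hy => ?_⟩
  obtain ⟨k, rfl⟩ := hy
  exact (Commute.zpow_left (show Commute x g from h) k).eq

theorem cS_le {x : Ω} : cS S x ≤ S := centralizerIn_le _

theorem self_mem_cS {x : Ω} (hx : x ∈ S) : x ∈ cS S x := mem_cS.mpr ⟨hx, rfl⟩

theorem cS_eq_of_mem_zc {x : Ω} (hx : x ∈ zc S) : cS S x = S :=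
  le_antisymm cS_le fun s hs => mem_cS.mpr ⟨hs, ((mem_zc.mp hx).2 s hs).symm⟩

theorem cS_lt {x : Ω} (hx : x ∈ S) (hxZ : x ∉ zc S) : cS S x < S := by
  refine lt_of_le_of_ne cS_le fun h => hxZ ⟨hx, fun s hs => ?_⟩
  rw [← h] at hs
  exact (mem_cS.mp hs).2.symm

/-- maps into the centre extend to the centralizer -/
theorem exists_extend [Finite S] [Fact p.Prime] (hS : IsPGroup p S) (hF : F.IsSaturated p) {x : Ω} {f : Ω → Ω}
    (hf : IsMap F (Subgroup.zpowers x) f) (hz : f x ∈ zc S) : ∃ g, IsMap F (cS S x) g ∧ g x = f x := by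
  have hxm := Subgroup.mem_zpowers x
  have hxS : x ∈ S := hf.le hxm
  have hQ : img (Subgroup.zpowers x) f ≤ zc S := by
    rw [hf.img_eq_range (fun y => rfl : ∀ y, hf.hom y = f y)]
    rintro _ ⟨⟨_, k, rfl⟩, rfl⟩
    show f (x ^ k) ∈ zc S
    rw [hf.map_zpow hxm]
    exact (zc S).zpow_mem hz k
  have hcQ : centralizerIn S (img (Subgroup.zpowers x) f) = S :=
    le_antisymm (centralizerIn_le _) fun s hs => mem_centralizerIn.mpr ⟨hs, fun y hy => ((mem_zc.mp (hQ hy)).2 s hs).symm⟩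
  have hfc : F.IsFullyCentralized (img (Subgroup.zpowers x) f) := by
    refine ⟨hf.img_le, fun Q' _ => ?_⟩
    rw [hcQ]
    exact Subgroup.card_le_of_le (centralizerIn_le _)
  obtain ⟨g, hg, hgf, -⟩ := sat_exists_extend_centralizer hS hF hfc hf rfl
  exact ⟨g, hg.mono le_sup_right, hgf x hxm⟩

/-- conjugate central elements are conjugate under `Aut_F(S)` -/
theorem exists_aut [Finite S] [Fact p.Prime] (hS : IsPGroup p S) (hF : F.IsSaturated p) {P : Subgroup Ω} {c : Ω} {f : Ω → Ω}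
    (hf : IsMap F P f) (hc : c ∈ zc S) (hcP : c ∈ P) (hz : f c ∈ zc S) : ∃ g, IsMap F S g ∧ g c = f c := by
  obtain ⟨g, hg, h⟩ := exists_extend hS hF (hf.mono (Subgroup.zpowers_le.mpr hcP)) hz
  rw [cS_eq_of_mem_zc hc] at hg
  exact ⟨g, hg, h⟩

theorem minv_zc [Finite S] {k : Ω → Ω} (hk : IsMap F S k) {y : Ω} (hy : y ∈ zc S) :
    minv S k y ∈ zc S ∧ k (minv S k y) = y := by
  have hkS := img_eq_self_of_top hk
  have h1 := hk.minv_isMap
  rw [hkS] at h1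
  exact ⟨zc_map h1 hy, hk.apply_minv (by rw [hkS]; exact hy.1)⟩

variable [Finite S] [Fact p.Prime] (hS : IsPGroup p S) (hF : F.IsSaturated p)
  (h : ∀ x ∈ S, ∃ z ∈ zc S, F.IsConjElt x z)

include hS hF h

theorem exists_central {x : Ω} (hx : x ∈ S) : ∃ g, IsMap F (cS S x) g ∧ g x ∈ zc S := by
  obtain ⟨z, hz, hxz⟩ := h x hx
  obtain ⟨f, hf, rfl⟩ := isConjElt_iff.mp hxz
  obtain ⟨g, hg, hgx⟩ := exists_extend hS hF hf hz
  exact ⟨g, hg, by rw [hgx]; exact hz⟩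

/-- a central element which is conjugate to an `n`-th power is an `n`-th power of a central element -/
theorem central_pow {P : Subgroup Ω} {c x : Ω} {f : Ω → Ω} (n : ℕ) (hf : IsMap F P f) (hc : c ∈ zc S) (hcP : c ∈ P)
    (hx : x ∈ S) (hfc : f c = x ^ n) : ∃ b ∈ zc S, c = b ^ n := by
  obtain ⟨g, hg, hgx⟩ := exists_central hS hF h hx
  have hxn : x ^ n ∈ cS S x := (cS S x).pow_mem (self_mem_cS hx) n
  have hcomp : IsMap F (Subgroup.zpowers c) (fun y => g (f y)) := by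
    refine hg.comp (hf.mono (Subgroup.zpowers_le.mpr hcP)) ?_
    rintro _ ⟨k, rfl⟩
    show f (c ^ k) ∈ _
    rw [hf.map_zpow hcP, hfc]
    exact Subgroup.zpow_mem _ hxn k
  have hgc : g (f c) = g x ^ n := by rw [hfc, hg.map_pow (self_mem_cS hx)]
  obtain ⟨β, hβ, hβc⟩ := exists_aut hS hF hcomp hc (Subgroup.mem_zpowers c) (by
    show g (f c) ∈ zc S
    rw [hgc]; exact (zc S).pow_mem hgx n)
  have hβc' : β c = g x ^ n := hβc.trans hgc
  obtain ⟨h1, h2⟩ := minv_zc hβ hgx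
  refine ⟨minv S β (g x), h1, hβ.inj hc.1 (S.pow_mem h1.1 n) ?_⟩
  rw [hβc', hβ.map_pow h1.1, h2]

/-- the maximal centralizer -/
theorem exists_max (hna : ∃ x ∈ S, x ∉ zc S) : ∃ R w, F.IsFullyNormalized R ∧ w ∈ zc R ∧ w ∉ zc S ∧
    (∀ v ∈ zc R, v ∉ zc S → cS S v = R) ∧ (∀ v ∈ zc R, ∃ α ∈ F.autGroup R, ofAut α v ∈ zc S) ∧ zc S ≤ zc R ∧ R < S := by
  -- maximal centralizer
  obtain ⟨x, hx, hxZ, hmax⟩ : ∃ x ∈ S, x ∉ zc S ∧ ∀ y ∈ S, y ∉ zc S → Nat.card (cS S y) ≤ Nat.card (cS S x) := by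
    obtain ⟨x₀, hx₀, hxZ₀⟩ := hna
    have : Nonempty {x : S // (x : Ω) ∉ zc S} := ⟨⟨⟨x₀, hx₀⟩, hxZ₀⟩⟩
    obtain ⟨⟨x, hxZ⟩, hmax⟩ := Finite.exists_max (fun x : {x : S // (x : Ω) ∉ zc S} => Nat.card (cS S (x : S)))
    exact ⟨x, x.2, hxZ, fun y hy hyZ => hmax ⟨⟨y, hy⟩, hyZ⟩⟩
  set P := cS S x with hP
  have hPS : P ≤ S := cS_le
  have hPlt : P < S := cS_lt hx hxZ
  obtain ⟨R, hPR, hR⟩ := exists_fullyNormalized (F := F) hPS
  obtain ⟨ψ, hψ, himg, hψN⟩ := sat_exists_normalizer_map hS hF hR hPR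
  have hPN : P ≤ normalizerIn S P := le_normalizerIn hPS
  have hxP : x ∈ P := self_mem_cS hx
  have hψP := hψ.mono hPN
  have hRS : R ≤ S := hR.1
  have hRcard : Nat.card R = Nat.card P := by rw [← himg, hψP.card_img]
  set w := ψ x with hw
  have hwR : w ∈ R := by rw [← himg]; exact subset_img hxP
  have hwc : w ∈ zc R := by
    refine ⟨hwR, fun r hr => ?_⟩
    have hr' : r ∈ R := hr
    rw [← himg] at hr'
    obtain ⟨y, hy, rfl⟩ := hψP.mem_img.mp hr'
    rw [hw, ← hψP.map_mul hy hxP, ← hψP.map_mul hxP hy, (mem_cS.mp hy).2]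
  have hwZ : w ∉ zc S := by
    intro hwZ
    obtain ⟨g, hg, hgP⟩ := SetLike.exists_of_lt (lt_normalizerIn hS hPlt)
    apply hgP
    refine mem_cS.mpr ⟨hg.1, ?_⟩
    apply hψ.inj (Subgroup.mul_mem _ (hPN hxP) hg) (Subgroup.mul_mem _ hg (hPN hxP))
    rw [hψ.map_mul (hPN hxP) hg, hψ.map_mul hg (hPN hxP)]
    exact ((mem_zc.mp hwZ).2 _ (hψ.mem hg)).symm
  have hC : ∀ v ∈ zc R, v ∉ zc S → cS S v = R := by
    intro v hv hvZ
    have h1 : R ≤ cS S v := fun r hr => mem_cS.mpr ⟨hRS hr, (hv.2 r hr).symm⟩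
    refine (eq_of_le_of_card_le cS_le h1 ?_).symm
    rw [hRcard]
    exact hmax v (hRS hv.1) hvZ
  have hRlt : R < S := by
    rw [← hC w hwc hwZ]
    exact cS_lt (hRS hwR) hwZ
  have hZR : zc S ≤ zc R := by
    intro z hz
    have hzR : z ∈ R := by
      rw [← hC w hwc hwZ]
      exact mem_cS.mpr ⟨hz.1, (mem_zc.mp hz).2 w (hRS hwR)⟩
    exact ⟨hzR, fun r hr => (mem_zc.mp hz).2 r (hRS hr)⟩
  refine ⟨R, w, hR, hwc, hwZ, hC, fun v hv => ?_, hZR, hRlt⟩
  by_cases hvZ : v ∈ zc S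
  · exact ⟨1, Subgroup.one_mem _, by rw [ofAut_one hv.1]; exact hvZ⟩
  obtain ⟨φ, hφ, hφv⟩ := exists_central hS hF h (hRS hv.1)
  rw [hC v hv hvZ] at hφ
  have hconj : F.IsConj (img R φ) R := isConj_symm hφ.isConj
  obtain ⟨χ, hχ, hχimg, hχN⟩ := sat_exists_normalizer_map hS hF hR hconj
  have hR'S : img R φ ≤ S := hφ.img_le
  have hR'N : img R φ ≤ normalizerIn S (img R φ) := le_normalizerIn hR'S
  have hmapR : ∀ r ∈ R, φ r ∈ normalizerIn S (img R φ) := fun r hr => hR'N (subset_img hr)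
  have hcomp : IsMap F R (fun y => χ (φ y)) := hχ.comp hφ hmapR
  have hcimg : img R (fun y => χ (φ y)) = R := by rw [hφ.img_comp, hχimg]
  obtain ⟨α, hα, hαe⟩ := hcomp.exists_aut hcimg
  refine ⟨α, hα, ?_⟩
  rw [hαe v hv.1]
  show χ (φ v) ∈ zc S
  by_contra hcon
  -- `χ (φ v)` is central in `R`
  have hmem : χ (φ v) ∈ zc R := by
    have h1 : χ (φ v) ∈ R := by rw [← hcimg]; exact subset_img hv.1
    refine ⟨h1, fun r hr => ?_⟩
    have hr' : r ∈ R := hr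
    rw [← hcimg] at hr'
    obtain ⟨y, hy, rfl⟩ := hcomp.mem_img.mp hr'
    have h2 := hcomp.map_mul hy hv.1
    have h3 := hcomp.map_mul hv.1 hy
    rw [hv.2 y hy] at h2
    exact h2.symm.trans h3
  have h4 := hC _ hmem hcon
  -- the centralizer is larger
  have hR'lt : img R φ < S := by
    refine lt_of_le_of_ne hR'S fun he => ?_
    have h5 := hφ.card_img
    rw [he] at h5
    exact absurd h5 (card_lt_of_lt le_rfl hRlt).ne'
  have h6 := card_lt_of_lt (normalizerIn_le _) (lt_normalizerIn hS hR'lt)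
  rw [hφ.card_img] at h6
  have h7 : Nat.card (normalizerIn S (img R φ)) ≤ Nat.card (cS S (χ (φ v))) := by
    refine card_le_of_map hχ cS_le fun y hy => mem_cS.mpr ⟨hχ.mem hy, ?_⟩
    have hvm := hmapR v hv.1
    rw [← hχ.map_mul hvm hy, ← hχ.map_mul hy hvm, (mem_zc.mp hφv).2 y hy.1]
  rw [h4] at h7
  omega

end CH

/-- The theorem of Camina–Herzog and Henke. -/
theorem abelian_of_central {F : FusionSystem S} [Finite S] (hS : IsPGroup 2 S) (hF : F.IsSaturated 2)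
    (h : ∀ x ∈ S, ∃ z ∈ zc S, F.IsConjElt x z) : S ≤ zc S := by
  have : Fact (Nat.Prime 2) := ⟨Nat.prime_two⟩
  intro x₁ hx₁
  by_contra hna
  obtain ⟨R, w, hRn, hw, hwZ, hC, hconj, hZR, hRlt⟩ := CH.exists_max hS hF h ⟨x₁, hx₁, hna⟩
  have hRS := hRn.1
  have hRf : Finite R := finite_of_le hRS
  have hRp : IsPGroup 2 R := isPGroup_of_le hS hRS
  have hA : Finite (MulAut R) := finite_mulAut
  have hRN : R ≤ normalizerIn S R := le_normalizerIn hRS
  -- `s`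
  obtain ⟨s, hs, hsR, hs2⟩ : ∃ s ∈ normalizerIn S R, s ∉ R ∧ s ^ 2 ∈ R := by
    obtain ⟨g, hg, hgR⟩ := SetLike.exists_of_lt (lt_normalizerIn hS hRlt)
    obtain ⟨k, hk⟩ := hS ⟨g, hg.1⟩
    have hk' : g ^ 2 ^ k = 1 := congrArg Subtype.val hk
    have hex : ∃ j, g ^ 2 ^ j ∈ R := ⟨k, by rw [hk']; exact R.one_mem⟩
    classical
    have hj := Nat.find_spec hex
    have hj0 : Nat.find hex ≠ 0 := by
      intro h0
      rw [h0, pow_zero, pow_one] at hj
      exact hgR hj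
    obtain ⟨i, hi⟩ := Nat.exists_eq_succ_of_ne_zero hj0
    refine ⟨g ^ 2 ^ i, Subgroup.pow_mem _ hg _, Nat.find_min hex (by omega), ?_⟩
    rw [← pow_mul, ← pow_succ, ← Nat.succ_eq_add_one, ← hi]
    exact hj
  have hsS := hs.1
  -- conjugation by `s` on `Z(R)`
  have hV : ∀ (n : Ω), n ∈ normalizerIn S R → ∀ v ∈ zc R, n * v * n⁻¹ ∈ zc R := by
    intro n hn v hv
    refine ⟨(Subgroup.mem_normalizer_iff.mp hn.2 v).mp hv.1, fun r hr => ?_⟩
    have h1 : n⁻¹ * r * n ∈ R := by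
      have := (Subgroup.mem_normalizer_iff.mp (Subgroup.inv_mem _ hn.2) r).mp hr
      rwa [inv_inv] at this
    have h2 := hv.2 _ h1
    calc r * (n * v * n⁻¹) = n * (n⁻¹ * r * n * v) * n⁻¹ := by group
      _ = n * (v * (n⁻¹ * r * n)) * n⁻¹ := by rw [h2]
      _ = n * v * n⁻¹ * r := by group
  have hfixs : ∀ v ∈ zc R, v * s = s * v → v ∈ zc S := by
    intro v hv hvs
    by_contra hvZ
    apply hsR
    rw [← hC v hv hvZ]
    exact CH.mem_cS.mpr ⟨hsS, hvs⟩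
  have hVab : ∀ u ∈ zc R, ∀ v ∈ zc R, u * v = v * u := fun u hu v hv => hv.2 u hu.1
  -- the key computation
  have key : ∀ v ∈ zc R, ∃ b ∈ zc R, s * v * s⁻¹ = v * b ^ 2 := by
    intro v hv
    have hs2S := hRS hs2
    obtain ⟨φ, hφ, hφz⟩ := CH.exists_central hS hF h hs2S
    have hsC : s ∈ CH.cS S (s ^ 2) := CH.mem_cS.mpr ⟨hsS, by rw [← pow_succ, ← pow_succ']⟩
    have hvC : ∀ v ∈ zc R, v ∈ CH.cS S (s ^ 2) := fun v hv => CH.mem_cS.mpr ⟨hRS hv.1, hv.2 _ hs2⟩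
    have hid : IsMap F S id := isMap_id le_rfl
    -- `φ(s)²` is a square in the centre
    obtain ⟨b, hb, hbs⟩ := CH.central_pow hS hF h 2 hid hφz hφz.1 (hφ.mem hsC) (by
      show φ (s ^ 2) = φ s ^ 2
      exact hφ.map_pow hsC 2)
    rw [hφ.map_pow hsC] at hbs
    -- the norm of `v`
    have hvs := hV s hs v hv
    have hn : v * (s * v * s⁻¹) ∈ zc R := (zc R).mul_mem hv hvs
    have hnZ : v * (s * v * s⁻¹) ∈ zc S := by
      refine hfixs _ hn ?_
      have h1 : s ^ 2 * v = v * s ^ 2 := hv.2 _ hs2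
      have h2 : s * (v * (s * v * s⁻¹)) = (s * v * s⁻¹) * (s ^ 2 * v) * s⁻¹ := by
        rw [sq]; group
      rw [h2, h1]
      have h3 : s * v * s⁻¹ * (v * s ^ 2) * s⁻¹ = (s * v * s⁻¹) * v * s := by rw [sq]; group
      rw [h3, hVab _ hvs _ hv]
    have hnC := hvC _ hn
    have h5 : φ (v * (s * v * s⁻¹)) = (φ v * (φ s * b⁻¹)) ^ 2 := by
      have hb1 := (mem_zc.mp ((zc S).inv_mem hb)).2
      have hφs := hφ.mem hsC
      have hφv := hφ.mem (hvC v hv)
      rw [hφ.map_mul (hvC v hv) (hvC _ hvs), hφ.map_conj hsC (hvC v hv)]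
      have e1 : (φ v * (φ s * b⁻¹)) ^ 2 = φ v * φ s * (b⁻¹ * (φ v * φ s)) * b⁻¹ := by rw [sq]; group
      rw [e1, ← hb1 _ (S.mul_mem hφv hφs)]
      have e2 : φ v * φ s * (φ v * φ s * b⁻¹) * b⁻¹ = φ v * (φ s * φ v * (φ s)⁻¹) * (φ s ^ 2 * (b ^ 2)⁻¹) := by
        rw [sq, sq]; group
      rw [e2, hbs, mul_inv_cancel, mul_one]
    obtain ⟨c, hc, hcn⟩ := CH.central_pow hS hF h 2 hφ hnZ hnC
      (S.mul_mem (hφ.mem (hvC v hv)) (S.mul_mem (hφ.mem hsC) (S.inv_mem hb.1))) h5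
    refine ⟨v⁻¹ * c, (zc R).mul_mem ((zc R).inv_mem hv) (hZR hc), ?_⟩
    have hcv := hVab _ (hZR hc) _ ((zc R).inv_mem hv)
    have h6 : v * (v⁻¹ * c) ^ 2 = c ^ 2 * v⁻¹ := by
      rw [sq, sq]
      calc v * (v⁻¹ * c * (v⁻¹ * c)) = c * (v⁻¹ * c) := by group
        _ = c * (c * v⁻¹) := by rw [hcv]
        _ = c * c * v⁻¹ := by group
    rw [h6, ← hcn, hVab _ hv _ hvs]; group
  -- the group `K`
  set G : Subgroup (MulAut R) := F.autGroup R with hG
  have hzcR : ∀ (α : MulAut R), ∀ v ∈ zc R, ofAut α v ∈ zc R := by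
    intro α v hv
    refine ⟨ofAut_mem _ hv.1, fun r hr => ?_⟩
    have h1 : r = ofAut α (ofAut α⁻¹ r) := (ofAut_apply_inv α hr).symm
    have h2 := ofAut_mem α⁻¹ hr
    rw [h1, ← ofAut_map_mul α h2 hv.1, ← ofAut_map_mul α hv.1 h2, hv.2 _ h2]
  have hsq : ∀ u ∈ zc R, ∀ v ∈ zc R, (u * v) ^ 2 = u ^ 2 * v ^ 2 := fun u hu v hv =>
    (show Commute u v from hVab u hu v hv).mul_pow 2
  let K : Subgroup G :=
    { carrier := {κ | ∀ v ∈ zc R, ∃ b ∈ zc R, ofAut (κ : MulAut R) v = v * b ^ 2}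
      one_mem' := fun v hv => ⟨1, (zc R).one_mem, by
        show ofAut (1 : MulAut R) v = _
        rw [ofAut_one hv.1, one_pow, mul_one]⟩
      mul_mem' := by
        intro κ κ' hκ hκ' v hv
        obtain ⟨b, hb, hbv⟩ := hκ' v hv
        obtain ⟨c, hc, hcv⟩ := hκ v hv
        refine ⟨c * ofAut (κ : MulAut R) b, (zc R).mul_mem hc (hzcR _ b hb), ?_⟩
        show ofAut ((κ : MulAut R) * (κ' : MulAut R)) v = _
        rw [ofAut_mul _ _ hv.1, hbv, ofAut_map_mul _ hv.1 (R.pow_mem hb.1 2), hcv, ofAut_map_pow _ hb.1,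
          hsq _ hc _ (hzcR _ b hb), mul_assoc]
      inv_mem' := by
        intro κ hκ v hv
        have hu := hzcR (κ : MulAut R)⁻¹ v hv
        obtain ⟨c, hc, hcv⟩ := hκ _ hu
        rw [ofAut_apply_inv _ hv.1] at hcv
        refine ⟨c⁻¹, (zc R).inv_mem hc, ?_⟩
        show ofAut ((κ : MulAut R)⁻¹) v = _
        rw [inv_pow]
        nth_rewrite 2 [hcv]
        rw [mul_inv_cancel_right] }
  let N : Subgroup G :=
    { carrier := {κ | ∀ v ∈ zc R, ofAut (κ : MulAut R) v = v}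
      one_mem' := fun v hv => ofAut_one hv.1
      mul_mem' := by
        intro κ κ' hκ hκ' v hv
        show ofAut ((κ : MulAut R) * (κ' : MulAut R)) v = _
        rw [ofAut_mul _ _ hv.1, hκ' v hv, hκ v hv]
      inv_mem' := by
        intro κ hκ v hv
        show ofAut ((κ : MulAut R)⁻¹) v = _
        have h1 := ofAut_inv_apply (κ : MulAut R) hv.1
        rwa [hκ v hv] at h1 }
  have hNn : N.Normal := by
    constructor
    intro κ hκ g v hv
    show ofAut ((g : MulAut R) * (κ : MulAut R) * (g : MulAut R)⁻¹) v = v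
    have h1 := hzcR (g : MulAut R)⁻¹ v hv
    rw [ofAut_mul _ _ hv.1, ofAut_mul _ _ h1.1, hκ _ h1, ofAut_apply_inv _ hv.1]
  have hKn : K.Normal := by
    constructor
    intro κ hκ g v hv
    have h1 := hzcR (g : MulAut R)⁻¹ v hv
    obtain ⟨b, hb, hbv⟩ := hκ _ h1
    refine ⟨ofAut (g : MulAut R) b, hzcR _ b hb, ?_⟩
    show ofAut ((g : MulAut R) * (κ : MulAut R) * (g : MulAut R)⁻¹) v = _
    rw [ofAut_mul _ _ hv.1, ofAut_mul _ _ h1.1, hbv, ofAut_map_mul _ h1.1 (R.pow_mem hb.1 2), ofAut_apply_inv _ hv.1,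
      ofAut_map_pow _ hb.1]
  -- odd order elements of `K` are trivial on `Z(R)`
  have hodd : ∀ κ ∈ K, (orderOf (κ : MulAut R)).Coprime 2 → κ ∈ N := by
    intro κ hκ hco
    obtain ⟨n, hn⟩ : ∃ n, ∀ v ∈ zc R, v ^ 2 ^ n = 1 := by
      obtain ⟨n, hn⟩ := IsPGroup.iff_card.mp hRp
      refine ⟨n, fun v hv => ?_⟩
      have h1 : (⟨v, hv.1⟩ : R) ^ 2 ^ n = 1 := by rw [← hn]; exact pow_card_eq_one'
      exact congrArg Subtype.val h1
    have hdown : ∀ j, j ≤ n → ∀ v ∈ zc R, ofAut (κ : MulAut R) (v ^ 2 ^ (n - j)) = v ^ 2 ^ (n - j) := by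
      intro j
      induction j with
      | zero => intro _ v hv; rw [Nat.sub_zero, hn v hv, ofAut_map_one]
      | succ j ih =>
        intro hj v hv
        refine ofAut_fix_of_coprime hRp hco (R.pow_mem hv.1 _) ?_
        obtain ⟨b, hb, hbv⟩ := hκ v hv
        have e : (v ^ 2 ^ (n - (j + 1)))⁻¹ * ofAut (κ : MulAut R) (v ^ 2 ^ (n - (j + 1))) = b ^ 2 ^ (n - j) := by
          rw [ofAut_map_pow _ hv.1, hbv, (show Commute v (b ^ 2) from hVab v hv _ ((zc R).pow_mem hb 2)).mul_pow,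
            inv_mul_cancel_left, ← pow_mul]
          congr 1
          rw [← pow_succ']
          congr 1
          omega
        rw [e]
        exact ih (by omega) b hb
    intro v hv
    have h1 := hdown n le_rfl v hv
    rwa [Nat.sub_self, pow_zero, pow_one] at h1
  -- the Sylow subgroup
  obtain ⟨-, T, hT⟩ := sat_fullyAutomized hS hF hRn
  have hTm : ∀ u ∈ (T : Subgroup G), ∀ z ∈ zc S, ofAut (u : MulAut R) z = z := by
    intro u hu z hz
    rw [hT] at hu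
    obtain ⟨t, ht, htu⟩ := mem_autInducedBy'.mp (show (u : MulAut R) ∈ autInducedBy S R from hu)
    rw [htu z (hZR hz).1, (mem_zc.mp hz).2 t ht, mul_inv_cancel_right]
  have hKT : K ≤ (T : Subgroup G) ⊔ N := by
    have hsurj := QuotientGroup.mk'_surjective N
    have h1 : K.map (QuotientGroup.mk' N) ≤ (T.mapSurjective hsurj : Subgroup (G ⧸ N)) := by
      refine normal_le_sylow (hKn.map _ hsurj) ?_ _
      rintro ⟨_, κ, hκ, rfl⟩
      obtain ⟨a, b, hb, hab⟩ := Nat.exists_eq_pow_mul_and_not_dvd (n := orderOf (κ : MulAut R)) (orderOf_pos _).ne' 2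
        (by norm_num)
      refine ⟨a, Subtype.ext ?_⟩
      show (QuotientGroup.mk' N κ) ^ 2 ^ a = 1
      rw [← map_pow]
      have h2 : κ ^ 2 ^ a ∈ N := by
        refine hodd _ (K.pow_mem hκ _) ?_
        have h3 : orderOf ((κ : MulAut R) ^ 2 ^ a) = b := by
          rw [orderOf_pow_of_dvd (by positivity) (by rw [hab]; exact Dvd.intro _ rfl), hab]
          exact Nat.mul_div_cancel_left b (by positivity)
        show (orderOf ((κ : MulAut R) ^ 2 ^ a)).Coprime 2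
        rw [h3]
        exact ((Nat.Prime.coprime_iff_not_dvd Nat.prime_two).mpr hb).symm
      rw [QuotientGroup.mk'_apply, QuotientGroup.eq_one_iff]
      exact h2
    rw [Sylow.coe_mapSurjective] at h1
    intro κ hκ
    obtain ⟨t, ht, htκ⟩ := h1 ⟨κ, hκ, rfl⟩
    have h2 : t⁻¹ * κ ∈ N := by
      rw [← QuotientGroup.ker_mk' N, MonoidHom.mem_ker, map_mul, map_inv, htκ, inv_mul_cancel]
    have h3 := Subgroup.mul_mem ((T : Subgroup G) ⊔ N) ((le_sup_left : (T : Subgroup G) ≤ _) ht)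
      ((le_sup_right : N ≤ _) h2)
    rwa [mul_inv_cancel_left] at h3
  have hKZ : ∀ κ ∈ K, ∀ z ∈ zc S, ofAut (κ : MulAut R) z = z := by
    intro κ hκ z hz
    have h1 := hKT hκ
    let M : Subgroup G :=
      { carrier := {κ | ofAut (κ : MulAut R) z = z}
        one_mem' := ofAut_one (hZR hz).1
        mul_mem' := by
          intro κ κ' hκ hκ'
          show ofAut ((κ : MulAut R) * (κ' : MulAut R)) z = _
          rw [ofAut_mul _ _ (hZR hz).1, show ofAut (κ' : MulAut R) z = z from hκ', show ofAut (κ : MulAut R) z = z from hκ]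
        inv_mem' := by
          intro κ hκ
          show ofAut ((κ : MulAut R)⁻¹) z = _
          have h1 := ofAut_inv_apply (κ : MulAut R) (hZR hz).1
          rwa [show ofAut (κ : MulAut R) z = z from hκ] at h1 }
    have h2 : (T : Subgroup G) ⊔ N ≤ M := sup_le (fun u hu => hTm u hu z hz) (fun u hu => hu z (hZR hz))
    exact h2 h1
  have hsK : (⟨conjAut s hs.2, conjAut_mem_autGroup hRS hsS hs.2⟩ : G) ∈ K := by
    intro v hv
    obtain ⟨b, hb, hbv⟩ := key v hv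
    exact ⟨b, hb, by rw [← hbv]; exact ofAut_conjAut s hs.2 hv.1⟩
  -- final contradiction
  obtain ⟨γ, hγ, hγw⟩ := hconj w hw
  apply hwZ
  refine hfixs w hw ?_
  have h1 := hKn.conj_mem _ hsK ⟨γ, hγ⟩
  have h2 := hKZ _ h1 _ hγw
  have h3 : ofAut (γ * conjAut s hs.2 * γ⁻¹) (ofAut γ w) = ofAut γ w := h2
  have hγm := ofAut_mem γ hw.1
  rw [ofAut_mul _ _ hγm, ofAut_inv_apply γ hw.1, ofAut_mul _ _ hw.1, ofAut_conjAut s hs.2 hw.1] at h3
  have h4 := congrArg (ofAut γ⁻¹) h3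
  rw [ofAut_inv_apply γ ((Subgroup.mem_normalizer_iff.mp hs.2 w).mp hw.1), ofAut_inv_apply γ hw.1,
    mul_inv_eq_iff_eq_mul] at h4
  exact h4.symm

end Cfsg.Agent.Fus
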