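import Cfsg.Agent.Fus.LocMain
import Cfsg.Agent.Fus.CenE
set_option autoImplicit false

/-!
# Fusion systems generated by `p'`-automorphisms, I (helper85)

`ℋ` is a family of subgroups of `S` closed under overgroups, `K P` a group of automorphisms of `P`. The system
`gsys S p ℋ K n` is generated by the `p'`-elements of the `K P`, `P ∈ ℋ`, `|P| ≥ n`.
-/

namespace Cfsg.Agent.Fus

open Cfsg

variable {Ω : Type*} [Group Ω] {S : Subgroup Ω} {p : ℕ}

/-- `E` contains the `p'`-elements of `K P` for `P ∈ ℋ` of order at least `n`. -/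
def GHas (p : ℕ) (ℋ : Subgroup Ω → Prop) (K : (P : Subgroup Ω) → Subgroup (MulAut P)) (n : ℕ)
    (E : FusionSystem S) : Prop :=
  ∀ P, ℋ P → P ≤ S → n ≤ Nat.card P → ∀ α ∈ K P, (orderOf α).Coprime p → IsMap E P (ofAut α)

theorem gHas_univ (p : ℕ) (ℋ : Subgroup Ω → Prop) (K : (P : Subgroup Ω) → Subgroup (MulAut P)) (n : ℕ) :
    GHas p ℋ K n (univSys S) :=
  fun _ _ hP _ α _ _ => isMap_univ_of_aut hP α

/-- the generated system -/
def gsys (S : Subgroup Ω) (p : ℕ) (ℋ : Subgroup Ω → Prop) (K : (P : Subgroup Ω) → Subgroup (MulAut P)) (n : ℕ) :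
    FusionSystem S :=
  interSys (C := {E : FusionSystem S | GHas p ℋ K n E}) ⟨univSys S, gHas_univ p ℋ K n⟩

variable {ℋ : Subgroup Ω → Prop} {K : (P : Subgroup Ω) → Subgroup (MulAut P)}

theorem gsys_gen {n : ℕ} {P : Subgroup Ω} (hP : ℋ P) (hPS : P ≤ S) (hn : n ≤ Nat.card P) {α : MulAut P} (hα : α ∈ K P)
    (hco : (orderOf α).Coprime p) : IsMap (gsys S p ℋ K n) P (ofAut α) :=
  isMap_interSys.mpr fun _ hE => hE P hP hPS hn α hα hco

theorem gsys_min {n : ℕ} {E : FusionSystem S} (hE : GHas p ℋ K n E) : gsys S p ℋ K n ≤ E :=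
  le_iff.mpr fun _ _ hf => isMap_interSys.mp hf E hE

theorem gsys_anti {m n : ℕ} (hmn : m ≤ n) : gsys S p ℋ K n ≤ gsys S p ℋ K m :=
  gsys_min fun _ hP hPS hn _ hα hco => gsys_gen hP hPS (hmn.trans hn) hα hco

theorem gsys_up {m n : ℕ} (hmn : m ≤ n) {P : Subgroup Ω} {f : Ω → Ω} (hf : IsMap (gsys S p ℋ K n) P f) :
    IsMap (gsys S p ℋ K m) P f := le_iff.mp (gsys_anti hmn) P f hf

/-- Induction principle for the maps of the generated system. -/
theorem gsys_ind {n : ℕ} (𝒢 : Subgroup Ω → (Ω → Ω) → Prop)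
    (hcongr : ∀ P f g, (∀ x ∈ P, f x = g x) → 𝒢 P f → 𝒢 P g)
    (hconj : ∀ P g, P ≤ S → g ∈ S → 𝒢 P (fun x => g * x * g⁻¹))
    (hgen : ∀ R, ℋ R → R ≤ S → n ≤ Nat.card R → ∀ α ∈ K R, (orderOf α).Coprime p → ∀ P ≤ R, 𝒢 P (ofAut α))
    (hcomp : ∀ P f g, IsMap (gsys S p ℋ K n) P f → IsMap (gsys S p ℋ K n) (img P f) g → 𝒢 P f → 𝒢 (img P f) g →
      𝒢 P (fun x => g (f x)))
    (hinv : ∀ P f, IsMap (gsys S p ℋ K n) P f → 𝒢 P f → 𝒢 (img P f) (minv P f))
    {P : Subgroup Ω} {f : Ω → Ω} (hf : IsMap (gsys S p ℋ K n) P f) : 𝒢 P f := by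
  have spec : MapSpec S (fun Q f => IsMap (gsys S p ℋ K n) Q f ∧ ∀ P ≤ Q, 𝒢 P f) :=
    { congr := fun {Q f g} hf hfg => ⟨hf.1.congr hfg, fun P hP => hcongr P f g (fun x hx => hfg x (hP hx)) (hf.2 P hP)⟩
      le := fun hf => hf.1.le
      mem := fun hf x hx => hf.1.mem hx
      mul := fun hf x hx y hy => hf.1.map_mul hx hy
      inj := fun hf x hx y hy => hf.1.inj hx hy
      conj := fun {Q g} hQ hg => ⟨isMap_conj hQ hg, fun P hP => hconj P g (hP.trans hQ) hg⟩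
      comp := fun {Q Q' f g} hf hg hc => ⟨hg.1.comp hf.1 hc, fun P hP => by
        have hfP := hf.1.mono hP
        have hle : img P f ≤ Q' := hfP.img_le_iff.mpr fun x hx => hc x (hP hx)
        exact hcomp P f g hfP (hg.1.mono hle) (hf.2 P hP) (hg.2 _ hle)⟩
      inv := fun {Q f} hf => ⟨minv Q f, fun x hx => hf.1.minv_apply hx, hf.1.minv_isMap, fun P hP => by
        have hP₀ : img P (minv Q f) ≤ Q := (hf.1.minv_isMap.mono hP).img_le_iff.mpr fun x hx => hf.1.minv_mem (hP hx)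
        have hm := hf.1.mono hP₀
        have e : img (img P (minv Q f)) f = P := by
          rw [← (hf.1.minv_isMap.mono hP).img_comp]
          have : img P (fun x => f (minv Q f x)) = img P id := img_congr fun x hx => hf.1.apply_minv (hP hx)
          rw [this, img_id]
        have h1 := hinv _ f hm (hf.2 _ hP₀)
        rw [e] at h1
        refine hcongr _ _ _ (fun y hy => ?_) h1
        rw [← e] at hy
        obtain ⟨x, hx, rfl⟩ := hm.mem_img.mp hy
        rw [hm.minv_apply hx, hf.1.minv_apply (hP₀ hx)]⟩ }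
  have hle : gsys S p ℋ K n ≤ spec.toFS := gsys_min fun R hR hRS hn α hα hco =>
    spec.isMap_toFS.mpr ⟨gsys_gen hR hRS hn hα hco, fun P hP => hgen R hR hRS hn α hα hco P hP⟩
  exact (spec.isMap_toFS.mp (le_iff.mp hle P f hf)).2 P le_rfl

/-- maps on large subgroups are maps of the smaller system -/
theorem gsys_of_card [Finite S] {m : ℕ} {R : Subgroup Ω} {f : Ω → Ω} (hf : IsMap (gsys S p ℋ K m) R f)
    (hR : m < Nat.card R) : IsMap (gsys S p ℋ K (m + 1)) R f := by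
  refine gsys_ind (fun P f => m < Nat.card P → IsMap (gsys S p ℋ K (m + 1)) P f) ?_ ?_ ?_ ?_ ?_ hf hR
  · intro P f g hfg h1 hP
    exact (h1 hP).congr hfg
  · intro P g hPS hg _
    exact isMap_conj hPS hg
  · intro R hR hRS hn α hα hco P hPR hP
    have := finite_of_le hRS
    exact (gsys_gen hR hRS (lt_of_lt_of_le hP (Subgroup.card_le_of_le hPR)) hα hco).mono hPR
  · intro P f g hf hg h1 h2 hP
    exact (h2 (by rw [hf.card_img]; exact hP)).comp (h1 hP) fun x hx => subset_img hx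
  · intro P f hf h1 hP
    rw [hf.card_img] at hP
    exact (h1 hP).minv_isMap

theorem gsys_of_card' [Finite S] {m n : ℕ} {R : Subgroup Ω} {f : Ω → Ω} (hf : IsMap (gsys S p ℋ K m) R f)
    (hR : n ≤ Nat.card R) : IsMap (gsys S p ℋ K n) R f := by
  rcases Nat.lt_or_ge m n with hmn | hmn
  · induction n with
    | zero => omega
    | succ n ih =>
      rcases Nat.lt_or_ge m n with h1 | h1
      · exact gsys_of_card (ih (by omega) h1) (by omega)
      · have : m = n := by omega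
        subst this
        exact gsys_of_card hf (by omega)
  · exact gsys_up hmn hf

/-- classes of subgroups of order `m` -/
theorem gsys_conj_of_card [Finite S] {m : ℕ} {P Q : Subgroup Ω} (hPQ : (gsys S p ℋ K m).IsConj P Q)
    (hP : Nat.card P = m) : (gsys S p ℋ K (m + 1)).IsConj P Q := by
  obtain ⟨f, hf, rfl⟩ := isConj_iff.mp hPQ
  refine gsys_ind (fun P f => Nat.card P = m → (gsys S p ℋ K (m + 1)).IsConj P (img P f)) ?_ ?_ ?_ ?_ ?_ hf hP
  · intro P f g hfg h1 hP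
    rw [← img_congr hfg]; exact h1 hP
  · intro P g hPS hg _
    exact (isMap_conj hPS hg).isConj
  · intro R hR hRS hn α hα hco P hPR hP
    have := finite_of_le hRS
    rcases hPR.lt_or_eq with hlt | rfl
    · have hc := card_lt_of_lt hRS hlt
      rw [hP] at hc
      exact ((gsys_gen hR hRS hc hα hco).mono hPR).isConj
    · rw [img_ofAut]
      exact isConj_refl hRS
  · intro P f g hf hg h1 h2 hP
    rw [hf.img_comp]
    exact isConj_trans (h1 hP) (h2 (by rw [hf.card_img]; exact hP))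
  · intro P f hf h1 hP
    rw [hf.card_img] at hP
    rw [hf.img_minv]
    exact isConj_symm (h1 hP)

/-- the group generated by the `p'`-elements of `K P` -/
def gK (p : ℕ) (K : (P : Subgroup Ω) → Subgroup (MulAut P)) (P : Subgroup Ω) : Subgroup (MulAut P) :=
  Subgroup.closure {α | α ∈ K P ∧ (orderOf α).Coprime p}

/-- `⟨p'-elements of K P, Aut_S(P)⟩` -/
def gA (S : Subgroup Ω) (p : ℕ) (K : (P : Subgroup Ω) → Subgroup (MulAut P)) (P : Subgroup Ω) : Subgroup (MulAut P) :=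
  gK p K P ⊔ autInducedBy S P

theorem gK_le {P : Subgroup Ω} : gK p K P ≤ K P := (Subgroup.closure_le _).2 fun _ h => h.1

theorem mem_gK {P : Subgroup Ω} {α : MulAut P} (h : α ∈ K P) (hco : (orderOf α).Coprime p) : α ∈ gK p K P :=
  Subgroup.subset_closure ⟨h, hco⟩

theorem gK_le_gA {P : Subgroup Ω} : gK p K P ≤ gA S p K P := le_sup_left

theorem autS_le_gA {P : Subgroup Ω} : autInducedBy S P ≤ gA S p K P := le_sup_right

/-- data for the engine -/
structure GData (F : FusionSystem S) (p : ℕ) (ℋ : Subgroup Ω → Prop) (K : (P : Subgroup Ω) → Subgroup (MulAut P)) :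
    Prop where
  hS : IsPGroup p S
  top : ℋ S
  le : ∀ P, ℋ P → P ≤ S
  mono : ∀ P Q, ℋ P → P ≤ Q → Q ≤ S → ℋ Q
  img : ∀ P f, ℋ P → IsMap F P f → ℋ (Fus.img P f)
  leF : ∀ P, ℋ P → K P ≤ F.autGroup P
  equi : ∀ P f (hf : IsMap F P f), ℋ P → ∀ α ∈ K P, hf.trans rfl α ∈ K (Fus.img P f)
  res : ∀ P R, ℋ P → P ≤ R → R ≤ S → ∀ κ ∈ K R, (orderOf κ).Coprime p → ∀ β : MulAut P,
    (∀ x ∈ P, ofAut β x = ofAut κ x) → β ∈ K P
  syl : ∀ P, ℋ P → (gsys S p ℋ K (Nat.card P + 1)).IsFullyNormalized P →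
    H85.SylIn p (autInducedBy S P) (gA S p K P)
  ext : ∀ P, ℋ P → (gsys S p ℋ K (Nat.card P + 1)).IsFullyNormalized P → ∀ κ ∈ K P, (orderOf κ).Coprime p →
    ∀ V, P ≤ V → V ≤ FusionSystem.normalizerIn S P → FusionSystem.centralizerIn S P ≤ V →
    (∀ v ∈ V, ∃ v' ∈ V, ∀ x ∈ P, ofAut κ (v * x * v⁻¹) = v' * ofAut κ x * v'⁻¹) →
    ∃ κ' ∈ K V, (orderOf κ').Coprime p ∧ ∀ x ∈ P, ofAut κ' x = ofAut κ x

namespace GData

variable {F : FusionSystem S} (h : GData F p ℋ K)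
include h

theorem sysF {n : ℕ} {P : Subgroup Ω} {f : Ω → Ω} (hf : IsMap (gsys S p ℋ K n) P f) : IsMap F P f := by
  refine le_iff.mp (gsys_min fun R hR hRS _ α hα _ => ?_) P f hf
  exact isMap_ofAut hRS (h.leF R hR hα)

theorem img' {n : ℕ} {P : Subgroup Ω} {f : Ω → Ω} (hP : ℋ P) (hf : IsMap (gsys S p ℋ K n) P f) :
    ℋ (Fus.img P f) := h.img P f hP (h.sysF hf)

theorem conj_iff {n : ℕ} {P Q : Subgroup Ω} (hPQ : (gsys S p ℋ K n).IsConj P Q) : ℋ P ↔ ℋ Q := by
  have key : ∀ {P Q : Subgroup Ω}, (gsys S p ℋ K n).IsConj P Q → ℋ P → ℋ Q := by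
    intro P Q hPQ hP
    obtain ⟨f, hf, rfl⟩ := isConj_iff.mp hPQ
    exact h.img' hP hf
  exact ⟨key hPQ, key (isConj_symm hPQ)⟩

theorem equiE {P Q : Subgroup Ω} {f : Ω → Ω} (hf : IsMap F P f) (hfQ : Fus.img P f = Q) (hP : ℋ P) {α : MulAut P}
    (hα : α ∈ K P) : hf.trans hfQ α ∈ K Q := by
  subst hfQ
  exact h.equi P f hf hP α hα

/-- transport of `gK` -/
theorem gK_trans {P Q : Subgroup Ω} {f : Ω → Ω} (hf : IsMap F P f) (hfQ : Fus.img P f = Q) (hP : ℋ P) {α : MulAut P}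
    (hα : α ∈ gK p K P) : hf.trans hfQ α ∈ gK p K Q := by
  have h1 : gK p K P ≤ (gK p K Q).comap (hf.trans hfQ).toMonoidHom := (Subgroup.closure_le _).2 fun β hβ =>
    mem_gK (h.equiE hf hfQ hP hβ.1) (by
      show (orderOf (hf.trans hfQ β)).Coprime p
      rw [trans_orderOf]; exact hβ.2)
  exact h1 hα

theorem gK_transport {P Q : Subgroup Ω} {f : Ω → Ω} (hf : IsMap F P f) (hfQ : Fus.img P f = Q) (hP : ℋ P)
    {α : MulAut P} {β : MulAut Q} (hα : α ∈ gK p K P) (hβ : ∀ x ∈ P, ofAut β (f x) = f (ofAut α x)) :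
    β ∈ gK p K Q := by
  have h1 := h.gK_trans hf hfQ hP hα
  have : hf.trans hfQ α = β := by
    refine ofAut_injective fun y hy => ?_
    rw [← hfQ] at hy
    obtain ⟨x, hx, rfl⟩ := hf.mem_img.mp hy
    rw [hf.ofAut_trans hfQ α hx, hβ x hx]
  rwa [this] at h1

theorem gK_leF {P : Subgroup Ω} (hP : ℋ P) : gK p K P ≤ F.autGroup P := gK_le.trans (h.leF P hP)

theorem gA_leF {P : Subgroup Ω} (hP : ℋ P) : gA S p K P ≤ F.autGroup P :=
  sup_le (h.gK_leF hP) (autInducedBy_le_autGroup (h.le P hP))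

theorem gK_conj [Finite S] {P : Subgroup Ω} (hP : ℋ P) {α κ : MulAut P} (hα : α ∈ F.autGroup P) (hκ : κ ∈ gK p K P) :
    α * κ * α⁻¹ ∈ gK p K P := by
  have hm := isMap_ofAut (h.le P hP) hα
  refine h.gK_transport hm (img_ofAut α) hP hκ fun x hx => ?_
  rw [ofAut_mul _ _ (ofAut_mem α hx), ofAut_inv_apply α hx, ofAut_mul _ _ hx]

theorem gA_normalizes_gK [Finite S] {P : Subgroup Ω} (hP : ℋ P) :
    gA S p K P ≤ Subgroup.normalizer (gK p K P : Set (MulAut P)) :=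
  conj_le_normalizer_of fun _ hα _ hκ => h.gK_conj hP (h.gA_leF hP hα) hκ

/-- `p'`-elements of `gA P` are in `gK P` -/
theorem pprime_mem_gK [Finite S] [Fact p.Prime] {P : Subgroup Ω} (hP : ℋ P) {α : MulAut P} (hα : α ∈ gA S p K P)
    (hco : (orderOf α).Coprime p) : α ∈ gK p K P := by
  have hfP := finite_of_le (h.le P hP)
  have hfA : Finite (MulAut P) := finite_mulAut
  obtain ⟨k, hk, s, hs, rfl⟩ := (H85.mem_sup_iff_of_normalizes (le_sup_right.trans (h.gA_normalizes_gK hP))).1 hα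
  obtain ⟨e, he⟩ := isPGroup_autInducedBy h.hS P ⟨s, hs⟩
  have he' : s ^ p ^ e = 1 := congrArg Subtype.val he
  refine mem_of_pow_coprime (n := p ^ e) (N := orderOf (k * s)) (Nat.Coprime.pow_left e hco.symm) ?_ (by
    rw [pow_orderOf_eq_one]; exact Subgroup.one_mem _)
  have hsn : s ∈ Subgroup.normalizer (gK p K P : Set (MulAut P)) := h.gA_normalizes_gK hP (autS_le_gA hs)
  have h1 : ∀ n : ℕ, (k * s) ^ n * (s ^ n)⁻¹ ∈ gK p K P := by
    intro n
    induction n with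
    | zero => simpa using Subgroup.one_mem _
    | succ n ih =>
      have e1 : (k * s) ^ (n + 1) * (s ^ (n + 1))⁻¹ = k * (s * ((k * s) ^ n * (s ^ n)⁻¹) * s⁻¹) := by
        rw [pow_succ' (k * s), pow_succ s]; group
      rw [e1]
      exact Subgroup.mul_mem _ hk ((Subgroup.mem_normalizer_iff.1 hsn _).1 ih)
  have h2 := h1 (p ^ e)
  rwa [he', inv_one, mul_one] at h2

end GData

end Cfsg.Agent.Fus
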