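import Cfsg.Agent.Fus.ES9
import Cfsg.Agent.Fus.FocGroup
set_option autoImplicit false

/-!
# The product of a normal subsystem with `S`, V: the hyperfocal argument (helper85)
-/

namespace Cfsg.Agent.Fus

open Cfsg
open Cfsg.FusionSystem (centralizerIn normalizerIn)

variable {Ω : Type*} [Group Ω] {S T : Subgroup Ω} {F : FusionSystem S} {E : FusionSystem T} {p : ℕ}

/-- elements of `Aut_S(P) ∩ K` are products of an element of `Aut_T(P)` and an element of `zT` -/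
theorem es_decomp [Finite S] [Fact p.Prime] (hS : IsPGroup p S) (hE : E.IsNormalIn F p) {P : Subgroup Ω}
    (hP : P ≤ S) (hQn : F.IsFullyNormalized (P ⊓ T)) (hQc : E.IsCentric (P ⊓ T)) {v : MulAut P}
    (hv : v ∈ autInducedBy S P) (hvK : v ∈ esK E F hE.1.2.2.2.1 P) :
    ∃ y ∈ autInducedBy T P, ∃ z ∈ zT F T P, v = y * z := by
  have hF : F.IsSaturated p := hE.1.2.1
  have hi : E.IsInvariantIn F := hE.1.2.2
  have hT := hi.2.1
  have hCT : centralizerIn T (P ⊓ T) ≤ P ⊓ T := hQc.2 _ (isConj_refl hQc.1)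
  have hfinP := finite_of_le hP
  obtain ⟨hvF, hvT, hvE⟩ := (mem_esK hP).1 hvK
  obtain ⟨s, hs, hsx⟩ := mem_autInducedBy'.1 hv
  have hsN : s ∈ Subgroup.normalizer (P : Set Ω) := mem_normalizer_of_ofAut hsx
  have hsNQ : s ∈ normalizerIn S (P ⊓ T) := normalizerIn_le_inf hT ⟨hs, hsN⟩
  have hsE : IsMap E ((P ⊓ T) ⊔ centralizerIn T (P ⊓ T)) (fun x => s * x * s⁻¹) := by
    rw [sup_eq_left.2 hCT]
    exact hvE.congr fun x hx => hsx x hx.1
  obtain ⟨t, ht, htx⟩ := conj_eq_T hS hF hi hE.1.1 inf_le_right hQn hsNQ hsE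
  have htT := ht.1
  have hcC : t⁻¹ * s ∈ centralizerIn S (P ⊓ T) := by
    rw [mem_centralizerIn]
    refine ⟨S.mul_mem (S.inv_mem (hT.1 htT)) hs, fun x hx => ?_⟩
    have h8 := htx x (Subgroup.mem_sup_left hx)
    calc x * (t⁻¹ * s) = t⁻¹ * (t * x * t⁻¹) * s := by group
      _ = t⁻¹ * (s * x * s⁻¹) * s := by rw [h8]
      _ = t⁻¹ * s * x := by group
  obtain ⟨c, hc⟩ : ∃ c, c = t⁻¹ * s := ⟨_, rfl⟩
  rw [← hc] at hcC
  have hstc : s = t * c := by rw [hc]; group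
  have hcS := hcC.1
  have hxNQ : ∀ x ∈ P, x ∈ Subgroup.normalizer ((P ⊓ T : Subgroup Ω) : Set Ω) := fun x hx =>
    (normalizerIn_le_inf hT (le_normalizerIn hP hx)).2
  have hcx : ∀ x ∈ P, c * x * c⁻¹ * x⁻¹ ∈ P ⊓ T := by
    intro x hx
    have h1 : c * x * c⁻¹ * x⁻¹ ∈ T := by
      have h2 := hvT x hx
      rw [hsx x hx] at h2
      have e1 : c * x * c⁻¹ * x⁻¹ = t⁻¹ * (s * x * s⁻¹ * x⁻¹) * (x * t * x⁻¹) := by rw [hc]; group
      rw [e1]
      exact T.mul_mem (T.mul_mem (T.inv_mem htT) h2) (sc_conj_mem hT (hP hx) htT)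
    have h3 : c * x * c⁻¹ * x⁻¹ ∈ centralizerIn S (P ⊓ T) := by
      have h4 := cen_conj (hxNQ x hx) (Subgroup.inv_mem _ hcC)
        (S.mul_mem (S.mul_mem (hP hx) (S.inv_mem hcS)) (S.inv_mem (hP hx)))
      have e1 : c * x * c⁻¹ * x⁻¹ = c * (x * c⁻¹ * x⁻¹) := by group
      rw [e1]
      exact Subgroup.mul_mem _ hcC h4
    exact hCT (mem_centralizerIn.2 ⟨h1, (mem_centralizerIn.1 h3).2⟩)
  have hcN : c ∈ Subgroup.normalizer (P : Set Ω) := mem_normalizer_of_conj fun x hx => by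
    have h1 := P.mul_mem (hcx x hx).1 hx
    rwa [inv_mul_cancel_right] at h1
  have htN : t ∈ Subgroup.normalizer (P : Set Ω) := by
    have e1 : t = s * c⁻¹ := by rw [hc]; group
    rw [e1]
    exact Subgroup.mul_mem _ hsN (Subgroup.inv_mem _ hcN)
  refine ⟨conjAut t htN, conjAut_mem htT htN, conjAut c hcN, ⟨conjAut_mem_autGroup hP hcS hcN, fun x hx => ?_,
    fun x hx => ?_⟩, ?_⟩
  · rw [ofAut_conjAut _ _ hx.1, ← (mem_centralizerIn.1 hcC).2 x hx, mul_inv_cancel_right]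
  · rw [ofAut_conjAut _ _ hx]
    have h1 := hcx x hx
    have h2 := (Subgroup.mem_normalizer_iff.1 (Subgroup.inv_mem _ (hxNQ x hx)) _).1 h1
    have e1 : x⁻¹ * (c * x * c⁻¹ * x⁻¹) * x⁻¹⁻¹ = x⁻¹ * (c * x * c⁻¹) := by group
    rwa [e1] at h2
  · refine ofAut_injective fun x hx => ?_
    have h1 : c * x * c⁻¹ ∈ P := (Subgroup.mem_normalizer_iff.1 hcN x).1 hx
    rw [hsx x hx, ofAut_mul _ _ hx, ofAut_conjAut _ _ hx, ofAut_conjAut _ _ h1, hstc]
    group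

/-- the centre of `P ∩ T` -/
def zQ (T P : Subgroup Ω) : Subgroup Ω := centralizerIn (P ⊓ T) (P ⊓ T)

theorem zQ_conj [Finite S] (hT : F.StronglyClosed T) {P : Subgroup Ω} (hP : P ≤ S) {α u : MulAut P}
    (hα : α ∈ F.autGroup P) (hu : u ∈ autInducedBy (zQ T P) P) : α * u * α⁻¹ ∈ autInducedBy (zQ T P) P := by
  obtain ⟨q, hq, hqx⟩ := mem_autInducedBy'.1 hu
  have hq1 := (mem_centralizerIn.1 hq).1
  have hα' := isMap_ofAut hP hα
  have hαi := isMap_ofAut hP (Subgroup.inv_mem _ hα)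
  refine mem_autInducedBy'.2 ⟨ofAut α q, mem_centralizerIn.2 ⟨⟨ofAut_mem α hq1.1, sc_map_mem hT hα' hq1.1 hq1.2⟩,
    fun y hy => ?_⟩, fun x hx => ?_⟩
  · have hy' : ofAut α⁻¹ y ∈ P ⊓ T := ⟨ofAut_mem _ hy.1, sc_map_mem hT hαi hy.1 hy.2⟩
    have h1 := (mem_centralizerIn.1 hq).2 _ hy'
    have h2 := congrArg (ofAut α) h1
    rwa [ofAut_map_mul α hy'.1 hq1.1, ofAut_map_mul α hq1.1 hy'.1, ofAut_apply_inv α hy.1] at h2
  · have hx' := ofAut_mem α⁻¹ hx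
    rw [ofAut_mul _ _ hx, ofAut_mul _ _ hx', hqx _ hx', ofAut_map_mul α (P.mul_mem hq1.1 hx') (P.inv_mem hq1.1),
      ofAut_map_mul α hq1.1 hx', ofAut_map_inv' α hq1.1, ofAut_apply_inv α hx]

/-- the automorphisms acting trivially on `zT / Aut_{Z(P ∩ T)}(P)` -/
def aZ (F : FusionSystem S) [Finite S] (hT : F.StronglyClosed T) (P : Subgroup Ω) (hP : P ≤ S) :
    Subgroup (MulAut P) where
  carrier := {x | x ∈ F.autGroup P ∧ ∀ z ∈ zT F T P, z⁻¹ * (x * z * x⁻¹) ∈ autInducedBy (zQ T P) P}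
  one_mem' := ⟨Subgroup.one_mem _, fun z _ => by
    have e : z⁻¹ * (1 * z * 1⁻¹) = 1 := by group
    rw [e]; exact Subgroup.one_mem _⟩
  mul_mem' := by
    rintro x y ⟨hx, hx2⟩ ⟨hy, hy2⟩
    refine ⟨Subgroup.mul_mem _ hx hy, fun z hz => ?_⟩
    have h1 := hx2 z hz
    have h2 := zQ_conj hT hP hx (hy2 z hz)
    have e : z⁻¹ * (x * y * z * (x * y)⁻¹) = (z⁻¹ * (x * z * x⁻¹)) * (x * (z⁻¹ * (y * z * y⁻¹)) * x⁻¹) := by group
    rw [e]
    exact Subgroup.mul_mem _ h1 h2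
  inv_mem' := by
    rintro x ⟨hx, hx2⟩
    refine ⟨Subgroup.inv_mem _ hx, fun z hz => ?_⟩
    have h1 := hx2 _ (zT_conj hT hP (Subgroup.inv_mem _ hx) hz)
    have e : (x⁻¹ * z * x⁻¹⁻¹)⁻¹ * (x * (x⁻¹ * z * x⁻¹⁻¹) * x⁻¹) = (z⁻¹ * (x⁻¹ * z * x⁻¹⁻¹))⁻¹ := by group
    rw [e] at h1
    have h2 := Subgroup.inv_mem _ h1
    rwa [inv_inv] at h2

/-- `K` acts trivially on `zT / Aut_{Z(P ∩ T)}(P)` -/
theorem esK_le_aZ [Finite S] [Fact p.Prime] (hS : IsPGroup p S) (hE : E.IsNormalIn F p) {P : Subgroup Ω}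
    (hPn : F.IsFullyNormalized P) (hQn : F.IsFullyNormalized (P ⊓ T)) (hQc : E.IsCentric (P ⊓ T)) :
    esK E F hE.1.2.2.2.1 P ≤ aZ F hE.1.2.2.2.1 P hPn.1 := by
  have hF : F.IsSaturated p := hE.1.2.1
  have hi : E.IsInvariantIn F := hE.1.2.2
  have hT := hi.2.1
  have hP := hPn.1
  have hPa := sat_fullyAutomized hS hF hPn
  have hfinP := finite_of_le hP
  have hfinA := finite_mulAut (P := P)
  have hCT : centralizerIn T (P ⊓ T) ≤ P ⊓ T := hQc.2 _ (isConj_refl hQc.1)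
  have hxNQ : ∀ x ∈ P, x ∈ Subgroup.normalizer ((P ⊓ T : Subgroup Ω) : Set Ω) := fun x hx =>
    (normalizerIn_le_inf hT (le_normalizerIn hP hx)).2
  have hsyl : H85.SylIn p (autInducedBy S P ⊓ esK E F hT P) (esK E F hT P) :=
    (fa_sylIn hPa).inf_normal (esK_leF hP) (conj_le_normalizer_of fun α hα κ hκ => by
      rw [esK_eq hP] at hκ ⊢; exact kR_conj hi hα hκ)
  refine sylIn_le_of_pprime hsyl ?_ ?_
  · rintro v ⟨hvS, hvK⟩
    refine ⟨esK_leF hP hvK, fun z hz => ?_⟩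
    obtain ⟨y, hy, z', hz', rfl⟩ := es_decomp hS hE hP hQn hQc hvS hvK
    have e1 : z⁻¹ * (y * z' * z * (y * z')⁻¹) = z⁻¹ * (y * z * y⁻¹) := by
      have h1 := zT_comm hT hP hz' hz
      have e2 : y * z' * z * (y * z')⁻¹ = y * (z' * z * z'⁻¹) * y⁻¹ := by group
      rw [e2, h1]; group
    rw [e1]
    obtain ⟨t, ht, htx⟩ := mem_autInducedBy'.1 hy
    obtain ⟨w, hw, hwN, hwx⟩ := zT_eq_conj hS hT hPa hz
    have htN : t ∈ Subgroup.normalizer (P : Set Ω) := mem_normalizer_of_ofAut htx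
    have htNQ := (normalizerIn_le_inf hT (show t ∈ normalizerIn S P from ⟨hT.1 ht, htN⟩)).2
    have hq : w⁻¹ * (t * w * t⁻¹) ∈ zQ T P := by
      have h1 : w⁻¹ * (t * w * t⁻¹) ∈ centralizerIn S (P ⊓ T) := Subgroup.mul_mem _ (Subgroup.inv_mem _ hw)
        (cen_conj htNQ hw (S.mul_mem (S.mul_mem (hT.1 ht) hw.1) (S.inv_mem (hT.1 ht))))
      have h2 : w⁻¹ * (t * w * t⁻¹) ∈ T := by
        have e3 : w⁻¹ * (t * w * t⁻¹) = (w⁻¹ * t * w⁻¹⁻¹) * t⁻¹ := by group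
        rw [e3]
        exact T.mul_mem (sc_conj_mem hT (S.inv_mem hw.1) ht) (T.inv_mem ht)
      exact mem_centralizerIn.2 ⟨hCT (mem_centralizerIn.2 ⟨h2, (mem_centralizerIn.1 h1).2⟩),
        (mem_centralizerIn.1 h1).2⟩
    refine mem_autInducedBy'.2 ⟨_, hq, fun x hx => ?_⟩
    have h3 : ofAut y⁻¹ x = t⁻¹ * x * t := by
      have h4 : t⁻¹ * x * t ∈ P := by
        have := (Subgroup.mem_normalizer_iff.1 (Subgroup.inv_mem _ htN) x).1 hx
        rwa [inv_inv] at this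
      have h5 : x = ofAut y (t⁻¹ * x * t) := by rw [htx _ h4]; group
      conv_lhs => rw [h5]
      exact ofAut_inv_apply _ h4
    have h6 := ofAut_mem y⁻¹ hx
    have h7 := ofAut_mem z h6
    have h8 := ofAut_mem y h7
    have h9 : ofAut z⁻¹ (ofAut y (ofAut z (ofAut y⁻¹ x))) = w⁻¹ * (ofAut y (ofAut z (ofAut y⁻¹ x))) * w := by
      have h4 : w⁻¹ * (ofAut y (ofAut z (ofAut y⁻¹ x))) * w ∈ P := by
        have := (Subgroup.mem_normalizer_iff.1 (Subgroup.inv_mem _ hwN) _).1 h8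
        rwa [inv_inv] at this
      have h5 : ofAut y (ofAut z (ofAut y⁻¹ x)) = ofAut z (w⁻¹ * (ofAut y (ofAut z (ofAut y⁻¹ x))) * w) := by
        rw [hwx _ h4]; group
      conv_lhs => rw [h5]
      exact ofAut_inv_apply _ h4
    rw [ofAut_mul _ _ hx, ofAut_mul _ _ hx, ofAut_mul _ _ h6, h9, htx _ h7, hwx _ h6, h3]
    group
  · intro κ hκ hco
    refine ⟨esK_leF hP hκ, fun z hz => ?_⟩
    obtain ⟨hκF, hκT, hκE⟩ := (mem_esK hP).1 hκ
    have hκm := isMap_ofAut hP hκF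
    have hVN : P ⊔ centralizerIn S (P ⊓ T) ≤ normalizerIn S (P ⊓ T) :=
      sup_le ((le_normalizerIn hP).trans (normalizerIn_le_inf hT)) (centralizerIn_le_normalizerIn _)
    obtain ⟨κ', hκ', hκ'co, hκ'x⟩ := es_ext2 hS hE hPn hQn hQc (V := P ⊔ centralizerIn S (P ⊓ T)) le_sup_left
      le_sup_right hVN hκ hco (by
        intro v hv
        have hn : P ≤ Subgroup.normalizer (centralizerIn S (P ⊓ T) : Set Ω) := by
          intro x hx
          rw [Subgroup.mem_normalizer_iff]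
          refine fun y => ⟨fun hy => cen_conj (hxNQ x hx) hy (S.mul_mem (S.mul_mem (hP hx) hy.1) (S.inv_mem (hP hx))),
            fun hy => ?_⟩
          have h1 := cen_conj (Subgroup.inv_mem _ (hxNQ x hx)) hy
            (S.mul_mem (S.mul_mem (S.inv_mem (hP hx)) hy.1) (S.inv_mem (S.inv_mem (hP hx))))
          have e1 : x⁻¹ * (x * y * x⁻¹) * x⁻¹⁻¹ = y := by group
          rwa [e1] at h1
        rw [sup_comm] at hv
        obtain ⟨c, hc, a, ha, rfl⟩ := (H85.mem_sup_iff_of_normalizes hn).1 hv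
        refine ⟨ofAut κ a, Subgroup.mem_sup_left (ofAut_mem κ ha), fun x hx => ?_⟩
        have h1 : a * x * a⁻¹ ∈ P ⊓ T := (Subgroup.mem_normalizer_iff.1 (hxNQ a ha) x).1 hx
        have h2 : c * a * x * (c * a)⁻¹ = a * x * a⁻¹ := by
          have h3 := (mem_centralizerIn.1 hc).2 _ h1
          calc c * a * x * (c * a)⁻¹ = (c * (a * x * a⁻¹)) * c⁻¹ := by group
            _ = ((a * x * a⁻¹) * c) * c⁻¹ := by rw [h3]
            _ = a * x * a⁻¹ := by group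
        rw [h2, ofAut_map_mul κ (P.mul_mem ha hx.1) (P.inv_mem ha), ofAut_map_mul κ ha hx.1, ofAut_map_inv' κ ha])
    have hVS : P ⊔ centralizerIn S (P ⊓ T) ≤ S := hVN.trans (normalizerIn_le _)
    obtain ⟨hκ'F, hκ'T, -⟩ := (mem_esK hVS).1 hκ'
    obtain ⟨w, hw, hwN, hwx⟩ := zT_eq_conj hS hT hPa hz
    have hwV : w ∈ P ⊔ centralizerIn S (P ⊓ T) := Subgroup.mem_sup_right hw
    have hκ'm := isMap_ofAut hVS hκ'F
    -- `κ'(w) w⁻¹ ∈ Z(Q)`
    have hκw : ofAut κ' w ∈ centralizerIn S (P ⊓ T) := by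
      rw [mem_centralizerIn]
      refine ⟨hVS (ofAut_mem κ' hwV), fun y hy => ?_⟩
      obtain ⟨x, hx, rfl⟩ : ∃ x ∈ P ⊓ T, y = ofAut κ x := by
        refine ⟨ofAut κ⁻¹ y, ⟨ofAut_mem _ hy.1, sc_map_mem hT (isMap_ofAut hP (Subgroup.inv_mem _ hκF)) hy.1 hy.2⟩,
          (ofAut_apply_inv κ hy.1).symm⟩
      rw [← hκ'x x hx.1, ← ofAut_map_mul κ' (Subgroup.mem_sup_left hx.1) hwV,
        ← ofAut_map_mul κ' hwV (Subgroup.mem_sup_left hx.1), (mem_centralizerIn.1 hw).2 x hx]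
    have hq : w⁻¹ * ofAut κ' w ∈ zQ T P := by
      have h1 : w⁻¹ * ofAut κ' w ∈ centralizerIn S (P ⊓ T) := Subgroup.mul_mem _ (Subgroup.inv_mem _ hw) hκw
      have h2 : w⁻¹ * ofAut κ' w ∈ T := by
        have h3 := sc_conj_mem hT (S.inv_mem hw.1) (hκ'T w hwV)
        have e3 : w⁻¹ * (ofAut κ' w * w⁻¹) * w⁻¹⁻¹ = w⁻¹ * ofAut κ' w := by group
        rwa [e3] at h3
      exact mem_centralizerIn.2 ⟨hCT (mem_centralizerIn.2 ⟨h2, (mem_centralizerIn.1 h1).2⟩),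
        (mem_centralizerIn.1 h1).2⟩
    refine mem_autInducedBy'.2 ⟨_, hq, fun x hx => ?_⟩
    have h6 := ofAut_mem κ⁻¹ hx
    have h7 : w * ofAut κ⁻¹ x * w⁻¹ ∈ P := (Subgroup.mem_normalizer_iff.1 hwN _).1 h6
    have h8 : ofAut κ (w * ofAut κ⁻¹ x * w⁻¹) = ofAut κ' w * x * (ofAut κ' w)⁻¹ := by
      rw [← hκ'x _ h7, ofAut_map_mul κ' (Subgroup.mul_mem _ hwV (Subgroup.mem_sup_left h6)) (Subgroup.inv_mem _ hwV),
        ofAut_map_mul κ' hwV (Subgroup.mem_sup_left h6), ofAut_map_inv' κ' hwV, hκ'x _ h6, ofAut_apply_inv κ hx]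
    have h9 : ofAut κ' w * x * (ofAut κ' w)⁻¹ ∈ P := by rw [← h8]; exact ofAut_mem κ h7
    have h10 : ofAut z⁻¹ (ofAut κ' w * x * (ofAut κ' w)⁻¹) = w⁻¹ * (ofAut κ' w * x * (ofAut κ' w)⁻¹) * w := by
      have h4 : w⁻¹ * (ofAut κ' w * x * (ofAut κ' w)⁻¹) * w ∈ P := by
        have := (Subgroup.mem_normalizer_iff.1 (Subgroup.inv_mem _ hwN) _).1 h9
        rwa [inv_inv] at this
      have h5 : ofAut κ' w * x * (ofAut κ' w)⁻¹ = ofAut z (w⁻¹ * (ofAut κ' w * x * (ofAut κ' w)⁻¹) * w) := by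
        rw [hwx _ h4]; group
      conv_lhs => rw [h5]
      exact ofAut_inv_apply _ h4
    rw [ofAut_mul _ _ hx, ofAut_mul _ _ hx, ofAut_mul _ _ h6, hwx _ h6, h8, h10]
    group

/-- **The hyperfocal statement**: `Aut_S(P) ∩ ⟨p'-elements of K⟩ ≤ Aut_T(P)`. -/
theorem es_hf [Finite S] [Fact p.Prime] (hS : IsPGroup p S) (hE : E.IsNormalIn F p) {P : Subgroup Ω}
    (hPn : F.IsFullyNormalized P) (hQn : F.IsFullyNormalized (P ⊓ T)) (hQc : E.IsCentric (P ⊓ T)) {v : MulAut P}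
    (hv : v ∈ autInducedBy S P) (hvK : v ∈ gK p (esK E F hE.1.2.2.2.1) P) : v ∈ autInducedBy T P := by
  have hF : F.IsSaturated p := hE.1.2.1
  have hi : E.IsInvariantIn F := hE.1.2.2
  have hT := hi.2.1
  have hP := hPn.1
  have hPa := sat_fullyAutomized hS hF hPn
  have hfinP := finite_of_le hP
  have hfinA := finite_mulAut (P := P)
  have hsyl : H85.SylIn p (autInducedBy S P ⊓ esK E F hT P) (esK E F hT P) :=
    (fa_sylIn hPa).inf_normal (esK_leF hP) (conj_le_normalizer_of fun α hα κ hκ => by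
      rw [esK_eq hP] at hκ ⊢; exact kR_conj hi hα hκ)
  have hTS : autInducedBy T P ≤ autInducedBy S P := autInducedBy_mono hT.1
  have hZT : zT F T P ≤ autInducedBy S P := fun z hz => by
    obtain ⟨w, hw, hwN, hwx⟩ := zT_eq_conj hS hT hPa hz
    exact mem_autInducedBy'.2 ⟨w, hw.1, hwx⟩
  refine mem_of_mem_closure_focal (W := autInducedBy T P) hsyl (le_inf hTS ?_) ?_ (Subgroup.closure_mono
    Set.subset_union_left hvK) ⟨hv, gK_le hvK⟩
  · intro y hy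
    obtain ⟨t, ht, htx⟩ := mem_autInducedBy'.1 hy
    have htN := mem_normalizer_of_ofAut htx
    have e1 : y = conjAut t htN := ofAut_injective fun x hx => by rw [htx x hx, ofAut_conjAut _ _ hx]
    rw [e1, esK_eq hP]
    exact conjAut_mem_kR ht htN
  · rintro v ⟨hvS, hvK⟩ x hx ⟨hxv, -⟩
    have hxF := esK_leF hP hx
    obtain ⟨y, hy, z, hz, rfl⟩ := es_decomp hS hE hP hQn hQc hvS hvK
    have h1 := (esK_le_aZ hS hE hPn hQn hQc hx).2 z hz
    have h2 : x * z * x⁻¹ ∈ autInducedBy S P := hZT (zT_conj hT hP hxF hz)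
    have h3 : x * y * x⁻¹ ∈ autInducedBy S P := by
      have h4 := Subgroup.mul_mem _ hxv (Subgroup.inv_mem _ h2)
      have e1 : x * (y * z) * x⁻¹ * (x * z * x⁻¹)⁻¹ = x * y * x⁻¹ := by group
      rwa [e1] at h4
    have h5 := conj_autT_mem hT hP (sat_receptive' hS hF hPn) hxF hy h3
    have h6 : z⁻¹ * (y⁻¹ * (x * y * x⁻¹)) * z ∈ autInducedBy T P := by
      have h7 := Subgroup.mul_mem _ (Subgroup.inv_mem _ hy) h5
      obtain ⟨t, ht, htx⟩ := mem_autInducedBy'.1 h7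
      obtain ⟨w, hw, hwN, hwx⟩ := zT_eq_conj hS hT hPa hz
      refine mem_autInducedBy'.2 ⟨w⁻¹ * t * w⁻¹⁻¹, sc_conj_mem hT (S.inv_mem hw.1) ht, fun a ha => ?_⟩
      have ha1 := ofAut_mem z ha
      have htN := mem_normalizer_of_ofAut htx
      have ha2 : t * (w * a * w⁻¹) * t⁻¹ ∈ P := (Subgroup.mem_normalizer_iff.1 htN _).1 (by rw [← hwx a ha]; exact ha1)
      have h10 : ofAut z⁻¹ (t * (w * a * w⁻¹) * t⁻¹) = w⁻¹ * (t * (w * a * w⁻¹) * t⁻¹) * w := by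
        have h4 : w⁻¹ * (t * (w * a * w⁻¹) * t⁻¹) * w ∈ P := by
          have := (Subgroup.mem_normalizer_iff.1 (Subgroup.inv_mem _ hwN) _).1 ha2
          rwa [inv_inv] at this
        have h5 : t * (w * a * w⁻¹) * t⁻¹ = ofAut z (w⁻¹ * (t * (w * a * w⁻¹) * t⁻¹) * w) := by
          rw [hwx _ h4]; group
        conv_lhs => rw [h5]
        exact ofAut_inv_apply _ h4
      rw [ofAut_mul _ _ ha, ofAut_mul _ _ ha1, htx _ ha1, hwx a ha, h10]
      group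
    have h8 : z⁻¹ * (x * z * x⁻¹) ∈ autInducedBy T P := by
      obtain ⟨q, hq, hqx⟩ := mem_autInducedBy'.1 h1
      exact mem_autInducedBy'.2 ⟨q, (mem_centralizerIn.1 hq).1.2, hqx⟩
    have e2 : (y * z)⁻¹ * (x * (y * z) * x⁻¹) = (z⁻¹ * (y⁻¹ * (x * y * x⁻¹)) * z) * (z⁻¹ * (x * z * x⁻¹)) := by group
    rw [e2]
    exact Subgroup.mul_mem _ h6 h8

end Cfsg.Agent.Fus
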