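import Cfsg.Agent.Fus.ES10
set_option autoImplicit false

/-!
# The product of a normal subsystem with `S`, VI: the engine hypotheses, saturation (helper85)
-/

namespace Cfsg.Agent.Fus

open Cfsg
open Cfsg.FusionSystem (centralizerIn normalizerIn)

variable {Ω : Type*} [Group Ω] {S T : Subgroup Ω} {F : FusionSystem S} {E : FusionSystem T} {p : ℕ}

theorem sylIn_sup {G : Type*} [Group G] [Finite G] [Fact p.Prime] {N A : Subgroup G}
    (hAN : A ≤ Subgroup.normalizer (N : Set G)) (hA : IsPGroup p A) (h : H85.SylIn p (A ⊓ N) N) :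
    H85.SylIn p A (N ⊔ A) := by
  obtain ⟨C, hAC, hC⟩ := H85.exists_sylIn (le_sup_right : A ≤ N ⊔ A) hA
  have h1 : A ⊓ N = C ⊓ N := h.eq_of_le inf_le_right
    (hC.isPGroup.of_injective (Subgroup.inclusion inf_le_left) (Subgroup.inclusion_injective _))
    (inf_le_inf_right N hAC)
  have h2 : A = C := by
    refine le_antisymm hAC fun c hc => ?_
    obtain ⟨n, hn, a, ha, rfl⟩ := (H85.mem_sup_iff_of_normalizes hAN).1 (hC.le hc)
    have hnC : n ∈ C := by
      have := C.mul_mem hc (C.inv_mem (hAC ha))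
      rwa [mul_inv_cancel_right] at this
    have h3 : n ∈ A ⊓ N := by rw [h1]; exact ⟨hnC, hn⟩
    exact A.mul_mem h3.1 ha
  rw [h2]
  rwa [← h2] at hC ⊢

variable (hS : IsPGroup p S) (hE : E.IsNormalIn F p)

theorem esK_trans [Finite S] (hi : E.IsInvariantIn F) {P Q : Subgroup Ω} {f : Ω → Ω} (hf : IsMap F P f)
    (hfQ : img P f = Q) {α : MulAut P} (hα : α ∈ esK E F hi.2.1 P) : hf.trans hfQ α ∈ esK E F hi.2.1 Q :=
  esK_transport hi hf hfQ hα fun _ hx => hf.ofAut_trans hfQ _ hx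

theorem gesK_trans [Finite S] (hi : E.IsInvariantIn F) {P Q : Subgroup Ω} {f : Ω → Ω} (hf : IsMap F P f)
    (hfQ : img P f = Q) {α : MulAut P} (hα : α ∈ gK p (esK E F hi.2.1) P) :
    hf.trans hfQ α ∈ gK p (esK E F hi.2.1) Q := by
  have h1 : gK p (esK E F hi.2.1) P ≤ (gK p (esK E F hi.2.1) Q).comap (hf.trans hfQ).toMonoidHom :=
    (Subgroup.closure_le _).2 fun β hβ => mem_gK (esK_trans hi hf hfQ hβ.1) (by
      show (orderOf (hf.trans hfQ β)).Coprime p
      rw [trans_orderOf]; exact hβ.2)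
  exact h1 hα

theorem gesK_conj [Finite S] (hi : E.IsInvariantIn F) {P : Subgroup Ω} (hP : P ≤ S) {α κ : MulAut P}
    (hα : α ∈ F.autGroup P) (hκ : κ ∈ gK p (esK E F hi.2.1) P) : α * κ * α⁻¹ ∈ gK p (esK E F hi.2.1) P := by
  have h1 := gesK_trans hi (isMap_ofAut hP hα) (img_ofAut α) hκ
  rwa [trans_ofAut_conj hP hα] at h1

/-- the Sylow condition -/
theorem es_syl [Finite S] [Fact p.Prime] (hS : IsPGroup p S) (hE : E.IsNormalIn F p) {P : Subgroup Ω}
    (hPH : esH S E P)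
    (hPn : (gsys S p (esH S E) (esK E F hE.1.2.2.2.1) (Nat.card P + 1)).IsFullyNormalized P) :
    H85.SylIn p (autInducedBy S P) (gA S p (esK E F hE.1.2.2.2.1) P) := by
  have hF : F.IsSaturated p := hE.1.2.1
  have hi : E.IsInvariantIn F := hE.1.2.2
  have hT := hi.2.1
  have hP := hPH.1
  have hfinP := finite_of_le hP
  have hfinA := finite_mulAut (P := P)
  obtain ⟨g, hg, hg1, hg2, hgT⟩ := exists_pos_fac hS hE hPn
  have hPN : P ≤ normalizerIn S P := le_normalizerIn hP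
  have hgP := hg.mono hPN
  have hP'S := hgP.img_le
  have hfinP' := finite_of_le hP'S
  have hfinA' := finite_mulAut (P := img P g)
  have hQc : E.IsCentric (img P g ⊓ T) := (esH_img hi hPH hgP).2
  set K := esK E F hE.1.2.2.2.1 with hK
  set τ := hgP.trans rfl with hτ
  have hgKn' : F.autGroup (img P g) ≤ Subgroup.normalizer (gK p K (img P g) : Set (MulAut ↥(img P g))) :=
    conj_le_normalizer_of fun α hα κ hκ => gesK_conj hi hP'S hα hκ
  have hgKn : F.autGroup P ≤ Subgroup.normalizer (gK p K P : Set (MulAut P)) :=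
    conj_le_normalizer_of fun α hα κ hκ => gesK_conj hi hP hα hκ
  have hgKF' : gK p K (img P g) ≤ F.autGroup (img P g) := gK_le.trans (esK_leF hP'S)
  have hsyl' : H85.SylIn p (autInducedBy S (img P g) ⊓ gK p K (img P g)) (gK p K (img P g)) :=
    (fa_sylIn (sat_fullyAutomized hS hF hg1)).inf_normal hgKF' hgKn'
  -- the elements of `Aut_S(P*) ∩ gK(P*)` come from `P`
  have hback : autInducedBy S (img P g) ⊓ gK p K (img P g) ≤
      (autInducedBy S P ⊓ gK p K P).map τ.toMonoidHom := by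
    rintro v ⟨hvS, hvK⟩
    have h1 := es_hf hS hE hg1 hg2 hQc hvS hvK
    obtain ⟨t, ht, htx⟩ := mem_autInducedBy'.1 h1
    have htN : t ∈ normalizerIn S (img P g) := ⟨hT.1 ht, mem_normalizer_of_ofAut htx⟩
    obtain ⟨n, hn, rfl⟩ := hg.mem_img.1 (hgT t (Subgroup.mem_sup_right ht) htN)
    have h2 : τ (conjAut n hn.2) = v := by
      refine trans_eq_of hgP rfl fun x hx => ?_
      rw [htx _ (subset_img hx), ofAut_conjAut _ _ hx, hg.map_conj hn (hPN hx)]
    refine ⟨conjAut n hn.2, ⟨conjAut_mem hn.1 hn.2, ?_⟩, h2⟩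
    -- membership in `gK` by transport back
    have h3 := gesK_trans hi (p := p) hgP.minv_isMap hgP.img_minv hvK
    have h4 : hgP.minv_isMap.trans hgP.img_minv v = conjAut n hn.2 := by
      refine trans_eq_of hgP.minv_isMap hgP.img_minv fun y hy => ?_
      obtain ⟨x, hx, rfl⟩ := hgP.mem_img.1 hy
      have hnx : n * x * n⁻¹ ∈ P := (Subgroup.mem_normalizer_iff.1
        (show n ∈ Subgroup.normalizer (P : Set Ω) from hn.2) x).1 hx
      rw [hgP.minv_apply hx, ofAut_conjAut _ _ hx, htx _ (subset_img hx), ← hg.map_conj hn (hPN hx),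
        hgP.minv_apply hnx]
    rwa [h4] at h3
  have hcard : Nat.card ↥(autInducedBy S (img P g) ⊓ gK p K (img P g)) ≤
      Nat.card ↥(autInducedBy S P ⊓ gK p K P) := by
    refine (Subgroup.card_le_of_le hback).trans ?_
    exact (Nat.card_congr ((autInducedBy S P ⊓ gK p K P).equivMapOfInjective _ τ.injective).toEquiv).symm.le
  have hsyl : H85.SylIn p (autInducedBy S P ⊓ gK p K P) (gK p K P) := by
    obtain ⟨C, hC1, hC⟩ := H85.exists_sylIn (inf_le_right : autInducedBy S P ⊓ gK p K P ≤ gK p K P)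
      ((isPGroup_autInducedBy hS P).of_injective (Subgroup.inclusion inf_le_left) (Subgroup.inclusion_injective _))
    have h1 : Nat.card C ≤ Nat.card ↥(autInducedBy S (img P g) ⊓ gK p K (img P g)) := by
      have h2 : C.map τ.toMonoidHom ≤ gK p K (img P g) := by
        rintro _ ⟨c, hc, rfl⟩
        exact gesK_trans hi hgP rfl (hC.le hc)
      have h3 := hsyl'.card_le h2 (hC.isPGroup.map _)
      refine le_trans ?_ h3
      exact (Nat.card_congr (C.equivMapOfInjective _ τ.injective).toEquiv).le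
    have h2 : autInducedBy S P ⊓ gK p K P = C := Subgroup.eq_of_le_of_card_ge hC1 (h1.trans hcard)
    rw [h2]
    exact hC
  exact sylIn_sup ((autInducedBy_le_autGroup hP).trans hgKn) (isPGroup_autInducedBy hS P) hsyl

/-- the extension condition -/
theorem es_ext [Finite S] [Fact p.Prime] (hS : IsPGroup p S) (hE : E.IsNormalIn F p) {P : Subgroup Ω}
    (hPH : esH S E P)
    (hPn : (gsys S p (esH S E) (esK E F hE.1.2.2.2.1) (Nat.card P + 1)).IsFullyNormalized P) {κ : MulAut P}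
    (hκ : κ ∈ esK E F hE.1.2.2.2.1 P) (hco : (orderOf κ).Coprime p) {V : Subgroup Ω} (hPV : P ≤ V)
    (hVN : V ≤ normalizerIn S P) (hCV : centralizerIn S P ≤ V)
    (hV : ∀ v ∈ V, ∃ v' ∈ V, ∀ x ∈ P, ofAut κ (v * x * v⁻¹) = v' * ofAut κ x * v'⁻¹) :
    ∃ κ' ∈ esK E F hE.1.2.2.2.1 V, (orderOf κ').Coprime p ∧ ∀ x ∈ P, ofAut κ' x = ofAut κ x := by
  have hF : F.IsSaturated p := hE.1.2.1
  have hi : E.IsInvariantIn F := hE.1.2.2
  have hT := hi.2.1
  have hP := hPH.1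
  have hVS : V ≤ S := hVN.trans (normalizerIn_le P)
  have hfinV := finite_of_le hVS
  obtain ⟨g, hg, hg1, hg2, hgT⟩ := exists_pos_fac hS hE hPn
  have hPN : P ≤ normalizerIn S P := le_normalizerIn hP
  have hgP := hg.mono hPN
  have hgV := hg.mono hVN
  have hP'S := hgP.img_le
  have hfinP' := finite_of_le hP'S
  have hQc : E.IsCentric (img P g ⊓ T) := (esH_img hi hPH hgP).2
  -- transport of `κ`
  set κ₁ := hgP.trans rfl κ with hκ₁
  have hκ₁K : κ₁ ∈ esK E F hT (img P g) := esK_trans hi hgP rfl hκ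
  have hκ₁co : (orderOf κ₁).Coprime p := by rw [hκ₁, trans_orderOf]; exact hco
  have hκ₁x : ∀ x ∈ P, ofAut κ₁ (g x) = g (ofAut κ x) := fun x hx => hgP.ofAut_trans rfl κ hx
  obtain ⟨hκ₁F, hκ₁T, -⟩ := (mem_esK hP'S).1 hκ₁K
  have hκ₁m := isMap_ofAut hP'S hκ₁F
  -- the group `V* C_S(Q*)`
  have hP'V : img P g ≤ img V g := img_mono hPV
  have hV'N : img V g ≤ normalizerIn S (img P g) := by
    rw [hgV.img_le_iff]
    exact fun v hv => ⟨hg.mem (hVN hv), hg.map_normalizer hPN (hVN hv) (hVN hv).2⟩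
  have hV'NQ : img V g ≤ normalizerIn S (img P g ⊓ T) := hV'N.trans (normalizerIn_le_inf hT)
  have hWN : img V g ⊔ centralizerIn S (img P g ⊓ T) ≤ normalizerIn S (img P g ⊓ T) :=
    sup_le hV'NQ (centralizerIn_le_normalizerIn _)
  have hV' : ∀ v ∈ img V g, ∃ v' ∈ img V g, ∀ x ∈ img P g, ofAut κ₁ (v * x * v⁻¹) = v' * ofAut κ₁ x * v'⁻¹ := by
    intro v hv
    obtain ⟨u, hu, rfl⟩ := hgV.mem_img.1 hv
    obtain ⟨u', hu', h⟩ := hV u hu
    refine ⟨g u', subset_img hu', fun y hy => ?_⟩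
    obtain ⟨x, hx, rfl⟩ := hgP.mem_img.1 hy
    have hux : u * x * u⁻¹ ∈ P := (Subgroup.mem_normalizer_iff.1
      (show u ∈ Subgroup.normalizer (P : Set Ω) from (hVN hu).2) x).1 hx
    rw [← hg.map_conj (hVN hu) (hPN hx), hκ₁x _ hux, h x hx, hκ₁x x hx,
      hg.map_conj (hVN hu') (hPN (ofAut_mem κ hx))]
  obtain ⟨κ₂, hκ₂K, hκ₂co, hκ₂x⟩ := es_ext2 hS hE hg1 hg2 hQc (V := img V g ⊔ centralizerIn S (img P g ⊓ T))
    (hP'V.trans le_sup_left) le_sup_right hWN hκ₁K hκ₁co (by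
      intro v hv
      have hn : img V g ≤ Subgroup.normalizer (centralizerIn S (img P g ⊓ T) : Set Ω) := by
        intro x hx
        have hxN := (hV'NQ hx).2
        have hxS := (hV'NQ hx).1
        rw [Subgroup.mem_normalizer_iff]
        refine fun y => ⟨fun hy => cen_conj hxN hy (S.mul_mem (S.mul_mem hxS hy.1) (S.inv_mem hxS)), fun hy => ?_⟩
        have h1 := cen_conj (Subgroup.inv_mem _ hxN) hy
          (S.mul_mem (S.mul_mem (S.inv_mem hxS) hy.1) (S.inv_mem (S.inv_mem hxS)))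
        have e1 : x⁻¹ * (x * y * x⁻¹) * x⁻¹⁻¹ = y := by group
        rwa [e1] at h1
      rw [sup_comm] at hv
      obtain ⟨c, hc, a, ha, rfl⟩ := (H85.mem_sup_iff_of_normalizes hn).1 hv
      obtain ⟨v', hv', h⟩ := hV' a ha
      refine ⟨v', Subgroup.mem_sup_left hv', fun x hx => ?_⟩
      have h1 : a * x * a⁻¹ ∈ img P g ⊓ T := (Subgroup.mem_normalizer_iff.1 (hV'NQ ha).2 x).1 hx
      have h2 : c * a * x * (c * a)⁻¹ = a * x * a⁻¹ := by
        have h3 := (mem_centralizerIn.1 hc).2 _ h1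
        calc c * a * x * (c * a)⁻¹ = (c * (a * x * a⁻¹)) * c⁻¹ := by group
          _ = ((a * x * a⁻¹) * c) * c⁻¹ := by rw [h3]
          _ = a * x * a⁻¹ := by group
      rw [h2, h x hx.1])
  have hWS := hWN.trans (normalizerIn_le _)
  obtain ⟨hκ₂F, hκ₂T, -⟩ := (mem_esK hWS).1 hκ₂K
  -- `κ₂` preserves `V*`
  have hpres : ∀ v ∈ img V g, ofAut κ₂ v ∈ img V g := by
    intro v hv
    obtain ⟨v', hv', h⟩ := hV' v hv
    have hvW : v ∈ img V g ⊔ centralizerIn S (img P g ⊓ T) := Subgroup.mem_sup_left hv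
    have h1 : v'⁻¹ * ofAut κ₂ v ∈ centralizerIn S (img P g) := by
      rw [mem_centralizerIn]
      refine ⟨S.mul_mem (S.inv_mem (hV'N hv').1) (hWS (ofAut_mem κ₂ hvW)), fun y hy => ?_⟩
      obtain ⟨x, hx, rfl⟩ : ∃ x ∈ img P g, y = ofAut κ₁ x :=
        ⟨ofAut κ₁⁻¹ y, ofAut_mem _ hy, (ofAut_apply_inv κ₁ hy).symm⟩
      have hvx : v * x * v⁻¹ ∈ img P g := (Subgroup.mem_normalizer_iff.1
        (show v ∈ Subgroup.normalizer (img P g : Set Ω) from (hV'N hv).2) x).1 hx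
      have hxW : x ∈ img V g ⊔ centralizerIn S (img P g ⊓ T) := Subgroup.mem_sup_left (hP'V hx)
      have h2 := h x hx
      rw [← hκ₂x _ hvx, ofAut_map_mul κ₂ (Subgroup.mul_mem _ hvW hxW) (Subgroup.inv_mem _ hvW),
        ofAut_map_mul κ₂ hvW hxW, ofAut_map_inv' κ₂ hvW, hκ₂x x hx] at h2
      calc ofAut κ₁ x * (v'⁻¹ * ofAut κ₂ v) = v'⁻¹ * (v' * ofAut κ₁ x * v'⁻¹) * ofAut κ₂ v := by group
        _ = v'⁻¹ * (ofAut κ₂ v * ofAut κ₁ x * (ofAut κ₂ v)⁻¹) * ofAut κ₂ v := by rw [h2]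
        _ = v'⁻¹ * ofAut κ₂ v * ofAut κ₁ x := by group
    have h3 : v'⁻¹ * ofAut κ₂ v ∈ img (normalizerIn S P) g ⊔ T := by
      have e1 : v'⁻¹ * ofAut κ₂ v = (v'⁻¹ * (ofAut κ₂ v * v⁻¹) * v'⁻¹⁻¹) * (v'⁻¹ * v) := by group
      rw [e1]
      refine Subgroup.mul_mem _ (Subgroup.mem_sup_right ?_) (Subgroup.mem_sup_left (img_mono hVN
        ((img V g).mul_mem ((img V g).inv_mem hv') hv)))
      exact sc_conj_mem hT (S.inv_mem (hV'N hv').1) (hκ₂T v hvW)
    obtain ⟨n, hn, hnx⟩ := hg.mem_img.1 (hgT _ h3 (centralizerIn_le_normalizerIn _ h1))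
    have hnC : n ∈ centralizerIn S P := by
      rw [mem_centralizerIn]
      refine ⟨hn.1, fun x hx => ?_⟩
      have h4 := (mem_centralizerIn.1 h1).2 _ (subset_img hx)
      rw [← hnx, ← hg.map_mul (hPN hx) hn, ← hg.map_mul hn (hPN hx)] at h4
      exact hg.inj (Subgroup.mul_mem _ (hPN hx) hn) (Subgroup.mul_mem _ hn (hPN hx)) h4
    have h5 : v'⁻¹ * ofAut κ₂ v ∈ img V g := by rw [← hnx]; exact subset_img (hCV hnC)
    have h6 := (img V g).mul_mem hv' h5
    rwa [mul_inv_cancel_left] at h6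
  obtain ⟨κ₃, hκ₃F, hκ₃x, hκ₃o⟩ := exists_restrict_mem hWS (le_sup_left : img V g ≤ _) hκ₂F hpres
  have hκ₃K : κ₃ ∈ esK E F hT (img V g) := esK_restrict le_sup_left hWS hκ₂K hκ₃x
  refine ⟨hgV.minv_isMap.trans hgV.img_minv κ₃, esK_trans hi hgV.minv_isMap hgV.img_minv hκ₃K, ?_, fun x hx => ?_⟩
  · rw [trans_orderOf]
    exact hκ₂co.coprime_dvd_left hκ₃o
  · have h1 := hgV.minv_isMap.ofAut_trans hgV.img_minv κ₃ (subset_img (hPV hx))
    rw [hgV.minv_apply (hPV hx), hκ₃x _ (subset_img (hPV hx)), hκ₂x _ (subset_img hx), hκ₁x x hx,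
      hgV.minv_apply (hPV (ofAut_mem κ hx))] at h1
    exact h1

/-- the engine data -/
theorem es_gdata [Finite S] [Fact p.Prime] (hS : IsPGroup p S) (hE : E.IsNormalIn F p) :
    GData F p (esH S E) (esK E F hE.1.2.2.2.1) where
  hS := hS
  top := ⟨le_rfl, by
    have := finite_of_le hE.1.2.2.2.1.1
    rw [inf_eq_right.2 hE.1.2.2.2.1.1]
    exact isCentric_self⟩
  le := fun _ h => h.1
  mono := fun _ _ h hPQ hQ => esH_mono h hPQ hQ
  img := fun _ _ h hf => esH_img hE.1.2.2 h hf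
  leF := fun _ h => esK_leF h.1
  equi := fun _ _ hf _ _ hα => esK_trans hE.1.2.2 hf rfl hα
  res := fun _ _ _ hPR hR _ hκ _ _ hβ => esK_restrict hPR hR hκ hβ
  syl := fun _ hP hPn => es_syl hS hE hP hPn
  ext := fun _ hP hPn _ hκ hco _ hPV hVN hCV hV => es_ext hS hE hP hPn hκ hco hPV hVN hCV hV

/-- The product `E S`. -/
noncomputable def esSys (E : FusionSystem T) (F : FusionSystem S) (p : ℕ) [Finite S] (hT : F.StronglyClosed T) :
    FusionSystem S := gsys S p (esH S E) (esK E F hT) 1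

/-- **`E S` is saturated.** -/
theorem esSys_saturated [Finite S] [Fact p.Prime] (hS : IsPGroup p S) (hE : E.IsNormalIn F p) :
    (esSys E F p hE.1.2.2.2.1).IsSaturated p :=
  (es_gdata hS hE).saturated fun _ hPc hPH => es_star hS hE hPc hPH

end Cfsg.Agent.Fus
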