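import Cfsg.Agent.Fus.ES11
import Cfsg.Agent.Fus.PPow6
import Cfsg.Agent.Fus.ExtZ
set_option autoImplicit false

/-!
# The product of a normal subsystem with `S`, VII: properties (helper85)
-/

namespace Cfsg.Agent.Fus

open Cfsg
open Cfsg.FusionSystem (centralizerIn normalizerIn)

variable {Ω : Type*} [Group Ω] {S T : Subgroup Ω} {F : FusionSystem S} {E : FusionSystem T} {p : ℕ}

theorem esSys_leF [Finite S] {hT : F.StronglyClosed T} : esSys E F p hT ≤ F := esSys_le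

/-- transport of paths along conjugations by elements of `S` -/
theorem KPath.transport_conj [Finite S] (hi : E.IsInvariantIn F) {A : Subgroup Ω} (hA : A ≤ S) {s : Ω} (hs : s ∈ S) {φ : Ω → Ω}
    (h : KPath E F p hi.2.1 (img A (fun x => s * x * s⁻¹)) φ) :
    ∃ φ', KPath E F p hi.2.1 A φ' ∧ ∀ x ∈ A, s * φ' x * s⁻¹ = φ (s * x * s⁻¹) :=
  h.transport (δ := fun x => s * x * s⁻¹) hi (isMap_conj (sup_le hA hi.2.1.1) hs)

/-- The maps of `E S` are composites of paths and conjugations. -/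
theorem esSys_form [Finite S] (hi : E.IsInvariantIn F) {P : Subgroup Ω} {f : Ω → Ω}
    (hf : IsMap (esSys E F p hi.2.1) P f) :
    ∃ s ∈ S, ∃ φ, KPath E F p hi.2.1 P φ ∧ ∀ x ∈ P, f x = s * φ x * s⁻¹ := by
  refine gsys_ind (fun P f => ∃ s ∈ S, ∃ φ, KPath E F p hi.2.1 P φ ∧ ∀ x ∈ P, f x = s * φ x * s⁻¹)
    ?_ ?_ ?_ ?_ ?_ hf
  · rintro P f g hfg ⟨s, hs, φ, hφ, h⟩
    exact ⟨s, hs, φ, hφ, fun x hx => by rw [← hfg x hx, h x hx]⟩
  · intro P g hP hg
    exact ⟨g, hg, fun x => x, .refl hP fun _ _ => rfl, fun _ _ => rfl⟩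
  · intro R hR hRS _ α hα hco P hPR
    exact ⟨1, S.one_mem, ofAut α, KPath.gen hR hα hco hPR fun _ _ => rfl, fun x _ => by group⟩
  · rintro P f g hf hg ⟨s, hs, φ, hφ, h⟩ ⟨r, hr, ψ, hψ, h'⟩
    have e1 : img P f = img (img P φ) (fun x => s * x * s⁻¹) := by
      rw [← hφ.isMapF.img_comp]; exact img_congr h
    rw [e1] at hψ
    obtain ⟨ψ', hψ', hψ'e⟩ := hψ.transport_conj hi hφ.isMapF.img_le hs
    refine ⟨r * s, S.mul_mem hr hs, fun x => ψ' (φ x), hψ'.comp hφ, fun x hx => ?_⟩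
    have h1 := hψ'e _ (subset_img hx)
    show g (f x) = r * s * ψ' (φ x) * (r * s)⁻¹
    rw [h' _ (subset_img hx), h x hx, ← h1]
    group
  · rintro P f hf ⟨s, hs, φ, hφ, h⟩
    have hfF : IsMap F P f := le_iff.1 esSys_le P f hf
    have e1 : img (img P f) (fun x => s⁻¹ * x * s⁻¹⁻¹) = img P φ := by
      rw [← hfF.img_comp]
      exact img_congr fun x hx => by rw [h x hx]; group
    have hinv := hφ.inv
    rw [← e1] at hinv
    obtain ⟨ψ', hψ', hψ'e⟩ := hinv.transport_conj hi hfF.img_le (S.inv_mem hs)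
    refine ⟨s⁻¹, S.inv_mem hs, ψ', hψ', fun y hy => ?_⟩
    obtain ⟨x, hx, rfl⟩ := hfF.mem_img.1 hy
    rw [hψ'e _ hy, hfF.minv_apply hx, h x hx]
    have e2 : s⁻¹ * (s * φ x * s⁻¹) * s⁻¹⁻¹ = φ x := by group
    rw [e2, hφ.isMapF.minv_apply hx]

/-- powers -/
theorem esSys_form_pow [Finite S] (hi : E.IsInvariantIn F) {P : Subgroup Ω} (hP : P ≤ S) {α : MulAut P}
    (hα : α ∈ (esSys E F p hi.2.1).autGroup P) : ∃ s ∈ S, ∀ n : ℕ, ∃ φ, KPath E F p hi.2.1 P φ ∧
      ∀ x ∈ P, ofAut (α ^ n) x = s ^ n * φ x * (s ^ n)⁻¹ := by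
  obtain ⟨s, hs, φ, hφ, h⟩ := esSys_form hi (isMap_ofAut hP hα)
  refine ⟨s, hs, fun n => ?_⟩
  induction n with
  | zero => exact ⟨fun x => x, .refl hP fun _ _ => rfl, fun x hx => by rw [pow_zero, ofAut_one hx]; group⟩
  | succ n ih =>
    obtain ⟨φn, hφn, hn⟩ := ih
    have hsn := S.pow_mem hs n
    have e1 : img (img P φn) (fun x => s ^ n * x * (s ^ n)⁻¹) = P := by
      rw [← hφn.isMapF.img_comp, ← img_congr hn, img_ofAut]
    have hφ1 := hφ
    rw [← e1] at hφ1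
    obtain ⟨ψ, hψ, hψe⟩ := hφ1.transport_conj hi hφn.isMapF.img_le hsn
    refine ⟨fun x => ψ (φn x), hψ.comp hφn, fun x hx => ?_⟩
    have h1 := hψe _ (subset_img hx)
    rw [pow_succ' α, ofAut_mul _ _ hx, h _ (ofAut_mem _ hx), hn x hx, ← h1, pow_succ' s]
    group

/-- `p'`-automorphisms in `E S` are paths. -/
theorem kpath_of_pprime [Finite S] [Fact p.Prime] (hS : IsPGroup p S) (hi : E.IsInvariantIn F) {P : Subgroup Ω}
    (hP : P ≤ S) {α : MulAut P} (hα : α ∈ (esSys E F p hi.2.1).autGroup P) (hco : (orderOf α).Coprime p) :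
    KPath E F p hi.2.1 P (ofAut α) := by
  have hfinP := finite_of_le hP
  have hfinA := finite_mulAut (P := P)
  obtain ⟨s, hs, h⟩ := esSys_form_pow hi hP hα
  obtain ⟨e, he⟩ := exists_exp (p := p) hS
  obtain ⟨φ, hφ, hφe⟩ := h (p ^ e)
  have h1 : KPath E F p hi.2.1 P (ofAut (α ^ p ^ e)) := hφ.congr fun x hx => by
    rw [hφe x hx, he s hs]; group
  have h2 : ∀ m : ℕ, KPath E F p hi.2.1 P (ofAut ((α ^ p ^ e) ^ m)) := by
    intro m
    induction m with
    | zero => exact .refl hP fun x hx => by rw [pow_zero, ofAut_one hx]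
    | succ m ih =>
      refine (h1.comp' ih fun x hx => ofAut_mem _ hx).congr fun x hx => ?_
      rw [pow_succ' (α ^ p ^ e), ofAut_mul _ _ hx]
  obtain ⟨m, hm⟩ := exists_pow_eq_self_of_coprime (n := p ^ e) (x := α) ((Nat.Coprime.pow_right e hco).symm)
  have h3 := h2 m
  rwa [hm] at h3

theorem esSys_pprime_mod [Finite S] [Fact p.Prime] (hS : IsPGroup p S) (hi : E.IsInvariantIn F) {P : Subgroup Ω}
    (hP : P ≤ S) {α : MulAut P} (hα : α ∈ (esSys E F p hi.2.1).autGroup P) (hco : (orderOf α).Coprime p) {x : Ω}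
    (hx : x ∈ P) : ofAut α x * x⁻¹ ∈ T := (kpath_of_pprime hS hi hP hα hco).mod x hx

theorem esSys_hyper_le [Finite S] [Fact p.Prime] (hS : IsPGroup p S) (hi : E.IsInvariantIn F) :
    (esSys E F p hi.2.1).hyperfocalSubgroup p ≤ T := by
  refine hyper_le fun P hP α hco x hx => ?_
  have h1 := esSys_pprime_mod hS hi hP α.2 (by rwa [Subgroup.orderOf_coe]) hx
  have h2 := sc_conj_mem hi.2.1 (S.inv_mem (hP hx)) h1
  have e1 : x⁻¹ * (ofAut (α : MulAut P) x * x⁻¹) * x⁻¹⁻¹ = x⁻¹ * ofAut (α : MulAut P) x := by group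
  rwa [e1] at h2

/-- `p'`-automorphisms in `E S` are carried to such by the maps of `F`. -/
theorem esSys_conj [Finite S] [Fact p.Prime] (hS : IsPGroup p S) (hE : E.IsNormalIn F p) {P Q : Subgroup Ω}
    {f : Ω → Ω} (hf : IsMap F P f) (hfQ : img P f = Q) {α : MulAut P}
    (hα : α ∈ (esSys E F p hE.1.2.2.2.1).autGroup P) (hco : (orderOf α).Coprime p) :
    hf.trans hfQ α ∈ (esSys E F p hE.1.2.2.2.1).autGroup Q := by
  have hi : E.IsInvariantIn F := hE.1.2.2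
  subst hfQ
  obtain ⟨φ, γ, hφ, hγ, he⟩ := es_factor hS hE hf
  have hφD : IsMap (esSys E F p hi.2.1) P φ := hφ.isMap
  have h1 : hφD.trans rfl α ∈ (esSys E F p hi.2.1).autGroup (img P φ) := hφD.trans_mem rfl hα
  have h2 := kpath_of_pprime hS hi hφ.isMapF.img_le h1 (by rw [trans_orderOf]; exact hco)
  have hγ2 : IsMap F (img P φ ⊔ T) γ := by rw [hφ.sup_eq]; exact hγ
  have e1 : img P f = img (img P φ) γ := by rw [← hφ.isMapF.img_comp]; exact img_congr he
  -- `γ⁻¹` on `f(P) T`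
  have hTi : img T γ = T := sc_img_eq hi.2.1 hγ2 le_sup_right
  have e2 : img (img P φ ⊔ T) γ = img P f ⊔ T := by
    rw [e1]
    apply le_antisymm
    · rw [hγ2.img_le_iff]
      exact hγ2.forall_sup_mem (fun x hx => Subgroup.mem_sup_left (subset_img hx))
        fun x hx => Subgroup.mem_sup_right (hTi.le (subset_img hx))
    · exact sup_le (img_mono le_sup_left) (hTi.ge.trans (img_mono le_sup_right))
  have hδ := hγ2.minv_isMap
  rw [e2] at hδ
  set δ := minv (img P φ ⊔ T) γ with hδd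
  have hδf : ∀ x ∈ P, δ (f x) = φ x := fun x hx => by
    rw [he x hx, hδd, hγ2.minv_apply (Subgroup.mem_sup_left (subset_img hx))]
  have e3 : img (img P f) δ = img P φ := by
    rw [← hf.img_comp]
    exact img_congr hδf
  obtain ⟨a, ha⟩ : ∃ a : Ω → Ω, a = ofAut (hφD.trans rfl α) := ⟨_, rfl⟩
  rw [← ha, ← e3] at h2
  obtain ⟨ψ, hψ, hψe⟩ := h2.transport hi hδ
  rw [mem_autGroup_iff hf.img_le]
  have h3 : IsMap (esSys E F p hi.2.1) (img P f) ψ := hψ.isMap
  refine h3.congr fun y hy => ?_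
  obtain ⟨x, hx, rfl⟩ := hf.mem_img.1 hy
  have hαx := ofAut_mem α hx
  rw [hf.ofAut_trans rfl α hx]
  have h4 := hψe _ (subset_img hx)
  rw [hδf x hx, ha, hφD.ofAut_trans rfl α hx, ← hδf _ hαx] at h4
  refine hδ.inj ?_ (Subgroup.mem_sup_left (subset_img hαx)) h4
  exact hψ.sup_eq.le (Subgroup.mem_sup_left (subset_img hy))

/-- `E` has `p`-power index in `E S`. -/
theorem esSys_ppower [Finite S] [Fact p.Prime] (hS : IsPGroup p S) (hE : E.IsNormalIn F p) :
    E.IsSubsystemOf (esSys E F p hE.1.2.2.2.1) ∧ ∀ P : Subgroup Ω, P ≤ T →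
      ∀ α ∈ (esSys E F p hE.1.2.2.2.1).autGroup P, (orderOf α).Coprime p → IsMap E P (ofAut α) := by
  have hi : E.IsInvariantIn F := hE.1.2.2
  have hEs : E.IsSaturated p := hE.1.1
  have hT := hi.2.1
  have hfinT := finite_of_le hT.1
  have hTp := isPGroup_of_le hS hT.1
  set 𝒟 := esSys E F p hE.1.2.2.2.1 with h𝒟
  have h𝒟s : 𝒟.IsSaturated p := esSys_saturated hS hE
  obtain ⟨E', hE's, hE'𝒟, hE'p⟩ := exists_ppower (p := p) _ (T := T) rfl hS h𝒟s hT.1 (esSys_hyper_le hS hi)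
  -- `E ≤ E'`
  have hle : E ≤ E' := by
    refine alperin_radical_ind hTp hEs fun R hRn hRc hRr _ α hα => ?_
    have hRT := hRn.1
    have hfinR := finite_of_le hRT
    have hfinA := finite_mulAut (P := R)
    have hRS := hRT.trans hT.1
    refine sylIn_le_of_pprime (fa_sylIn (sat_fullyAutomized hTp hEs hRn)) (autInducedBy_le_autGroup hRT)
      (fun κ hκ hco => ?_) hα
    rw [mem_autGroup_iff hRT]
    refine hE'p R hRT κ ?_ hco
    rw [mem_autGroup_iff hRS]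
    have hRi : R ⊓ T = R := inf_eq_left.2 hRT
    refine gsys_gen ⟨hRS, by rw [hRi]; exact hRc⟩ hRS Nat.card_pos ((mem_esK hRS).2 ⟨?_, fun x hx => ?_, ?_⟩) hco
    · rw [mem_autGroup_iff hRS]
      exact isSubsystemOf_iff.1 hi.1 _ _ (isMap_ofAut hRT hκ)
    · exact T.mul_mem (hRT (ofAut_mem κ hx)) (T.inv_mem (hRT hx))
    · rw [hRi]; exact isMap_ofAut hRT hκ
  have hle' : E' ≤ E := by
    refine alperin_radical_ind hTp hE's fun R hRn hRc hRr _ α hα => ?_
    have hRT := hRn.1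
    have hfinR := finite_of_le hRT
    have hfinA := finite_mulAut (P := R)
    have hRS := hRT.trans hT.1
    refine sylIn_le_of_pprime (fa_sylIn (sat_fullyAutomized hTp hE's hRn)) (autInducedBy_le_autGroup hRT)
      (fun κ hκ hco => ?_) hα
    have hRi : R ⊓ T = R := inf_eq_left.2 hRT
    have hRE : E.IsCentric R := ⟨hRT, fun Q hQ => hRc.2 Q (isConj_of_subsystem (isSubsystemOf_iff.2 (le_iff.1 hle)) hQ)⟩
    have hκ𝒟 : κ ∈ 𝒟.autGroup R := by
      rw [mem_autGroup_iff hRS]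
      exact isSubsystemOf_iff.1 hE'𝒟 _ _ (isMap_ofAut hRT hκ)
    have h1 := (es_gdata hS hE).pprime_mem (P := R) ⟨hRS, by rw [hRi]; exact hRE⟩ hκ𝒟 hco
    have h2 := ((mem_esK hRS).1 (gK_le h1)).2.2
    rw [hRi] at h2
    exact (mem_autGroup_iff hRT).2 h2
  exact ⟨isSubsystemOf_iff.2 fun P f hf => isSubsystemOf_iff.1 hE'𝒟 P f (le_iff.1 hle P f hf),
    fun P hP α hα hco => le_iff.1 hle' _ _ (hE'p P hP α hα hco)⟩

end Cfsg.Agent.Fus
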