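import Cfsg.Agent.Fus.ES12
import Cfsg.Agent.Fus.ModelNorm
import Cfsg.Agent.Fus.TInv
set_option autoImplicit false

/-!
# The product of a normal subsystem with `S`, VIII: normalizers (helper85)

`X` fully normalized in `F`, `N = N_F(X)`, `E ⊴ F` over `T`: there is a normal subsystem of `N` over `T ∩ N_S(X)`,
contained in `E`.
-/

namespace Cfsg.Agent.Fus

open Cfsg
open Cfsg.FusionSystem (centralizerIn normalizerIn)

variable {Ω : Type*} [Group Ω] {S T : Subgroup Ω} {F : FusionSystem S} {E : FusionSystem T} {p : ℕ}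

/-- `p'`-automorphisms in a normalizer system extend to `p'`-automorphisms -/
theorem exists_ext_normSys [Finite S] [Fact p.Prime] {D : FusionSystem S} {X : Subgroup Ω} (hX : X ≤ S)
    {N : FusionSystem (normalizerIn S X)} (hN : D.IsNormalizerSystem X N) {P : Subgroup Ω}
    (hP : P ≤ normalizerIn S X) {α : MulAut P} (hα : α ∈ N.autGroup P) (hco : (orderOf α).Coprime p) :
    ∃ β ∈ D.autGroup (P ⊔ X), (orderOf β).Coprime p ∧ (∀ x ∈ P, ofAut β x = ofAut α x) ∧ ∀ x ∈ X, ofAut β x ∈ X := by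
  have hPS : P ≤ S := hP.trans (normalizerIn_le X)
  have hPX : P ⊔ X ≤ S := sup_le hPS hX
  have hfin := finite_of_le hPX
  have hfinA := finite_mulAut (P := P ⊔ X)
  obtain ⟨-, -, g, hg, hgα, hgX⟩ := (isMap_normSys hN).1 (isMap_ofAut hP hα)
  have himg : img (P ⊔ X) g = P ⊔ X := by
    refine hg.img_eq ?_
    refine hg.forall_sup_mem (fun x hx => Subgroup.mem_sup_left ?_) fun x hx => Subgroup.mem_sup_right ?_
    · rw [hgα x hx]; exact ofAut_mem α hx
    · rw [← hgX]; exact subset_img hx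
  obtain ⟨k, hk, hkco⟩ := exists_pprime_pow (p := p) (hg.aut himg) hco
  refine ⟨hg.aut himg ^ k, Subgroup.pow_mem _ (hg.aut_mem himg) k, hkco, ?_, ?_⟩
  · have h1 : ∀ n : ℕ, ∀ x ∈ P, ofAut (hg.aut himg ^ n) x = ofAut (α ^ n) x := by
      intro n
      induction n with
      | zero => intro x hx; rw [pow_zero, pow_zero, ofAut_one hx, ofAut_one (Subgroup.mem_sup_left hx)]
      | succ n ih =>
        intro x hx
        rw [pow_succ', pow_succ', ofAut_mul _ _ hx, ofAut_mul _ _ (Subgroup.mem_sup_left hx), ih x hx,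
          hg.ofAut_aut himg (Subgroup.mem_sup_left (ofAut_mem _ hx)), hgα _ (ofAut_mem _ hx)]
    intro x hx
    rw [h1 k x hx, pow_eq_pow_iff_modEq.2 hk, pow_one]
  · have h1 : ∀ n : ℕ, ∀ x ∈ X, ofAut (hg.aut himg ^ n) x ∈ X := by
      intro n
      induction n with
      | zero => intro x hx; rw [pow_zero, ofAut_one (Subgroup.mem_sup_right hx)]; exact hx
      | succ n ih =>
        intro x hx
        have h2 := ih x hx
        rw [pow_succ', ofAut_mul _ _ (Subgroup.mem_sup_right hx), hg.ofAut_aut himg (Subgroup.mem_sup_right h2)]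
        have h3 := subset_img (f := g) h2
        rwa [hgX] at h3
    exact h1 k

/-- maps of `N_F(X)` carry `p'`-automorphisms in `N_{ES}(X)` to such -/
theorem normSys_conj [Finite S] [Fact p.Prime] (hS : IsPGroup p S) (hE : E.IsNormalIn F p) {X : Subgroup Ω}
    (hX : X ≤ S) {N ND : FusionSystem (normalizerIn S X)} (hN : F.IsNormalizerSystem X N)
    (hND : (esSys E F p hE.1.2.2.2.1).IsNormalizerSystem X ND) {P Q : Subgroup Ω} {f : Ω → Ω} (hf : IsMap N P f)
    (hfQ : img P f = Q) {α : MulAut P} (hα : α ∈ ND.autGroup P) (hco : (orderOf α).Coprime p) :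
    hf.trans hfQ α ∈ ND.autGroup Q := by
  subst hfQ
  have hi : E.IsInvariantIn F := hE.1.2.2
  have hP := hf.le
  obtain ⟨β, hβ, hβco, hβα, hβX⟩ := exists_ext_normSys hX hND hP hα hco
  obtain ⟨-, hfm, g, hg, hgf, hgX⟩ := (isMap_normSys hN).1 hf
  have hPX : P ⊔ X ≤ S := hg.le
  have himg : img (P ⊔ X) g = img P f ⊔ X := by
    apply le_antisymm
    · rw [hg.img_le_iff]
      refine hg.forall_sup_mem (fun x hx => Subgroup.mem_sup_left ?_) fun x hx => Subgroup.mem_sup_right ?_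
      · rw [hgf x hx]; exact subset_img hx
      · rw [← hgX]; exact subset_img hx
    · refine sup_le ?_ ?_
      · rw [img_congr fun x hx => (hgf x hx).symm]; exact img_mono le_sup_left
      · rw [← hgX]
        refine (img_mono (P := X) (Q := P ⊔ X) (f := g) le_sup_right).trans ?_
        rw [hgX]
  have h1 := esSys_conj hS hE hg himg hβ hβco
  have hQ : img P f ≤ normalizerIn S X := hf.img_le
  rw [mem_autGroup_iff hQ]
  refine (isMap_normSys hND).2 ⟨hQ, fun x hx => hQ (ofAut_mem _ hx), ofAut (hg.trans himg β),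
    isMap_ofAut (sup_le (hQ.trans (normalizerIn_le X)) hX) h1, fun y hy => ?_, ?_⟩
  · obtain ⟨x, hx, rfl⟩ := hf.mem_img.1 hy
    rw [hf.ofAut_trans rfl α hx, ← hgf x hx, hg.ofAut_trans himg β (Subgroup.mem_sup_left hx), hβα x hx,
      hgf _ (ofAut_mem α hx)]
  · have h2 := isMap_ofAut (sup_le (hQ.trans (normalizerIn_le X)) hX) h1
    have hfX : Finite X := finite_of_le hX
    refine (h2.mono le_sup_right).img_eq ?_
    intro y hy
    have hy' : y ∈ img X g := by rw [hgX]; exact hy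
    obtain ⟨x, hx, rfl⟩ := (hg.mono le_sup_right).mem_img.1 hy'
    rw [hg.ofAut_trans himg β (Subgroup.mem_sup_right hx)]
    have h3 := subset_img (f := g) (hβX x hx)
    rwa [hgX] at h3

/-- Frattini factorization for normalizers -/
theorem normSys_factor [Finite S] [Fact p.Prime] (hS : IsPGroup p S) (hE : E.IsNormalIn F p) {X : Subgroup Ω}
    (hX : F.IsFullyNormalized X) {N ND : FusionSystem (normalizerIn S X)} (hN : F.IsNormalizerSystem X N)
    (hND : (esSys E F p hE.1.2.2.2.1).IsNormalizerSystem X ND) {P : Subgroup Ω} {f : Ω → Ω} (hf : IsMap N P f) :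
    ∃ φ γ, IsMap ND P φ ∧ IsMap N (img P φ ⊔ (T ⊓ normalizerIn S X)) γ ∧ ∀ x ∈ P, f x = γ (φ x) := by
  have hi : E.IsInvariantIn F := hE.1.2.2
  have hT := hi.2.1
  have hXS := hX.1
  have hP := hf.le
  have h𝒟s : (esSys E F p hE.1.2.2.2.1).IsSaturated p := esSys_saturated hS hE
  have hX𝒟 : (esSys E F p hE.1.2.2.2.1).IsFullyNormalized X :=
    ⟨hXS, fun Q hQ => hX.2 Q (by
      obtain ⟨f, hf, rfl⟩ := isConj_iff.1 hQ
      exact (le_iff.1 esSys_leF _ _ hf).isConj)⟩
  obtain ⟨-, hfm, g, hg, hgf, hgX⟩ := (isMap_normSys hN).1 hf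
  have hPX : P ⊔ X ≤ S := hg.le
  have hPXN : P ⊔ X ≤ normalizerIn S X := sup_le hP (le_normalizerIn hXS)
  obtain ⟨φ, γ, hφ, hγ, he⟩ := es_factor hS hE hg
  have hφD : IsMap (esSys E F p hE.1.2.2.2.1) (P ⊔ X) φ := hφ.isMap
  have hφX := hφD.mono (le_sup_right : X ≤ P ⊔ X)
  -- `X' = φ(X)`
  obtain ⟨ψ, hψ, hψX, hψm⟩ := sat_exists_normalizer_map hS h𝒟s hX𝒟 (isConj_symm hφX.isConj)
  have hX'S : img X φ ≤ S := hφX.img_le
  have hX'N : img X φ ≤ normalizerIn S (img X φ) := le_normalizerIn hX'S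
  have hγX : img (img X φ) γ = X := by
    rw [← (hφ.mono (le_sup_right : X ≤ P ⊔ X)).isMapF.img_comp,
      ← img_congr fun x hx => he x (Subgroup.mem_sup_right hx)]
    exact hgX
  have hφN : ∀ x ∈ P ⊔ X, φ x ∈ normalizerIn S (img X φ) := fun x hx =>
    ⟨hφD.mem hx, hφD.map_normalizer le_sup_right hx (hPXN hx).2⟩
  have hφdom : ∀ x ∈ P ⊔ X, φ x ∈ (P ⊔ X) ⊔ T := fun x hx => hφ.sup_eq.le (Subgroup.mem_sup_left (subset_img hx))
  have hψF : IsMap F (normalizerIn S (img X φ)) ψ := le_iff.1 esSys_leF _ _ hψ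
  -- the composite `ψ φ`
  have hψφ : IsMap (esSys E F p hE.1.2.2.2.1) (P ⊔ X) (fun x => ψ (φ x)) := hψ.comp hφD hφN
  have hψφX : img X (fun x => ψ (φ x)) = X := by rw [hφX.img_comp, hψX]
  -- the domain of the other factor
  set Dm := normalizerIn S (img X φ) ⊓ ((P ⊔ X) ⊔ T) with hDm
  have hψDm : IsMap F Dm ψ := hψF.mono inf_le_left
  have hγDm : IsMap F Dm γ := hγ.mono inf_le_right
  have hX'Dm : img X φ ≤ Dm := by
    refine le_inf hX'N ?_
    rw [hφX.img_le_iff]
    exact fun x hx => hφdom x (Subgroup.mem_sup_right hx)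
  have hγ' : IsMap F (img Dm ψ) (fun y => γ (minv Dm ψ y)) := hγDm.comp hψDm.minv_isMap fun y hy => hψDm.minv_mem hy
  -- `Y = ψ(N_T(X'))`
  have hY : T ⊓ normalizerIn S X ≤ img Dm ψ := by
    have hfinY := finite_of_le (inf_le_right.trans (normalizerIn_le X) : T ⊓ normalizerIn S X ≤ S)
    have hfinY' := finite_of_le (inf_le_right.trans (normalizerIn_le _) : T ⊓ normalizerIn S (img X φ) ≤ S)
    have hA : T ⊓ normalizerIn S (img X φ) ≤ Dm := le_inf inf_le_right (inf_le_left.trans le_sup_right)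
    have h1 : img (T ⊓ normalizerIn S (img X φ)) ψ ≤ T ⊓ normalizerIn S X := by
      rw [(hψDm.mono hA).img_le_iff]
      exact fun x hx => ⟨sc_map_mem hT hψF hx.2 hx.1, hψm x hx.2⟩
    have h2 : T ⊓ normalizerIn S X ≤ img (T ⊓ normalizerIn S (img X φ)) γ := by
      intro y hy
      have hTi : img T γ = T := sc_img_eq hT hγ le_sup_right
      obtain ⟨t, ht, rfl⟩ := (hγ.mono le_sup_right).mem_img.1 (hTi.ge hy.1)
      refine subset_img ⟨ht, hT.1 ht, ?_⟩
      have hfinX' := finite_of_le hX'S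
      have htm : t ∈ (P ⊔ X) ⊔ T := Subgroup.mem_sup_right ht
      refine mem_normalizer_of_conj fun x hx => ?_
      have hxm : x ∈ (P ⊔ X) ⊔ T := (hX'Dm hx).2
      have h3 : γ (t * x * t⁻¹) ∈ img (img X φ) γ := by
        rw [hγ.map_conj htm hxm, hγX]
        refine (Subgroup.mem_normalizer_iff.1 (show γ t ∈ Subgroup.normalizer (X : Set Ω) from hy.2.2) _).1 ?_
        have h4 : γ x ∈ img (img X φ) γ := subset_img hx
        rwa [hγX] at h4
      obtain ⟨z, hz, hzx⟩ := (hγ.mono (hX'Dm.trans inf_le_right)).mem_img.1 h3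
      rw [← hγ.inj (hX'Dm hz).2 (Subgroup.mul_mem _ (Subgroup.mul_mem _ htm hxm) (Subgroup.inv_mem _ htm)) hzx]
      exact hz
    have h3 : Nat.card ↥(T ⊓ normalizerIn S X) ≤ Nat.card ↥(T ⊓ normalizerIn S (img X φ)) := by
      rw [← ((hγDm.mono hA)).card_img]
      have := finite_of_le (hγDm.mono hA).img_le
      exact Subgroup.card_le_of_le h2
    have h4 : img (T ⊓ normalizerIn S (img X φ)) ψ = T ⊓ normalizerIn S X :=
      Subgroup.eq_of_le_of_card_ge h1 (by rw [(hψDm.mono hA).card_img]; exact h3)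
    rw [← h4]
    exact img_mono hA
  have hXim : X ≤ img Dm ψ := by
    conv_lhs => rw [← hψX]
    exact img_mono hX'Dm
  have himX : img X (fun y => γ (minv Dm ψ y)) = X := by
    conv_rhs => rw [← hγX]
    conv_lhs => rw [← hψX]
    rw [← (hψDm.mono hX'Dm).img_comp]
    exact img_congr fun x hx => by rw [hψDm.minv_apply (hX'Dm hx)]
  have hDmN : img Dm ψ ≤ normalizerIn S X := by
    rw [hψDm.img_le_iff]
    exact fun x hx => hψm x hx.1
  have hγN : IsMap N (img Dm ψ) (fun y => γ (minv Dm ψ y)) := (isMap_normSys_of_le hN hXim).2 ⟨hDmN, hγ', himX⟩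
  have hφP : img P (fun x => ψ (φ x)) ≤ img Dm ψ := by
    rw [(hψφ.mono le_sup_left).img_le_iff]
    exact fun x hx => subset_img ⟨hφN x (Subgroup.mem_sup_left hx), hφdom x (Subgroup.mem_sup_left hx)⟩
  refine ⟨fun x => ψ (φ x), fun y => γ (minv Dm ψ y), ?_, hγN.mono (sup_le hφP hY), fun x hx => ?_⟩
  · exact (isMap_normSys hND).2 ⟨hP, fun x hx => hψm _ (hφN x (Subgroup.mem_sup_left hx)), _, hψφ, fun _ _ => rfl,
      hψφX⟩
  · have hxm : φ x ∈ Dm := ⟨hφN x (Subgroup.mem_sup_left hx), hφdom x (Subgroup.mem_sup_left hx)⟩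
    show f x = γ (minv Dm ψ (ψ (φ x)))
    rw [hψDm.minv_apply hxm, ← he x (Subgroup.mem_sup_left hx), hgf x hx]

/-- **Normal subsystems and normalizers.** -/
theorem exists_normal_normalizer [Finite S] [Fact p.Prime] (hS : IsPGroup p S) (hE : E.IsNormalIn F p)
    {X : Subgroup Ω} (hX : F.IsFullyNormalized X) {N : FusionSystem (normalizerIn S X)}
    (hN : F.IsNormalizerSystem X N) :
    ∃ D : FusionSystem (T ⊓ normalizerIn S X), D.IsNormalIn N p ∧ D.IsSubsystemOf E := by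
  have hi : E.IsInvariantIn F := hE.1.2.2
  have hF : F.IsSaturated p := hE.1.2.1
  have hT := hi.2.1
  have hXS := hX.1
  have hSX := normalizerIn_le (S := S) X
  have hpSX := isPGroup_of_le hS hSX
  have hfSX := finite_of_le hSX
  have h𝒟s : (esSys E F p hE.1.2.2.2.1).IsSaturated p := esSys_saturated hS hE
  have hX𝒟 : (esSys E F p hE.1.2.2.2.1).IsFullyNormalized X :=
    ⟨hXS, fun Q hQ => hX.2 Q (by
      obtain ⟨f, hf, rfl⟩ := isConj_iff.1 hQ
      exact (le_iff.1 esSys_leF _ _ hf).isConj)⟩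
  obtain ⟨ND, hND⟩ := exists_isNormalizerSystem (esSys E F p hE.1.2.2.2.1) hXS
  have hNs : N.IsSaturated p := normalizerSystem_saturated hS hF hX hN
  have hNDs : ND.IsSaturated p := normalizerSystem_saturated hS h𝒟s hX𝒟 hND
  have hND𝒟 : ND.IsSubsystemOf (esSys E F p hE.1.2.2.2.1) := isSubsystemOf_iff.2 fun P f hf => isMap_of_normSys hND hf
  have hNDN : ND ≤ N := le_iff.2 fun P f hf => by
    obtain ⟨h1, h2, g, hg, hgf, hgX⟩ := (isMap_normSys hND).1 hf
    exact (isMap_normSys hN).2 ⟨h1, h2, g, le_iff.1 esSys_leF _ _ hg, hgf, hgX⟩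
  set Y := T ⊓ normalizerIn S X with hYd
  have hYT : Y ≤ T := inf_le_left
  have hYX : Y ≤ normalizerIn S X := inf_le_right
  have hhyp : ND.hyperfocalSubgroup p ≤ Y := le_inf
    ((hyper_mono_sys hND𝒟 hSX).trans (esSys_hyper_le hS hi)) hyper_le_S
  obtain ⟨D, hDs, hDND, hDp⟩ := exists_ppower (p := p) _ (T := Y) rfl hpSX hNDs hYX hhyp
  have hfY := finite_of_le (hYX.trans hSX)
  have hpY := isPGroup_of_le hS (hYX.trans hSX)
  have hDN : D.IsSubsystemOf N := isSubsystemOf_iff.2 fun P f hf =>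
    le_iff.1 hNDN P f (isSubsystemOf_iff.1 hDND P f hf)
  have hYsc : N.StronglyClosed Y := by
    rw [stronglyClosed_iff]
    refine ⟨hYX, fun P f hf hPY x hx => ⟨sc_map_mem hT (isMap_of_normSys hN hf) hx (hYT (hPY hx)), hf.mem hx⟩⟩
  -- `D` is contained in `E`
  have hDE : D.IsSubsystemOf E := by
    have h1 : D ≤ resSys E hYT := by
      refine alperin_coprime hpY hDs fun P hPn _ _ β hβ hco => ?_
      have hPY := hPn.1
      have hβD := isMap_ofAut hPY hβ
      refine isMap_resSys.2 ⟨?_, hPY, fun x hx => hPY (ofAut_mem β hx)⟩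
      refine (esSys_ppower hS hE).2 P (hPY.trans hYT) β ?_ hco
      rw [mem_autGroup_iff (hPY.trans (hYT.trans hT.1))]
      exact isSubsystemOf_iff.1 hND𝒟 _ _ (isSubsystemOf_iff.1 hDND _ _ hβD)
    exact isSubsystemOf_iff.2 fun P f hf => (isMap_resSys.1 (le_iff.1 h1 P f hf)).1
  -- `D` is normal in `N_{ES}(X)`
  have hDi : D.HasPPowerIndexIn ND p := hasPPowerIndexIn_iff.2 ⟨hDND, hhyp, hDp⟩
  have hDnor : D.IsNormalIn ND p := isNormalIn_of_ppower hpSX hNDs hYX (fun s hs x hx =>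
    ⟨sc_conj_mem hT (hSX hs) hx.1, (normalizerIn S X).mul_mem ((normalizerIn S X).mul_mem hs hx.2)
      ((normalizerIn S X).inv_mem hs)⟩) hhyp hDs hDi
  -- invariance under `Aut_N(Y)`
  have hTinv : TInv N D := by
    intro α hα
    refine autInv_of_le (alperin_coprime hpY hDs fun P hPn _ _ β hβ hβp => ?_)
    have hPY := hPn.1
    have hβD := isMap_ofAut hPY hβ
    have hβND : β ∈ ND.autGroup P := (mem_autGroup_iff (hPY.trans hYX)).2 (isSubsystemOf_iff.1 hDND _ _ hβD)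
    rw [isMap_conjSys', inv_inv]
    refine ⟨hβD.univ, ?_⟩
    have hA : IsMap N P (ofAut α) := (isMap_ofAut hYX hα).mono hPY
    have hAT : img P (ofAut α) ≤ Y := hA.img_le_iff.mpr fun x hx => ofAut_mem α (hPY hx)
    have h1 := hDp _ hAT (hA.trans rfl β) (normSys_conj hS hE hXS hN hND hA rfl hβND hβp) (by
      rw [trans_orderOf]; exact hβp)
    refine h1.congr fun x hx => ?_
    obtain ⟨y, hy, rfl⟩ := (mem_img_ofAut α hPY).mp hx
    rw [hA.ofAut_trans rfl β hy, cjf_apply α hPY _ hy]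
  -- the Frattini condition
  have hdec : ∀ (P : Subgroup Ω) (f : Ω → Ω), P ≤ Y → IsMap N P f → Dec D N P f := by
    intro P f hPY hf
    obtain ⟨φ, γ, hφ, hγ, he⟩ := normSys_factor hS hE hX hN hND hf
    obtain ⟨α₂, hα₂, f₀, hf₀, h0⟩ := dec_of_invariant hDnor.1.2.2 hPY hφ
    have hγY : IsMap N Y γ := hγ.mono le_sup_right
    have hγi : img Y γ = Y := sc_img_eq hYsc hγY le_rfl
    refine ⟨hγY.aut hγi * α₂, Subgroup.mul_mem _ (hγY.aut_mem hγi) (autGroup_mono hNDN Y hα₂), f₀, hf₀,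
      fun x hx => ?_⟩
    have hf₀Y := hf₀.mem hx
    rw [he x hx, h0 x hx, ofAut_mul _ _ hf₀Y, hγY.ofAut_aut hγi (ofAut_mem α₂ hf₀Y)]
  have hinv : D.IsInvariantIn N := isInvariantIn_of_tInv hDN hYsc hTinv hdec
  refine ⟨D, isNormalIn_iff.2 ⟨⟨hDs, hNs, hinv⟩, fun α hα => ?_⟩, hDE⟩
  obtain ⟨β, hβ, h1, h2⟩ := (isNormalIn_iff.1 hDnor).2 α hα
  exact ⟨β, autGroup_mono hNDN _ hβ, h1, h2⟩

end Cfsg.Agent.Fus
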