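import Cfsg.Agent.Fus.ES13
import Cfsg.Agent.Fus.AxB
set_option autoImplicit false

/-!
# The `A × B` argument for `E`-balance (helper85)
-/

namespace Cfsg.Agent.Fus

open Cfsg
open Cfsg.FusionSystem (centralizerIn normalizerIn)

variable {Ω : Type*} [Group Ω] {S T : Subgroup Ω} {F : FusionSystem S} {E : FusionSystem T} {p : ℕ}

/-- The `A × B` lemma inside a subgroup: `σ` a `p'`-automorphism of `V` fixing the elements of `X ≤ V` and of
`C_Q(X)`, `Q ≤ V` normalized by `X`. Then `σ` fixes `Q`. -/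
theorem axb_sub [Finite S] [Fact p.Prime] (hS : IsPGroup p S) {V X Q : Subgroup Ω} (hV : V ≤ S) (hXV : X ≤ V)
    (hQV : Q ≤ V) (hXQ : X ≤ Subgroup.normalizer (Q : Set Ω)) {σ : MulAut V} (hco : (orderOf σ).Coprime p)
    (hσQ : ∀ q ∈ Q, ofAut σ q ∈ Q) (hσX : ∀ x ∈ X, ofAut σ x = x)
    (hσC : ∀ q ∈ Q, (∀ x ∈ X, x * q * x⁻¹ = q) → ofAut σ q = q) : ∀ q ∈ Q, ofAut σ q = q := by
  have hfQ := finite_of_le (hQV.trans hV)
  obtain ⟨α, hα, hαo⟩ := exists_restrict hQV σ hσQ
  have h1 : α = 1 := by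
    refine axb_aut (p := p) (isPGroup_of_le hS (hQV.trans hV)) (autInducedBy X Q)
      (isPGroup_autInducedBy (isPGroup_of_le hS (hXV.trans hV)) Q) α (hco.coprime_dvd_left hαo) ?_ ?_
    · intro b hb
      obtain ⟨x, hx, hbx⟩ := mem_autInducedBy'.1 hb
      refine ofAut_injective fun q hq => ?_
      have hxq : x * q * x⁻¹ ∈ Q := (Subgroup.mem_normalizer_iff.1 (hXQ hx) q).1 hq
      rw [ofAut_mul _ _ hq, ofAut_mul _ _ hq, hbx q hq, hbx _ (ofAut_mem α hq), hα q hq, hα _ hxq,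
        ofAut_map_mul σ (V.mul_mem (hXV hx) (hQV hq)) (V.inv_mem (hXV hx)), ofAut_map_mul σ (hXV hx) (hQV hq),
        ofAut_map_inv' σ (hXV hx), hσX x hx]
    · rintro ⟨q, hq⟩ hb
      have h2 := hσC q hq fun x hx => by
        have h3 := hb (conjAut x (hXQ hx)) (conjAut_mem hx (hXQ hx))
        have h4 := congrArg Subtype.val h3
        rwa [coe_conjAut] at h4
      refine Subtype.ext ?_
      rw [← ofAut_coe α ⟨q, hq⟩]
      show ofAut α q = q
      rw [hα q hq, h2]
  intro q hq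
  rw [← hα q hq, h1, ofAut_one hq]

/-- the situations considered in the `A × B` argument -/
structure AxSit (F : FusionSystem S) (T : Subgroup Ω) (p : ℕ) {R : Subgroup Ω} (α : MulAut R) (V : Subgroup Ω)
    (χ : Ω → Ω) (σ : MulAut V) : Prop where
  isMap : IsMap F R χ
  mem : σ ∈ F.autGroup V
  leS : V ≤ S
  co : (orderOf σ).Coprime p
  le : img R χ ≤ V
  le' : V ≤ img R χ ⊔ T
  comm : ∀ x ∈ R, ofAut σ (χ x) = χ (ofAut α x)
  fix : ∀ t ∈ V ⊓ T, ofAut σ t = t

namespace AxSit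

variable {R V : Subgroup Ω} {α : MulAut R} {χ : Ω → Ω} {σ : MulAut V}

/-- transport -/
theorem transport (h : AxSit F T p α V χ σ) (hT : F.StronglyClosed T) {g : Ω → Ω} (hg : IsMap F V g) {V' : Subgroup Ω}
    (hgV : img V g = V') (hV'T : V' ≤ img R (fun x => g (χ x)) ⊔ T) :
    AxSit F T p α V' (fun x => g (χ x)) (hg.trans hgV σ) := by
  subst hgV
  have hχV : ∀ x ∈ R, χ x ∈ V := fun x hx => h.le (subset_img hx)
  refine ⟨hg.comp h.isMap hχV, hg.trans_mem rfl h.mem, hg.img_le, by rw [trans_orderOf]; exact h.co, ?_, hV'T,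
    fun x hx => ?_, fun t ht => ?_⟩
  · rw [h.isMap.img_comp]; exact img_mono h.le
  · rw [hg.ofAut_trans rfl σ (hχV x hx), h.comm x hx]
  · obtain ⟨x, hx, rfl⟩ := hg.mem_img.1 ht.1
    rw [hg.ofAut_trans rfl σ hx, h.fix x ⟨hx, (sc_map_mem_iff hT hg hx).1 ht.2⟩]

/-- the inductive step -/
theorem step [Finite S] [Fact p.Prime] (hS : IsPGroup p S) (hF : F.IsSaturated p) (hT : F.StronglyClosed T)
    (h : AxSit F T p α V χ σ) (hVn : F.IsFullyNormalized V) (hTV : ¬ T ≤ V) {X : Subgroup Ω} (hXR : X ≤ R)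
    (hαX : ∀ x ∈ X, ofAut α x = x)
    (hX : ∀ q ∈ T, q ∈ normalizerIn S V → (∀ x ∈ img X χ, x * q * x⁻¹ = q) → q ∈ V) :
    ∃ (V₁ : Subgroup Ω) (σ₁ : MulAut V₁), AxSit F T p α V₁ χ σ₁ ∧ Nat.card V < Nat.card V₁ := by
  have hVS := h.leS
  have hfinV := finite_of_le hVS
  have hfinA := finite_mulAut (P := V)
  have hσF := h.mem
  -- `B = N_T(V)`
  obtain ⟨B, hB⟩ : ∃ B, B = T ⊓ Subgroup.normalizer (V : Set Ω) := ⟨_, rfl⟩
  have hBT : B ≤ T := hB.le.trans inf_le_left
  have hBN : B ≤ Subgroup.normalizer (V : Set Ω) := hB.le.trans inf_le_right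
  have hBS : B ≤ S := hBT.trans hT.1
  have hVTB : V ⊓ T ≤ B := by rw [hB]; exact le_inf inf_le_right (inf_le_left.trans Subgroup.le_normalizer)
  have hlt : V < V ⊔ B := by
    rw [hB]; exact lt_sup_inf_normalizer hS hVS hT.1 (hVS.trans (sc_le_normalizer hT)) hTV
  have hV₁S : V ⊔ B ≤ S := sup_le hVS hBS
  have hZS : zT F T V ≤ autInducedBy S V :=
    (fa_sylIn (sat_fullyAutomized hS hF hVn)).le_of_normal zT_le (zT_isPGroup hS hVS)
      (conj_le_normalizer_of fun _ hα _ hκ => zT_conj hT hVS hα hκ)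
  -- `[σ, c_t] ∈ zT`
  have hcomm : ∀ t ∈ B, ∀ htN : t ∈ Subgroup.normalizer (V : Set Ω),
      (conjAut t htN)⁻¹ * (σ * conjAut t htN * σ⁻¹) ∈ zT F T V := by
    intro t ht htN
    have htT := hBT ht
    have hcF : conjAut t htN ∈ F.autGroup V := conjAut_mem_autGroup hVS (hT.1 htT) htN
    have hci : ∀ x ∈ V, ofAut (conjAut t htN)⁻¹ x = t⁻¹ * x * t := by
      intro x hx
      have h4 : t⁻¹ * x * t ∈ V := by
        have := (Subgroup.mem_normalizer_iff.1 (Subgroup.inv_mem _ htN) x).1 hx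
        rwa [inv_inv] at this
      have h5 : x = ofAut (conjAut t htN) (t⁻¹ * x * t) := by rw [ofAut_conjAut _ _ h4]; group
      conv_lhs => rw [h5]
      exact ofAut_inv_apply _ h4
    have hσi : ∀ x ∈ V ⊓ T, ofAut σ⁻¹ x = x := fun x hx => by
      conv_lhs => rw [← h.fix x hx]
      exact ofAut_inv_apply σ hx.1
    refine ⟨Subgroup.mul_mem _ (Subgroup.inv_mem _ hcF)
      (Subgroup.mul_mem _ (Subgroup.mul_mem _ hσF hcF) (Subgroup.inv_mem _ hσF)), fun x hx => ?_, fun x hx => ?_⟩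
    · have hx1 : t * x * t⁻¹ ∈ V ⊓ T := ⟨(Subgroup.mem_normalizer_iff.1 htN x).1 hx.1,
        T.mul_mem (T.mul_mem htT hx.2) (T.inv_mem htT)⟩
      rw [ofAut_mul _ _ hx.1, ofAut_mul _ _ hx.1, ofAut_mul _ _ (ofAut_mem _ hx.1), hσi x hx,
        ofAut_conjAut _ _ hx.1, h.fix _ hx1, hci _ hx1.1]
      group
    · have hy := ofAut_mem σ⁻¹ hx
      have hy1 : t * ofAut σ⁻¹ x * t⁻¹ ∈ V := (Subgroup.mem_normalizer_iff.1 htN _).1 hy
      have h6 := ofAut_mem σ hy1
      have e1 : ofAut ((conjAut t htN)⁻¹ * (σ * conjAut t htN * σ⁻¹)) x =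
          t⁻¹ * ofAut σ (t * ofAut σ⁻¹ x * t⁻¹) * t := by
        rw [ofAut_mul _ _ hx, ofAut_mul _ _ hx, ofAut_mul _ _ hy, ofAut_conjAut _ _ hy, hci _ h6]
      refine ⟨V.mul_mem (V.inv_mem hx) (ofAut_mem _ hx), ?_⟩
      rw [e1]
      -- modulo `T`
      have h7 : (ofAut σ⁻¹ x)⁻¹ * (t * ofAut σ⁻¹ x * t⁻¹) ∈ V ⊓ T := by
        refine ⟨V.mul_mem (V.inv_mem hy) hy1, ?_⟩
        have e2 : (ofAut σ⁻¹ x)⁻¹ * (t * ofAut σ⁻¹ x * t⁻¹) =
            ((ofAut σ⁻¹ x)⁻¹ * t * (ofAut σ⁻¹ x)⁻¹⁻¹) * t⁻¹ := by group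
        rw [e2]
        exact T.mul_mem (sc_conj_mem hT (S.inv_mem (hVS hy)) htT) (T.inv_mem htT)
      have h8 := h.fix _ h7
      rw [ofAut_map_mul σ (V.inv_mem hy) hy1, ofAut_map_inv' σ hy, ofAut_apply_inv σ hx] at h8
      have h9 : x⁻¹ * ofAut σ (t * ofAut σ⁻¹ x * t⁻¹) ∈ T := by rw [h8]; exact h7.2
      have e3 : x⁻¹ * (t⁻¹ * ofAut σ (t * ofAut σ⁻¹ x * t⁻¹) * t) =
          (x⁻¹ * t⁻¹ * x⁻¹⁻¹) * (x⁻¹ * ofAut σ (t * ofAut σ⁻¹ x * t⁻¹)) * t := by group
      rw [e3]
      exact T.mul_mem (T.mul_mem (sc_conj_mem hT (S.inv_mem (hVS hx)) (T.inv_mem htT)) h9) htT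
  -- extension
  have hσm := isMap_ofAut hVS hσF
  obtain ⟨g, hg, hgσ⟩ := recep_exists_extend_of_le (sat_receptive' hS hF hVn) hσm (img_ofAut _)
    (le_sup_left : V ≤ V ⊔ B) (by
      have hle : V ⊔ B ≤ FusionSystem.extender S V hσm.hom := by
        refine sup_le (le_extender_hom hσm) fun t ht => (mem_extender_hom hσm).2 ?_
        have htN := hBN ht
        refine inExt_of_conj_mem (hBS ht) (β := conjAut t htN) (fun x hx => ofAut_conjAut _ _ hx) ?_
        have h1 := Subgroup.mul_mem _ (conjAut_mem (hBS ht) htN) (hZS (hcomm t ht htN))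
        rwa [mul_inv_cancel_left] at h1
      exact fun n hn => (mem_extender_hom hσm).1 (hle hn))
  have hfinV₁ := finite_of_le hV₁S
  have hfinA₁ := finite_mulAut (P := V ⊔ B)
  have hgV : ∀ x ∈ V, g x ∈ V := fun x hx => by rw [hgσ x hx]; exact ofAut_mem σ hx
  have hgB : ∀ x ∈ B, g x ∈ B := by
    intro x hx
    have hxm : x ∈ V ⊔ B := Subgroup.mem_sup_right hx
    have h1 := hg.map_normalizer le_sup_left hxm (hBN hx)
    have h2 : img V g = V := (hg.mono le_sup_left).img_eq hgV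
    rw [h2] at h1
    rw [hB]
    exact ⟨sc_map_mem hT hg hxm (hBT hx), h1⟩
  have himg : img (V ⊔ B) g = V ⊔ B := hg.img_eq (hg.forall_sup_mem (fun x hx => Subgroup.mem_sup_left (hgV x hx))
    fun x hx => Subgroup.mem_sup_right (hgB x hx))
  obtain ⟨k, hk, hkco⟩ := exists_pprime_pow (p := p) (hg.aut himg) h.co
  obtain ⟨ρ, hρ⟩ : ∃ ρ, ρ = hg.aut himg := ⟨_, rfl⟩
  have hρF : ρ ∈ F.autGroup (V ⊔ B) := by rw [hρ]; exact hg.aut_mem himg
  have hρg : ∀ x ∈ V ⊔ B, ofAut ρ x = g x := fun x hx => by rw [hρ]; exact hg.ofAut_aut himg hx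
  rw [← hρ] at hkco
  have hpowV : ∀ n : ℕ, ∀ x ∈ V, ofAut (ρ ^ n) x = ofAut (σ ^ n) x := by
    intro n
    induction n with
    | zero => intro x hx; rw [pow_zero, pow_zero, ofAut_one hx, ofAut_one (Subgroup.mem_sup_left hx)]
    | succ n ih =>
      intro x hx
      have h1 := ofAut_mem (σ ^ n) hx
      rw [pow_succ', pow_succ', ofAut_mul _ _ hx, ofAut_mul _ _ (Subgroup.mem_sup_left hx), ih x hx,
        hρg _ (Subgroup.mem_sup_left h1), hgσ _ h1]
  have hV : ∀ x ∈ V, ofAut (ρ ^ k) x = ofAut σ x := fun x hx => by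
    rw [hpowV k x hx, pow_eq_pow_iff_modEq.2 hk, pow_one]
  have hpowB : ∀ n : ℕ, ∀ x ∈ B, ofAut (ρ ^ n) x ∈ B := by
    intro n
    induction n with
    | zero => intro x hx; rw [pow_zero, ofAut_one (Subgroup.mem_sup_right hx)]; exact hx
    | succ n ih =>
      intro x hx
      have h1 := ih x hx
      rw [pow_succ', ofAut_mul _ _ (Subgroup.mem_sup_right hx), hρg _ (Subgroup.mem_sup_right h1)]
      exact hgB _ h1
  have hXV : img X χ ≤ V := (img_mono hXR).trans h.le
  have hfix : ∀ q ∈ B, ofAut (ρ ^ k) q = q := by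
    refine axb_sub hS hV₁S (hXV.trans le_sup_left) le_sup_right ?_ hkco (hpowB k) (fun y hy => ?_) fun q hq hqx => ?_
    · intro x hx
      have hxV := hXV hx
      have h1 := sc_le_normalizer hT (hVS hxV)
      have h2 : x ∈ Subgroup.normalizer ((Subgroup.normalizer (V : Set Ω) : Subgroup Ω) : Set Ω) :=
        Subgroup.le_normalizer (Subgroup.le_normalizer hxV)
      rw [hB]
      rw [Subgroup.mem_normalizer_iff] at h1 h2 ⊢
      exact fun y => and_congr (h1 y) (h2 y)
    · obtain ⟨x, hx, rfl⟩ := (h.isMap.mono hXR).mem_img.1 hy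
      rw [hV _ (h.le (subset_img (hXR hx))), h.comm x (hXR hx), hαX x hx]
    · have hqV := hX q (hBT hq) ⟨hBS hq, hBN hq⟩ hqx
      rw [hV q hqV, h.fix q ⟨hqV, hBT hq⟩]
  refine ⟨V ⊔ B, ρ ^ k, ⟨h.isMap, Subgroup.pow_mem _ hρF k, hV₁S, hkco, h.le.trans le_sup_left,
    sup_le h.le' (hBT.trans le_sup_right), fun x hx => ?_, fun t ht => hfix t ?_⟩, card_lt_of_lt hV₁S hlt⟩
  · rw [hV _ (h.le (subset_img hx)), h.comm x hx]
  · rw [hB]
    refine ⟨ht.2, ?_⟩
    exact (sup_le Subgroup.le_normalizer hBN : V ⊔ B ≤ Subgroup.normalizer (V : Set Ω)) ht.1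

/-- the end of the induction -/
theorem final [Finite S] [Fact p.Prime] (hS : IsPGroup p S) (hE : E.IsNormalIn F p) (hC : cenE E F p ≤ T)
    (h : AxSit F T p α V χ σ) (hTV : T ≤ V) : α = 1 := by
  have hi : E.IsInvariantIn F := hE.1.2.2
  have hT := hi.2.1
  have hVS := h.leS
  have hσm := isMap_ofAut hVS h.mem
  obtain ⟨D, hD⟩ := exists_isCentralizerSystem F hT.1
  have hfoc := (focal_le_cenE hS hE hD).trans hC
  have hfixT : ∀ t ∈ T, ofAut σ t = t := fun t ht => h.fix t ⟨hTV ht, ht⟩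
  obtain ⟨e, he⟩ := exists_exp (p := p) hS
  -- `[V, σ] ≤ C_S(T)`
  have h1 : ∀ v ∈ V, v⁻¹ * ofAut σ v ∈ V ⊓ centralizerIn S T := by
    intro v hv
    have h2 := ofAut_mem σ hv
    refine ⟨V.mul_mem (V.inv_mem hv) h2, ?_⟩
    show _ ∈ centralizerIn S T
    rw [mem_centralizerIn]
    refine ⟨S.mul_mem (S.inv_mem (hVS hv)) (hVS h2), fun t ht => ?_⟩
    have h3 : v * t * v⁻¹ ∈ T := sc_conj_mem hT (hVS hv) ht
    have h4 := hfixT _ h3
    rw [ofAut_map_mul σ (V.mul_mem hv (hTV ht)) (V.inv_mem hv), ofAut_map_mul σ hv (hTV ht), ofAut_map_inv' σ hv,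
      hfixT t ht] at h4
    calc t * (v⁻¹ * ofAut σ v) = v⁻¹ * (v * t * v⁻¹) * ofAut σ v := by group
      _ = v⁻¹ * (ofAut σ v * t * (ofAut σ v)⁻¹) * ofAut σ v := by rw [h4]
      _ = v⁻¹ * ofAut σ v * t := by group
  -- `[C_V(T), σ] ≤ T`
  have h2 : ∀ c ∈ V ⊓ centralizerIn S T, c⁻¹ * ofAut σ c ∈ V ⊓ T := by
    intro c hc
    refine ⟨V.mul_mem (V.inv_mem hc.1) (ofAut_mem σ hc.1), hfoc ?_⟩
    have hm : IsMap D (V ⊓ centralizerIn S T) (ofAut σ) := by
      refine (isMap_centralizerSystem hD).2 ⟨inf_le_right, fun x hx => ?_, ofAut σ,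
        hσm.mono (sup_le inf_le_left hTV), fun _ _ => rfl, hfixT⟩
      have h3 := Subgroup.mul_mem _ hx.2 (h1 x hx.1).2
      rwa [mul_inv_cancel_left] at h3
    exact mem_focal_of_isMap hm hc
  have h3 : ∀ c ∈ V ⊓ centralizerIn S T, ofAut σ c = c := by
    intro c hc
    have hA : V ⊓ T ⊓ centralizerIn S T ≤ V ⊓ centralizerIn S T := inf_le_inf_right _ inf_le_left
    refine coprime_fix (A := V ⊓ T ⊓ centralizerIn S T) (B := V ⊓ centralizerIn S T) (n := orderOf σ) (N := p ^ e)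
      inf_le_left hA (fun a ha => h.fix a ha.1) (fun b hb => ⟨h2 b hb, ?_⟩) (pow_orderOf_eq_one σ)
      (fun a ha => he a (hVS ha.1.1)) (h.co.pow_right e) c hc
    exact (h1 b hb.1).2
  have h4 : ∀ v ∈ V, ofAut σ v = v :=
    coprime_fix (A := V ⊓ centralizerIn S T) (B := V) (n := orderOf σ) (N := p ^ e) le_rfl inf_le_left h3 h1
      (pow_orderOf_eq_one σ) (fun a ha => he a (hVS ha.1)) (h.co.pow_right e)
  refine ofAut_injective fun x hx => ?_
  have h5 := h.comm x hx
  rw [h4 _ (h.le (subset_img hx))] at h5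
  rw [ofAut_one hx]
  exact (h.isMap.inj hx (ofAut_mem α hx) h5).symm

end AxSit

/-- **`A × B` lemma**: `H ⊴ N = N_F(X)` over `W`, commuting with `X` and with `T ∩ N_S(X)`, `E ⊴ F` over `T` with
`C_S(E) ≤ T`. Then the `p'`-automorphisms in `H` of the `H`-centric subgroups are trivial. -/
theorem axb_main [Finite S] [Fact p.Prime] (hS : IsPGroup p S) (hE : E.IsNormalIn F p) (hC : cenE E F p ≤ T)
    {X : Subgroup Ω} (hX : F.IsFullyNormalized X) {N : FusionSystem (normalizerIn S X)}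
    (hN : F.IsNormalizerSystem X N) {W : Subgroup Ω} {H : FusionSystem W} (hH : H.IsNormalIn N p)
    (hXH : X ≤ cenE H N p) (hYH : T ⊓ normalizerIn S X ≤ cenE H N p) {P : Subgroup Ω} (hP : H.IsCentric P)
    {β : MulAut P} (hβ : β ∈ H.autGroup P) (hco : (orderOf β).Coprime p) : β = 1 := by
  have hi : E.IsInvariantIn F := hE.1.2.2
  have hF : F.IsSaturated p := hE.1.2.1
  have hT := hi.2.1
  have hHi : H.IsInvariantIn N := hH.1.2.2
  have hNs : N.IsSaturated p := hH.1.2.1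
  have hWsc := hHi.2.1
  have hSX := normalizerIn_le (S := S) X
  have hpSX := isPGroup_of_le hS hSX
  have hfSX := finite_of_le hSX
  have hfW := finite_of_le (hWsc.1.trans hSX)
  -- reduce to `P` fully normalized in `N`
  suffices key : ∀ {P : Subgroup Ω}, H.IsCentric P → N.IsFullyNormalized P → ∀ {β : MulAut P}, β ∈ H.autGroup P →
      (orderOf β).Coprime p → β = 1 by
    obtain ⟨P', hPP', hP'⟩ := exists_fullyNormalized (F := N) (hP.1.trans hWsc.1)
    obtain ⟨f, hf, rfl⟩ := isConj_iff.1 hPP'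
    have h1 : hf.trans rfl β ∈ H.autGroup (img P f) := inv_trans_mem hHi hP.1 hf rfl hβ
    have h2 := key (eCentric_img hHi hP hf) hP' h1 (by rw [trans_orderOf]; exact hco)
    exact (hf.trans rfl).injective (by rw [h2, map_one])
  clear hβ hco hP
  intro P hP hPn β hβ hco
  have hPW := hP.1
  have hPSX : P ≤ normalizerIn S X := hPW.trans hWsc.1
  have hPf := sat_fullyCentralized hpSX hNs hPn
  obtain ⟨κ, hκ, hκβ⟩ := exists_pgood hpSX hH hP hβ hco
  have hCR : centralizerIn (normalizerIn S X) W ≤ (P ⊔ centralizerIn (normalizerIn S X) P) :=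
    (centralizerIn_anti hPW).trans le_sup_right
  have hcR : cenE H N p ≤ (P ⊔ centralizerIn (normalizerIn S X) P) := (cenE_le).trans hCR
  have hXR : X ≤ (P ⊔ centralizerIn (normalizerIn S X) P) := hXH.trans hcR
  have hRSX : (P ⊔ centralizerIn (normalizerIn S X) P) ≤ normalizerIn S X := sup_le hPSX (centralizerIn_le _)
  have hRS := hRSX.trans hSX
  have hκN := hκ.memF
  have hκF : κ ∈ F.autGroup (P ⊔ centralizerIn (normalizerIn S X) P) := by
    rw [mem_autGroup_iff hRS]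
    exact isMap_of_normSys hN (isMap_ofAut hRSX hκN)
  have hκfix : ∀ x ∈ cenE H N p, ofAut κ x = x := fun x hx => (mem_cenE.1 hx).2 P hP κ hκ
  -- the first situation
  have h0 : AxSit F T p κ (P ⊔ centralizerIn (normalizerIn S X) P) (fun x => x) κ :=
    { isMap := isMap_id' hRS
      mem := hκF
      leS := hRS
      co := hκ.co
      le := by rw [img_id']
      le' := by rw [img_id']; exact le_sup_left
      comm := fun _ _ => rfl
      fix := fun t ht => hκfix t (hYH ⟨ht.2, hRSX ht.1⟩) }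
  -- maximal situation
  have hmain : ∀ (n : ℕ) (V : Subgroup Ω) (χ : Ω → Ω) (σ : MulAut V), Nat.card S - Nat.card V = n →
      AxSit F T p κ V χ σ → κ = 1 := by
    intro n
    induction n using Nat.strong_induction_on with
    | _ n ih =>
      intro V χ σ hn h
      by_cases hTV : T ≤ V
      · exact h.final hS hE hC hTV
      obtain ⟨V', hVV', hV'⟩ := exists_fullyNormalized (F := F) h.leS
      obtain ⟨g, hg, hgV⟩ := isConj_iff.1 hVV'
      have hχV : ∀ x ∈ (P ⊔ centralizerIn (normalizerIn S X) P), χ x ∈ V := fun x hx => h.le (subset_img hx)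
      have hfinV := finite_of_le h.leS
      -- `V = χ((P ⊔ centralizerIn (normalizerIn S X) P))(V ∩ T)`
      have hVeq : ∀ v ∈ V, ∃ t ∈ V ⊓ T, ∃ r ∈ img (P ⊔ centralizerIn (normalizerIn S X) P) χ, v = t * r := by
        intro v hv
        have h1 := h.le' hv
        rw [sup_comm] at h1
        obtain ⟨t, ht, r, hr, rfl⟩ := (H85.mem_sup_iff_of_normalizes
          ((h.isMap.img_le).trans (sc_le_normalizer hT))).1 h1
        refine ⟨t, ⟨?_, ht⟩, r, hr, rfl⟩
        have := V.mul_mem hv (V.inv_mem (h.le hr))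
        rwa [mul_inv_cancel_right] at this
      have h' := h.transport hT hg hgV (by
        rw [← hgV, hg.img_le_iff]
        intro v hv
        obtain ⟨t, ht, r, hr, rfl⟩ := hVeq v hv
        rw [hg.map_mul ht.1 (h.le hr)]
        refine Subgroup.mul_mem _ (Subgroup.mem_sup_right (sc_map_mem hT hg ht.1 ht.2)) (Subgroup.mem_sup_left ?_)
        rw [h.isMap.img_comp]
        exact subset_img hr)
      have hcardV : Nat.card V' = Nat.card V := by rw [← hgV, hg.card_img]
      have hTV' : ¬ T ≤ V' := by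
        intro hcon
        refine hTV ?_
        rw [← hgV] at hcon
        have h1 : T = img T (minv V g) := (sc_img_eq hT hg.minv_isMap hcon).symm
        rw [h1, (hg.minv_isMap.mono hcon).img_le_iff]
        exact fun x hx => hg.minv_mem (hcon hx)
      obtain ⟨χ', hχ'⟩ : ∃ χ' : Ω → Ω, χ' = fun x => g (χ x) := ⟨_, rfl⟩
      rw [← hχ'] at h'
      obtain ⟨V₁, σ₁, h₁, hcard⟩ := h'.step hS hF hT hV' hTV' hXR (fun x hx => hκfix x (hXH hx)) (by
        intro q hqT hqN hqx
        have hm := h'.isMap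
        have hmX := hm.mono hXR
        obtain ⟨ψ, hψ, hψX, hψm⟩ := sat_exists_normalizer_map hS hF hX (isConj_symm hmX.isConj)
        have hRN : ∀ x ∈ (P ⊔ centralizerIn (normalizerIn S X) P), χ' x ∈ normalizerIn S (img X χ') := fun x hx =>
          ⟨hm.mem hx, hm.map_normalizer hXR hx (hRSX hx).2⟩
        have hψχ : IsMap F (P ⊔ centralizerIn (normalizerIn S X) P) (fun x => ψ (χ' x)) := hψ.comp hm hRN
        have hψχX : img X (fun x => ψ (χ' x)) = X := by rw [hmX.img_comp, hψX]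
        have hψχN : IsMap N (P ⊔ centralizerIn (normalizerIn S X) P) (fun x => ψ (χ' x)) := (isMap_normSys_of_le hN hXR).2 ⟨hRSX, hψχ, hψχX⟩
        -- `P' = ψχ(P)`
        have hPR : P ≤ (P ⊔ centralizerIn (normalizerIn S X) P) := le_sup_left
        have hψP := hψχN.mono hPR
        have hP'W : img P (fun x => ψ (χ' x)) ≤ W := by
          rw [hψP.img_le_iff]
          exact fun x hx => sc_map_mem hWsc hψP hx (hPW hx)
        have hCP : centralizerIn (normalizerIn S X) P ≤ (P ⊔ centralizerIn (normalizerIn S X) P) := le_sup_right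
        have hfC := finite_of_le (centralizerIn_le (S := normalizerIn S X) (img P (fun x => ψ (χ' x))))
        have h3 : img (centralizerIn (normalizerIn S X) P) (fun x => ψ (χ' x)) =
            centralizerIn (normalizerIn S X) (img P (fun x => ψ (χ' x))) := by
          refine Subgroup.eq_of_le_of_card_ge ?_ ?_
          · rw [(hψχN.mono hCP).img_le_iff]
            intro x hx
            rw [mem_centralizerIn]
            exact ⟨hψχN.mem (hCP hx), hψχN.map_centralizer hPR (hCP hx) (mem_centralizerIn.1 hx).2⟩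
          · rw [(hψχN.mono hCP).card_img]
            exact hPf.2 _ hψP.isConj
        have hqx1 : ∀ y ∈ img X χ', q * y * q⁻¹ = y := by
          intro y hy
          have h4 := hqx y hy
          calc q * y * q⁻¹ = (y * q * y⁻¹) * y * q⁻¹ := by rw [h4]
            _ = y * (q * q⁻¹) := by group
            _ = y := by group
        have hqC : q ∈ normalizerIn S (img X χ') := by
          refine ⟨hT.1 hqT, ?_⟩
          show q ∈ Subgroup.normalizer (img X χ' : Set Ω)
          rw [Subgroup.mem_normalizer_iff]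
          intro y
          constructor
          · intro hy; rw [hqx1 y hy]; exact hy
          · intro hy
            have h4 := hqx1 _ hy
            have e1 : y = q * y * q⁻¹ := by
              have h5 : q * (q * y * q⁻¹) * q⁻¹ = q * y * q⁻¹ := h4
              have h6 := congrArg (fun z => q⁻¹ * z * q) h5
              have e2 : q⁻¹ * (q * (q * y * q⁻¹) * q⁻¹) * q = q * y * q⁻¹ := by group
              have e3 : q⁻¹ * (q * y * q⁻¹) * q = y := by group
              rw [e2, e3] at h6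
              exact h6.symm
            rw [e1]; exact hy
        have h4 : ψ q ∈ img (P ⊔ centralizerIn (normalizerIn S X) P) (fun x => ψ (χ' x)) := by
          have h5 : ψ q ∈ T ⊓ normalizerIn S X := ⟨sc_map_mem hT hψ hqC hqT, hψm q hqC⟩
          have h6 := centralizerIn_anti hP'W (cenE_le (hYH h5))
          rw [← h3] at h6
          exact img_mono hCP h6
        obtain ⟨r, hr, hrq⟩ := hψχ.mem_img.1 h4
        have h5 : χ' r = q := hψ.inj (hRN r hr) hqC hrq
        rw [← h5]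
        exact h'.le (subset_img hr))
      refine ih (Nat.card S - Nat.card V₁) ?_ V₁ χ' σ₁ rfl h₁
      have h6 : Nat.card V₁ ≤ Nat.card S := Subgroup.card_le_of_le h₁.leS
      omega
  have hκ1 := hmain _ (P ⊔ centralizerIn (normalizerIn S X) P) _ κ rfl h0
  refine ofAut_injective fun x hx => ?_
  rw [← hκβ x hx, hκ1, ofAut_one hx, ofAut_one (Subgroup.mem_sup_left hx)]

end Cfsg.Agent.Fus
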