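import Cfsg.Agent.Fus.Lay11
import Cfsg.Agent.Fus.Iso3
set_option autoImplicit false

/-!
# The layer is characteristic; conjugates of components (helper85)
-/

namespace Cfsg.Agent.Fus

open Cfsg Cfsg.FusionSystem Cfsg.Agent.H85

variable {Ω : Type*} [Group Ω] {S T U W V : Subgroup Ω} {F : FusionSystem S} {E : FusionSystem T}
  {C : FusionSystem U} {p : ℕ}

theorem tr_of_autInv {α : MulAut S} (h : AutInv α F) (h' : AutInv α⁻¹ F) : Tr (SIso.ofAut α) F F where
  le := le_rfl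
  im_eq := SIso.im_self _
  isMap_iff P f hP hfP := by
    rw [SIso.ofAut_im α hP]
    constructor
    · exact fun hf => h P f hf
    · intro hf
      have h1 := h' _ _ hf
      rw [img_ofAut_inv' α hP] at h1
      refine h1.congr fun x hx => ?_
      show Fus.ofAut α⁻¹ (Fus.ofAut α (f (Fus.ofAut α⁻¹ (Fus.ofAut α⁻¹⁻¹ x)))) = f x
      rw [inv_inv, ofAut_inv_apply α (hP hx), ofAut_inv_apply α (hfP x hx)]

theorem layer_char [Finite S] [Fact p.Prime] (hS : IsPGroup p S) {α : MulAut S} (h : AutInv α F)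
    (h' : AutInv α⁻¹ F) (hE : E.IsLayerOf F p) : img T (ofAut α) = T ∧ ∀ (P : Subgroup Ω) (f : Ω → Ω),
      IsMap E P f → IsMap E (img P (ofAut α)) (fun y => ofAut α (f (ofAut α⁻¹ y))) := by
  have hTS := (isNormalIn.sc hE.1).1
  have htr := tr_of_autInv h h'
  obtain ⟨E', hE'⟩ := exists_tr (SIso.ofAut α) E hTS
  obtain ⟨h1, h2⟩ := layer_unique hE (hE'.isLayerOf hS htr hE)
  rw [SIso.ofAut_im α hTS] at h1
  refine ⟨h1.symm, fun P f hf => ?_⟩
  have h3 := hE'.isMap hf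
  rw [← SIso.ofAut_im α (hf.le.trans hTS)]
  exact (hom_eq_iff.1 (h2 _) _).2 h3

theorem imageAlong_aut {P : Subgroup Ω} (hP : P ≤ S) (α : MulAut S) :
    imageAlong (S.subtype.comp α.toMonoidHom) P = img P (ofAut α) := img_subgroupOf_comp hP α

theorem autInv_of_isMorphism {α : MulAut S} (hα : F.IsMorphism F (S.subtype.comp α.toMonoidHom)) : AutInv α F := by
  intro P f hf
  obtain ⟨φ', hφ', hP, hφ, hP', hi⟩ := hα.2 P hf.hom hf.hom_mem
  have h1 : IsMap F (img P (ofAut α)) (ofHom φ') := (isMap_of_mem hφ').mono (imageAlong_aut hf.le α).ge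
  refine h1.congr fun y hy => ?_
  obtain ⟨x, hx, rfl⟩ := (mem_img_ofAut α hf.le).1 hy
  rw [cjf_apply α hf.le f hx]
  have h2 := hi ⟨x, hx⟩
  have h3 : ofAut α x = ((α ⟨x, hP hx⟩ : S) : Ω) := ofAut_apply α (hP hx)
  have h4 : ofAut α (f x) = ((α ⟨f x, hφ ⟨x, hx⟩⟩ : S) : Ω) := ofAut_apply α (hφ ⟨x, hx⟩)
  rw [h3, h4]
  exact (ofHom_apply φ' (hP' ⟨x, hx⟩)).trans h2

/-- **Conjugates of components are components.** -/
theorem conj_component [Finite S] [Fact p.Prime] (hS : IsPGroup p S) (hF : F.IsSaturated p)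
    (hC : C.IsComponentIn F p) {γ : U →* Ω} (hγ : γ ∈ F.Hom U) {E : FusionSystem γ.range}
    (hE : C.IsFactorSystem ⊥ γ E) : E.IsComponentIn F p := by
  obtain ⟨T, H, hH⟩ := exists_hull hS hF hC
  have hTs := isNormalIn.sc hH.normal
  have hfT := finite_of_le hTs.1
  have hTp := isPGroup_of_le hS hTs.1
  have hUT := hH.le
  have hCH := hH.normal_comp hS
  have hUs := isNormalIn.sc hCH
  have hfU := finite_of_le hUs.1
  obtain ⟨i, hi, htr⟩ := tr_of_isFactorSystem_bot hE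
  -- factorization of `γ`
  obtain ⟨α, hα, f₀, hf₀, he⟩ := inv_frattini hH.normal.1.2.2 hUT (isMap_of_mem hγ)
  obtain ⟨β, hβ, hβx⟩ := hf₀.exists_aut (hf₀.img_eq fun x hx => sc_map_mem hUs hf₀ hx hx)
  have hγx : ∀ x ∈ U, i.θ x = ofAut α (ofAut β x) := by
    intro x hx
    rw [hi, ext_apply γ hx, ← ofHom_apply γ hx, he x hx, hβx x hx]
  have hj := tr_ofAut hCH.1.2.2 hβ
  obtain ⟨C', hC'⟩ := exists_tr (SIso.ofAut α) C hUT
  have hcomp : C'.IsComponentIn F p :=
    comp_of_normal (hC'.isComponentIn hTp (tr_ofAut hH.normal.1.2.2 hα) (hH.compE hS)) hH.normal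
  -- `E = C'`
  have hrange : (SIso.ofAut α).im U = γ.range := by
    ext y
    rw [SIso.ofAut_im α hUT, mem_img_ofAut α hUT]
    constructor
    · rintro ⟨x, hx, rfl⟩
      refine ⟨⟨ofAut β⁻¹ x, ofAut_mem _ hx⟩, ?_⟩
      have h1 := hγx _ (ofAut_mem β⁻¹ hx)
      rw [hi, ext_apply γ (ofAut_mem β⁻¹ hx), ofAut_apply_inv β hx] at h1
      exact h1
    · rintro ⟨x, rfl⟩
      refine ⟨ofAut β x, ofAut_mem β x.2, ?_⟩
      rw [← hγx x x.2, hi, ext_apply γ x.2]
  have key : ∀ (P : Subgroup Ω) (f : Ω → Ω), IsMap C' P f ↔ IsMap E P f := by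
    have main : ∀ (Q : Subgroup Ω) (g : Ω → Ω), Q ≤ U → (∀ x ∈ Q, g x ∈ U) →
        (IsMap C' (img Q (fun x => ofAut α (ofAut β x))) (fun y => ofAut α (ofAut β (g (ofAut β⁻¹ (ofAut α⁻¹ y))))) ↔
          IsMap C Q g) := by
      intro Q g hQ hg
      have h1 := hj.isMap_iff Q g hQ hg
      have hQ' : (SIso.ofAut β).im Q ≤ U := SIso.im_le _ _
      have hg' : ∀ x ∈ (SIso.ofAut β).im Q, (SIso.ofAut β).tr g x ∈ U := by
        intro x hx
        exact ofAut_mem β (hg _ hx.2)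
      have h2 := hC'.isMap_iff ((SIso.ofAut β).im Q) ((SIso.ofAut β).tr g) (hQ'.trans hUT) fun x hx => hUT (hg' x hx)
      rw [h1, h2]
      have h3 : (SIso.ofAut α).im ((SIso.ofAut β).im Q) = img Q (fun x => ofAut α (ofAut β x)) := by
        rw [SIso.ofAut_im β hQ, SIso.ofAut_im α ((SIso.ofAut_im β hQ ▸ hQ').trans hUT)]
        have hb : IsMap H Q (ofAut β) := (isMap_ofAut hUs.1 hβ).mono hQ
        exact hb.img_comp.symm
      rw [h3]
      rfl
    have hmain' : ∀ (Q : Subgroup Ω) (g : Ω → Ω), Q ≤ U → (∀ x ∈ Q, g x ∈ U) →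
        (IsMap E (i.im Q) (i.tr g) ↔ IsMap C Q g) := fun Q g hQ hg => (htr.isMap_iff Q g hQ hg).symm
    have him : ∀ Q ≤ U, i.im Q = img Q (fun x => ofAut α (ofAut β x)) := by
      intro Q hQ
      ext y
      rw [SIso.mem_im_iff_exists i hQ]
      have hm : IsMap F Q (fun x => ofAut α (ofAut β x)) :=
        (isMap_ofAut hTs.1 hα).comp ((inv_isMap hH.normal.1.2.2 (isMap_ofAut hUs.1 hβ)).mono hQ)
          fun x hx => hUT (ofAut_mem β (hQ hx))
      rw [hm.mem_img]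
      exact exists_congr fun x => and_congr_right fun hx => by rw [hγx x (hQ hx)]
    have hη : ∀ y ∈ γ.range, i.η y = ofAut β⁻¹ (ofAut α⁻¹ y) := by
      intro y hy
      have h1 := i.η_mem hy
      have h2 := hγx _ h1
      rw [i.θη hy] at h2
      rw [h2, ofAut_inv_apply α (hUT (ofAut_mem β h1)), ofAut_inv_apply β h1]
      have h3 : i.η (ofAut α (ofAut β (i.η y))) = i.η y := by rw [← h2]
      exact h3
    intro P f
    have hC'range : ∀ {P f}, IsMap C' P f → P ≤ γ.range ∧ ∀ x ∈ P, f x ∈ γ.range := fun {P f} hf =>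
      ⟨hf.le.trans hrange.le, fun x hx => hrange.le (hf.mem hx)⟩
    by_cases hP : P ≤ γ.range ∧ ∀ x ∈ P, f x ∈ γ.range
    · obtain ⟨hP, hfP⟩ := hP
      -- pull back to `U`
      have hQ : i.symm.im P ≤ U := i.symm.im_le P
      have hg : ∀ x ∈ i.symm.im P, i.symm.tr f x ∈ U := fun x hx => i.η_mem (hfP _ hx.2)
      have h1 := main _ _ hQ hg
      have h2 := hmain' _ _ hQ hg
      rw [← him _ hQ] at h1
      have h3 : i.im (i.symm.im P) = P := i.im_symm_im hP
      rw [h3] at h1 h2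
      have h4 := h1.trans h2.symm
      have e1 : ∀ y ∈ P, ofAut α (ofAut β (i.symm.tr f (ofAut β⁻¹ (ofAut α⁻¹ y)))) = f y := by
        intro y hy
        rw [← hη y (hP hy)]
        show ofAut α (ofAut β (i.η (f (i.θ (i.η y))))) = f y
        rw [i.θη (hP hy), ← hγx _ (i.η_mem (hfP y hy)), i.θη (hfP y hy)]
      have e2 : ∀ y ∈ P, i.tr (i.symm.tr f) y = f y := by
        intro y hy
        show i.θ (i.η (f (i.θ (i.η y)))) = f y
        rw [i.θη (hP hy), i.θη (hfP y hy)]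
      exact ⟨fun h => (h4.1 (h.congr fun y hy => (e1 y hy).symm)).congr e2,
        fun h => (h4.2 (h.congr fun y hy => (e2 y hy).symm)).congr e1⟩
    · exact ⟨fun h => absurd (hC'range h) hP, fun h => absurd ⟨h.le, fun x hx => h.mem hx⟩ hP⟩
  have hfin : ∀ {V V' : Subgroup Ω} {A : FusionSystem V} {B : FusionSystem V'}, V = V' →
      (∀ (P : Subgroup Ω) (f : Ω → Ω), IsMap A P f ↔ IsMap B P f) → A.IsComponentIn F p → B.IsComponentIn F p := by
    intro V V' A B hV hAB hA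
    subst hV
    have : A = B := fusionSystem_ext fun P => hom_eq_iff.2 (hAB P)
    rwa [← this]
  exact hfin hrange key hcomp

end Cfsg.Agent.Fus
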