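import Cfsg.Agent.Fus.ES14
import Cfsg.Agent.Fus.Lay12
set_option autoImplicit false

/-!
# `E`-balance (helper85)
-/

namespace Cfsg.Agent.Fus

open Cfsg Cfsg.FusionSystem
open Cfsg.FusionSystem (centralizerIn normalizerIn)

variable {Ω : Type*} [Group Ω] {S T : Subgroup Ω} {F : FusionSystem S} {E : FusionSystem T} {p : ℕ}

/-- the hyperfocal subgroup of a central product of a `p`-group with `E₂` -/
theorem hyper_cprod_inner [Fact p.Prime] {Q T₂ U : Subgroup Ω} [Finite U] (hU : IsPGroup p U) {E₂ : FusionSystem T₂}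
    {D : FusionSystem U} (h : CProd (innerFusionSystem Q) E₂ D) : D.hyperfocalSubgroup p ≤ T₂ := by
  have hT₂U := h.le_right
  have hfT₂ := finite_of_le hT₂U
  refine hyper_le fun P hP α hco x hx => ?_
  have hfP := finite_of_le hP
  have hfA := finite_mulAut (P := P)
  have hm := isMap_ofAut hP α.2
  obtain ⟨-, f₁, f₂, hf₁, hf₂, hf⟩ := (h.isMap_iff P _).1 hm
  obtain ⟨-, q, hq, hqx⟩ := isMap_inner.1 hf₁
  have hdec : ∀ y ∈ P, ∃ a ∈ Q, ∃ b ∈ T₂, a * b = y := fun y hy => h.comm.mem_sup.1 (by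
    have := hP hy
    rwa [h.eq] at this)
  have hPle : P ≤ Q ⊔ T₂ := by rw [← h.eq]; exact hP
  -- powers
  have hpow : ∀ n : ℕ, ∀ a ∈ Q, ∀ b ∈ T₂, a * b ∈ P → ∃ b' ∈ T₂,
      ofAut ((α : MulAut P) ^ n) (a * b) = q ^ n * a * (q ^ n)⁻¹ * b' := by
    intro n
    induction n with
    | zero => intro a ha b hb hab; exact ⟨b, hb, by rw [pow_zero, ofAut_one hab]; group⟩
    | succ n ih =>
      intro a ha b hb hab
      obtain ⟨b', hb', h1⟩ := ih a ha b hb hab
      have h2 := ofAut_mem ((α : MulAut P) ^ n) hab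
      rw [h1] at h2
      have ha' : q ^ n * a * (q ^ n)⁻¹ ∈ Q := Q.mul_mem (Q.mul_mem (Q.pow_mem hq n) ha) (Q.inv_mem (Q.pow_mem hq n))
      have ha2 : q ^ n * a * (q ^ n)⁻¹ ∈ prL Q T₂ P := (h.comm.mem_prL hPle).2 ⟨ha', b', hb', h2⟩
      have hb2 : b' ∈ prR Q T₂ P := (h.comm.mem_prR hPle).2 ⟨hb', _, ha', h2⟩
      refine ⟨f₂ b', hf₂.mem hb2, ?_⟩
      rw [pow_succ', ofAut_mul _ _ hab, h1, hf _ ha' _ hb' h2, hqx _ ha2]
      rw [pow_succ' q]
      group
  obtain ⟨e, he⟩ := exists_exp (p := p) hU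
  have hqU : q ∈ U := h.le_left hq
  obtain ⟨m, hm'⟩ := exists_pow_eq_self_of_coprime (n := p ^ e) (x := (α : MulAut P))
    ((Nat.Coprime.pow_right e (by rwa [Subgroup.orderOf_coe])).symm)
  have h1 : ∀ y ∈ P, y⁻¹ * ofAut ((α : MulAut P) ^ p ^ e) y ∈ T₂ := by
    intro y hy
    obtain ⟨a, ha, b, hb, rfl⟩ := hdec y hy
    obtain ⟨b', hb', h2⟩ := hpow (p ^ e) a ha b hb hy
    rw [h2, he q hqU]
    have e1 : (a * b)⁻¹ * (1 * a * 1⁻¹ * b') = b⁻¹ * b' := by group
    rw [e1]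
    exact T₂.mul_mem (T₂.inv_mem hb) hb'
  have h2 : ∀ n : ℕ, ∀ y ∈ P, y⁻¹ * ofAut (((α : MulAut P) ^ p ^ e) ^ n) y ∈ T₂ := by
    intro n
    induction n with
    | zero => intro y hy; rw [pow_zero, ofAut_one hy, inv_mul_cancel]; exact T₂.one_mem
    | succ n ih =>
      intro y hy
      have h3 := ofAut_mem (((α : MulAut P) ^ p ^ e) ^ n) hy
      rw [pow_succ', ofAut_mul _ _ hy]
      have e1 : y⁻¹ * ofAut ((α : MulAut P) ^ p ^ e) (ofAut (((α : MulAut P) ^ p ^ e) ^ n) y) =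
          (y⁻¹ * ofAut (((α : MulAut P) ^ p ^ e) ^ n) y) * ((ofAut (((α : MulAut P) ^ p ^ e) ^ n) y)⁻¹ *
            ofAut ((α : MulAut P) ^ p ^ e) (ofAut (((α : MulAut P) ^ p ^ e) ^ n) y)) := by group
      rw [e1]
      exact T₂.mul_mem (ih y hy) (h1 _ h3)
  have h3 := h2 m x hx
  rwa [hm'] at h3

/-- a `p`-group contained in its commutator subgroup is trivial -/
theorem eq_bot_of_le_comm [Finite S] [Fact p.Prime] (hS : IsPGroup p S) (h : S ≤ ⁅S, S⁆) : S = ⊥ := by
  have hnil : Group.IsNilpotent S := hS.isNilpotent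
  have hsol : Group.IsSolvable S := inferInstance
  by_contra hne
  have hnt : Nontrivial S := (Subgroup.nontrivial_iff_ne_bot S).2 hne
  have h1 : commutator S = ⊤ := by
    rw [eq_top_iff]
    rintro ⟨x, hx⟩ -
    have h2 := h hx
    rw [← Subgroup.map_subtype_commutator] at h2
    obtain ⟨y, hy, hyx⟩ := h2
    have : y = ⟨x, hx⟩ := Subtype.ext hyx
    rwa [← this]
  exact absurd h1 (Group.IsSolvable.commutator_lt_top_of_nontrivial S).ne

/-- the layer is its own `O^p` -/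
theorem layer_hyper [Finite S] [Fact p.Prime] (hS : IsPGroup p S) (hF : F.IsSaturated p) (hE : E.IsLayerOf F p) :
    T ≤ E.hyperfocalSubgroup p := by
  obtain ⟨D, hDF, hDE⟩ := exists_opE hS hE.1
  refine sub_le (hE.2.2 _ D hDF fun U C hC => ?_)
  have hCE := hE.2.1 U C hC
  have hfT := finite_of_le (isNormalIn.sc hE.1).1
  have h1 := hyper_mono' (p := p) hCE
  rw [hC.2.2.1] at h1
  exact (comp_of_le hS hF hC hDF h1).2

/-- **`E`-balance.** -/
theorem e_balance [Finite S] [Fact p.Prime] (hS : IsPGroup p S) (hF : F.IsSaturated p) {X : Subgroup Ω}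
    (hX : F.IsFullyNormalized X) {N : FusionSystem (normalizerIn S X)} (hN : F.IsNormalizerSystem X N)
    {U : Subgroup Ω} {EN : FusionSystem U} (hEN : EN.IsLayerOf N p) (hE : E.IsLayerOf F p) :
    EN.IsSubsystemOf E := by
  have hSX := normalizerIn_le (S := S) X
  have hpSX := isPGroup_of_le hS hSX
  have hfSX := finite_of_le hSX
  have hNs : N.IsSaturated p := normalizerSystem_saturated hS hF hX hN
  obtain ⟨⟨V, D, hD⟩, hDall⟩ := genFitting hS hF
  have hDn := hDall V D hD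
  have hVs := isNormalIn.sc hDn
  have hfV := finite_of_le hVs.1
  have hpV := isPGroup_of_le hS hVs.1
  have hC := genFitting_cenE hS hF hD
  obtain ⟨L, hL, hLD⟩ := exists_normal_normalizer hS hDn hX hN
  -- all components of `N` are in `L`
  have hcomp : ∀ (W₀ : Subgroup Ω) (C : FusionSystem W₀), C.IsComponentIn N p → C.IsSubsystemOf L := by
    intro W₀ C hC'
    obtain ⟨W, H, hH⟩ := exists_hull hpSX hNs hC'
    have hHn := hH.normal
    have hWs := isNormalIn.sc hHn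
    have hfW := finite_of_le hWs.1
    have hpW := isPGroup_of_le hpSX hWs.1
    rcases comp_or_commute hpSX hNs hL hH with h1 | ⟨-, h1⟩
    · exact subnormal_isSubsystemOf h1.1
    exfalso
    have hXc : X ≤ cenE H N p := (Join.le_core (isNormal_normSys hX.1 hN)).trans
      (hH.core_le_cenE hpSX (hH.core_le_center hpSX))
    have hax : ∀ {P : Subgroup Ω}, H.IsCentric P → ∀ {β : MulAut P}, β ∈ H.autGroup P → (orderOf β).Coprime p →
        β = 1 := fun hP _ hβ hco => axb_main hS hDn hC hX hN hHn hXc h1 hP hβ hco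
    have h2 : H.focalSubgroup ≤ ⁅W, W⁆ := focal_of_gens hpW hHn.1.1 le_rfl fun Q _ hQc _ β hβ hco x hx => by
      rw [hax hQc hβ hco, ofAut_one hx, inv_mul_cancel]
      exact Subgroup.one_mem _
    have h3 : W ≤ ⁅W, W⁆ := by
      have h4 := hH.hyper hpSX
      exact h4.ge.trans (hyper_le_focal.trans h2)
    have h4 := eq_bot_of_le_comm hpW h3
    have hW₀ : W₀ ≤ W := hH.le
    have hfW₀ := finite_of_le hW₀
    refine not_le_center_of_quasisimple (isPGroup_of_le hpW hW₀) hC'.2 ?_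
    rw [h4] at hW₀
    exact hW₀.trans bot_le
  have h1 : EN.IsSubsystemOf L := hEN.2.2 _ L hL hcomp
  have h2 : EN.IsSubsystemOf D := isSubsystemOf_trans h1 hLD
  have h3 : U ≤ EN.hyperfocalSubgroup p := layer_hyper hpSX hNs hEN
  obtain ⟨T', E', hE', hcp⟩ := hD
  have hfT' := finite_of_le (isNormalIn.sc hE'.1).1
  have hfQ := finite_of_le (Join.core_le F)
  have hcp' := cprod_of_isCentralProductOf hcp
  have h4 : U ≤ T' := h3.trans ((hyper_mono' h2).trans (hyper_cprod_inner hpV hcp'))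
  have h5 : EN.IsSubsystemOf E' := isSubsystemOf_iff.2 fun P f hf =>
    (hcp'.symm.isMap_left_iff (hf.le.trans h4)).1 (isSubsystemOf_iff.1 h2 P f hf)
  obtain ⟨rfl, h6⟩ := layer_unique hE hE'
  intro P φ hφ
  rw [h6 P]
  exact h5 P hφ

end Cfsg.Agent.Fus
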