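import Cfsg.Agent.Fus.ES1
set_option autoImplicit false

/-!
# Fusion systems generated by `p'`-automorphisms, II: the level step (helper85)
-/

namespace Cfsg.Agent.Fus

open Cfsg

variable {Ω : Type*} [Group Ω] {S : Subgroup Ω} {p : ℕ}
  {ℋ : Subgroup Ω → Prop} {K : (P : Subgroup Ω) → Subgroup (MulAut P)} {F : FusionSystem S}

/-- The induction hypothesis: above order `m` the system is saturated, with the prescribed automorphism groups. -/
def GAbove (S : Subgroup Ω) (p : ℕ) (ℋ : Subgroup Ω → Prop) (K : (P : Subgroup Ω) → Subgroup (MulAut P)) (m : ℕ) :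
    Prop :=
  ∀ R, ℋ R → m < Nat.card R → ∃ R', (gsys S p ℋ K (m + 1)).IsConj R R' ∧
    (gsys S p ℋ K (m + 1)).IsFullyAutomized p R' ∧ (gsys S p ℋ K (m + 1)).IsReceptive R' ∧
    ∀ α : MulAut R', IsMap (gsys S p ℋ K (m + 1)) R' (ofAut α) → α ∈ gA S p K R'

namespace GData

variable (h : GData F p ℋ K) {m : ℕ}

include h

/-- transport of `gA` along maps defined on the normalizer -/
theorem gA_norm [Finite S] {n : ℕ} {P : Subgroup Ω} (hP : ℋ P) {g : Ω → Ω}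
    (hg : IsMap (gsys S p ℋ K n) (FusionSystem.normalizerIn S P) g) (hgP : Fus.img P g = P) {b : MulAut P}
    (hb : ∀ x ∈ P, ofAut b x = g x) {a : MulAut P} (ha : a ∈ gA S p K P) : b * a * b⁻¹ ∈ gA S p K P := by
  have hPS := h.le P hP
  have hPN : P ≤ FusionSystem.normalizerIn S P := le_normalizerIn hPS
  have hgP' := hg.mono hPN
  have hbF : b ∈ F.autGroup P := (mem_autGroup_iff hPS).2 ((h.sysF hgP').congr fun x hx => (hb x hx).symm)
  have h1 : gA S p K P ≤ (gA S p K P).comap (MulAut.conj b).toMonoidHom := by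
    refine sup_le (fun κ hκ => gK_le_gA (h.gK_conj hP hbF hκ)) fun κ hκ => ?_
    obtain ⟨t, ht, htκ⟩ := mem_autInducedBy'.1 hκ
    have htN : t ∈ FusionSystem.normalizerIn S P := ⟨ht, mem_normalizer_of_ofAut htκ⟩
    refine autS_le_gA (mem_autInducedBy'.2 ⟨g t, hg.mem htN, fun x hx => ?_⟩)
    have hx' := ofAut_mem b⁻¹ hx
    have hn : t * ofAut b⁻¹ x * t⁻¹ ∈ P := by rw [← htκ _ hx']; exact ofAut_mem κ hx'
    show ofAut (b * κ * b⁻¹) x = _
    rw [ofAut_mul _ _ hx, ofAut_mul _ _ hx', htκ _ hx', hb _ hn, hg.map_conj htN (hPN hx'), ← hb _ hx',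
      ofAut_apply_inv b hx]
  exact h1 ha

theorem satOver [Finite S] (H : GAbove S p ℋ K m) {P : Subgroup Ω} (hP : ℋ P) (hc : Nat.card P = m) :
    SatOver (gsys S p ℋ K (m + 1)) p P := by
  intro Q R hPQ hQR hR
  have hQ := (h.conj_iff hPQ).1 hP
  obtain ⟨R', h1, h2, h3, -⟩ := H R (h.mono Q R hQ hQR.le hR) (by
    rw [← hc, ← isConj_card_eq hPQ]
    exact card_lt_of_lt hR hQR)
  exact ⟨R', h1, h2, h3⟩

theorem genAbove [Finite S] {P : Subgroup Ω} (hm : m < Nat.card S) (hc : Nat.card P = m) :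
    GenAbove (gsys S p ℋ K (m + 1)) P := by
  refine genAbove_of_generated (ℋ := {R | ℋ R ∧ m + 1 ≤ Nat.card R}) ?_ ?_ ⟨h.top, hm⟩ ?_
  · rintro R ⟨h1, h2⟩ Q hRQ
    exact ⟨(h.conj_iff hRQ).1 h1, by rw [isConj_card_eq hRQ]; exact h2⟩
  · intro E hE
    refine gsys_min fun R hR hRS hn α hα hco => ?_
    obtain ⟨φ, hφ, hφα⟩ := gsys_gen hR hRS hn hα hco
    exact ⟨φ, hE R ⟨hR, hn⟩ hφ, hφα⟩
  · rintro ⟨-, h2⟩
    omega

theorem link [Finite S] [Fact p.Prime] (H : GAbove S p ℋ K m) (hm : m < Nat.card S) {P Q : Subgroup Ω} (hP : ℋ P)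
    (hc : Nat.card P = m) (hPn : (gsys S p ℋ K (m + 1)).IsFullyNormalized P)
    (hPQ : (gsys S p ℋ K (m + 1)).IsConj P Q) : ∃ g, IsLink (gsys S p ℋ K (m + 1)) P Q g :=
  exists_link_over h.hS hPn (h.satOver H hP hc) (h.genAbove hm hc) hPQ

/-- stabilizers in larger subgroups act as elements of `gA` -/
theorem stab_mem [Finite S] [Fact p.Prime] {n : ℕ} {P Q R : Subgroup Ω} (hR : ℋ R)
    (hQ : ℋ Q) (hQR : Q ≤ R) (hRA : ∀ α : MulAut R, IsMap (gsys S p ℋ K n) R (ofAut α) → α ∈ gA S p K R)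
    (hstab : SylStab (gsys S p ℋ K n) p R Q) {χ : Ω → Ω} (hχ : IsLink (gsys S p ℋ K n) P Q χ) {γ : MulAut R}
    (hγ : γ ∈ stabAut (gsys S p ℋ K n) R Q) {a : MulAut P} (ha : ∀ x ∈ Q, ofAut a (χ x) = χ (ofAut γ x)) :
    a ∈ gA S p K P := by
  have hRS := h.le R hR
  have hQS := h.le Q hQ
  have hfR := finite_of_le hRS
  have hfA : Finite (MulAut R) := finite_mulAut
  have hQN : Q ≤ FusionSystem.normalizerIn S Q := le_normalizerIn hQS
  have hχQ := hχ.1.mono hQN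
  have hPS : P ≤ S := by rw [← hχ.2]; exact hχQ.img_le
  have hfP := finite_of_le hPS
  have hfAP : Finite (MulAut P) := finite_mulAut
  have hfQ := finite_of_le hQS
  have hfAQ : Finite (MulAut Q) := finite_mulAut
  -- transported automorphisms
  have hex : ∀ γ ∈ stabAut (gsys S p ℋ K n) R Q, ∃ δ : MulAut Q, (∀ x ∈ Q, ofAut δ x = ofAut γ x) ∧
      ∀ x ∈ Q, ofAut (hχQ.trans hχ.2 δ) (χ x) = χ (ofAut γ x) := by
    intro γ hγ
    obtain ⟨δ, -, hδ⟩ := ((isMap_ofAut hRS hγ.1).mono hQR).exists_aut (img_of_mem_stabAut hRS hQR hγ)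
    exact ⟨δ, hδ, fun x hx => by rw [hχQ.ofAut_trans hχ.2 δ hx, hδ x hx]⟩
  have huniq : ∀ {a b : MulAut P}, (∀ x ∈ Q, ofAut a (χ x) = ofAut b (χ x)) → a = b := by
    intro a b hab
    refine ofAut_injective fun y hy => ?_
    rw [← hχ.2] at hy
    obtain ⟨x, hx, rfl⟩ := hχQ.mem_img.mp hy
    exact hab x hx
  have hmemQ : ∀ γ ∈ stabAut (gsys S p ℋ K n) R Q, ∀ x ∈ Q, ofAut γ x ∈ Q := fun γ hγ x hx =>
    ((mem_stabAut.mp hγ).2 x (hQR hx)).mp hx
  have hmemP : ∀ x ∈ Q, χ x ∈ P := fun x hx => by rw [← hχ.2]; exact subset_img hx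
  let J : Subgroup (MulAut R) :=
    { carrier := {γ | γ ∈ stabAut (gsys S p ℋ K n) R Q ∧ ∀ a : MulAut P,
        (∀ x ∈ Q, ofAut a (χ x) = χ (ofAut γ x)) → a ∈ gA S p K P}
      one_mem' := ⟨Subgroup.one_mem _, fun a ha => by
        have : a = 1 := huniq fun x hx => by rw [ha x hx, ofAut_one (hQR hx), ofAut_one (hmemP x hx)]
        rw [this]; exact Subgroup.one_mem _⟩
      mul_mem' := by
        rintro γ₁ γ₂ ⟨h1, h2⟩ ⟨h3, h4⟩
        refine ⟨Subgroup.mul_mem _ h1 h3, fun a ha => ?_⟩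
        obtain ⟨δ₁, -, e1⟩ := hex γ₁ h1
        obtain ⟨δ₂, -, e2⟩ := hex γ₂ h3
        have : a = hχQ.trans hχ.2 δ₁ * hχQ.trans hχ.2 δ₂ := huniq fun x hx => by
          rw [ha x hx, ofAut_mul _ _ (hmemP x hx), e2 x hx, e1 _ (hmemQ γ₂ h3 x hx), ofAut_mul _ _ (hQR hx)]
        rw [this]
        exact Subgroup.mul_mem _ (h2 _ e1) (h4 _ e2)
      inv_mem' := by
        rintro γ ⟨h1, h2⟩
        refine ⟨Subgroup.inv_mem _ h1, fun a ha => ?_⟩
        have h3 : a⁻¹ ∈ gA S p K P := h2 _ fun x hx => by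
          have hx' := hmemQ γ h1 x hx
          have e1 := ha _ hx'
          rw [ofAut_inv_apply γ (hQR hx)] at e1
          rw [← e1, ofAut_inv_apply a (hmemP _ hx')]
        simpa using Subgroup.inv_mem _ h3 }
  have hsyl : H85.SylIn p (autInducedBy S R ⊓ stabAut (gsys S p ℋ K n) R Q) (stabAut (gsys S p ℋ K n) R Q) := by
    refine (H85.sylIn_iff inf_le_right).2 ?_
    obtain ⟨T, hT⟩ := hstab
    exact ⟨T, by rw [hT, Subgroup.inf_subgroupOf_right]⟩
  have hle : stabAut (gsys S p ℋ K n) R Q ≤ J := by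
    refine sylIn_le_of_pprime hsyl ?_ ?_
    · rintro γ ⟨h1, h2⟩
      refine ⟨h2, fun a ha => ?_⟩
      obtain ⟨u, hu, huγ⟩ := mem_autInducedBy'.1 h1
      have huN : u ∈ FusionSystem.normalizerIn S Q := ⟨hu, mem_normalizer_of_conj fun x hx => by
        rw [← huγ x (hQR hx)]; exact hmemQ γ h2 x hx⟩
      refine autS_le_gA (mem_autInducedBy'.2 ⟨χ u, hχ.1.mem huN, fun y hy => ?_⟩)
      rw [← hχ.2] at hy
      obtain ⟨x, hx, rfl⟩ := hχQ.mem_img.mp hy
      rw [ha x hx, huγ x (hQR hx), hχ.1.map_conj huN (hQN hx)]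
    · intro γ hγ hco
      refine ⟨hγ, fun a ha => ?_⟩
      have h1 : γ ∈ K R := gK_le (h.pprime_mem_gK hR (hRA γ (isMap_ofAut hRS hγ.1)) hco)
      obtain ⟨δ, hδ, e⟩ := hex γ hγ
      have h2 : δ ∈ K Q := h.res Q R hQ hQR hRS γ h1 hco δ hδ
      have h3 : (orderOf δ).Coprime p := by
        refine Nat.Coprime.coprime_dvd_left (orderOf_dvd_of_pow_eq_one ?_) hco
        refine ofAut_injective fun x hx => ?_
        rw [← ofAut_pow_restrict hQR (fun y hy => (hδ y hy).symm) _ x hx, pow_orderOf_eq_one, ofAut_one (hQR hx),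
          ofAut_one hx]
      refine gK_le_gA (h.gK_transport (h.sysF hχQ) hχ.2 hQ (mem_gK h2 h3) fun x hx => ?_)
      rw [ha x hx, hδ x hx]
  exact (hle hγ).2 a ha

/-- Automorphisms of `P` extending to larger subgroups of `N_S(P)` lie in `gA P`. -/
theorem compat [Finite S] [Fact p.Prime] (H : GAbove S p ℋ K m) (hm : m < Nat.card S) {P : Subgroup Ω} (hP : ℋ P)
    (hc : Nat.card P = m) (hPn : (gsys S p ℋ K (m + 1)).IsFullyNormalized P) :
    ∀ (n : ℕ) (R : Subgroup Ω) (f : Ω → Ω), Nat.card S - Nat.card R = n → P < R →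
      R ≤ FusionSystem.normalizerIn S P → IsMap (gsys S p ℋ K (m + 1)) R f → Fus.img P f = P →
      ∀ a : MulAut P, (∀ x ∈ P, ofAut a x = f x) → a ∈ gA S p K P := by
  intro n
  induction n using Nat.strong_induction_on with
  | _ n ih =>
  intro R ψ hn hPR hRN hψ hψP a ha
  have hT := h.hS
  have hRT : R ≤ S := hψ.le
  have hfR := finite_of_le hRT
  have hRcard : Nat.card R ≤ Nat.card S := Subgroup.card_le_of_le hRT
  have hlt : m < Nat.card R := by rw [← hc]; exact card_lt_of_lt hRT hPR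
  have hHR : ℋ R := h.mono P R hP hPR.le hRT
  have hPT : P ≤ S := h.le P hP
  obtain ⟨R', hconj, hRa, hRr, hRA⟩ := H R hHR hlt
  obtain ⟨f, hf, hfR'⟩ := isConj_iff.mp hconj
  have hR'T : R' ≤ S := hRr.1
  have hP1 : Fus.img P f ≤ R' := by rw [← hfR']; exact img_mono hPR.le
  obtain ⟨α, hα, hstab⟩ := exists_sylStab hT hRa hP1
  have hf' : IsMap (gsys S p ℋ K (m + 1)) R (fun x => ofAut α (f x)) :=
    (isMap_ofAut hR'T hα).comp hf fun x hx => by rw [← hfR']; exact subset_img hx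
  have hf'R : Fus.img R (fun x => ofAut α (f x)) = R' := by rw [hf.img_comp, hfR', img_ofAut]
  have hf'Q : Fus.img P (fun x => ofAut α (f x)) = Fus.img (Fus.img P f) (ofAut α) := (hf.mono hPR.le).img_comp
  generalize hQ3 : Fus.img (Fus.img P f) (ofAut α) = Q3 at hstab hf'Q
  generalize hfe : (fun x => ofAut α (f x)) = f' at hf' hf'R hf'Q
  have hQ3R' : Q3 ≤ R' := by rw [← hf'Q, ← hf'R]; exact img_mono hPR.le
  have hPQ3 : (gsys S p ℋ K (m + 1)).IsConj P Q3 := isConj_iff.mpr ⟨f', hf'.mono hPR.le, hf'Q⟩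
  have hHR' : ℋ R' := (h.conj_iff hconj).1 hHR
  have hHQ3 : ℋ Q3 := (h.conj_iff hPQ3).1 hP
  obtain ⟨χ, hχ⟩ := h.link H hm hP hc hPn hPQ3
  have hQ3T : Q3 ≤ S := hQ3R'.trans hR'T
  have hχQ3 : IsMap (gsys S p ℋ K (m + 1)) Q3 χ := hχ.1.mono (le_normalizerIn hQ3T)
  by_cases hRe : R = FusionSystem.normalizerIn S P
  · have hR'N : R' ≤ FusionSystem.normalizerIn S Q3 := by
      rw [← hf'R, hf'.img_le_iff]
      exact fun x hx => map_mem_normalizerIn hf' hPR.le (hRN.trans inf_le_right) hf'Q hx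
    have hg : IsMap (gsys S p ℋ K (m + 1)) R (fun x => χ (f' x)) := (hχ.1.mono hR'N).comp hf' fun x hx => by
      rw [← hf'R]; exact subset_img hx
    have hgP : Fus.img P (fun x => χ (f' x)) = P := by rw [(hf'.mono hPR.le).img_comp, hf'Q, hχ.2]
    obtain ⟨b, hb, hbg⟩ := (hg.mono hPR.le).exists_aut hgP
    -- the automorphism of `R'`
    have himg : Fus.img R ψ = R := hψ.img_eq fun x hx => by
      rw [hRe] at hψ hx ⊢
      exact map_mem_normalizerIn hψ (le_normalizerIn hPT) inf_le_right hψP hx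
    obtain ⟨β, hβ, hβψ⟩ := hψ.exists_aut himg
    have hγF := hf'.trans_mem hf'R hβ
    have hγx : ∀ x ∈ R, ofAut (hf'.trans hf'R β) (f' x) = f' (ψ x) := fun x hx => by
      rw [hf'.ofAut_trans hf'R β hx, hβψ x hx]
    generalize hf'.trans hf'R β = γ at hγF hγx
    have hγs : γ ∈ stabAut (gsys S p ℋ K (m + 1)) R' Q3 := by
      refine mem_stabAut_of_img hR'T hQ3R' hγF ?_
      have hfQ3 := finite_of_le hQ3T
      refine ((isMap_ofAut hR'T hγF).mono hQ3R').img_eq fun y hy => ?_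
      rw [← hf'Q] at hy ⊢
      obtain ⟨x, hx, rfl⟩ := (hf'.mono hPR.le).mem_img.mp hy
      rw [hγx x (hPR.le hx)]
      refine subset_img ?_
      rw [← hψP]; exact subset_img hx
    have hmem : b * a * b⁻¹ ∈ gA S p K P := by
      refine h.stab_mem hHR' hHQ3 hQ3R' hRA hstab hχ hγs fun y hy => ?_
      rw [← hf'Q] at hy
      obtain ⟨x, hx, rfl⟩ := (hf'.mono hPR.le).mem_img.mp hy
      have hxP : χ (f' x) ∈ P := by rw [← hbg x hx]; exact ofAut_mem b hx
      have e1 : ofAut b⁻¹ (χ (f' x)) = x := by rw [← hbg x hx, ofAut_inv_apply b hx]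
      have hψx : ψ x ∈ P := by rw [← hψP]; exact subset_img hx
      rw [ofAut_mul _ _ hxP, e1, ofAut_mul _ _ hx, ha x hx, hbg _ hψx, hγx x (hPR.le hx)]
    -- conjugate back
    rw [hRe] at hg himg
    have hgimg : Fus.img (FusionSystem.normalizerIn S P) (fun x => χ (f' x)) = FusionSystem.normalizerIn S P := by
      have hfN := finite_of_le hg.le
      exact hg.img_eq fun x hx => map_mem_normalizerIn hg (le_normalizerIn hPT) inf_le_right hgP hx
    have hginv := hg.minv_isMap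
    rw [hgimg] at hginv
    have hPN : P ≤ FusionSystem.normalizerIn S P := le_normalizerIn hPT
    have hbinv : ∀ y ∈ P, ofAut b⁻¹ y = minv (FusionSystem.normalizerIn S P) (fun x => χ (f' x)) y := by
      intro y hy
      have hy' := ofAut_mem b⁻¹ hy
      have e1 := hbg _ hy'
      rw [ofAut_apply_inv b hy] at e1
      have e2 := hg.minv_apply (hPN hy')
      rw [← e1] at e2
      exact e2.symm
    have hPinv : Fus.img P (minv (FusionSystem.normalizerIn S P) (fun x => χ (f' x))) = P := by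
      have hfP := finite_of_le hPT
      refine (hginv.mono hPN).img_eq fun y hy => ?_
      rw [← hbinv y hy]; exact ofAut_mem _ hy
    have h2 := h.gA_norm hP hginv hPinv hbinv hmem
    have e : b⁻¹ * (b * a * b⁻¹) * b⁻¹⁻¹ = a := by group
    rwa [e] at h2
  have hRlt : R < FusionSystem.normalizerIn S P := lt_of_le_of_ne hRN hRe
  -- the first extension
  obtain ⟨γ₁, hγ₁, μ₁, hμ₁, hμ₁f⟩ := exists_extend_stab hT hRr hstab hPR.le hf' hf'R hf'Q
  -- the second extension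
  have hψR : IsMap (gsys S p ℋ K (m + 1)) (Fus.img R ψ) (fun x => f' (minv R ψ x)) := hf'.comp_minv hψ le_rfl
  have hψR' : Fus.img (Fus.img R ψ) (fun x => f' (minv R ψ x)) = R' := by
    rw [hψ.minv_isMap.img_comp, hψ.img_minv, hf'R]
  have hPψ : P ≤ Fus.img R ψ := by
    conv_lhs => rw [← hψP]
    exact img_mono hPR.le
  have hQminv : Fus.img P (minv R ψ) = P := by
    have h1 : Fus.img (Fus.img P ψ) (minv R ψ) = Fus.img (Fus.img P ψ) (minv P ψ) := by
      refine img_congr fun y hy => ?_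
      obtain ⟨x, hx, rfl⟩ := (hψ.mono hPR.le).mem_img.mp hy
      rw [hψ.minv_apply (hPR.le hx), (hψ.mono hPR.le).minv_apply hx]
    rw [(hψ.mono hPR.le).img_minv, hψP] at h1
    exact h1
  have hψQ3 : Fus.img P (fun x => f' (minv R ψ x)) = Q3 := by
    rw [(hψ.minv_isMap.mono hPψ).img_comp, hQminv, hf'Q]
  obtain ⟨γ₂, hγ₂, μ₂, hμ₂, hμ₂f⟩ := exists_extend_stab hT hRr hstab hPψ hψR hψR' hψQ3
  -- sizes
  set N₁ := R ⊔ FusionSystem.normalizerIn S R ⊓ Subgroup.normalizer (P : Set Ω) with hN₁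
  set N₂ := Fus.img R ψ ⊔ FusionSystem.normalizerIn S (Fus.img R ψ) ⊓ Subgroup.normalizer (P : Set Ω) with hN₂
  have hN₁N : N₁ ≤ FusionSystem.normalizerIn S P :=
    sup_le hRN (le_inf (inf_le_left.trans (normalizerIn_le R)) inf_le_right)
  have hψRN : Fus.img R ψ ≤ FusionSystem.normalizerIn S P := by
    rw [hψ.img_le_iff]
    exact fun x hx => map_mem_normalizerIn hψ hPR.le (hRN.trans inf_le_right) hψP hx
  have hN₂N : N₂ ≤ FusionSystem.normalizerIn S P :=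
    sup_le hψRN (le_inf (inf_le_left.trans (normalizerIn_le _)) inf_le_right)
  have hgrow : ∀ {A B : Subgroup Ω}, A < FusionSystem.normalizerIn S B →
      A < A ⊔ FusionSystem.normalizerIn S A ⊓ Subgroup.normalizer (B : Set Ω) := by
    intro A B hAB
    have := finite_of_le (normalizerIn_le (S := S) B)
    have h1 := lt_inf_normalizer (isPGroup_of_le hT (normalizerIn_le B)) hAB
    refine lt_of_lt_of_le h1 (le_sup_of_le_right ?_)
    intro x hx
    exact ⟨⟨hx.1.1, hx.2⟩, hx.1.2⟩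
  have hN₁gt : R < N₁ := hgrow hRlt
  have hψRlt : Fus.img R ψ < FusionSystem.normalizerIn S P := by
    refine lt_of_le_of_ne hψRN fun heq => ?_
    have h1 : Nat.card (Fus.img R ψ) = Nat.card R := hψ.card_img
    rw [heq] at h1
    have h2 : Nat.card R < Nat.card (FusionSystem.normalizerIn S P) :=
      card_lt_of_lt (normalizerIn_le P) hRlt
    omega
  have hN₂gt : Fus.img R ψ < N₂ := hgrow hψRlt
  have hc₁ : Nat.card R < Nat.card N₁ := card_lt_of_lt (hN₁N.trans (normalizerIn_le _)) hN₁gt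
  have hc₂ : Nat.card R < Nat.card N₂ := by
    rw [← hψ.card_img]
    exact card_lt_of_lt (hN₂N.trans (normalizerIn_le _)) hN₂gt
  have hc₁' : Nat.card N₁ ≤ Nat.card S := Subgroup.card_le_of_le (hN₁N.trans (normalizerIn_le _))
  have hc₂' : Nat.card N₂ ≤ Nat.card S := Subgroup.card_le_of_le (hN₂N.trans (normalizerIn_le _))
  -- images of `P`
  have himg1 : Fus.img P μ₁ = Q3 := by
    rw [img_congr (g := fun x => ofAut γ₁ (f' x)) fun x hx => hμ₁f x (hPR.le hx),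
      (hf'.mono hPR.le).img_comp, hf'Q, img_of_mem_stabAut hR'T hQ3R' hγ₁]
  have himg2 : Fus.img P μ₂ = Q3 := by
    rw [img_congr (g := fun x => ofAut γ₂ (f' (minv R ψ x))) fun x hx => hμ₂f x (hPψ hx),
      (hψR.mono hPψ).img_comp, hψQ3, img_of_mem_stabAut hR'T hQ3R' hγ₂]
  have hPN₂ : P ≤ N₂ := hPψ.trans le_sup_left
  have hPN₁ : P ≤ N₁ := hPR.le.trans le_sup_left
  have hg₁ : IsMap (gsys S p ℋ K (m + 1)) N₁ (fun x => χ (μ₁ x)) := hχ.1.comp hμ₁ fun x hx =>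
    map_mem_normalizerIn hμ₁ hPN₁ (hN₁N.trans inf_le_right) himg1 hx
  have hg₂ : IsMap (gsys S p ℋ K (m + 1)) N₂ (fun x => χ (μ₂ x)) := hχ.1.comp hμ₂ fun x hx =>
    map_mem_normalizerIn hμ₂ hPN₂ (hN₂N.trans inf_le_right) himg2 hx
  have hg₁P : Fus.img P (fun x => χ (μ₁ x)) = P := by rw [(hμ₁.mono hPN₁).img_comp, himg1, hχ.2]
  have hg₂P : Fus.img P (fun x => χ (μ₂ x)) = P := by rw [(hμ₂.mono hPN₂).img_comp, himg2, hχ.2]
  obtain ⟨a₁, -, ha₁⟩ := (hg₁.mono hPN₁).exists_aut hg₁P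
  obtain ⟨a₂, -, ha₂⟩ := (hg₂.mono hPN₂).exists_aut hg₂P
  have ha₁A : a₁ ∈ gA S p K P := ih (Nat.card S - Nat.card N₁) (by omega) N₁ _ rfl
    (lt_of_lt_of_le hPR le_sup_left) hN₁N hg₁ hg₁P a₁ ha₁
  have ha₂A : a₂ ∈ gA S p K P := ih (Nat.card S - Nat.card N₂) (by omega) N₂ _ rfl
    (lt_of_le_of_lt hPψ hN₂gt) hN₂N hg₂ hg₂P a₂ ha₂
  -- the element of the stabilizer
  have hγ : γ₂ * γ₁⁻¹ ∈ stabAut (gsys S p ℋ K (m + 1)) R' Q3 := Subgroup.mul_mem _ hγ₂ (Subgroup.inv_mem _ hγ₁)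
  have hγQ3 := img_of_mem_stabAut hR'T hQ3R' hγ
  obtain ⟨δ, -, hδ⟩ := ((isMap_ofAut hR'T hγ.1).mono hQ3R').exists_aut hγQ3
  have hc' : hχQ3.trans hχ.2 δ ∈ gA S p K P := h.stab_mem hHR' hHQ3 hQ3R' hRA hstab hχ hγ fun x hx => by
    rw [hχQ3.ofAut_trans hχ.2 δ hx, hδ x hx]
  have hfin : a = a₂⁻¹ * (hχQ3.trans hχ.2 δ * a₁) := by
    refine eq_inv_mul_of_mul_eq (ofAut_injective fun x hx => ?_)
    have hψx : ψ x ∈ P := by
      have h1 := subset_img (f := ψ) hx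
      rwa [hψP] at h1
    have hf'x : f' x ∈ Q3 := by rw [← hf'Q]; exact subset_img hx
    have hγ₁x : ofAut γ₁ (f' x) ∈ Q3 := ((mem_stabAut.mp hγ₁).2 _ (hQ3R' hf'x)).mp hf'x
    rw [ofAut_mul _ _ hx, ofAut_mul _ _ hx, ha x hx, ha₂ _ hψx, ha₁ x hx]
    show χ (μ₂ (ψ x)) = ofAut (hχQ3.trans hχ.2 δ) (χ (μ₁ x))
    rw [hμ₂f _ (subset_img (hPR.le hx)), hψ.minv_apply (hPR.le hx), hμ₁f x (hPR.le hx),
      hχQ3.ofAut_trans hχ.2 δ hγ₁x, hδ _ hγ₁x, ofAut_mul _ _ (hQ3R' hγ₁x),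
      ofAut_inv_apply γ₁ (hQ3R' hf'x)]
  rw [hfin]
  exact Subgroup.mul_mem _ (Subgroup.inv_mem _ ha₂A) (Subgroup.mul_mem _ hc' ha₁A)

end GData

end Cfsg.Agent.Fus
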