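import Cfsg.Agent.Fus.ES2
set_option autoImplicit false

/-!
# Fusion systems generated by `p'`-automorphisms, III: automorphism groups (helper85)
-/

namespace Cfsg.Agent.Fus

open Cfsg

variable {Ω : Type*} [Group Ω] {S : Subgroup Ω} {p : ℕ}
  {ℋ : Subgroup Ω → Prop} {K : (P : Subgroup Ω) → Subgroup (MulAut P)} {F : FusionSystem S}

theorem g_exists_theta [Finite S] {m : ℕ} {P Q : Subgroup Ω} (hPT : P ≤ S) {f θ θ' : Ω → Ω} (hQT : Q ≤ S)
    (hf : IsMap (gsys S p ℋ K m) Q f) (hθ : IsLink (gsys S p ℋ K (m + 1)) P Q θ)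
    (hθ' : IsLink (gsys S p ℋ K (m + 1)) P (img Q f) θ') :
    ∃ a : MulAut P, IsMap (gsys S p ℋ K m) P (ofAut a) ∧ ∀ x ∈ Q, ofAut a (θ x) = θ' (f x) := by
  have hθQ : IsMap (gsys S p ℋ K m) Q θ := gsys_up (Nat.le_succ m) (hθ.1.mono (le_normalizerIn hQT))
  have hfT : img Q f ≤ S := hf.img_le
  have hθ'Q : IsMap (gsys S p ℋ K m) (img Q f) θ' := gsys_up (Nat.le_succ m) (hθ'.1.mono (le_normalizerIn hfT))
  have h1 : IsMap (gsys S p ℋ K m) Q (fun x => θ' (f x)) := hθ'Q.comp hf fun x hx => subset_img hx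
  have h2 := h1.comp_minv hθQ le_rfl
  rw [hθ.2] at h2
  have himg : img P (fun y => θ' (f (minv Q θ y))) = P := by
    have hfP := finite_of_le hPT
    refine h2.img_eq fun y hy => ?_
    rw [← hθ.2] at hy
    obtain ⟨x, hx, rfl⟩ := hθQ.mem_img.mp hy
    rw [hθQ.minv_apply hx]
    have h3 := subset_img (f := θ') (subset_img (f := f) hx)
    rwa [hθ'.2] at h3
  obtain ⟨a, ha, haf⟩ := h2.exists_aut himg
  refine ⟨a, isMap_ofAut hPT ha, fun x hx => ?_⟩
  have hy : θ x ∈ P := by rw [← hθ.2]; exact subset_img hx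
  rw [haf _ hy, hθQ.minv_apply hx]

namespace GData

variable (h : GData F p ℋ K) {m : ℕ}

include h

/-- The automorphism group of a fully normalized `P` of order `m`. -/
theorem aut_mem [Finite S] [Fact p.Prime] (H : GAbove S p ℋ K m) (hm : m < Nat.card S) {P : Subgroup Ω} (hP : ℋ P)
    (hc : Nat.card P = m) (hPn : (gsys S p ℋ K (m + 1)).IsFullyNormalized P) {α : MulAut P}
    (hα : IsMap (gsys S p ℋ K m) P (ofAut α)) : α ∈ gA S p K P := by
  have hPT := h.le P hP
  have hT := h.hS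
  have hlinks : ∀ Q : Subgroup Ω, ∃ g, (gsys S p ℋ K (m + 1)).IsConj P Q → IsLink (gsys S p ℋ K (m + 1)) P Q g := by
    intro Q
    by_cases hQ : (gsys S p ℋ K (m + 1)).IsConj P Q
    · obtain ⟨g, hg⟩ := h.link H hm hP hc hPn hQ
      exact ⟨g, fun _ => hg⟩
    · exact ⟨id, fun h => absurd h hQ⟩
  choose θ hθ using hlinks
  have hstep : ∀ {Q : Subgroup Ω} {f : Ω → Ω}, (gsys S p ℋ K (m + 1)).IsConj P Q → IsMap (gsys S p ℋ K m) Q f →
      (gsys S p ℋ K (m + 1)).IsConj P (Fus.img Q f) := by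
    intro Q f hPQ hf
    exact isConj_trans hPQ (gsys_conj_of_card hf.isConj (by rw [isConj_card_eq hPQ, hc]))
  have hθle : ∀ {Q : Subgroup Ω}, (gsys S p ℋ K (m + 1)).IsConj P Q → IsMap (gsys S p ℋ K (m + 1)) Q (θ Q) :=
    fun {Q} hQ => (hθ Q hQ).1.mono (le_normalizerIn (isConj_le_right hQ))
  -- maps extending to larger subgroups
  have hbig : ∀ {Q R : Subgroup Ω} {f : Ω → Ω}, (gsys S p ℋ K (m + 1)).IsConj P Q → Q < R →
      IsMap (gsys S p ℋ K (m + 1)) R f → ∀ a : MulAut P,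
      (∀ x ∈ Q, ofAut a (θ Q x) = θ (Fus.img Q f) (f x)) → a ∈ gA S p K P := by
    intro Q R f hPQ hlt hf a ha
    have hRT := hf.le
    have hfR := finite_of_le hRT
    have hQT := isConj_le_right hPQ
    have hcQ : Nat.card Q = m := by rw [isConj_card_eq hPQ, hc]
    have h1 := lt_inf_normalizer (isPGroup_of_le hT hRT) hlt
    set R₁ := R ⊓ Subgroup.normalizer (Q : Set Ω) with hR₁
    have hR₁N : R₁ ≤ FusionSystem.normalizerIn S Q := fun x hx => ⟨hRT hx.1, hx.2⟩
    have hα₁ : IsMap (gsys S p ℋ K (m + 1)) R₁ f := hf.mono inf_le_left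
    have hPαQ : (gsys S p ℋ K (m + 1)).IsConj P (Fus.img Q f) := isConj_trans hPQ (hf.mono hlt.le).isConj
    obtain ⟨hθ1, hθ2⟩ := hθ Q hPQ
    obtain ⟨hθ1', hθ2'⟩ := hθ _ hPαQ
    have hθR : IsMap (gsys S p ℋ K (m + 1)) R₁ (θ Q) := hθ1.mono hR₁N
    have hcomp : IsMap (gsys S p ℋ K (m + 1)) R₁ (fun x => θ (Fus.img Q f) (f x)) :=
      hθ1'.comp hα₁ fun x hx => map_mem_normalizerIn hα₁ h1.le inf_le_right rfl hx
    have hfin := hcomp.comp_minv hθR le_rfl
    have hPR₁ : P < Fus.img R₁ (θ Q) := by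
      refine lt_of_le_of_ne ?_ fun heq => ?_
      · rw [← hθ2]; exact img_mono h1.le
      · have h4 := card_lt_of_lt (hR₁N.trans (normalizerIn_le _)) h1
        rw [← hθR.card_img, ← heq, hc, hcQ] at h4
        exact lt_irrefl _ h4
    have hval : ∀ x ∈ Q, θ (Fus.img Q f) (f (minv R₁ (θ Q) (θ Q x))) = θ (Fus.img Q f) (f x) :=
      fun x hx => by rw [hθR.minv_apply (h1.le hx)]
    refine h.compat H hm hP hc hPn _ _ _ rfl hPR₁ ?_ hfin ?_ a fun y hy => ?_
    · rw [hθR.img_le_iff]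
      exact fun x hx => map_mem_normalizerIn hθR h1.le inf_le_right hθ2 hx
    · have hfP := finite_of_le hPT
      refine (hfin.mono hPR₁.le).img_eq fun y hy => ?_
      rw [← hθ2] at hy
      obtain ⟨x, hx, rfl⟩ := (hθR.mono h1.le).mem_img.mp hy
      rw [hval x hx]
      have h3 := subset_img (f := θ (Fus.img Q f)) (subset_img (f := f) hx)
      rwa [hθ2'] at h3
    · rw [← hθ2] at hy
      obtain ⟨x, hx, rfl⟩ := (hθR.mono h1.le).mem_img.mp hy
      rw [hval x hx]
      exact ha x hx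
  have key := gsys_ind (fun Q f => (gsys S p ℋ K (m + 1)).IsConj P Q → ∀ a : MulAut P,
    (∀ x ∈ Q, ofAut a (θ Q x) = θ (Fus.img Q f) (f x)) → a ∈ gA S p K P) ?_ ?_ ?_ ?_ ?_ hα
  · have hPP : (gsys S p ℋ K (m + 1)).IsConj P P := isConj_refl hPT
    obtain ⟨h1, h2⟩ := hθ P hPP
    obtain ⟨b, hb, hbθ⟩ := (h1.mono (le_normalizerIn hPT)).exists_aut h2
    have h3 : b * α * b⁻¹ ∈ gA S p K P := key hPP _ fun x hx => by
      rw [img_ofAut, ← hbθ x hx, ← hbθ _ (ofAut_mem α hx), ofAut_mul _ _ (ofAut_mem b hx), ofAut_inv_apply b hx,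
        ofAut_mul _ _ hx]
    have hfN : Finite (FusionSystem.normalizerIn S P) := finite_of_le (normalizerIn_le P)
    have hNimg : Fus.img (FusionSystem.normalizerIn S P) (θ P) = FusionSystem.normalizerIn S P :=
      h1.img_eq fun x hx => map_mem_normalizerIn h1 (le_normalizerIn hPT) inf_le_right h2 hx
    have hginv := h1.minv_isMap
    rw [hNimg] at hginv
    have hPN : P ≤ FusionSystem.normalizerIn S P := le_normalizerIn hPT
    have hbinv : ∀ y ∈ P, ofAut b⁻¹ y = minv (FusionSystem.normalizerIn S P) (θ P) y := by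
      intro y hy
      have hy' := ofAut_mem b⁻¹ hy
      have e1 := hbθ _ hy'
      rw [ofAut_apply_inv b hy] at e1
      have e2 := h1.minv_apply (hPN hy')
      rw [← e1] at e2
      exact e2.symm
    have hPinv : Fus.img P (minv (FusionSystem.normalizerIn S P) (θ P)) = P := by
      have hfP := finite_of_le hPT
      refine (hginv.mono hPN).img_eq fun y hy => ?_
      rw [← hbinv y hy]; exact ofAut_mem _ hy
    have h4 := h.gA_norm hP hginv hPinv hbinv h3
    have e : b⁻¹ * (b * α * b⁻¹) * b⁻¹⁻¹ = α := by group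
    rwa [e] at h4
  · intro Q f g hfg h1 hPQ a ha
    refine h1 hPQ a fun x hx => ?_
    rw [ha x hx, hfg x hx, img_congr hfg]
  · intro Q g hQS hg hPQ a ha
    have hcQ : Nat.card Q = m := by rw [isConj_card_eq hPQ, hc]
    have hlt : Q < S := lt_of_le_of_ne hQS fun e => by rw [e] at hcQ; omega
    exact hbig hPQ hlt (isMap_conj le_rfl hg) a ha
  · intro R hR hRS hmR α hα hco Q hQR hPQ a ha
    have hfR := finite_of_le hRS
    have hcQ : Nat.card Q = m := by rw [isConj_card_eq hPQ, hc]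
    rcases hQR.lt_or_eq with hlt | rfl
    · have hcR : m < Nat.card R := by rw [← hcQ]; exact card_lt_of_lt hRS hlt
      exact hbig hPQ hlt (gsys_gen hR hRS hcR hα hco) a ha
    · obtain ⟨hθ1, hθ2⟩ := hθ Q hPQ
      rw [img_ofAut] at ha
      exact gK_le_gA (h.gK_transport (h.sysF (hθle hPQ)) hθ2 hR (mem_gK hα hco) fun x hx => ha x hx)
  · intro Q f g hf hg h1 h2 hPQ a ha
    have hPf := hstep hPQ hf
    have hPg := hstep hPf hg
    obtain ⟨a₁, -, ha₁⟩ := g_exists_theta hPT (isConj_le_right hPQ) hf (hθ Q hPQ) (hθ _ hPf)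
    obtain ⟨a₂, -, ha₂⟩ := g_exists_theta hPT (isConj_le_right hPf) hg (hθ _ hPf) (hθ _ hPg)
    rw [hf.img_comp] at ha
    have h7 : a = a₂ * a₁ := by
      refine ofAut_injective fun y hy => ?_
      rw [← (hθ Q hPQ).2] at hy
      obtain ⟨x, hx, rfl⟩ := (hθle hPQ).mem_img.mp hy
      have hy' : θ Q x ∈ P := by rw [← (hθ Q hPQ).2]; exact subset_img hx
      rw [ha x hx, ofAut_mul _ _ hy', ha₁ x hx, ha₂ _ (subset_img hx)]
    rw [h7]
    exact Subgroup.mul_mem _ (h2 hPf a₂ ha₂) (h1 hPQ a₁ ha₁)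
  · intro Q f hf h1 hPf a ha
    have hPQ : (gsys S p ℋ K (m + 1)).IsConj P Q := by
      have := hstep hPf hf.minv_isMap
      rwa [hf.img_minv] at this
    rw [hf.img_minv] at ha
    have h3 := h1 hPQ a⁻¹ fun x hx => by
      have h4 := ha (f x) (subset_img hx)
      rw [hf.minv_apply hx] at h4
      have hy' : θ (Fus.img Q f) (f x) ∈ P := by rw [← (hθ _ hPf).2]; exact subset_img (subset_img hx)
      rw [← h4, ofAut_inv_apply a hy']
    simpa using Subgroup.inv_mem _ h3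

theorem autGroup_eq [Finite S] [Fact p.Prime] (H : GAbove S p ℋ K m) (hm : m < Nat.card S) {P : Subgroup Ω}
    (hP : ℋ P) (hc : Nat.card P = m) (hPn : (gsys S p ℋ K (m + 1)).IsFullyNormalized P) :
    (gsys S p ℋ K m).autGroup P = gA S p K P := by
  have hPT := h.le P hP
  ext α
  rw [mem_autGroup_iff hPT]
  refine ⟨fun hα => h.aut_mem H hm hP hc hPn hα, fun hα => ?_⟩
  have h1 : gA S p K P ≤ (gsys S p ℋ K m).autGroup P := by
    refine sup_le ((Subgroup.closure_le _).2 fun κ hκ => ?_) (autInducedBy_le_autGroup hPT)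
    exact (mem_autGroup_iff hPT).2 (gsys_gen hP hPT hc.ge hκ.1 hκ.2)
  exact (mem_autGroup_iff hPT).1 (h1 hα)

theorem fullyAutomized [Finite S] [Fact p.Prime] (H : GAbove S p ℋ K m) (hm : m < Nat.card S) {P : Subgroup Ω}
    (hP : ℋ P) (hc : Nat.card P = m) (hPn : (gsys S p ℋ K (m + 1)).IsFullyNormalized P) :
    (gsys S p ℋ K m).IsFullyAutomized p P := by
  have hPT := h.le P hP
  have hfP := finite_of_le hPT
  have hfA : Finite (MulAut P) := finite_mulAut
  refine isFullyAutomized_of h.hS hPT fun L hL hLp hTL => ?_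
  rw [h.autGroup_eq H hm hP hc hPn] at hL
  subst hc
  exact ((h.syl P hP hPn).eq_of_le hL hLp hTL).ge

end GData

end Cfsg.Agent.Fus
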