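import Cfsg.Agent.Fus.ES3
set_option autoImplicit false

/-!
# Fusion systems generated by `p'`-automorphisms, IV: receptivity (helper85)
-/

namespace Cfsg.Agent.Fus

open Cfsg

variable {Ω : Type*} [Group Ω] {S : Subgroup Ω} {p : ℕ}
  {ℋ : Subgroup Ω → Prop} {K : (P : Subgroup Ω) → Subgroup (MulAut P)} {F D : FusionSystem S}

/-- `a` extends to the preimage of `C Inn(P)` -/
def GExt (D : FusionSystem S) (P : Subgroup Ω) (C : Subgroup (MulAut P)) (a : MulAut P) : Prop :=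
  ∃ g, IsMap D (kNorm S P (C ⊔ Inn P)) g ∧ ∀ x ∈ P, g x = ofAut a x

theorem gext_act {P : Subgroup Ω} (hP : P ≤ S) {B : Subgroup (MulAut P)} {g : Ω → Ω} {a : MulAut P} {κ : MulAut P}
    {n : Ω} (hg : IsMap D (kNorm S P (B ⊔ Inn P)) g) (hga : ∀ x ∈ P, g x = ofAut a x)
    (hn : n ∈ kNorm S P (B ⊔ Inn P)) (hκ : ∀ x ∈ P, ofAut κ x = n * x * n⁻¹) :
    ∀ x ∈ P, ofAut (a * κ * a⁻¹) x = g n * x * (g n)⁻¹ := by
  intro x hx
  have hx' := ofAut_mem a⁻¹ hx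
  have hnx : n * ofAut a⁻¹ x * n⁻¹ ∈ P := by rw [← hκ _ hx']; exact ofAut_mem κ hx'
  rw [ofAut_mul _ _ hx, ofAut_mul _ _ hx', hκ _ hx', ← hga _ hnx, hg.map_conj hn (le_kNorm_sup_inn hP B hx'),
    hga _ hx', ofAut_apply_inv a hx]

theorem gext_mem {P : Subgroup Ω} (hP : P ≤ S) {C C' : Subgroup (MulAut P)} {a : MulAut P} {g : Ω → Ω}
    (hg : IsMap D (kNorm S P (C ⊔ Inn P)) g) (hga : ∀ x ∈ P, g x = ofAut a x)
    (haC : ∀ κ ∈ C, a * κ * a⁻¹ ∈ C') : ∀ n ∈ kNorm S P (C ⊔ Inn P), g n ∈ kNorm S P (C' ⊔ Inn P) := by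
  intro n hn
  obtain ⟨hnT, κ, hκ, hκn⟩ := mem_kNorm.1 hn
  exact mem_kNorm.2 ⟨hg.mem hn, a * κ * a⁻¹, conj_mem_sup_inn haC κ hκ, gext_act hP hg hga hn hκn⟩

theorem gext_comp {P : Subgroup Ω} (hP : P ≤ S) {C C' : Subgroup (MulAut P)} {a b : MulAut P} (ha : GExt D P C a)
    (hb : GExt D P C' b) (haC : ∀ κ ∈ C, a * κ * a⁻¹ ∈ C') : GExt D P C (b * a) := by
  obtain ⟨g, hg, hga⟩ := ha
  obtain ⟨g', hg', hgb⟩ := hb
  refine ⟨fun x => g' (g x), hg'.comp hg (gext_mem hP hg hga haC), fun x hx => ?_⟩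
  show g' (g x) = _
  rw [hga x hx, hgb _ (ofAut_mem a hx), ofAut_mul _ _ hx]

theorem cen_le_kNorm {P : Subgroup Ω} (C : Subgroup (MulAut P)) :
    FusionSystem.centralizerIn S P ≤ kNorm S P (C ⊔ Inn P) := by
  intro c hc
  obtain ⟨hcS, hcc⟩ := mem_centralizerIn.1 hc
  refine mem_kNorm.2 ⟨hcS, 1, Subgroup.one_mem _, fun x hx => ?_⟩
  rw [ofAut_one hx, eq_mul_inv_iff_mul_eq]
  exact hcc x hx

theorem gext_inv [Finite S] {P : Subgroup Ω} (hP : P ≤ S) {C C' : Subgroup (MulAut P)} {a : MulAut P}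
    (ha : GExt D P C a) (hC : C ≤ autInducedBy S P) (haC : ∀ κ ∈ C', a⁻¹ * κ * a⁻¹⁻¹ ∈ C) : GExt D P C' a⁻¹ := by
  obtain ⟨g, hg, hga⟩ := ha
  have hkP := le_kNorm_sup_inn hP C
  have hck := cen_le_kNorm (S := S) C
  have hfC : Finite (FusionSystem.centralizerIn S P) := finite_of_le (centralizerIn_le P)
  have himgC : img (FusionSystem.centralizerIn S P) g = FusionSystem.centralizerIn S P := by
    refine (hg.mono hck).img_eq fun c hc => ?_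
    obtain ⟨hcS, hcc⟩ := mem_centralizerIn.1 hc
    have h1 := gext_act hP (κ := 1) hg hga (hck hc) fun x hx => by
      rw [ofAut_one hx, eq_mul_inv_iff_mul_eq]; exact hcc x hx
    refine mem_centralizerIn.2 ⟨hg.mem (hck hc), fun x hx => ?_⟩
    have h2 := h1 x hx
    rw [mul_one, mul_inv_cancel, ofAut_one hx, eq_mul_inv_iff_mul_eq] at h2
    exact h2
  refine ⟨minv (kNorm S P (C ⊔ Inn P)) g, hg.minv_isMap.mono fun n' hn' => ?_, fun x hx => ?_⟩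
  · obtain ⟨hn'T, κ', hκ', hκn'⟩ := mem_kNorm.1 hn'
    have h3 : a⁻¹ * κ' * a⁻¹⁻¹ ∈ C ⊔ Inn P := conj_mem_sup_inn haC κ' hκ'
    have h4 : C ⊔ Inn P ≤ autInducedBy S P := sup_le hC (inn_le_autInducedBy hP)
    obtain ⟨n, hn, hnκ⟩ := mem_autInducedBy'.1 (h4 h3)
    have hnk : n ∈ kNorm S P (C ⊔ Inn P) := mem_kNorm.2 ⟨hn, _, h3, hnκ⟩
    have h5 := gext_act hP hg hga hnk hnκ
    have e : a * (a⁻¹ * κ' * a⁻¹⁻¹) * a⁻¹ = κ' := by group
    rw [e] at h5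
    have h6 : (g n)⁻¹ * n' ∈ FusionSystem.centralizerIn S P := by
      refine mem_centralizerIn.2 ⟨S.mul_mem (S.inv_mem (hg.mem hnk)) hn'T, fun x hx => ?_⟩
      have h7 := h5 x hx
      rw [hκn' x hx] at h7
      calc x * ((g n)⁻¹ * n') = (g n)⁻¹ * (g n * x * (g n)⁻¹) * n' := by group
        _ = (g n)⁻¹ * (n' * x * n'⁻¹) * n' := by rw [h7]
        _ = _ := by group
    rw [← himgC] at h6
    obtain ⟨c, hc, hce⟩ := (hg.mono hck).mem_img.mp h6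
    have e2 : n' = g n * g c := by rw [hce]; group
    rw [e2, ← hg.map_mul hnk (hck hc)]
    exact subset_img (Subgroup.mul_mem _ hnk (hck hc))
  · have h3 := hga _ (ofAut_mem a⁻¹ hx)
    rw [ofAut_apply_inv a hx] at h3
    have h4 := hg.minv_apply (hkP (ofAut_mem a⁻¹ hx))
    rwa [h3] at h4

theorem gext_conj {P : Subgroup Ω} {C : Subgroup (MulAut P)} {a : MulAut P} (ha : a ∈ autInducedBy S P) :
    GExt D P C a := by
  obtain ⟨t, ht, hta⟩ := mem_autInducedBy'.1 ha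
  exact ⟨fun x => t * x * t⁻¹, isMap_conj kNorm_le ht, fun x hx => (hta x hx).symm⟩

namespace GData

variable (h : GData F p ℋ K) {m : ℕ}

include h

/-- `p'`-elements normalizing `C` extend -/
theorem ext_pprime [Finite S] [Fact p.Prime] {P : Subgroup Ω} (hP : ℋ P) (hc : Nat.card P = m)
    (hPn : (gsys S p ℋ K (m + 1)).IsFullyNormalized P) {a : MulAut P} (ha : a ∈ gA S p K P)
    (hco : (orderOf a).Coprime p) {C : Subgroup (MulAut P)} (hC : C ≤ autInducedBy S P)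
    (haC : ∀ κ ∈ C, a * κ * a⁻¹ ∈ C) : GExt (gsys S p ℋ K m) P C a := by
  subst hc
  have hPS := h.le P hP
  have hPQ := le_kNorm_sup_inn hPS C
  have hCT : C ⊔ Inn P ≤ autInducedBy S P := sup_le hC (inn_le_autInducedBy hPS)
  obtain ⟨κ', hκ', hco', hκx⟩ := h.ext P hP hPn a (gK_le (h.pprime_mem_gK hP ha hco)) hco (kNorm S P (C ⊔ Inn P)) hPQ
    kNorm_le_normalizerIn (cen_le_kNorm C) (fun q hq => by
      obtain ⟨hqT, κ, hκ, hκq⟩ := mem_kNorm.1 hq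
      have h1 := conj_mem_sup_inn haC κ hκ
      obtain ⟨q', hq', hq2⟩ := mem_autInducedBy'.1 (hCT h1)
      refine ⟨q', mem_kNorm.2 ⟨hq', _, h1, hq2⟩, fun x hx => ?_⟩
      rw [← hq2 _ (ofAut_mem a hx), ofAut_mul _ _ (ofAut_mem a hx), ofAut_inv_apply a hx, ofAut_mul _ _ hx,
        hκq x hx])
  have hkS : kNorm S P (C ⊔ Inn P) ≤ S := kNorm_le
  have hfk := finite_of_le hkS
  exact ⟨ofAut κ', gsys_gen (h.mono P _ hP hPQ hkS) hkS (Subgroup.card_le_of_le hPQ) hκ' hco', hκx⟩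

/-- Alperin's theorem inside `gA P`. -/
theorem alp [Finite S] [Fact p.Prime] {P : Subgroup Ω} (hP : ℋ P) (hc : Nat.card P = m)
    (hPn : (gsys S p ℋ K (m + 1)).IsFullyNormalized P) {a : MulAut P} (ha : a ∈ gA S p K P)
    {C : Subgroup (MulAut P)} (hC : C ≤ autInducedBy S P) (haC : ∀ κ ∈ C, a * κ * a⁻¹ ∈ autInducedBy S P) :
    GExt (gsys S p ℋ K m) P C a := by
  have hPS := h.le P hP
  have hfP := finite_of_le hPS
  have hfA : Finite (MulAut P) := finite_mulAut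
  set S₀ := autInducedBy S P with hS₀
  have hSA : S₀ ≤ gA S p K P := autS_le_gA
  have hSp : IsPGroup p S₀ := isPGroup_autInducedBy h.hS P
  have hsyl' : H85.SylIn p S₀ (gA S p K P) := by
    have := h.syl P hP (by rw [hc]; exact hPn)
    exact this
  have hsyl : SylIn p S₀ (gA S p K P) := by
    obtain ⟨R, hR⟩ := (H85.sylIn_iff hsyl'.le).1 hsyl'
    have h2 := Fus.sylIn_of_sylow R
    rwa [hR, Subgroup.subgroupOf_map_subtype, inf_eq_left.2 hsyl'.le] at h2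
  have hsat : (fusionSystemOfSubgroup (gA S p K P) S₀ hSA).IsSaturated p := fsos_saturated hsyl
  have spec : MapSpec S₀ (fun B φ => IsMap (fusionSystemOfSubgroup (gA S p K P) S₀ hSA) B φ ∧ ∃ a ∈ gA S p K P,
      (∀ κ ∈ B, φ κ = a * κ * a⁻¹) ∧ GExt (gsys S p ℋ K m) P B a) :=
    { congr := by
        rintro B φ ψ ⟨h1, a, ha, h2, h3⟩ hφψ
        exact ⟨h1.congr hφψ, a, ha, fun κ hκ => by rw [← hφψ κ hκ, h2 κ hκ], h3⟩
      le := fun h => h.1.le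
      mem := fun h x hx => h.1.mem hx
      mul := fun h x hx y hy => h.1.map_mul hx hy
      inj := fun h x hx y hy => h.1.inj hx hy
      conj := fun {B σ} hB hσ => ⟨isMap_conj hB hσ, σ, hSA hσ, fun _ _ => rfl, gext_conj hσ⟩
      comp := by
        rintro B B' φ ψ ⟨h1, a, ha, h2, h3⟩ ⟨k1, b, hb, k2, k3⟩ hc
        refine ⟨k1.comp h1 hc, b * a, Subgroup.mul_mem _ hb ha, fun κ hκ => ?_,
          gext_comp hPS h3 k3 fun κ hκ => by rw [← h2 κ hκ]; exact hc κ hκ⟩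
        show ψ (φ κ) = _
        rw [k2 _ (hc κ hκ), h2 κ hκ]; group
      inv := by
        rintro B φ ⟨h1, a, ha, h2, h3⟩
        refine ⟨minv B φ, fun κ hκ => h1.minv_apply hκ, h1.minv_isMap, a⁻¹, Subgroup.inv_mem _ ha, ?_,
          gext_inv hPS h3 h1.le ?_⟩
        · intro κ' hκ'
          obtain ⟨κ, hκ, rfl⟩ := h1.mem_img.mp hκ'
          rw [h1.minv_apply hκ, h2 κ hκ]; group
        · intro κ' hκ'
          obtain ⟨κ, hκ, rfl⟩ := h1.mem_img.mp hκ'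
          rw [h2 κ hκ]
          have e : a⁻¹ * (a * κ * a⁻¹) * a⁻¹⁻¹ = κ := by group
          rwa [e] }
  have hle : fusionSystemOfSubgroup (gA S p K P) S₀ hSA ≤ spec.toFS := by
    refine alperin_radical hSp hsat fun B hBn _ _ => ?_
    have hfB := finite_of_le hBn.1
    have hfAB := finite_mulAut (P := B)
    refine sylIn_le_of_pprime (fa_sylIn (sat_fullyAutomized hSp hsat hBn)) (autInducedBy_le_autGroup hBn.1) ?_
    intro β hβ hco
    rw [mem_autGroup_iff hBn.1, spec.isMap_toFS]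
    have hβm := isMap_ofAut hBn.1 hβ
    obtain ⟨-, -, a, ha, haβ⟩ := isMap_fsos.1 hβm
    obtain ⟨k, hk1, hk2⟩ := exists_pprime_pow a hco
    have haB : ∀ n : ℕ, ∀ κ ∈ B, ofAut (β ^ n) κ = a ^ n * κ * (a ^ n)⁻¹ := by
      intro n
      induction n with
      | zero => intro κ hκ; rw [pow_zero, pow_zero, ofAut_one hκ]; group
      | succ n ih =>
        intro κ hκ
        rw [pow_succ, ofAut_mul _ _ hκ, ih _ (ofAut_mem β hκ), haβ κ hκ, pow_succ]; group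
    have hβk : β ^ k = β := pow_eq_self_of_modEq (pow_orderOf_eq_one β) hk1
    have hak : ∀ κ ∈ B, ofAut β κ = a ^ k * κ * (a ^ k)⁻¹ := fun κ hκ => by
      have h1 := haB k κ hκ
      rwa [hβk] at h1
    refine ⟨hβm, a ^ k, Subgroup.pow_mem _ ha k, hak, ?_⟩
    exact h.ext_pprime hP hc hPn (Subgroup.pow_mem _ ha k) hk2 hBn.1 fun κ hκ => by
      rw [← hak κ hκ]; exact ofAut_mem β hκ
  have stepA : ∀ (C : Subgroup (MulAut P)) (a : MulAut P), C ≤ S₀ → a ∈ gA S p K P →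
      (∀ κ ∈ C, a * κ * a⁻¹ ∈ S₀) → ∃ b ∈ gA S p K P, (∀ κ ∈ C, a * κ * a⁻¹ = b * κ * b⁻¹) ∧
        GExt (gsys S p ℋ K m) P C b := by
    intro C a hC ha haC
    have h1 : IsMap (fusionSystemOfSubgroup (gA S p K P) S₀ hSA) C (fun κ => a * κ * a⁻¹) :=
      isMap_fsos.2 ⟨hC, haC, a, ha, fun _ _ => rfl⟩
    obtain ⟨-, b, hb, hba, hg⟩ := spec.isMap_toFS.mp (le_iff.mp hle C _ h1)
    exact ⟨b, hb, hba, hg⟩
  -- a nice conjugate of `C`
  obtain ⟨h₀, hh₀, hC'S, hC'syl⟩ := exists_conj_sylIn hsyl hC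
  obtain ⟨h₁, hh₁, hh₁C, hh₁e⟩ := stepA C h₀ hC hh₀ fun κ hκ => hC'S (conj_mem_cj hκ)
  obtain ⟨b, hb, hbC, hbe⟩ := stepA C a hC ha haC
  set C' := Fus.cj h₀ C with hC'
  have hC'1 : ∀ κ ∈ C, h₁ * κ * h₁⁻¹ ∈ C' := fun κ hκ => by rw [← hh₁C κ hκ]; exact conj_mem_cj hκ
  have hC'2 : ∀ κ' ∈ C', h₁⁻¹ * κ' * h₁⁻¹⁻¹ ∈ C := fun κ' hκ' => by
    obtain ⟨κ, hκ, rfl⟩ := hκ'
    have e : h₁⁻¹ * (MulAut.conj h₀).toMonoidHom κ * h₁⁻¹⁻¹ = κ := by
      show h₁⁻¹ * (h₀ * κ * h₀⁻¹) * h₁⁻¹⁻¹ = κ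
      rw [hh₁C κ hκ]; group
    rw [e]; exact hκ
  -- centralizing elements
  have hsylN : H85.SylIn p (FusionSystem.normalizerIn S₀ C') (FusionSystem.normalizerIn (gA S p K P) C') := by
    refine (H85.sylIn_iff hC'syl.le).2 ⟨hC'syl.toSylow, hC'syl.coe_toSylow⟩
  have hcn : FusionSystem.normalizerIn (gA S p K P) C' ≤
      Subgroup.normalizer (FusionSystem.centralizerIn (gA S p K P) C' : Set (MulAut P)) := by
    refine conj_le_normalizer_of fun n hn c hc => ?_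
    obtain ⟨hc1, hc2⟩ := mem_centralizerIn.1 hc
    refine mem_centralizerIn.2 ⟨Subgroup.mul_mem _ (Subgroup.mul_mem _ hn.1 hc1) (Subgroup.inv_mem _ hn.1),
      fun κ hκ => ?_⟩
    have h1 : n⁻¹ * κ * n ∈ C' := by
      have := (Subgroup.mem_normalizer_iff.1 (Subgroup.inv_mem _ hn.2) κ).1 hκ
      rwa [inv_inv] at this
    have h2 := hc2 _ h1
    calc κ * (n * c * n⁻¹) = n * (n⁻¹ * κ * n * c) * n⁻¹ := by group
      _ = n * (c * (n⁻¹ * κ * n)) * n⁻¹ := by rw [h2]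
      _ = _ := by group
  have hsylC := hsylN.inf_normal (N := FusionSystem.centralizerIn (gA S p K P) C')
    (fun c hc => by
      obtain ⟨hc1, hc2⟩ := mem_centralizerIn.1 hc
      refine ⟨hc1, mem_normalizer_of_conj fun κ hκ => ?_⟩
      have : c * κ * c⁻¹ = κ := by rw [← hc2 κ hκ]; group
      rwa [this]) hcn
  have hcomm : ∀ {c : MulAut P}, c ∈ FusionSystem.centralizerIn (gA S p K P) C' → ∀ κ ∈ C', c * κ * c⁻¹ = κ := by
    intro c hc κ hκ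
    rw [← (mem_centralizerIn.1 hc).2 κ hκ]; group
  let J : Subgroup (MulAut P) :=
    { carrier := {c | c ∈ FusionSystem.centralizerIn (gA S p K P) C' ∧ GExt (gsys S p ℋ K m) P C' c}
      one_mem' := ⟨Subgroup.one_mem _, gext_conj (Subgroup.one_mem _)⟩
      mul_mem' := by
        rintro c d ⟨h1, h2⟩ ⟨h3, h4⟩
        exact ⟨Subgroup.mul_mem _ h1 h3, gext_comp hPS h4 h2 fun κ hκ => by rw [hcomm h3 κ hκ]; exact hκ⟩
      inv_mem' := by
        rintro c ⟨h1, h2⟩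
        refine ⟨Subgroup.inv_mem _ h1, gext_inv hPS h2 hC'S fun κ hκ => ?_⟩
        rw [hcomm (Subgroup.inv_mem _ h1) κ hκ]; exact hκ }
  have hJ : FusionSystem.centralizerIn (gA S p K P) C' ≤ J := by
    refine sylIn_le_of_pprime hsylC ?_ ?_
    · rintro c ⟨h1, h2⟩
      exact ⟨h2, gext_conj h1.1⟩
    · intro c hcc hco
      refine ⟨hcc, h.ext_pprime hP hc hPn (mem_centralizerIn.1 hcc).1 hco hC'S fun κ hκ => ?_⟩
      rw [hcomm hcc κ hκ]; exact hκ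
  -- conclusion
  have hcC : ∀ κ ∈ C, b⁻¹ * a * κ * (b⁻¹ * a)⁻¹ = κ := by
    intro κ hκ
    have e : b⁻¹ * a * κ * (b⁻¹ * a)⁻¹ = b⁻¹ * (a * κ * a⁻¹) * b := by group
    rw [e, hbC κ hκ]; group
  have hc' : h₁ * (b⁻¹ * a) * h₁⁻¹ ∈ FusionSystem.centralizerIn (gA S p K P) C' := by
    refine mem_centralizerIn.2 ⟨Subgroup.mul_mem _ (Subgroup.mul_mem _ hh₁ (Subgroup.mul_mem _ (Subgroup.inv_mem _ hb)
      ha)) (Subgroup.inv_mem _ hh₁), fun κ' hκ' => ?_⟩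
    have h1 := hcC _ (hC'2 κ' hκ')
    rw [mul_inv_eq_iff_eq_mul] at h1
    calc κ' * (h₁ * (b⁻¹ * a) * h₁⁻¹) = h₁ * (h₁⁻¹ * κ' * h₁⁻¹⁻¹ * (b⁻¹ * a)) * h₁⁻¹ := by group
      _ = h₁ * (b⁻¹ * a * (h₁⁻¹ * κ' * h₁⁻¹⁻¹)) * h₁⁻¹ := by rw [h1]
      _ = _ := by group
  have hd : ∀ κ ∈ C, h₁ * (b⁻¹ * a) * h₁⁻¹ * h₁ * κ * (h₁ * (b⁻¹ * a) * h₁⁻¹ * h₁)⁻¹ ∈ C' := by
    intro κ hκ
    have e : h₁ * (b⁻¹ * a) * h₁⁻¹ * h₁ * κ * (h₁ * (b⁻¹ * a) * h₁⁻¹ * h₁)⁻¹ =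
        h₁ * (b⁻¹ * a * κ * (b⁻¹ * a)⁻¹) * h₁⁻¹ := by group
    rw [e, hcC κ hκ]
    exact hC'1 κ hκ
  have hinv : GExt (gsys S p ℋ K m) P C' h₁⁻¹ := gext_inv hPS hh₁e hC hC'2
  have hgc : GExt (gsys S p ℋ K m) P C (h₁⁻¹ * (h₁ * (b⁻¹ * a) * h₁⁻¹ * h₁)) :=
    gext_comp hPS (gext_comp hPS hh₁e (hJ hc').2 hC'1) hinv hd
  have e1 : h₁⁻¹ * (h₁ * (b⁻¹ * a) * h₁⁻¹ * h₁) = b⁻¹ * a := by group
  rw [e1] at hgc
  have hfin := gext_comp hPS hgc hbe fun κ hκ => by rw [hcC κ hκ]; exact hκ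
  have e2 : b * (b⁻¹ * a) = a := by group
  rwa [e2] at hfin

/-- `P` is receptive. -/
theorem receptive [Finite S] [Fact p.Prime] (H : GAbove S p ℋ K m) (hm : m < Nat.card S) {P : Subgroup Ω} (hP : ℋ P)
    (hc : Nat.card P = m) (hPn : (gsys S p ℋ K (m + 1)).IsFullyNormalized P) : (gsys S p ℋ K m).IsReceptive P := by
  have hPT := h.le P hP
  have hfP := finite_of_le hPT
  rw [isReceptive_iff]
  refine ⟨hPT, fun P₁ f hf hfP₁ N hPN hN => ?_⟩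
  have hP₁T : P₁ ≤ S := hf.le
  have hfP₁f := finite_of_le hP₁T
  have hcP₁ : Nat.card P₁ = m := by rw [← hf.card_img, hfP₁, hc]
  have hP₁P : (gsys S p ℋ K (m + 1)).IsConj P₁ P := gsys_conj_of_card (isConj_iff.mpr ⟨f, hf, hfP₁⟩) hcP₁
  obtain ⟨θ, hθ1, hθ2⟩ := h.link H hm hP hc hPn (isConj_symm hP₁P)
  have hθP₁ : IsMap (gsys S p ℋ K m) P₁ θ := gsys_up (Nat.le_succ m) (hθ1.mono (le_normalizerIn hP₁T))
  have hNN : N ≤ FusionSystem.normalizerIn S P₁ := fun n hn => ⟨(hN n hn).1, (hN n hn).2.1⟩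
  have hθN : IsMap (gsys S p ℋ K m) N θ := gsys_up (Nat.le_succ m) (hθ1.mono hNN)
  have hex : ∀ y ∈ P, ∃ x ∈ P₁, θ x = y := fun y hy => hθP₁.mem_img.mp (by rw [hθ2]; exact hy)
  -- the automorphism `a = f θ⁻¹`
  have h2 := hf.comp_minv hθP₁ le_rfl
  rw [hθ2] at h2
  have himg : Fus.img P (fun y => f (minv P₁ θ y)) = P := by
    refine h2.img_eq fun y hy => ?_
    rw [← hθ2] at hy
    obtain ⟨x, hx, rfl⟩ := hθP₁.mem_img.mp hy
    rw [hθP₁.minv_apply hx]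
    have h3 := subset_img (f := f) hx
    rwa [hfP₁] at h3
  obtain ⟨a, haF, haf⟩ := h2.exists_aut himg
  have haA : a ∈ gA S p K P := by rwa [h.autGroup_eq H hm hP hc hPn] at haF
  have haθ : ∀ x ∈ P₁, ofAut a (θ x) = f x := by
    intro x hx
    have hy : θ x ∈ P := by rw [← hθ2]; exact subset_img hx
    rw [haf _ hy, hθP₁.minv_apply hx]
  -- the group `C`
  have hθn : ∀ n ∈ N, θ n ∈ Subgroup.normalizer (P : Set Ω) := fun n hn =>
    (map_mem_normalizerIn hθN hPN (hNN.trans inf_le_right) hθ2 hn).2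
  obtain ⟨g, hg, hga⟩ := h.alp hP hc hPn haA (C := autInducedBy (Fus.img N θ) P)
    (autInducedBy_mono hθN.img_le) (fun κ hκ => by
      obtain ⟨y, hy, hyκ⟩ := mem_autInducedBy'.1 hκ
      obtain ⟨n, hn, rfl⟩ := hθN.mem_img.mp hy
      obtain ⟨-, hnN, t, ht, htn⟩ := hN n hn
      refine mem_autInducedBy'.2 ⟨t, ht, fun z hz => ?_⟩
      have hz' := ofAut_mem a⁻¹ hz
      obtain ⟨x, hx, hxz⟩ := hex _ hz'
      have hnx : n * x * n⁻¹ ∈ P₁ := (Subgroup.mem_normalizer_iff.1 hnN x).1 hx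
      rw [ofAut_mul _ _ hz, ofAut_mul _ _ hz', hyκ _ hz', ← hxz, ← hθN.map_conj hn (hPN hx), haθ _ hnx, htn x hx,
        ← haθ x hx, hxz, ofAut_apply_inv a hz])
  refine ⟨fun x => g (θ x), hg.comp hθN fun n hn => ?_, fun x hx => ?_⟩
  · exact mem_kNorm.2 ⟨hθN.mem hn, conjAut (θ n) (hθn n hn),
      Subgroup.mem_sup_left (conjAut_mem (subset_img hn) _), fun x hx => ofAut_conjAut _ _ hx⟩
  · have hy : θ x ∈ P := by rw [← hθ2]; exact subset_img hx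
    show g (θ x) = _
    rw [hga _ hy, haθ x hx]

end GData

end Cfsg.Agent.Fus
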