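import Cfsg.Agent.Fus.ES4
set_option autoImplicit false

/-!
# Fusion systems generated by `p'`-automorphisms, V: the main theorem (helper85)
-/

namespace Cfsg.Agent.Fus

open Cfsg

variable {Ω : Type*} [Group Ω] {S : Subgroup Ω} {p : ℕ}
  {ℋ : Subgroup Ω → Prop} {K : (P : Subgroup Ω) → Subgroup (MulAut P)} {F : FusionSystem S}

namespace GData

variable (h : GData F p ℋ K)

include h

theorem top_aut [Finite S] {f : Ω → Ω} (hf : IsMap (gsys S p ℋ K (Nat.card S)) S f) :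
    ∃ α ∈ gA S p K S, ∀ x ∈ S, f x = ofAut α x := by
  refine gsys_ind (fun P f => P = S → ∃ α ∈ gA S p K S, ∀ x ∈ S, f x = ofAut α x) ?_ ?_ ?_ ?_ ?_ hf rfl
  · rintro P f g hfg h1 rfl
    obtain ⟨α, hα, h2⟩ := h1 rfl
    exact ⟨α, hα, fun x hx => by rw [← hfg x hx, h2 x hx]⟩
  · rintro P g hPS hg rfl
    have hgn : g ∈ Subgroup.normalizer (P : Set Ω) := Subgroup.le_normalizer hg
    exact ⟨conjAut g hgn, autS_le_gA (conjAut_mem hg hgn), fun x hx => (ofAut_conjAut g hgn hx).symm⟩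
  · rintro R hR hRS hc α hα hco P hPR rfl
    have hR' : R = P := le_antisymm hRS hPR
    subst hR'
    exact ⟨α, gK_le_gA (mem_gK hα hco), fun x hx => rfl⟩
  · rintro P f g hf hg h1 h2 rfl
    obtain ⟨α, hα, h3⟩ := h1 rfl
    have himg : Fus.img P f = P := hf.img_eq fun x hx => hf.mem hx
    obtain ⟨β, hβ, h4⟩ := h2 himg
    refine ⟨β * α, Subgroup.mul_mem _ hβ hα, fun x hx => ?_⟩
    show g (f x) = _
    rw [h3 x hx, h4 _ (ofAut_mem α hx), ofAut_mul _ _ hx]
  · intro P f hf h1 hPT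
    have hP : P = S := by
      refine Subgroup.eq_of_le_of_card_ge hf.le ?_
      rw [← hf.card_img, hPT]
    obtain ⟨α, hα, h3⟩ := h1 hP
    refine ⟨α⁻¹, Subgroup.inv_mem _ hα, fun x hx => ?_⟩
    have h4 := h3 _ (ofAut_mem α⁻¹ hx)
    rw [ofAut_apply_inv α hx] at h4
    have h5 : ofAut α⁻¹ x ∈ P := by rw [hP]; exact ofAut_mem _ hx
    have h6 := hf.minv_apply h5
    rwa [h4] at h6

/-- the top level -/
theorem above_pred_top [Finite S] [Fact p.Prime] {m : ℕ} (hm : m + 1 = Nat.card S) : GAbove S p ℋ K m := by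
  intro R hR hc
  have hRS : R = S := Subgroup.eq_of_le_of_card_ge (h.le R hR) (by omega)
  subst hRS
  have hA : ∀ α : MulAut R, IsMap (gsys R p ℋ K (m + 1)) R (ofAut α) → α ∈ gA R p K R := by
    intro α hα
    rw [hm] at hα
    obtain ⟨β, hβ, h1⟩ := h.top_aut hα
    have : α = β := ofAut_injective h1
    rwa [this]
  have hfA : Finite (MulAut R) := finite_mulAut
  refine ⟨R, isConj_refl le_rfl, isFullyAutomized_of h.hS le_rfl fun L hL hLp hTL => ?_, LocData.top_receptive _, hA⟩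
  exact ((h.syl R hR isFullyNormalized_self).eq_of_le (fun κ hκ => hA κ (isMap_ofAut le_rfl (hL hκ))) hLp hTL).ge

/-- going down one level -/
theorem above_pred [Finite S] [Fact p.Prime] {m : ℕ} (hm : m + 1 < Nat.card S)
    (H : GAbove S p ℋ K (m + 1)) : GAbove S p ℋ K m := by
  have hup : ∀ {P : Subgroup Ω} {f : Ω → Ω}, IsMap (gsys S p ℋ K (m + 1 + 1)) P f → IsMap (gsys S p ℋ K (m + 1)) P f :=
    fun hf => gsys_up (Nat.le_succ _) hf
  have hupC : ∀ {P Q : Subgroup Ω}, (gsys S p ℋ K (m + 1 + 1)).IsConj P Q → (gsys S p ℋ K (m + 1)).IsConj P Q := by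
    intro P Q hPQ
    obtain ⟨f, hf, hfQ⟩ := isConj_iff.mp hPQ
    exact isConj_iff.mpr ⟨f, hup hf, hfQ⟩
  intro R hR hc
  rcases Nat.lt_or_ge (m + 1) (Nat.card R) with hlt | hge
  · obtain ⟨R', hRR', ha, hr, hA⟩ := H R hR hlt
    have hc' : m + 1 < Nat.card R' := by rw [isConj_card_eq hRR']; exact hlt
    have hR'T : R' ≤ S := hr.1
    have haut : (gsys S p ℋ K (m + 1)).autGroup R' = (gsys S p ℋ K (m + 1 + 1)).autGroup R' := by
      ext α
      rw [mem_autGroup_iff hR'T, mem_autGroup_iff hR'T]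
      exact ⟨fun h1 => gsys_of_card h1 hc', hup⟩
    refine ⟨R', hupC hRR', ?_, ?_, fun α hα => hA α (gsys_of_card hα hc')⟩
    · refine isFullyAutomized_of h.hS hR'T fun L hL hLp hTL => ?_
      rw [haut] at hL
      exact IsFullyAutomized.le_of_isPGroup ha hL hLp hTL
    · rw [isReceptive_iff] at hr ⊢
      refine ⟨hR'T, fun P f hf hfP N hPN hN => ?_⟩
      obtain ⟨g, hg, hgf⟩ := hr.2 P f (gsys_of_card hf (by rw [← hf.card_img, hfP]; exact hc')) hfP N hPN hN
      exact ⟨g, hup hg, hgf⟩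
  · have hcR : Nat.card R = m + 1 := by omega
    obtain ⟨P, hRP, hPn⟩ := exists_fullyNormalized (F := gsys S p ℋ K (m + 1 + 1)) (h.le R hR)
    have hP : ℋ P := (h.conj_iff hRP).1 hR
    have hcP : Nat.card P = m + 1 := by rw [isConj_card_eq hRP, hcR]
    exact ⟨P, hupC hRP, h.fullyAutomized H hm hP hcP hPn, h.receptive H hm hP hcP hPn,
      fun α hα => h.aut_mem H hm hP hcP hPn hα⟩

theorem above [Finite S] [Fact p.Prime] : GAbove S p ℋ K 0 := by
  have hpos : 0 < Nat.card S := Nat.card_pos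
  obtain ⟨n, hn⟩ : ∃ n, Nat.card S = n + 1 := ⟨Nat.card S - 1, by omega⟩
  have key : ∀ k ≤ n, GAbove S p ℋ K (n - k) := by
    intro k
    induction k with
    | zero => intro _; exact h.above_pred_top hn.symm
    | succ k ih =>
      intro hk
      have h1 := ih (by omega)
      have e : n - k = (n - (k + 1)) + 1 := by omega
      rw [e] at h1
      exact h.above_pred (by omega) h1
  have := key n le_rfl
  rwa [Nat.sub_self] at this

/-- The generated system is saturated. -/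
theorem saturated [Finite S] [Fact p.Prime]
    (hstar : ∀ P : Subgroup Ω, (gsys S p ℋ K 1).IsCentric P → ¬ ℋ P → ∃ Q, (gsys S p ℋ K 1).IsConj P Q ∧
      ¬ (autInducedBy S Q ⊓ (pCore p ↥((gsys S p ℋ K 1).autGroup Q)).map ((gsys S p ℋ K 1).autGroup Q).subtype
        ≤ Inn Q)) :
    (gsys S p ℋ K 1).IsSaturated p := by
  refine isSaturated_of_family h.hS {P | ℋ P} (fun P hP Q hPQ => (h.conj_iff hPQ).1 hP) (fun P hP => ?_) ?_
    (fun P hP hPH => hstar P hP hPH)
  · have := finite_of_le (h.le P hP)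
    obtain ⟨R', h1, h2, h3, -⟩ := h.above P hP Nat.card_pos
    exact ⟨R', h1, h2, h3⟩
  · intro E hE
    refine gsys_min fun P hP hPS _ α hα hco => ?_
    have := finite_of_le hPS
    obtain ⟨φ, hφ, hφα⟩ := gsys_gen (n := 1) hP hPS Nat.card_pos hα hco
    exact ⟨φ, hE P hP hφ, hφα⟩

/-- automorphism groups, up to conjugation -/
theorem exists_conj_aut [Finite S] [Fact p.Prime] {P : Subgroup Ω} (hP : ℋ P) :
    ∃ Q, (gsys S p ℋ K 1).IsConj P Q ∧ (gsys S p ℋ K 1).autGroup Q ≤ gA S p K Q := by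
  have := finite_of_le (h.le P hP)
  obtain ⟨Q, h1, h2, -, h4⟩ := h.above P hP Nat.card_pos
  exact ⟨Q, h1, fun α hα => h4 α (isMap_ofAut h2.1 hα)⟩

/-- `p'`-elements of the automorphism groups lie in `K` -/
theorem pprime_mem [Finite S] [Fact p.Prime] {P : Subgroup Ω} (hP : ℋ P) {α : MulAut P}
    (hα : α ∈ (gsys S p ℋ K 1).autGroup P) (hco : (orderOf α).Coprime p) : α ∈ gK p K P := by
  obtain ⟨Q, hPQ, hA⟩ := h.exists_conj_aut hP
  obtain ⟨f, hf, hfQ⟩ := isConj_iff.1 hPQ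
  have hQ := (h.conj_iff hPQ).1 hP
  have h1 := h.pprime_mem_gK hQ (hA (hf.trans_mem hfQ hα)) (by rw [trans_orderOf]; exact hco)
  have hfi := hf.minv_isMap
  rw [hfQ] at hfi
  have hi : Fus.img Q (minv P f) = P := by rw [← hfQ]; exact hf.img_minv
  refine h.gK_transport (h.sysF hfi) hi hQ h1 fun y hy => ?_
  rw [← hfQ] at hy
  obtain ⟨x, hx, rfl⟩ := hf.mem_img.mp hy
  rw [hf.minv_apply hx, hf.ofAut_trans hfQ α hx, hf.minv_apply (ofAut_mem α hx)]

end GData

end Cfsg.Agent.Fus
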