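import Cfsg.Agent.Fus.GoodUniq
import Cfsg.Agent.Fus.Lift1
import Cfsg.Agent.Fus.CharPLoc
set_option autoImplicit false

/-!
# Extension of automorphisms of `P C_S(P)` that are trivial modulo `P` (helper85)
-/

namespace Cfsg.Agent.Fus

open Cfsg Cfsg.FusionSystem Cfsg.Agent.H85

variable {Ω : Type*} [Group Ω] {S T : Subgroup Ω} {F : FusionSystem S} {E : FusionSystem T} {p : ℕ}

/-- `P C_S(P)` is centric for `P` fully centralized -/
theorem fc_sup_centric [Finite S] {P : Subgroup Ω} (hP : F.IsFullyCentralized P) :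
    F.IsCentric (P ⊔ centralizerIn S P) := by
  have hPS := hP.1
  have hCS : centralizerIn S P ≤ S := centralizerIn_le P
  refine ⟨sup_le hPS hCS, fun R hR => ?_⟩
  obtain ⟨f, hf, rfl⟩ := isConj_iff.1 hR
  have hPR : P ≤ P ⊔ centralizerIn S P := le_sup_left
  have hCR : centralizerIn S P ≤ P ⊔ centralizerIn S P := le_sup_right
  have hfP := hf.mono hPR
  have hfC := hf.mono hCR
  have h1 : img (centralizerIn S P) f ≤ centralizerIn S (img P f) := by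
    rw [hfC.img_le_iff]
    intro c hc
    exact mem_centralizerIn.2 ⟨hf.mem (hCR hc), hf.map_centralizer hPR (hCR hc) (mem_centralizerIn.1 hc).2⟩
  have h2 : img (centralizerIn S P) f = centralizerIn S (img P f) := by
    have := finite_of_le (centralizerIn_le (S := S) (img P f))
    refine Subgroup.eq_of_le_of_card_ge h1 ?_
    rw [hfC.card_img]
    exact hP.2 _ hfP.isConj
  refine (centralizerIn_anti (img_mono hPR)).trans ?_
  rw [← h2]
  exact img_mono hCR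

/-- maps on `P C_S(P)` trivial on `P` and modulo `P` are conjugations -/
theorem triv_eq_conj [Finite S] [Fact p.Prime] (hS : IsPGroup p S) (hF : F.IsSaturated p) {P : Subgroup Ω}
    (hP : F.IsFullyCentralized P) {μ : Ω → Ω} (hμ : IsMap F (P ⊔ centralizerIn S P) μ) (h1 : ∀ x ∈ P, μ x = x)
    (h2 : ∀ c ∈ centralizerIn S P, c⁻¹ * μ c ∈ P) :
    ∃ d ∈ centralizerIn S P, ∀ x ∈ P ⊔ centralizerIn S P, μ x = d * x * d⁻¹ := by
  have hPS := hP.1
  have hfP := finite_of_le hPS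
  have hCS : centralizerIn S P ≤ S := centralizerIn_le P
  have hfC := finite_of_le hCS
  have hCp : IsPGroup p ↥(centralizerIn S P) := isPGroup_of_le hS hCS
  have hfA := finite_mulAut (P := centralizerIn S P)
  obtain ⟨D, hD⟩ := exists_isCentralizerSystem F hPS
  have hDs := centralizerSystem_saturated hS hF hP hD
  have hPR : P ≤ P ⊔ centralizerIn S P := le_sup_left
  have hCR : centralizerIn S P ≤ P ⊔ centralizerIn S P := le_sup_right
  have himgP : img P μ = P := (hμ.mono hPR).img_eq fun x hx => by rw [h1 x hx]; exact hx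
  have hμC : ∀ c ∈ centralizerIn S P, μ c ∈ centralizerIn S P := by
    intro c hc
    refine mem_centralizerIn.2 ⟨hμ.mem (hCR hc), fun y hy => ?_⟩
    have h3 := hμ.map_centralizer (P := P) hPR (hCR hc) (mem_centralizerIn.1 hc).2
    rw [himgP] at h3
    exact h3 y hy
  have hμD : IsMap D (centralizerIn S P) μ :=
    (isMap_centralizerSystem hD).2 ⟨le_rfl, hμC, μ, by rwa [sup_comm], fun _ _ => rfl, h1⟩
  obtain ⟨κ, hκ, hκμ⟩ := hμD.exists_aut (hμD.img_eq hμC)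
  let K : Subgroup (MulAut ↥(centralizerIn S P)) :=
    { carrier := {κ | κ ∈ D.autGroup (centralizerIn S P) ∧ ∀ c ∈ centralizerIn S P, c⁻¹ * ofAut κ c ∈ P}
      one_mem' := ⟨Subgroup.one_mem _, fun c hc => by rw [ofAut_one hc, inv_mul_cancel]; exact P.one_mem⟩
      mul_mem' := by
        rintro a b ⟨ha, ha2⟩ ⟨hb, hb2⟩
        refine ⟨Subgroup.mul_mem _ ha hb, fun c hc => ?_⟩
        rw [ofAut_mul _ _ hc]
        have h5 := P.mul_mem (hb2 c hc) (ha2 _ (ofAut_mem b hc))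
        have e : c⁻¹ * ofAut b c * ((ofAut b c)⁻¹ * ofAut a (ofAut b c)) = c⁻¹ * ofAut a (ofAut b c) := by group
        rwa [e] at h5
      inv_mem' := by
        rintro a ⟨ha, ha2⟩
        refine ⟨Subgroup.inv_mem _ ha, fun c hc => ?_⟩
        have h5 := P.inv_mem (ha2 _ (ofAut_mem a⁻¹ hc))
        rw [ofAut_apply_inv a hc] at h5
        have e : ((ofAut a⁻¹ c)⁻¹ * c)⁻¹ = c⁻¹ * ofAut a⁻¹ c := by group
        rwa [e] at h5 }
  have hDfix : ∀ {Q : Subgroup Ω} {f : Ω → Ω}, IsMap D Q f → ∀ x ∈ Q, x ∈ P → f x = x := by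
    intro Q f hf x hx hxP
    obtain ⟨-, -, g, hg, hgf, hgP⟩ := (isMap_centralizerSystem hD).1 hf
    rw [← hgf x hx, hgP x hxP]
  have hKp : IsPGroup p K := by
    refine isPGroup_of_exists_pow fun κ hκ => ?_
    refine pow_eq_one_of_stab hCp (P := centralizerIn S P) (Q := P ⊓ centralizerIn S P) le_rfl inf_le_right
      (fun x hx => ?_) fun x hx => ⟨hκ.2 x hx, ?_⟩
    · exact hDfix (isMap_ofAut le_rfl hκ.1) x hx.2 hx.1
    · exact Subgroup.mul_mem _ (Subgroup.inv_mem _ hx) (ofAut_mem κ hx)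
  have hKn : D.autGroup (centralizerIn S P) ≤ Subgroup.normalizer (K : Set (MulAut ↥(centralizerIn S P))) := by
    refine conj_le_normalizer_of fun α hα κ hκ => ⟨Subgroup.mul_mem _ (Subgroup.mul_mem _ hα hκ.1)
      (Subgroup.inv_mem _ hα), fun c hc => ?_⟩
    have hαm := isMap_ofAut le_rfl hα
    have hc' := ofAut_mem α⁻¹ hc
    have h5 := hκ.2 _ hc'
    have h6 : (ofAut α⁻¹ c)⁻¹ * ofAut κ (ofAut α⁻¹ c) ∈ centralizerIn S P :=
      Subgroup.mul_mem _ (Subgroup.inv_mem _ hc') (ofAut_mem κ hc')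
    have h7 := hDfix hαm _ h6 h5
    rw [ofAut_map_mul α (Subgroup.inv_mem _ hc') (ofAut_mem κ hc'), ofAut_map_inv α hc', ofAut_apply_inv α hc] at h7
    rw [ofAut_mul _ _ hc, ofAut_mul _ _ hc', h7]
    exact h5
  have htop := isFullyNormalized_of_sc (F := D) (T := centralizerIn S P)
    (stronglyClosed_iff.2 ⟨le_rfl, fun Q f hf _ x hx => hf.mem hx⟩)
  have hsyl := fa_sylIn (sat_fullyAutomized hCp hDs htop)
  have hKI := hsyl.le_of_normal (fun κ (hκ : κ ∈ K) => hκ.1) hKp hKn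
  have hκK : κ ∈ K := ⟨hκ, fun c hc => by rw [hκμ c hc]; exact h2 c hc⟩
  obtain ⟨d, hd, hdκ⟩ := mem_autInducedBy'.1 (hKI hκK)
  refine ⟨d, hd, fun x hx => ?_⟩
  have hdS := hCS hd
  have hCN : centralizerIn S P ≤ Subgroup.normalizer (P : Set Ω) :=
    (centralizerIn_le_normalizerIn P).trans inf_le_right
  obtain ⟨y, hy, c, hc, rfl⟩ := (mem_sup_iff_of_normalizes hCN).1 hx
  rw [hμ.map_mul (hPR hy) (hCR hc), h1 y hy, ← hκμ c hc, hdκ c hc]
  have h8 : y * d = d * y := (mem_centralizerIn.1 hd).2 y hy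
  calc y * (d * c * d⁻¹) = (y * d) * c * d⁻¹ := by group
    _ = (d * y) * c * d⁻¹ := by rw [h8]
    _ = d * (y * c) * d⁻¹ := by group

/-- Extension of automorphisms of `P C_S(P)` trivial modulo `P` to `P C_S(P) B`. -/
theorem exists_lift_ext [Finite S] [Fact p.Prime] (hS : IsPGroup p S) (hF : F.IsSaturated p) {P B : Subgroup Ω}
    (hP : F.IsFullyCentralized P) {κ : MulAut ↥(P ⊔ centralizerIn S P)} (hκ : κ ∈ F.autGroup (P ⊔ centralizerIn S P))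
    (hκP : ∀ x ∈ P, ofAut κ x ∈ P) (hκC : ∀ c ∈ centralizerIn S P, c⁻¹ * ofAut κ c ∈ P)
    (hco : (orderOf κ).Coprime p) (hBN : B ≤ normalizerIn S P)
    (hB : ∀ b ∈ B, ∃ b' ∈ (P ⊔ centralizerIn S P) ⊔ B, (∀ x ∈ P, ofAut κ (b * x * b⁻¹) = b' * ofAut κ x * b'⁻¹) ∧
      ∀ c ∈ centralizerIn S P, (b' * c * b'⁻¹) * (b * c * b⁻¹)⁻¹ ∈ P) :
    ∃ κ' ∈ F.autGroup ((P ⊔ centralizerIn S P) ⊔ B), (orderOf κ').Coprime p ∧
      (∀ x ∈ P ⊔ centralizerIn S P, ofAut κ' x = ofAut κ x) ∧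
      ∀ b ∈ B, ∀ b' ∈ S, (∀ x ∈ P, ofAut κ (b * x * b⁻¹) = b' * ofAut κ x * b'⁻¹) →
        b'⁻¹ * ofAut κ' b ∈ centralizerIn S P := by
  have hPS := hP.1
  have hfP := finite_of_le hPS
  have hCS : centralizerIn S P ≤ S := centralizerIn_le P
  have hCN : centralizerIn S P ≤ normalizerIn S P := centralizerIn_le_normalizerIn P
  have hPN : P ≤ normalizerIn S P := le_normalizerIn hPS
  have hRN : P ⊔ centralizerIn S P ≤ normalizerIn S P := sup_le hPN hCN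
  have hPR : P ≤ P ⊔ centralizerIn S P := le_sup_left
  have hCR : centralizerIn S P ≤ P ⊔ centralizerIn S P := le_sup_right
  have hRcen := fc_sup_centric hP
  have hRS := hRcen.1
  have hRrec := receptive_of_isCentric hS hF hRcen
  have hWN : (P ⊔ centralizerIn S P) ⊔ B ≤ normalizerIn S P := sup_le hRN hBN
  have hWS := hWN.trans (normalizerIn_le P)
  have hκm := isMap_ofAut hRS hκ
  -- elements of `N_S(P)` normalize `C_S(P)` and `P C_S(P)`
  have hnP : ∀ n ∈ normalizerIn S P, ∀ x ∈ P, n * x * n⁻¹ ∈ P := fun n hn x hx =>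
    (Subgroup.mem_normalizer_iff.1 hn.2 x).1 hx
  have hnC : ∀ n ∈ normalizerIn S P, ∀ c ∈ centralizerIn S P, n * c * n⁻¹ ∈ centralizerIn S P := by
    intro n hn c hc
    refine mem_centralizerIn.2 ⟨S.mul_mem (S.mul_mem hn.1 (hCS hc)) (S.inv_mem hn.1), fun y hy => ?_⟩
    have h1 : n⁻¹ * y * n⁻¹⁻¹ ∈ P := hnP n⁻¹ (Subgroup.inv_mem _ hn) y hy
    have h2 := (mem_centralizerIn.1 hc).2 _ h1
    calc y * (n * c * n⁻¹) = n * ((n⁻¹ * y * n⁻¹⁻¹) * c) * n⁻¹ := by group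
      _ = n * (c * (n⁻¹ * y * n⁻¹⁻¹)) * n⁻¹ := by rw [h2]
      _ = n * c * n⁻¹ * y := by group
  have hnR : ∀ n ∈ normalizerIn S P, n ∈ Subgroup.normalizer ((P ⊔ centralizerIn S P : Subgroup Ω) : Set Ω) := by
    intro n hn
    have hfR := finite_of_le hRS
    refine mem_normalizer_of_conj fun x hx => ?_
    obtain ⟨y, hy, c, hc, rfl⟩ := (mem_sup_iff_of_normalizes (hCN.trans inf_le_right)).1 hx
    have e : n * (y * c) * n⁻¹ = (n * y * n⁻¹) * (n * c * n⁻¹) := by group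
    rw [e]
    exact Subgroup.mul_mem _ (hPR (hnP n hn y hy)) (hCR (hnC n hn c hc))
  have hκC' : ∀ c ∈ centralizerIn S P, ofAut κ c ∈ centralizerIn S P := by
    intro c hc
    refine mem_centralizerIn.2 ⟨hκm.mem (hCR hc), fun y hy => ?_⟩
    have h3 := hκm.map_centralizer (P := P) hPR (hCR hc) (mem_centralizerIn.1 hc).2
    rw [(hκm.mono hPR).img_eq hκP] at h3
    exact h3 y hy
  have hκiP : ∀ x ∈ P, ofAut κ⁻¹ x ∈ P := by
    intro x hx
    have himg : img P (ofAut κ) = P := (hκm.mono hPR).img_eq hκP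
    rw [← himg] at hx
    obtain ⟨y, hy, rfl⟩ := (hκm.mono hPR).mem_img.1 hx
    rw [ofAut_inv_apply κ (hPR hy)]; exact hy
  have hκim := isMap_ofAut hRS (Subgroup.inv_mem _ hκ)
  have hκiC' : ∀ c ∈ centralizerIn S P, ofAut κ⁻¹ c ∈ centralizerIn S P := by
    intro c hc
    refine mem_centralizerIn.2 ⟨hκim.mem (hCR hc), fun y hy => ?_⟩
    have h3 := hκim.map_centralizer (P := P) hPR (hCR hc) (mem_centralizerIn.1 hc).2
    rw [(hκim.mono hPR).img_eq hκiP] at h3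
    exact h3 y hy
  have hκiC : ∀ c ∈ centralizerIn S P, c⁻¹ * ofAut κ⁻¹ c ∈ P := by
    intro c hc
    have h5 := P.inv_mem (hκC _ (hκiC' c hc))
    rw [ofAut_apply_inv κ (hCR hc)] at h5
    have e : ((ofAut κ⁻¹ c)⁻¹ * c)⁻¹ = c⁻¹ * ofAut κ⁻¹ c := by group
    rwa [e] at h5
  -- the extension condition
  have hext : ∀ b ∈ B, ∀ b' ∈ normalizerIn S P, (∀ x ∈ P, ofAut κ (b * x * b⁻¹) = b' * ofAut κ x * b'⁻¹) →
      (∀ c ∈ centralizerIn S P, (b' * c * b'⁻¹) * (b * c * b⁻¹)⁻¹ ∈ P) →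
      ∃ d ∈ centralizerIn S P, ∀ x ∈ P ⊔ centralizerIn S P,
        ofAut κ (b * x * b⁻¹) = (d * b') * ofAut κ x * (d * b')⁻¹ := by
    intro b hb b' hb' h1 h2
    have hbN := hBN hb
    have hb'i : b'⁻¹ ∈ normalizerIn S P := Subgroup.inv_mem _ hb'
    have hm1 : IsMap F (P ⊔ centralizerIn S P) (fun x => b'⁻¹ * x * b'⁻¹⁻¹) := isMap_conj hRS hb'i.1
    have hm1R : ∀ x ∈ P ⊔ centralizerIn S P, b'⁻¹ * x * b'⁻¹⁻¹ ∈ P ⊔ centralizerIn S P := fun x hx =>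
      (Subgroup.mem_normalizer_iff.1 (hnR _ hb'i) x).1 hx
    have hm2 : IsMap F (P ⊔ centralizerIn S P) (fun x => ofAut κ⁻¹ (b'⁻¹ * x * b'⁻¹⁻¹)) := hκim.comp hm1 hm1R
    have hm3 : IsMap F (P ⊔ centralizerIn S P) (fun x => b * ofAut κ⁻¹ (b'⁻¹ * x * b'⁻¹⁻¹) * b⁻¹) :=
      (isMap_conj (F := F) hRS hbN.1).comp hm2 fun x hx => ofAut_mem _ (hm1R x hx)
    have hm3R : ∀ x ∈ P ⊔ centralizerIn S P, b * ofAut κ⁻¹ (b'⁻¹ * x * b'⁻¹⁻¹) * b⁻¹ ∈ P ⊔ centralizerIn S P :=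
      fun x hx => (Subgroup.mem_normalizer_iff.1 (hnR _ hbN) _).1 (ofAut_mem _ (hm1R x hx))
    have hm4 : IsMap F (P ⊔ centralizerIn S P) (fun x => ofAut κ (b * ofAut κ⁻¹ (b'⁻¹ * x * b'⁻¹⁻¹) * b⁻¹)) :=
      hκm.comp hm3 hm3R
    have hfix : ∀ x ∈ P, ofAut κ (b * ofAut κ⁻¹ (b'⁻¹ * x * b'⁻¹⁻¹) * b⁻¹) = x := by
      intro x hx
      have hx1 := hnP _ hb'i x hx
      have hx2 := hκiP _ hx1
      rw [h1 _ hx2, ofAut_apply_inv κ (hPR hx1)]
      group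
    have htriv : ∀ c ∈ centralizerIn S P, c⁻¹ * ofAut κ (b * ofAut κ⁻¹ (b'⁻¹ * c * b'⁻¹⁻¹) * b⁻¹) ∈ P := by
      intro c hc
      have hc1 : b'⁻¹ * c * b'⁻¹⁻¹ ∈ centralizerIn S P := hnC _ hb'i c hc
      have hc2 := hκiC' _ hc1
      have hc3 := hnC _ hbN _ hc2
      have g1 := hκC _ hc3
      -- `b κ⁻¹(c₁) b⁻¹ = (b c₁ b⁻¹) (b z b⁻¹)`
      have g2 := hnP _ hbN _ (hκiC _ hc1)
      have g3 := h2 _ hc1
      have e3 : b' * (b'⁻¹ * c * b'⁻¹⁻¹) * b'⁻¹ = c := by group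
      rw [e3] at g3
      -- `c (b c₁ b⁻¹)⁻¹ ∈ P`
      have g4 : c⁻¹ * (b * (b'⁻¹ * c * b'⁻¹⁻¹) * b⁻¹) ∈ P := by
        have := hnP c⁻¹ (Subgroup.inv_mem _ (hCN hc)) _ (P.inv_mem g3)
        have e : c⁻¹ * (c * (b * (b'⁻¹ * c * b'⁻¹⁻¹) * b⁻¹)⁻¹)⁻¹ * c⁻¹⁻¹ =
          c⁻¹ * (b * (b'⁻¹ * c * b'⁻¹⁻¹) * b⁻¹) := by group
        rwa [e] at this
      have g5 := P.mul_mem (P.mul_mem g4 g2) g1
      have e5 : c⁻¹ * (b * (b'⁻¹ * c * b'⁻¹⁻¹) * b⁻¹) *
          (b * ((b'⁻¹ * c * b'⁻¹⁻¹)⁻¹ * ofAut κ⁻¹ (b'⁻¹ * c * b'⁻¹⁻¹)) * b⁻¹) *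
          ((b * ofAut κ⁻¹ (b'⁻¹ * c * b'⁻¹⁻¹) * b⁻¹)⁻¹ * ofAut κ (b * ofAut κ⁻¹ (b'⁻¹ * c * b'⁻¹⁻¹) * b⁻¹)) =
          c⁻¹ * ofAut κ (b * ofAut κ⁻¹ (b'⁻¹ * c * b'⁻¹⁻¹) * b⁻¹) := by group
      rwa [e5] at g5
    obtain ⟨d, hd, hdx⟩ := triv_eq_conj hS hF hP hm4 hfix htriv
    refine ⟨d, hd, fun x hx => ?_⟩
    have hκx := ofAut_mem κ hx
    have hy : b' * ofAut κ x * b'⁻¹ ∈ P ⊔ centralizerIn S P := (Subgroup.mem_normalizer_iff.1 (hnR _ hb') _).1 hκx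
    have h3 := hdx _ hy
    have e : b'⁻¹ * (b' * ofAut κ x * b'⁻¹) * b'⁻¹⁻¹ = ofAut κ x := by group
    have h3' : ofAut κ (b * ofAut κ⁻¹ (b'⁻¹ * (b' * ofAut κ x * b'⁻¹) * b'⁻¹⁻¹) * b⁻¹) =
      d * (b' * ofAut κ x * b'⁻¹) * d⁻¹ := h3
    rw [e, ofAut_inv_apply κ hx] at h3'
    rw [h3']
    group
  obtain ⟨g, hg, hgκ⟩ := recep_exists_extend hRrec hκm (img_ofAut κ)
  have hgW : IsMap F ((P ⊔ centralizerIn S P) ⊔ B) g := by
    refine hg.mono (sup_le (le_extender_hom hκm) fun b hb => (mem_extender_hom hκm).2 ?_)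
    obtain ⟨b', hb', h1, h2⟩ := hB b hb
    obtain ⟨d, hd, hdx⟩ := hext b hb b' (hWN hb') h1 h2
    exact ⟨(hBN hb).1, hnR b (hBN hb), d * b', S.mul_mem (hCS hd) (hWS hb'), hdx⟩
  have hRW : P ⊔ centralizerIn S P ≤ (P ⊔ centralizerIn S P) ⊔ B := le_sup_left
  have hBW : B ≤ (P ⊔ centralizerIn S P) ⊔ B := le_sup_right
  -- general fact on values
  have hval : ∀ {g : Ω → Ω}, IsMap F ((P ⊔ centralizerIn S P) ⊔ B) g → (∀ x ∈ P ⊔ centralizerIn S P, g x = ofAut κ x) →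
      ∀ b ∈ B, ∀ b' ∈ S, (∀ x ∈ P, ofAut κ (b * x * b⁻¹) = b' * ofAut κ x * b'⁻¹) → b'⁻¹ * g b ∈ centralizerIn S P := by
    intro g hg hgκ b hb b' hb' h1
    refine mem_centralizerIn.2 ⟨S.mul_mem (S.inv_mem hb') (hg.mem (hBW hb)), fun y hy => ?_⟩
    have hx := hκiP y hy
    have h3 := h1 _ hx
    have hbx := hnP b (hBN hb) _ hx
    rw [← hgκ _ (hPR hbx), hg.map_conj (hBW hb) (hRW (hPR hx)), hgκ _ (hPR hx), ofAut_apply_inv κ (hPR hy)] at h3
    calc y * (b'⁻¹ * g b) = b'⁻¹ * (b' * y * b'⁻¹) * g b := by group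
      _ = b'⁻¹ * (g b * y * (g b)⁻¹) * g b := by rw [h3]
      _ = b'⁻¹ * g b * y := by group
  have hgmem : ∀ x ∈ (P ⊔ centralizerIn S P) ⊔ B, g x ∈ (P ⊔ centralizerIn S P) ⊔ B := by
    refine hgW.forall_sup_mem (fun x hx => ?_) fun b hb => ?_
    · rw [hgκ x hx]; exact hRW (ofAut_mem κ hx)
    · obtain ⟨b', hb', h1, h2⟩ := hB b hb
      have h3 := hval hgW hgκ b hb b' (hWS hb') h1
      have := Subgroup.mul_mem _ hb' (hRW (hCR h3))
      rwa [mul_inv_cancel_left] at this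
  have hfW := finite_of_le hWS
  have hfA := finite_mulAut (P := (P ⊔ centralizerIn S P) ⊔ B)
  obtain ⟨κ₀, hκ₀, hκ₀g⟩ := hgW.exists_aut (hgW.img_eq hgmem)
  obtain ⟨n, hn, hnco⟩ := exists_pprime_pow (p := p) κ₀ hco
  have hres : ∀ x ∈ P ⊔ centralizerIn S P, ofAut (κ₀ ^ n) x = ofAut κ x := by
    intro x hx
    rw [ofAut_pow_restrict hRW (fun y hy => by rw [hκ₀g y (hRW hy), hgκ y hy]) n x hx,
      pow_eq_self_of_modEq (pow_orderOf_eq_one κ) hn]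
  have hκn : κ₀ ^ n ∈ F.autGroup ((P ⊔ centralizerIn S P) ⊔ B) := Subgroup.pow_mem _ hκ₀ n
  exact ⟨κ₀ ^ n, hκn, hnco, hres, hval (isMap_ofAut hWS hκn) hres⟩

/-- A `p'`-automorphism in `F` of `W`, in `E` on an `E`-centric subgroup normalized by `W`, is in `E`. -/
theorem mem_of_restr_centric [Finite S] [Fact p.Prime] (hS : IsPGroup p S) (hE : E.IsInvariantIn F)
    (hEs : E.IsSaturated p) {Y W : Subgroup Ω} (hY : E.IsCentric Y) (hYW : Y ≤ W) (hWT : W ≤ T)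
    (hWN : W ≤ Subgroup.normalizer (Y : Set Ω)) {κ : MulAut W} (hκ : κ ∈ F.autGroup W)
    (hco : (orderOf κ).Coprime p) (hκY : ∀ y ∈ Y, ofAut κ y ∈ Y) (hκE : IsMap E Y (ofAut κ)) : κ ∈ E.autGroup W := by
  have hTS := hE.2.1.1
  have hfT := finite_of_le hTS
  have hTp := isPGroup_of_le hS hTS
  have hWS := hWT.trans hTS
  have hfW := finite_of_le hWS
  have hfAW := finite_mulAut (P := W)
  have hfY := finite_of_le (hYW.trans hWS)
  have hκm := isMap_ofAut hWS hκ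
  have himgY : img Y (ofAut κ) = Y := hκE.img_eq hκY
  obtain ⟨η, hη, hηκ⟩ := recep_exists_extend_of_le (receptive_of_isCentric hTp hEs hY) hκE himgY hYW (by
    intro w hw
    refine ⟨hWT hw, hWN hw, ofAut κ w, hWT (ofAut_mem κ hw), fun x hx => ?_⟩
    exact hκm.map_conj hw (hYW hx))
  -- `κ(w)⁻¹ η(w) ∈ Y`
  have hval : ∀ w ∈ W, (ofAut κ w)⁻¹ * η w ∈ Y := by
    intro w hw
    have hκw := ofAut_mem κ hw
    refine centric_centralizer_le hY (mem_centralizerIn.2 ⟨T.mul_mem (T.inv_mem (hWT hκw)) (hη.mem hw), fun y hy => ?_⟩)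
    rw [← himgY] at hy
    obtain ⟨x, hx, rfl⟩ := hκE.mem_img.1 hy
    have hwx : w * x * w⁻¹ ∈ Y := (Subgroup.mem_normalizer_iff.1 (hWN hw) x).1 hx
    have h1 := hκm.map_conj hw (hYW hx)
    have h2 := hη.map_conj hw (hYW hx)
    rw [hηκ _ hwx, hηκ x hx, h1] at h2
    calc ofAut κ x * ((ofAut κ w)⁻¹ * η w) = (ofAut κ w)⁻¹ * (ofAut κ w * ofAut κ x * (ofAut κ w)⁻¹) * η w := by group
      _ = (ofAut κ w)⁻¹ * (η w * ofAut κ x * (η w)⁻¹) * η w := by rw [h2]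
      _ = (ofAut κ w)⁻¹ * η w * ofAut κ x := by group
  have hηW : ∀ w ∈ W, η w ∈ W := fun w hw => by
    have := W.mul_mem (ofAut_mem κ hw) (hYW (hval w hw))
    rwa [mul_inv_cancel_left] at this
  obtain ⟨e, he, heη⟩ := hη.exists_aut (hη.img_eq hηW)
  -- `ν = κ⁻¹ e` is trivial on `Y` and modulo `Y`
  have hYi : ∀ y ∈ Y, ofAut κ⁻¹ y ∈ Y := by
    intro y hy
    rw [← himgY] at hy
    obtain ⟨x, hx, rfl⟩ := hκE.mem_img.1 hy
    rw [ofAut_inv_apply κ (hYW hx)]; exact hx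
  obtain ⟨k, hk⟩ := pow_eq_one_of_stab hS hWS hYW (κ := κ⁻¹ * e) (fun y hy => by
    rw [ofAut_mul _ _ (hYW hy), heη y (hYW hy), hηκ y hy, ofAut_inv_apply κ (hYW hy)]) (fun w hw => by
    rw [ofAut_mul _ _ hw, heη w hw]
    have h1 : η w = ofAut κ w * ((ofAut κ w)⁻¹ * η w) := by group
    rw [h1, ofAut_map_mul κ⁻¹ (ofAut_mem κ hw) (hYW (hval w hw)), ofAut_inv_apply κ hw, inv_mul_cancel_left]
    exact hYi _ (hval w hw))
  -- `κ⁻¹ e ∈ Aut_E(W)`
  have hκn : κ⁻¹ ∈ Subgroup.normalizer (E.autGroup W : Set (MulAut W)) := by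
    have h1 : F.autGroup W ≤ Subgroup.normalizer (E.autGroup W : Set (MulAut W)) :=
      conj_le_normalizer_of fun α hα β hβ => inv_normal hE hWT hα hβ
    exact h1 (Subgroup.inv_mem _ hκ)
  have h3 := pow_mul_mem_of_normalizes hκn he (orderOf κ)
  have h4 : (κ⁻¹) ^ orderOf κ = 1 := by rw [inv_pow, pow_orderOf_eq_one, inv_one]
  rw [h4, inv_one, one_mul] at h3
  have h5 : κ⁻¹ * e ∈ E.autGroup W := by
    refine mem_of_pow_coprime (n := orderOf κ) (N := p ^ k) (Nat.Coprime.pow_right _ hco) h3 ?_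
    rw [hk]; exact Subgroup.one_mem _
  have h6 := Subgroup.mul_mem _ he (Subgroup.inv_mem _ h5)
  have e6 : e * (κ⁻¹ * e)⁻¹ = κ := by group
  rwa [e6] at h6

/-- `N_S(P)` induces a Sylow subgroup of the stabilizer of `P` in `Aut_F(P C_S(P))`, `P` fully normalized. -/
theorem sylIn_stabAut [Finite S] [Fact p.Prime] (hS : IsPGroup p S) (hF : F.IsSaturated p) {P : Subgroup Ω}
    (hP : F.IsFullyNormalized P) : H85.SylIn p (autInducedBy (normalizerIn S P) (P ⊔ centralizerIn S P))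
      (stabAut F (P ⊔ centralizerIn S P) P) := by
  have hPS := hP.1
  have hfP := finite_of_le hPS
  have hNS : normalizerIn S P ≤ S := normalizerIn_le P
  have hfN := finite_of_le hNS
  have hNp : IsPGroup p ↥(normalizerIn S P) := isPGroup_of_le hS hNS
  have hPN : P ≤ normalizerIn S P := le_normalizerIn hPS
  have hCN : centralizerIn S P ≤ normalizerIn S P := centralizerIn_le_normalizerIn P
  have hPR : P ≤ P ⊔ centralizerIn S P := le_sup_left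
  have hCR : centralizerIn S P ≤ P ⊔ centralizerIn S P := le_sup_right
  have hRN : P ⊔ centralizerIn S P ≤ normalizerIn S P := sup_le hPN hCN
  have hRS := hRN.trans hNS
  obtain ⟨N, hN⟩ := exists_isNormalizerSystem F hPS
  have hNs := normalizerSystem_saturated hS hF hP hN
  have hw : N.WeaklyClosed (P ⊔ centralizerIn S P) := by
    have hfR := finite_of_le hRS
    refine weaklyClosed_iff_img.2 ⟨hRN, fun f hf => ?_⟩
    obtain ⟨-, hfF, hfP⟩ := (isMap_normSys_of_le hN hPR).1 hf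
    refine hf.img_eq (hf.forall_sup_mem (fun x hx => ?_) fun c hc => ?_)
    · have h1 : f x ∈ img P f := subset_img hx
      rw [hfP] at h1
      exact hPR h1
    · refine hCR (mem_centralizerIn.2 ⟨hfF.mem (hCR hc), fun y hy => ?_⟩)
      have h1 := hfF.map_centralizer (P := P) hPR (hCR hc) (mem_centralizerIn.1 hc).2
      rw [hfP] at h1
      exact h1 y hy
  have hsyl := fa_sylIn (sat_fullyAutomized hNp hNs (weaklyClosed_fullyNormalized hw))
  have e : N.autGroup (P ⊔ centralizerIn S P) = stabAut F (P ⊔ centralizerIn S P) P := by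
    ext α
    rw [mem_autGroup_iff hRN, isMap_normSys_of_le hN hPR]
    constructor
    · rintro ⟨-, h1, h2⟩
      exact mem_stabAut_of_img hRS hPR ((mem_autGroup_iff hRS).2 h1) h2
    · intro h1
      obtain ⟨h2, h3⟩ := mem_stabAut.1 h1
      have h4 := isMap_ofAut hRS h2
      exact ⟨hRN, h4, (h4.mono hPR).img_eq fun x hx => (h3 x (hPR hx)).1 hx⟩
  rwa [e] at hsyl

end Cfsg.Agent.Fus
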