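import Cfsg.Agent.Fus.ES5
import Cfsg.Agent.Fus.XLift
import Cfsg.Agent.Fus.And3
set_option autoImplicit false

/-!
# The product of a normal subsystem with `S`, I (helper85)

`E ⊴ F` over `T`. The family: `P ∩ T` centric in `E`, and `K P = kR E F P`.
-/

namespace Cfsg.Agent.Fus

open Cfsg
open Cfsg.FusionSystem (centralizerIn normalizerIn)

variable {Ω : Type*} [Group Ω] {S T : Subgroup Ω} {F : FusionSystem S} {E : FusionSystem T} {p : ℕ}

/-- the family of subgroups -/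
def esH (S : Subgroup Ω) (E : FusionSystem T) (P : Subgroup Ω) : Prop := P ≤ S ∧ E.IsCentric (P ⊓ T)

open Classical in
/-- the groups of automorphisms -/
noncomputable def esK (E : FusionSystem T) (F : FusionSystem S) [Finite S] (hT : F.StronglyClosed T)
    (P : Subgroup Ω) : Subgroup (MulAut P) := if hP : P ≤ S then kR E F P hT hP else ⊥

theorem esK_eq [Finite S] {hT : F.StronglyClosed T} {P : Subgroup Ω} (hP : P ≤ S) :
    esK E F hT P = kR E F P hT hP := dif_pos hP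

theorem mem_esK [Finite S] {hT : F.StronglyClosed T} {P : Subgroup Ω} (hP : P ≤ S) {α : MulAut P} :
    α ∈ esK E F hT P ↔ α ∈ F.autGroup P ∧ (∀ x ∈ P, ofAut α x * x⁻¹ ∈ T) ∧ IsMap E (P ⊓ T) (ofAut α) := by
  rw [esK_eq hP, mem_kR, mem_actsTrivMod, and_assoc]

theorem esH_mono {P Q : Subgroup Ω} (hP : esH S E P) (hPQ : P ≤ Q) (hQ : Q ≤ S) : esH S E Q :=
  ⟨hQ, isCentric_mono hP.2 (inf_le_inf_right T hPQ) inf_le_right⟩

theorem esH_img (hE : E.IsInvariantIn F) {P : Subgroup Ω} {f : Ω → Ω} (hP : esH S E P) (hf : IsMap F P f) :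
    esH S E (img P f) :=
  ⟨hf.img_le, by rw [← img_inf_sc hE.2.1 hf]; exact eCentric_img hE hP.2 (hf.mono inf_le_left)⟩

theorem esK_leF [Finite S] {hT : F.StronglyClosed T} {P : Subgroup Ω} (hP : P ≤ S) :
    esK E F hT P ≤ F.autGroup P := fun _ h => ((mem_esK hP).1 h).1

/-- transport of `esK` -/
theorem esK_transport [Finite S] (hE : E.IsInvariantIn F) {P : Subgroup Ω} {f : Ω → Ω} (hf : IsMap F P f)
    {Q : Subgroup Ω} (hfQ : img P f = Q) {α : MulAut P} (hα : α ∈ esK E F hE.2.1 P) {β : MulAut Q}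
    (hβ : ∀ x ∈ P, ofAut β (f x) = f (ofAut α x)) : β ∈ esK E F hE.2.1 Q := by
  subst hfQ
  have hT := hE.2.1
  obtain ⟨h1, h2, h3⟩ := (mem_esK hf.le).1 hα
  have hβe := trans_eq_of hf rfl hβ
  have hβF : β ∈ F.autGroup (img P f) := by rw [← hβe]; exact hf.trans_mem rfl h1
  refine (mem_esK hf.img_le).2 ⟨hβF, fun y hy => ?_, ?_⟩
  · obtain ⟨x, hx, rfl⟩ := hf.mem_img.1 hy
    have hαx := ofAut_mem α hx
    rw [hβ x hx, ← hf.map_inv hx, ← hf.map_mul hαx (P.inv_mem hx)]
    exact sc_map_mem hT hf (P.mul_mem hαx (P.inv_mem hx)) (h2 x hx)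
  · have himg : img (P ⊓ T) f = img P f ⊓ T := img_inf_sc hT hf
    have hκimg : img (P ⊓ T) (ofAut α) = P ⊓ T := img_inf_aut hT hf.le h1
    have hfm : IsMap F (P ⊓ T) f := hf.mono inf_le_left
    have h4 := inv_trans_mem hE inf_le_right hfm himg (h3.aut_mem hκimg)
    refine (isMap_ofAut inf_le_right h4).congr fun y hy => ?_
    rw [← himg] at hy
    obtain ⟨x, hx, rfl⟩ := hfm.mem_img.1 hy
    rw [hfm.ofAut_trans himg _ hx, h3.ofAut_aut hκimg hx, hβ x hx.1]

/-- restriction of elements of `esK` -/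
theorem esK_restrict [Finite S] {hT : F.StronglyClosed T} {P R : Subgroup Ω} (hPR : P ≤ R) (hR : R ≤ S)
    {κ : MulAut R} (hκ : κ ∈ esK E F hT R) {β : MulAut P} (hβ : ∀ x ∈ P, ofAut β x = ofAut κ x) :
    β ∈ esK E F hT P := by
  obtain ⟨h1, h2, h3⟩ := (mem_esK hR).1 hκ
  refine (mem_esK (hPR.trans hR)).2 ⟨?_, fun x hx => ?_, ?_⟩
  · rw [mem_autGroup_iff (hPR.trans hR)]
    exact ((isMap_ofAut hR h1).mono hPR).congr fun x hx => (hβ x hx).symm
  · rw [hβ x hx]; exact h2 x (hPR hx)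
  · exact (h3.mono (inf_le_inf_right T hPR)).congr fun x hx => (hβ x hx.1).symm

theorem esSys_le [Finite S] {hT : F.StronglyClosed T} {n : ℕ} : gsys S p (esH S E) (esK E F hT) n ≤ F :=
  gsys_min fun _ _ hPS _ _ hα _ => isMap_ofAut hPS (esK_leF hPS hα)

/-- Composites of restrictions of `p'`-elements of `esK`. -/
inductive KPath (E : FusionSystem T) (F : FusionSystem S) (p : ℕ) [Finite S] (hT : F.StronglyClosed T) :
    Subgroup Ω → (Ω → Ω) → Prop
  | refl {P : Subgroup Ω} {f : Ω → Ω} : P ≤ S → (∀ x ∈ P, f x = x) → KPath E F p hT P f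
  | step {P R : Subgroup Ω} {f g : Ω → Ω} {κ : MulAut R} : KPath E F p hT P f → esH S E R → κ ∈ esK E F hT R →
      (orderOf κ).Coprime p → img P f ≤ R → (∀ x ∈ P, g x = ofAut κ (f x)) → KPath E F p hT P g

namespace KPath

variable [Finite S] {hT : F.StronglyClosed T} {P : Subgroup Ω} {f g : Ω → Ω}

theorem isMap (h : KPath E F p hT P f) : IsMap (gsys S p (esH S E) (esK E F hT) 1) P f := by
  induction h with
  | refl hP hf => exact (isMap_id' hP).congr fun x hx => (hf x hx).symm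
  | step h1 hR hκ hco hle hg ih =>
    have := finite_of_le hR.1
    refine (((gsys_gen hR hR.1 Nat.card_pos hκ hco).mono hle).comp ih fun x hx => subset_img hx).congr
      fun x hx => (hg x hx).symm

theorem isMapF (h : KPath E F p hT P f) : IsMap F P f := le_iff.1 esSys_le P f h.isMap

theorem le (h : KPath E F p hT P f) : P ≤ S := h.isMap.le

theorem congr (h : KPath E F p hT P f) (hfg : ∀ x ∈ P, f x = g x) : KPath E F p hT P g := by
  cases h with
  | refl hP hf => exact .refl hP fun x hx => by rw [← hfg x hx, hf x hx]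
  | step h1 hR hκ hco hle hg => exact .step h1 hR hκ hco hle fun x hx => by rw [← hfg x hx, hg x hx]

theorem mono (h : KPath E F p hT P f) {Q : Subgroup Ω} (hQ : Q ≤ P) : KPath E F p hT Q f := by
  induction h with
  | refl hP hf => exact .refl (hQ.trans hP) fun x hx => hf x (hQ hx)
  | step h1 hR hκ hco hle hg ih => exact .step ih hR hκ hco ((img_mono hQ).trans hle) fun x hx => hg x (hQ hx)

/-- the maps are trivial modulo `T` -/
theorem mod (h : KPath E F p hT P f) : ∀ x ∈ P, f x * x⁻¹ ∈ T := by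
  induction h with
  | refl hP hf => intro x hx; rw [hf x hx, mul_inv_cancel]; exact T.one_mem
  | step h1 hR hκ hco hle hg ih =>
    intro x hx
    have h2 := ((mem_esK hR.1).1 hκ).2.1 _ (hle (subset_img hx))
    have h3 := T.mul_mem h2 (ih x hx)
    rw [hg x hx]
    simpa using h3

theorem gen {R : Subgroup Ω} (hR : esH S E R) {κ : MulAut R} (hκ : κ ∈ esK E F hT R)
    (hco : (orderOf κ).Coprime p) (hP : P ≤ R) (hf : ∀ x ∈ P, f x = ofAut κ x) : KPath E F p hT P f :=
  .step (f := fun x => x) (.refl (hP.trans hR.1) fun _ _ => rfl) hR hκ hco (by rwa [img_id']) hf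

theorem comp (hg : KPath E F p hT (img P f) g) (hf : KPath E F p hT P f) :
    KPath E F p hT P (fun x => g (f x)) := by
  induction hg with
  | refl hP' hg => exact hf.congr fun x hx => (hg _ (subset_img hx)).symm
  | step h1 hR hκ hco hle hg ih =>
    refine .step ih hR hκ hco ?_ fun x hx => hg _ (subset_img hx)
    rw [hf.isMapF.img_comp]
    exact hle

theorem comp' {Q : Subgroup Ω} (hg : KPath E F p hT Q g) (hf : KPath E F p hT P f) (h : ∀ x ∈ P, f x ∈ Q) :
    KPath E F p hT P (fun x => g (f x)) :=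
  (hg.mono (hf.isMapF.img_le_iff.2 h)).comp hf

theorem inv (h : KPath E F p hT P f) : KPath E F p hT (img P f) (minv P f) := by
  have hmain := h.isMapF
  induction h with
  | refl hP hf =>
    refine .refl hmain.img_le fun y hy => ?_
    obtain ⟨x, hx, rfl⟩ := hmain.mem_img.1 hy
    rw [hmain.minv_apply hx, hf x hx]
  | @step R f g κ h1 hR hκ hco hle hg ih =>
    have h2 := ih h1.isMapF
    have hκi : κ⁻¹ ∈ esK E F hT R := Subgroup.inv_mem _ hκ
    have hcoi : (orderOf κ⁻¹).Coprime p := by rwa [orderOf_inv]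
    have hgR : img P g ≤ R := by
      rw [hmain.img_le_iff]
      intro x hx
      rw [hg x hx]
      exact ofAut_mem κ (hle (subset_img hx))
    have h3 : KPath E F p hT (img P g) (ofAut κ⁻¹) := gen hR hκi hcoi hgR fun _ _ => rfl
    refine (h2.comp' h3 fun y hy => ?_).congr fun y hy => ?_
    · obtain ⟨x, hx, rfl⟩ := hmain.mem_img.1 hy
      rw [hg x hx, ofAut_inv_apply κ (hle (subset_img hx))]
      exact subset_img hx
    · obtain ⟨x, hx, rfl⟩ := hmain.mem_img.1 hy
      rw [hmain.minv_apply hx, hg x hx, ofAut_inv_apply κ (hle (subset_img hx)), h1.isMapF.minv_apply hx]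

theorem sup_eq (h : KPath E F p hT P f) : img P f ⊔ T = P ⊔ T := by
  have hm := h.isMapF
  apply le_antisymm
  · refine sup_le ?_ le_sup_right
    rw [hm.img_le_iff]
    intro x hx
    have e : f x = f x * x⁻¹ * x := by group
    rw [e]
    exact Subgroup.mul_mem _ (Subgroup.mem_sup_right (h.mod x hx)) (Subgroup.mem_sup_left hx)
  · refine sup_le (fun x hx => ?_) le_sup_right
    have e : x = (f x * x⁻¹)⁻¹ * f x := by group
    rw [e]
    exact Subgroup.mul_mem _ (Subgroup.mem_sup_right (T.inv_mem (h.mod x hx))) (Subgroup.mem_sup_left (subset_img hx))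

/-- transport of paths along maps defined on `P T` -/
theorem transport (hE : E.IsInvariantIn F) {A : Subgroup Ω} {δ φ : Ω → Ω} (hδ : IsMap F (A ⊔ T) δ)
    (h : KPath E F p hE.2.1 (img A δ) φ) : ∃ φ', KPath E F p hE.2.1 A φ' ∧ ∀ x ∈ A, δ (φ' x) = φ (δ x) := by
  have hA : A ≤ S := le_sup_left.trans hδ.le
  have hδA : IsMap F A δ := hδ.mono le_sup_left
  induction h with
  | refl hP' hf =>
    exact ⟨fun x => x, .refl hA fun _ _ => rfl, fun x hx => (hf _ (subset_img hx)).symm⟩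
  | @step R f g κ h1 hR hκ hco hle hg ih =>
    obtain ⟨φ', hφ', hφ'e⟩ := ih
    have hT := hE.2.1
    have hTimg : T ≤ img (A ⊔ T) δ := (sc_img_eq hT hδ le_sup_right).ge.trans (img_mono le_sup_right)
    obtain ⟨hκF, hκT, hκE⟩ := (mem_esK hR.1).1 hκ
    -- restrict `κ` to `R ∩ im δ`
    obtain ⟨R₁, hR₁⟩ : ∃ R₁, R₁ = R ⊓ img (A ⊔ T) δ := ⟨_, rfl⟩
    have hR₁R : R₁ ≤ R := hR₁.le.trans inf_le_left
    have hR₁i : R₁ ≤ img (A ⊔ T) δ := hR₁.le.trans inf_le_right
    obtain ⟨κ₁, hκ₁F, hκ₁, hκ₁o⟩ := exists_restrict_mem (R := R₁) hR.1 hR₁R hκF (by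
      intro x hx
      rw [hR₁] at hx ⊢
      refine ⟨ofAut_mem κ hx.1, ?_⟩
      have e : ofAut κ x = ofAut κ x * x⁻¹ * x := by group
      rw [e]
      exact Subgroup.mul_mem _ (hTimg (hκT x hx.1)) hx.2)
    have hκ₁K : κ₁ ∈ esK E F hT R₁ := esK_restrict hR₁R hR.1 hκ hκ₁
    set ε := minv (A ⊔ T) δ with hε
    have hεm : IsMap F R₁ ε := hδ.minv_isMap.mono hR₁i
    have hR₁H : esH S E R₁ := ⟨hR₁R.trans hR.1, by
      have : R₁ ⊓ T = R ⊓ T := by
        rw [hR₁, inf_assoc]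
        congr 1
        exact inf_eq_right.2 hTimg
      rw [this]; exact hR.2⟩
    have hR₂H : esH S E (img R₁ ε) := esH_img hE hR₁H hεm
    set κ₂ := hεm.trans rfl κ₁ with hκ₂
    have hκ₂K : κ₂ ∈ esK E F hT (img R₁ ε) := esK_transport hE hεm rfl hκ₁K fun x hx => hεm.ofAut_trans rfl _ hx
    have hκ₂o : (orderOf κ₂).Coprime p := by
      rw [hκ₂, trans_orderOf]; exact hco.coprime_dvd_left hκ₁o
    have hφ'm : ∀ x ∈ A, φ' x ∈ A ⊔ T := fun x hx => hφ'.sup_eq.le (Subgroup.mem_sup_left (subset_img hx))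
    have hδφ : ∀ x ∈ A, δ (φ' x) ∈ R₁ := fun x hx => by
      rw [hR₁]
      exact ⟨by rw [hφ'e x hx]; exact hle (subset_img (subset_img hx)), subset_img (hφ'm x hx)⟩
    have hx2 : ∀ x ∈ A, ε (δ (φ' x)) = φ' x := fun x hx => hδ.minv_apply (hφ'm x hx)
    refine ⟨fun x => ofAut κ₂ (φ' x), .step hφ' hR₂H hκ₂K hκ₂o ?_ fun _ _ => rfl, fun x hx => ?_⟩
    · rw [hφ'.isMapF.img_le_iff]
      intro x hx
      rw [← hx2 x hx]
      exact subset_img (hδφ x hx)
    · have h3 : ofAut κ₂ (φ' x) = ε (ofAut κ₁ (δ (φ' x))) := by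
        rw [← hεm.ofAut_trans rfl κ₁ (hδφ x hx), hx2 x hx]
      show δ (ofAut κ₂ (φ' x)) = g (δ x)
      rw [h3, hδ.apply_minv (hR₁i (ofAut_mem κ₁ (hδφ x hx))), hκ₁ _ (hδφ x hx), hφ'e x hx, hg _ (subset_img hx)]

end KPath

end Cfsg.Agent.Fus
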