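import Cfsg.Agent.Fus.ES6
set_option autoImplicit false

/-!
# The product of a normal subsystem with `S`, II: Frattini factorization, positions (helper85)
-/

namespace Cfsg.Agent.Fus

open Cfsg
open Cfsg.FusionSystem (centralizerIn normalizerIn)

variable {Ω : Type*} [Group Ω] {S T : Subgroup Ω} {F : FusionSystem S} {E : FusionSystem T} {p : ℕ}

/-- Variant of `cent_inf_le_of_radical` for the weak form of radicality. -/
theorem cent_inf_le_of_weak [Finite S] [Fact p.Prime] (hS : IsPGroup p S) (hT : F.StronglyClosed T)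
    {P : Subgroup Ω} (hPc : F.IsCentric P)
    (hPr : autInducedBy S P ⊓ (pCore p ↥(F.autGroup P)).map (F.autGroup P).subtype ≤ Inn P) : centralizerIn T (P ⊓ T) ≤ P ⊓ T := by
  have hPS := hPc.1
  have hTS := hT.1
  suffices h : centralizerIn T (P ⊓ T) ≤ P from fun x hx => ⟨h hx, hx.1⟩
  by_contra hcon
  set C := centralizerIn T (P ⊓ T) with hC
  have hlt : P < P ⊔ C := lt_of_le_of_ne le_sup_left fun h => hcon (by rw [h]; exact le_sup_right)
  have hPCS : P ⊔ C ≤ S := sup_le hPS ((centralizerIn_le _).trans hTS)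
  have hfin := finite_of_le hPCS
  obtain ⟨n, hn, hnP⟩ := SetLike.exists_of_lt (lt_inf_normalizer (isPGroup_of_le hS hPCS) hlt)
  -- `P` normalizes `C`
  have hPn : P ≤ Subgroup.normalizer (C : Set Ω) := by
    intro x hx
    have key : ∀ x ∈ P, ∀ y ∈ C, x * y * x⁻¹ ∈ C := by
      intro x hx y hy
      rw [hC, mem_centralizerIn] at hy ⊢
      refine ⟨sc_conj_mem hT (hPS hx) hy.1, fun z hz => ?_⟩
      have hz' : x⁻¹ * z * x ∈ P ⊓ T := ⟨P.mul_mem (P.mul_mem (P.inv_mem hx) hz.1) hx, by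
        have := sc_conj_mem hT (S.inv_mem (hPS hx)) hz.2
        rwa [inv_inv] at this⟩
      have h1 := hy.2 _ hz'
      calc z * (x * y * x⁻¹) = x * ((x⁻¹ * z * x) * y) * x⁻¹ := by group
        _ = x * (y * (x⁻¹ * z * x)) * x⁻¹ := by rw [h1]
        _ = x * y * x⁻¹ * z := by group
    rw [Subgroup.mem_normalizer_iff]
    intro y
    refine ⟨key x hx y, fun h => ?_⟩
    have := key x⁻¹ (P.inv_mem hx) _ h
    have e : x⁻¹ * (x * y * x⁻¹) * x⁻¹⁻¹ = y := by group
    rwa [e] at this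
  obtain ⟨c', hc', y', hy', hn'⟩ := (Cfsg.Agent.H85.mem_sup_iff_of_normalizes (N := C) (A := P) hPn).mp
    ((Subgroup.inv_mem _ hn.1 : n⁻¹ ∈ P ⊔ C) |> fun h => by rwa [sup_comm] at h)
  obtain ⟨y, hy, c, hc, rfl⟩ : ∃ y ∈ P, ∃ c ∈ C, y * c = n :=
    ⟨y'⁻¹, P.inv_mem hy', c'⁻¹, C.inv_mem hc', by rw [← mul_inv_rev, hn', inv_inv]⟩
  have hcn : c ∈ Subgroup.normalizer (P : Set Ω) := by
    have h1 := (Subgroup.normalizer (P : Set Ω)).mul_mem
      ((Subgroup.normalizer (P : Set Ω)).inv_mem (Subgroup.le_normalizer hy)) hn.2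
    rwa [inv_mul_cancel_left] at h1
  have hcP : c ∉ P := fun h => hnP (P.mul_mem hy h)
  have hcT : c ∈ T := hc.1
  have hcc : ∀ x ∈ P ⊓ T, x * c = c * x := (mem_centralizerIn.mp hc).2
  -- the normal `p`-subgroup of automorphisms trivial on `P ∩ T` and modulo it
  let N : Subgroup (MulAut P) :=
    { carrier := {κ | κ ∈ F.autGroup P ∧ (∀ x ∈ P ⊓ T, ofAut κ x = x) ∧ ∀ x ∈ P, x⁻¹ * ofAut κ x ∈ P ⊓ T}
      one_mem' := ⟨Subgroup.one_mem _, fun x hx => ofAut_one hx.1, fun x hx => by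
        rw [ofAut_one hx, inv_mul_cancel]
        exact Subgroup.one_mem _⟩
      mul_mem' := by
        rintro κ μ ⟨h1, h2, h3⟩ ⟨k1, k2, k3⟩
        refine ⟨Subgroup.mul_mem _ h1 k1, fun x hx => ?_, fun x hx => ?_⟩
        · rw [ofAut_mul _ _ hx.1, k2 x hx, h2 x hx]
        · rw [ofAut_mul _ _ hx]
          have e : x⁻¹ * ofAut κ (ofAut μ x) = (x⁻¹ * ofAut μ x) * ((ofAut μ x)⁻¹ * ofAut κ (ofAut μ x)) := by
            group
          rw [e]
          exact Subgroup.mul_mem _ (k3 x hx) (h3 _ (ofAut_mem μ hx))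
      inv_mem' := by
        rintro κ ⟨h1, h2, h3⟩
        have h4 : ∀ x ∈ P ⊓ T, ofAut κ⁻¹ x = x := fun x hx => by
          conv_lhs => rw [← h2 x hx]
          exact ofAut_inv_apply κ hx.1
        refine ⟨Subgroup.inv_mem _ h1, h4, fun x hx => ?_⟩
        have h5 := h3 _ (ofAut_mem κ⁻¹ hx)
        rw [ofAut_apply_inv κ hx] at h5
        have e : x⁻¹ * ofAut κ⁻¹ x = ((ofAut κ⁻¹ x)⁻¹ * x)⁻¹ := by group
        rw [e]
        exact Subgroup.inv_mem _ h5 }
  have hNle : N ≤ F.autGroup P := fun _ h => h.1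
  have hNp : IsPGroup p N := by
    rintro ⟨κ, h1, h2, h3⟩
    obtain ⟨k, hk⟩ := pow_eq_one_of_stab hS hPS inf_le_left h2 h3
    exact ⟨k, Subtype.ext hk⟩
  have hNn : ∀ α ∈ F.autGroup P, ∀ ν ∈ N, α * ν * α⁻¹ ∈ N := by
    rintro α hα ν ⟨h1, h2, h3⟩
    have hα' := isMap_ofAut hPS hα
    have hαi := isMap_ofAut hPS (Subgroup.inv_mem _ hα)
    have hinv : ∀ x ∈ P ⊓ T, ofAut α x ∈ P ⊓ T := fun x hx => ⟨ofAut_mem α hx.1, sc_map_mem hT hα' hx.1 hx.2⟩
    have hinv' : ∀ x ∈ P ⊓ T, ofAut α⁻¹ x ∈ P ⊓ T :=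
      fun x hx => ⟨ofAut_mem _ hx.1, sc_map_mem hT hαi hx.1 hx.2⟩
    refine ⟨Subgroup.mul_mem _ (Subgroup.mul_mem _ hα h1) (Subgroup.inv_mem _ hα), fun x hx => ?_, fun x hx => ?_⟩
    · rw [ofAut_mul _ _ hx.1, ofAut_mul _ _ (ofAut_mem _ hx.1), h2 _ (hinv' x hx), ofAut_apply_inv α hx.1]
    · have hy := ofAut_mem α⁻¹ hx
      have h4 := hinv _ (h3 _ hy)
      rw [ofAut_map_mul α (P.inv_mem hy) (ofAut_mem ν hy), ofAut_map_inv' α hy, ofAut_apply_inv α hx] at h4
      rw [ofAut_mul _ _ hx, ofAut_mul _ _ hy]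
      exact h4
  have hcN : conjAut c hcn ∈ N := by
    refine ⟨conjAut_mem_autGroup hPS (hTS hcT) hcn, fun x hx => ?_, fun x hx => ?_⟩
    · rw [ofAut_conjAut _ _ hx.1, ← hcc x hx, mul_inv_cancel_right]
    · rw [ofAut_conjAut _ _ hx]
      have h5 : c * x * c⁻¹ ∈ P := (Subgroup.mem_normalizer_iff.mp hcn x).mp hx
      refine ⟨P.mul_mem (P.inv_mem hx) h5, ?_⟩
      have e : x⁻¹ * (c * x * c⁻¹) = (x⁻¹ * c * x⁻¹⁻¹) * c⁻¹ := by group
      rw [e]
      exact T.mul_mem (sc_conj_mem hT (S.inv_mem (hPS hx)) hcT) (T.inv_mem hcT)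
  have h6 : conjAut c hcn ∈ Inn P := hPr ⟨conjAut_mem (hTS hcT) hcn, le_opAut hNle hNp hNn hcN⟩
  rw [inn_eq_autInducedBy, mem_autInducedBy'] at h6
  obtain ⟨g, hg, h7⟩ := h6
  refine hcP (mem_of_conj_inner hPc (hTS hcT) hg fun x hx => ?_)
  rw [← h7 x hx, ofAut_conjAut _ _ hx]


/-- The maps `γ ∘ φ`, `φ` a path and `γ` defined on `φ(P) T`, form a fusion system. -/
theorem facSpec [Finite S] (hE : E.IsInvariantIn F) : MapSpec S (fun P f => ∃ φ γ, KPath E F p hE.2.1 P φ ∧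
    IsMap F (P ⊔ T) γ ∧ ∀ x ∈ P, f x = γ (φ x)) := by
  have hT := hE.2.1
  have hm : ∀ {P : Subgroup Ω} {f : Ω → Ω}, (∃ φ γ, KPath E F p hE.2.1 P φ ∧
      IsMap F (P ⊔ T) γ ∧ ∀ x ∈ P, f x = γ (φ x)) → IsMap F P f := by
    rintro P f ⟨φ, γ, hφ, hγ, h⟩
    exact (hγ.comp hφ.isMapF fun x hx => hφ.sup_eq.le (Subgroup.mem_sup_left (subset_img hx))).congr
      fun x hx => (h x hx).symm
  exact
    { congr := fun ⟨φ, γ, hφ, hγ, h⟩ hfg => ⟨φ, γ, hφ, hγ, fun x hx => by rw [← hfg x hx, h x hx]⟩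
      le := fun h => (hm h).le
      mem := fun h x hx => (hm h).mem hx
      mul := fun h x hx y hy => (hm h).map_mul hx hy
      inj := fun h x hx y hy => (hm h).inj hx hy
      conj := fun {P g} hP hg => ⟨fun x => x, fun x => g * x * g⁻¹, .refl hP fun _ _ => rfl,
        isMap_conj (sup_le hP hT.1) hg, fun _ _ => rfl⟩
      comp := by
        rintro P Q f g hf ⟨φ', γ', hφ', hγ', h'⟩ hfQ
        have hfm := hm hf
        obtain ⟨φ, γ, hφ, hγ, h⟩ := hf
        -- restrict the second map to `f(P) = γ(φ(P))`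
        have e1 : img P f = img (img P φ) γ := by rw [← hφ.isMapF.img_comp]; exact img_congr h
        have hle : img (img P φ) γ ≤ Q := e1 ▸ hfm.img_le_iff.2 hfQ
        have hγ2 : IsMap F (img P φ ⊔ T) γ := by rw [hφ.sup_eq]; exact hγ
        obtain ⟨ψ, hψ, hψe⟩ := (hφ'.mono hle).transport hE hγ2
        refine ⟨fun x => ψ (φ x), fun x => γ' (γ x), hψ.comp hφ, ?_, fun x hx => ?_⟩
        · refine hγ'.comp hγ fun x hx => ?_
          have h3 : γ x ∈ img (P ⊔ T) γ := subset_img hx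
          have h4 : img (P ⊔ T) γ ≤ Q ⊔ T := by
            rw [← hφ.sup_eq, hγ2.img_le_iff]
            refine hγ2.forall_sup_mem (fun x hx => ?_) fun x hx => ?_
            · exact Subgroup.mem_sup_left (hle (subset_img hx))
            · exact Subgroup.mem_sup_right (sc_map_mem hT hγ2 (Subgroup.mem_sup_right hx) hx)
          exact h4 h3
        · show g (f x) = γ' (γ (ψ (φ x)))
          rw [hψe _ (subset_img hx), ← h x hx, h' _ (hfQ x hx)]
      inv := by
        rintro P f hf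
        have hfm := hm hf
        obtain ⟨φ, γ, hφ, hγ, h⟩ := hf
        have hγ2 : IsMap F (img P φ ⊔ T) γ := by rw [hφ.sup_eq]; exact hγ
        have e1 : img P f = img (img P φ) γ := by rw [← hφ.isMapF.img_comp]; exact img_congr h
        have hPS := hφ.le
        -- `γ⁻¹`
        have hTi : img T γ = T := sc_img_eq hT hγ2 le_sup_right
        have e2 : img (img P φ ⊔ T) γ = img P f ⊔ T := by
          rw [e1]
          apply le_antisymm
          · rw [hγ2.img_le_iff]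
            exact hγ2.forall_sup_mem (fun x hx => Subgroup.mem_sup_left (subset_img hx))
              fun x hx => Subgroup.mem_sup_right (hTi.le (subset_img hx))
          · exact sup_le (img_mono le_sup_left) (hTi.ge.trans (img_mono le_sup_right))
        have hδ := hγ2.minv_isMap
        rw [e2] at hδ
        set δ := minv (img P φ ⊔ T) γ with hδd
        have hδf : ∀ x ∈ P, δ (f x) = φ x := fun x hx => by
          rw [h x hx, hδd, hγ2.minv_apply (Subgroup.mem_sup_left (subset_img hx))]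
        have e3 : img (img P f) δ = img P φ := by
          rw [← hfm.img_comp]
          exact img_congr hδf
        have hinv := hφ.inv
        rw [← e3] at hinv
        obtain ⟨ψ, hψ, hψe⟩ := hinv.transport hE hδ
        refine ⟨minv P f, fun x hx => hfm.minv_apply hx, ψ, δ, hψ, hδ, fun y hy => ?_⟩
        obtain ⟨x, hx, rfl⟩ := hfm.mem_img.1 hy
        rw [hfm.minv_apply hx, hψe _ (subset_img hx), hδf x hx, hφ.isMapF.minv_apply hx] }

/-- **Frattini factorization.** -/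
theorem es_factor [Finite S] [Fact p.Prime] (hS : IsPGroup p S) (hE : E.IsNormalIn F p) {P : Subgroup Ω}
    {f : Ω → Ω} (hf : IsMap F P f) : ∃ φ γ, KPath E F p hE.1.2.2.2.1 P φ ∧ IsMap F (P ⊔ T) γ ∧
      ∀ x ∈ P, f x = γ (φ x) := by
  have hi : E.IsInvariantIn F := hE.1.2.2
  have hle : F ≤ (facSpec (p := p) hi).toFS := by
    refine frattini_ind hS hE.1.2.1 hi (fun R f hTR hf => ?_) fun R hR _ hRc hRr κ hκ hco => ?_
    · exact (facSpec (p := p) hi).isMap_toFS.2 ⟨fun x => x, f, .refl hf.le fun _ _ => rfl, by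
        rw [sup_eq_left.2 hTR]; exact hf, fun _ _ => rfl⟩
    · refine (facSpec (p := p) hi).isMap_toFS.2 ⟨ofAut κ, fun x => x, ?_, isMap_id' (sup_le hR hi.2.1.1),
        fun _ _ => rfl⟩
      exact KPath.gen ⟨hR, eCentric_inf hS hE.1.2.1 hi.1 hi.2.1 hRc hRr⟩ (by rw [esK_eq hR]; exact hκ) hco le_rfl
        fun _ _ => rfl
  exact (facSpec (p := p) hi).isMap_toFS.1 (le_iff.1 hle P f hf)

/-- `N_S(P) ≤ N_S(P ∩ T)` -/
theorem normalizerIn_le_inf (hT : F.StronglyClosed T) {P : Subgroup Ω} :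
    normalizerIn S P ≤ normalizerIn S (P ⊓ T) := by
  intro x hx
  refine ⟨hx.1, ?_⟩
  have h1 : x ∈ Subgroup.normalizer (P : Set Ω) := hx.2
  have h2 := sc_le_normalizer hT hx.1
  rw [Subgroup.mem_normalizer_iff] at h1 h2
  exact Subgroup.mem_normalizer_iff.mpr fun y => and_congr (h1 y) (h2 y)

/-- conjugates `P*` with `P*` and `P* ∩ T` fully normalized -/
theorem exists_pos [Finite S] [Fact p.Prime] (hS : IsPGroup p S) (hF : F.IsSaturated p) (hT : F.StronglyClosed T)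
    {P : Subgroup Ω} (hP : P ≤ S) : ∃ g, IsMap F (normalizerIn S P) g ∧ F.IsFullyNormalized (img P g) ∧
      F.IsFullyNormalized (img P g ⊓ T) := by
  obtain ⟨P', hPP', hP'⟩ := exists_fullyNormalized (F := F) hP
  obtain ⟨g, hg, hgi, hgm⟩ := sat_exists_normalizer_map hS hF hP' hPP'
  obtain ⟨Q, hPQ, hQ⟩ := exists_fullyNormalized (F := F) (inf_le_left.trans hP'.1 : P' ⊓ T ≤ S)
  obtain ⟨k, hk, hki, -⟩ := sat_exists_normalizer_map hS hF hQ hPQ
  have hPN : P ≤ normalizerIn S P := le_normalizerIn hP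
  have hP'N : P' ≤ normalizerIn S P' := le_normalizerIn hP'.1
  have hk' : IsMap F (normalizerIn S P') k := hk.mono (normalizerIn_le_inf hT)
  have hkg : IsMap F (normalizerIn S P) (fun x => k (g x)) := hk'.comp hg hgm
  have e1 : img P (fun x => k (g x)) = img P' k := by rw [(hg.mono hPN).img_comp, hgi]
  refine ⟨_, hkg, ?_, ?_⟩
  · rw [e1]
    refine ⟨(hk'.mono hP'N).img_le, fun R hR => ?_⟩
    have h1 := hP'.2 R (isConj_trans (hk'.mono hP'N).isConj hR)
    refine h1.trans ?_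
    rw [← hk'.card_img]
    have hfin := finite_of_le (normalizerIn_le (S := S) (img P' k))
    refine Subgroup.card_le_of_le ?_
    rw [hk'.img_le_iff]
    exact fun x hx => ⟨hk'.mem hx, hk'.map_normalizer hP'N hx hx.2⟩
  · rw [e1, ← img_inf_sc hT (hk'.mono hP'N), hki]
    exact hQ

/-- fully normalized subgroups of `T` with `C_T(Q) ≤ Q` are centric -/
theorem eCentric_of_fn [Finite S] [Fact p.Prime] (hS : IsPGroup p S) (hF : F.IsSaturated p) (hE : E.IsInvariantIn F)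
    {Q : Subgroup Ω} (hQT : Q ≤ T) (hQ : F.IsFullyNormalized Q) (hc : centralizerIn T Q ≤ Q) : E.IsCentric Q := by
  have hT := hE.2.1
  refine ⟨hQT, fun R hR => ?_⟩
  have hRF := isConj_of_subsystem hE.1 hR
  obtain ⟨k, hk, hki, -⟩ := sat_exists_normalizer_map hS hF hQ (isConj_symm hRF)
  have hRT : R ≤ T := isConj_le_sc hT hQT hRF
  intro x hx
  have hx' := mem_centralizerIn.mp hx
  have hxN : x ∈ normalizerIn S R := centralizerIn_le_normalizerIn R (mem_centralizerIn.mpr ⟨hT.1 hx'.1, hx'.2⟩)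
  have hRN : R ≤ normalizerIn S R := le_normalizerIn (hRT.trans hT.1)
  have h2 : k x ∈ centralizerIn T Q := by
    rw [mem_centralizerIn]
    refine ⟨sc_map_mem hT hk hxN hx'.1, ?_⟩
    rw [← hki]
    exact hk.map_centralizer hRN hxN hx'.2
  have h3 := hc h2
  rw [← hki] at h3
  obtain ⟨y, hy, hyx⟩ := (hk.mono hRN).mem_img.mp h3
  rw [← hk.inj (hRN hy) hxN hyx]
  exact hy

/-- The hypothesis on subgroups not in the family. -/
theorem es_star [Finite S] [Fact p.Prime] (hS : IsPGroup p S) (hE : E.IsNormalIn F p) {P : Subgroup Ω}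
    (hPc : (gsys S p (esH S E) (esK E F hE.1.2.2.2.1) 1).IsCentric P) (hPH : ¬ esH S E P) :
    ∃ Q, (gsys S p (esH S E) (esK E F hE.1.2.2.2.1) 1).IsConj P Q ∧
      ¬ (autInducedBy S Q ⊓ (pCore p ↥((gsys S p (esH S E) (esK E F hE.1.2.2.2.1) 1).autGroup Q)).map
        ((gsys S p (esH S E) (esK E F hE.1.2.2.2.1) 1).autGroup Q).subtype ≤ Inn Q) := by
  have hF : F.IsSaturated p := hE.1.2.1
  have hi : E.IsInvariantIn F := hE.1.2.2
  have hT := hi.2.1
  by_contra hcon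
  push Not at hcon
  have hPS := hPc.1
  set 𝒟 := gsys S p (esH S E) (esK E F hE.1.2.2.2.1) 1 with h𝒟
  have h𝒟F : 𝒟 ≤ F := esSys_le
  have hT𝒟 : 𝒟.StronglyClosed T := by
    rw [stronglyClosed_iff]
    exact ⟨hT.1, fun P f hf hPT x hx => sc_map_mem hT (le_iff.1 h𝒟F P f hf) hx (hPT hx)⟩
  obtain ⟨g, hg, hg1, hg2⟩ := exists_pos hS hF hT hPS
  have hgP := hg.mono (le_normalizerIn hPS)
  obtain ⟨φ, γ, hφ, hγ, he⟩ := es_factor hS hE hgP
  have hφ𝒟 := hφ.isMap
  have hγ2 : IsMap F (img P φ ⊔ T) γ := by rw [hφ.sup_eq]; exact hγ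
  have e1 : img P g = img (img P φ) γ := by rw [← hφ.isMapF.img_comp]; exact img_congr he
  have h1 := cent_inf_le_of_weak hS hT𝒟 (IsCentric_of_isConj hPc hφ𝒟.isConj) (hcon _ hφ𝒟.isConj)
  -- `C_T(P* ∩ T) ≤ P* ∩ T`
  have h2 : centralizerIn T (img P g ⊓ T) ≤ img P g ⊓ T := by
    intro y hy
    have hy' := mem_centralizerIn.1 hy
    have hTi : img T γ = T := sc_img_eq hT hγ2 le_sup_right
    have h3 : y ∈ img T γ := hTi.ge hy'.1
    obtain ⟨t, ht, rfl⟩ := (hγ2.mono le_sup_right).mem_img.1 h3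
    have h4 : t ∈ centralizerIn T (img P φ ⊓ T) := by
      rw [mem_centralizerIn]
      refine ⟨ht, fun x hx => ?_⟩
      have hxm : x ∈ img P φ ⊔ T := Subgroup.mem_sup_right hx.2
      have htm : t ∈ img P φ ⊔ T := Subgroup.mem_sup_right ht
      have h5 : γ x ∈ img P g ⊓ T := ⟨by rw [e1]; exact subset_img hx.1, sc_map_mem hT hγ2 hxm hx.2⟩
      have h6 := hy'.2 _ h5
      rw [← hγ2.map_mul hxm htm, ← hγ2.map_mul htm hxm] at h6
      exact hγ2.inj (Subgroup.mul_mem _ hxm htm) (Subgroup.mul_mem _ htm hxm) h6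
    exact ⟨by rw [e1]; exact subset_img (h1 h4).1, hy'.1⟩
  have h3 := eCentric_of_fn hS hF hi inf_le_right hg2 h2
  refine hPH ⟨hPS, ?_⟩
  -- go back
  have h4 : IsMap F (P ⊓ T) g := hgP.mono inf_le_left
  have h5 := eCentric_img hi h3 (f := minv (P ⊓ T) g) (by
    rw [← img_inf_sc hT hgP]; exact h4.minv_isMap)
  rwa [← img_inf_sc hT hgP, h4.img_minv] at h5

end Cfsg.Agent.Fus
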