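import Cfsg.Agent.Hall.Basic
import Mathlib.GroupTheory.Nilpotent
set_option autoImplicit false

/-!
# `p'`-elements congruent modulo a normal `p`-subgroup are conjugate (helper85)
-/

namespace Cfsg.Agent.Fus

theorem conj_of_congr_normal {G : Type*} [Group G] [Finite G] {p : ℕ} [Fact p.Prime] {N : Subgroup G} [N.Normal]
    (hN : IsPGroup p N) {a b : G} (ha : (orderOf a).Coprime p) (hb : (orderOf b).Coprime p)
    (hab : a * b⁻¹ ∈ N) : ∃ n ∈ N, n * b * n⁻¹ = a := by
  obtain ⟨e, he⟩ := (IsPGroup.iff_card).mp hN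
  have hbot : ∀ {c : G}, (orderOf c).Coprime p → N ⊓ Subgroup.zpowers c = ⊥ := by
    intro c hc
    rw [Subgroup.eq_bot_iff_forall]
    rintro x ⟨h1, h2⟩
    have h3 : orderOf x ∣ p ^ e := by
      rw [← he]
      exact (Subgroup.orderOf_mk x h1).symm.dvd.trans (orderOf_dvd_natCard _)
    have h4 : orderOf x ∣ orderOf c := by
      rw [← Nat.card_zpowers c]
      exact (Subgroup.orderOf_mk x h2).symm.dvd.trans (orderOf_dvd_natCard _)
    rw [← orderOf_eq_one_iff]
    exact Nat.eq_one_of_dvd_coprimes (hc.pow_right e) h4 h3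
  have hrel : ∀ {c : G}, (orderOf c).Coprime p → N.relIndex (Subgroup.zpowers c) = Nat.card (Subgroup.zpowers c) := by
    intro c hc
    rw [← Subgroup.inf_relIndex_right, hbot hc, Subgroup.relIndex_bot_left]
  set L := Subgroup.zpowers a ⊔ N with hL
  have hLb : Subgroup.zpowers b ⊔ N = L := by
    apply le_antisymm
    · refine sup_le ?_ le_sup_right
      rw [Subgroup.zpowers_le]
      have e1 : b = (a * b⁻¹)⁻¹ * a := by group
      rw [e1]
      exact Subgroup.mul_mem _ (Subgroup.mem_sup_right (N.inv_mem hab))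
        (Subgroup.mem_sup_left (Subgroup.mem_zpowers a))
    · refine sup_le ?_ le_sup_right
      rw [Subgroup.zpowers_le]
      have e1 : a = (a * b⁻¹) * b := by group
      rw [e1]
      exact Subgroup.mul_mem _ (Subgroup.mem_sup_right hab) (Subgroup.mem_sup_left (Subgroup.mem_zpowers b))
  have h1 : N.relIndex L = Nat.card (Subgroup.zpowers a) := by
    rw [hL, Subgroup.relIndex_sup_right, hrel ha]
  have h2 : N.relIndex L = Nat.card (Subgroup.zpowers b) := by
    rw [← hLb, Subgroup.relIndex_sup_right, hrel hb]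
  have hnil : Group.IsNilpotent N := hN.isNilpotent
  obtain ⟨n, hn, hc⟩ := Cfsg.Agent.Hall.sz_conj_rel N L le_sup_right (by
      rw [Subgroup.normalizer_eq_top N]; exact le_top) (by
      rw [h1, Nat.card_zpowers, he]
      exact (ha.pow_right e).symm) inferInstance (Subgroup.zpowers b) (Subgroup.zpowers a)
      (hLb ▸ le_sup_left) le_sup_left h2.symm h1.symm
  refine ⟨n, hn, ?_⟩
  have h3 : n * b * n⁻¹ ∈ Subgroup.zpowers a := by
    rw [← hc]
    exact Subgroup.mem_smul_pointwise_iff_exists _ _ _ |>.2 ⟨b, Subgroup.mem_zpowers b, rfl⟩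
  have h4 : n * b * n⁻¹ * a⁻¹ ∈ N := by
    have e1 : n * b * n⁻¹ * a⁻¹ = n * (b * n⁻¹ * b⁻¹) * (a * b⁻¹)⁻¹ := by group
    rw [e1]
    exact N.mul_mem (N.mul_mem hn (Subgroup.Normal.conj_mem ‹_› _ (N.inv_mem hn) b)) (N.inv_mem hab)
  have h5 : n * b * n⁻¹ * a⁻¹ ∈ N ⊓ Subgroup.zpowers a :=
    ⟨h4, Subgroup.mul_mem _ h3 (Subgroup.inv_mem _ (Subgroup.mem_zpowers a))⟩
  rw [hbot ha, Subgroup.mem_bot] at h5
  exact mul_inv_eq_one.1 h5

theorem conj_of_congr {G : Type*} [Group G] [Finite G] {p : ℕ} [Fact p.Prime] {N L : Subgroup G} (hNL : N ≤ L)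
    (hLN : L ≤ Subgroup.normalizer (N : Set G))
    (hN : IsPGroup p N) {a b : G} (haL : a ∈ L) (hbL : b ∈ L) (ha : (orderOf a).Coprime p) (hb : (orderOf b).Coprime p)
    (hab : a * b⁻¹ ∈ N) : ∃ n ∈ N, n * b * n⁻¹ = a := by
  have : (N.subgroupOf L).Normal := Subgroup.normal_subgroupOf_of_le_normalizer hLN
  have hN' : IsPGroup p (N.subgroupOf L) := hN.of_injective (Subgroup.subgroupOfEquivOfLe hNL).toMonoidHom
    (Subgroup.subgroupOfEquivOfLe hNL).injective
  obtain ⟨n, hn, h⟩ := conj_of_congr_normal (N := N.subgroupOf L) hN' (a := (⟨a, haL⟩ : L)) (b := (⟨b, hbL⟩ : L))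
    (by rw [Subgroup.orderOf_mk]; exact ha) (by rw [Subgroup.orderOf_mk]; exact hb) (by
      rw [Subgroup.mem_subgroupOf]; exact hab)
  exact ⟨n, hn, congrArg Subtype.val h⟩

end Cfsg.Agent.Fus
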