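import Cfsg.Agent.Fus.ES7
import Cfsg.Agent.Fus.ESz
set_option autoImplicit false

/-!
# The product of a normal subsystem with `S`, III: extension of `p'`-automorphisms (helper85)
-/

namespace Cfsg.Agent.Fus

open Cfsg
open Cfsg.FusionSystem (centralizerIn normalizerIn)

variable {Ω : Type*} [Group Ω] {S T : Subgroup Ω} {F : FusionSystem S} {E : FusionSystem T} {p : ℕ}

/-- The position of subgroups of the family, fully normalized in the generated system. -/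
theorem exists_pos_fac [Finite S] [Fact p.Prime] (hS : IsPGroup p S) (hE : E.IsNormalIn F p) {P : Subgroup Ω}
    (hPn : (gsys S p (esH S E) (esK E F hE.1.2.2.2.1) (Nat.card P + 1)).IsFullyNormalized P) :
    ∃ g, IsMap F (normalizerIn S P) g ∧ F.IsFullyNormalized (img P g) ∧
      F.IsFullyNormalized (img P g ⊓ T) ∧
      ∀ y ∈ img (normalizerIn S P) g ⊔ T, y ∈ normalizerIn S (img P g) → y ∈ img (normalizerIn S P) g := by
  have hF : F.IsSaturated p := hE.1.2.1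
  have hT : F.StronglyClosed T := hE.1.2.2.2.1
  have hP := hPn.1
  have hPN : P ≤ normalizerIn S P := le_normalizerIn hP
  obtain ⟨g, hg, hg1, hg2⟩ := exists_pos hS hF hT hP
  obtain ⟨φ, γ, hφ, hγ, he⟩ := es_factor hS hE hg
  refine ⟨g, hg, hg1, hg2, ?_⟩
  have hφm := hφ.isMap
  have hfinN := finite_of_le (normalizerIn_le (S := S) (img P φ))
  -- `φ(N_S(P)) = N_S(φ(P))`
  have h1 : img (normalizerIn S P) φ = normalizerIn S (img P φ) := by
    refine Subgroup.eq_of_le_of_card_ge ?_ ?_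
    · rw [hφm.img_le_iff]
      exact fun x hx => ⟨hφm.mem hx, hφm.map_normalizer hPN hx hx.2⟩
    · rw [hφm.card_img]
      refine hPn.2 _ (gsys_conj_of_card ?_ rfl)
      exact (gsys_of_card' (hφm.mono hPN) le_rfl).isConj
  have hγ2 : IsMap F (img (normalizerIn S P) φ ⊔ T) γ := by rw [hφ.sup_eq]; exact hγ
  have hTi : img T γ = T := sc_img_eq hT hγ2 le_sup_right
  have e1 : img (normalizerIn S P) g = img (img (normalizerIn S P) φ) γ := by
    rw [← hφ.isMapF.img_comp]; exact img_congr he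
  have e2 : img (normalizerIn S P) g ⊔ T ≤ img (img (normalizerIn S P) φ ⊔ T) γ := by
    rw [e1]
    exact sup_le (img_mono le_sup_left) (hTi.ge.trans (img_mono le_sup_right))
  have hPφ : img P φ ≤ img (normalizerIn S P) φ := img_mono hPN
  have e3 : img P g = img (img P φ) γ := by
    rw [← (hφ.mono hPN).isMapF.img_comp]; exact img_congr fun x hx => he x (hPN hx)
  intro y hy hyN
  obtain ⟨u, hu, rfl⟩ := hγ2.mem_img.1 (e2 hy)
  have huN : u ∈ normalizerIn S (img P φ) := by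
    have hfin : Finite ↥(img P φ) := finite_of_le (hPφ.trans (le_sup_left.trans hγ2.le))
    refine ⟨hγ2.le hu, mem_normalizer_of_conj fun x hx => ?_⟩
    have hxm : x ∈ img (normalizerIn S P) φ ⊔ T := Subgroup.mem_sup_left (hPφ hx)
    have h2 : γ (u * x * u⁻¹) ∈ img P g := by
      rw [hγ2.map_conj hu hxm]
      exact (Subgroup.mem_normalizer_iff.1 (show γ u ∈ Subgroup.normalizer (img P g : Set Ω) from hyN.2) _).1
        (by rw [e3]; exact subset_img hx)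
    rw [e3] at h2
    obtain ⟨z, hz, hzx⟩ := (hγ2.mono (hPφ.trans le_sup_left)).mem_img.1 h2
    rw [← hγ2.inj (Subgroup.mem_sup_left (hPφ hz))
      (Subgroup.mul_mem _ (Subgroup.mul_mem _ hu hxm) (Subgroup.inv_mem _ hu)) hzx]
    exact hz
  rw [e1]
  exact subset_img (h1.ge huN)

/-- `Aut_E(Q)` is normalized by `Aut_F(Q)` -/
theorem autE_conj [Finite S] (hE : E.IsInvariantIn F) {Q : Subgroup Ω} (hQT : Q ≤ T) {α β : MulAut Q}
    (hα : α ∈ F.autGroup Q) (hβ : β ∈ E.autGroup Q) : α * β * α⁻¹ ∈ E.autGroup Q := by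
  have h1 := inv_trans_mem hE hQT (isMap_ofAut (hQT.trans hE.2.1.1) hα) (img_ofAut α) hβ
  rwa [trans_ofAut_conj (hQT.trans hE.2.1.1) hα] at h1

/-- Extension of a `p'`-element of `Aut_E(Q)`, `Q` centric in `E`, to larger subgroups of `N_S(Q)`. -/
theorem es_ext1 [Finite S] [Fact p.Prime] (hS : IsPGroup p S) (hE : E.IsNormalIn F p) {Q V : Subgroup Ω}
    (hQn : F.IsFullyNormalized Q) (hQc : E.IsCentric Q) (hQV : Q ≤ V) (hCV : centralizerIn S Q ≤ V)
    (hVN : V ≤ normalizerIn S Q) {β : MulAut Q} (hβ : β ∈ E.autGroup Q) (hco : (orderOf β).Coprime p)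
    (hV : ∀ v ∈ V, ∃ v' ∈ V, ∀ x ∈ Q, ofAut β (v * x * v⁻¹) = v' * ofAut β x * v'⁻¹) :
    ∃ κ ∈ esK E F hE.1.2.2.2.1 V, (orderOf κ).Coprime p ∧ (∀ x ∈ Q, ofAut κ x = ofAut β x) ∧
      ∀ v ∈ V, ∀ v' ∈ S, (∀ x ∈ Q, ofAut β (v * x * v⁻¹) = v' * ofAut β x * v'⁻¹) →
        v'⁻¹ * ofAut κ v ∈ centralizerIn S Q := by
  have hF : F.IsSaturated p := hE.1.2.1
  have hi : E.IsInvariantIn F := hE.1.2.2
  have hEs : E.IsSaturated p := hE.1.1
  have hT := hi.2.1
  have hVS : V ≤ S := fun x hx => (hVN hx).1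
  have hQT : Q ≤ T := hQc.1
  have hQS := hQT.trans hT.1
  have hfinQ := finite_of_le hQS
  have hQf : F.IsFullyCentralized Q := sat_fullyCentralized hS hF hQn
  have hCT : centralizerIn T Q ≤ Q := hQc.2 Q (isConj_refl hQT)
  have htc : TCen F T Q := (tcen_iff_isCentric hi.1 fun P f hP hf => dec_of_invariant hi hP hf).2 hQc
  obtain ⟨κ₀, hκ₀, hκ₀β⟩ := exists_pgood hS hE hQc hβ hco
  have hκ₀F := hκ₀.memF
  -- the elements `t b`
  have hB : ∀ b ∈ V, ∃ t ∈ T, t ∈ Subgroup.normalizer (Q : Set Ω) ∧ t * b ∈ V ∧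
      ∀ x ∈ Q, ofAut β (b * x * b⁻¹) = (t * b) * ofAut β x * (t * b)⁻¹ := by
    intro b hb
    obtain ⟨v', hv', hv'x⟩ := hV b hb
    have hbN : b ∈ Subgroup.normalizer (Q : Set Ω) := (hVN hb).2
    have hv'N : v' ∈ Subgroup.normalizer (Q : Set Ω) := (hVN hv').2
    have hbQ : ∀ x ∈ Q, b * x * b⁻¹ ∈ Q := fun x hx => (Subgroup.mem_normalizer_iff.1 hbN x).1 hx
    have hbQi : ∀ x ∈ Q, b⁻¹ * x * b ∈ Q := fun x hx => by
      have := (Subgroup.mem_normalizer_iff.1 (Subgroup.inv_mem _ hbN) x).1 hx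
      rwa [inv_inv] at this
    have hsN : v' * b⁻¹ ∈ normalizerIn S Q := (normalizerIn S Q).mul_mem (hVN hv') ((normalizerIn S Q).inv_mem (hVN hb))
    have hsE : IsMap E (Q ⊔ centralizerIn T Q) (fun x => (v' * b⁻¹) * x * (v' * b⁻¹)⁻¹) := by
      rw [sup_eq_left.2 hCT]
      have h1 : β * (conjAut b hbN * β⁻¹ * (conjAut b hbN)⁻¹) ∈ E.autGroup Q :=
        Subgroup.mul_mem _ hβ (autE_conj hi hQT (conjAut_mem_autGroup hQS (hVS hb) hbN) (Subgroup.inv_mem _ hβ))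
      refine (isMap_ofAut hQT h1).congr fun x hx => ?_
      have h2 : ofAut (conjAut b hbN)⁻¹ x = b⁻¹ * x * b := by
        have h3 : x = ofAut (conjAut b hbN) (b⁻¹ * x * b) := by
          rw [ofAut_conjAut _ _ (hbQi x hx)]; group
        conv_lhs => rw [h3]
        exact ofAut_inv_apply _ (hbQi x hx)
      have h4 := ofAut_mem β⁻¹ (hbQi x hx)
      rw [ofAut_mul _ _ hx, ofAut_mul _ _ hx, h2, ofAut_mul _ _ (hbQi x hx), ofAut_conjAut _ _ h4, hv'x _ h4,
        ofAut_apply_inv β (hbQi x hx)]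
      group
    obtain ⟨t, ht, htx⟩ := conj_eq_T hS hF hi hEs hQT hQn hsN hsE
    have h5 : ∀ x ∈ Q, (t * b) * x * (t * b)⁻¹ = v' * x * v'⁻¹ := by
      intro x hx
      have h6 := htx _ (Subgroup.mem_sup_left (hbQ x hx))
      calc (t * b) * x * (t * b)⁻¹ = t * (b * x * b⁻¹) * t⁻¹ := by group
        _ = (v' * b⁻¹) * (b * x * b⁻¹) * (v' * b⁻¹)⁻¹ := h6.symm
        _ = v' * x * v'⁻¹ := by group
    refine ⟨t, ht.1, ht.2, ?_, fun x hx => ?_⟩
    · have h7 : v'⁻¹ * (t * b) ∈ V := hCV (by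
        rw [mem_centralizerIn]
        refine ⟨S.mul_mem (S.inv_mem (hVS hv')) (S.mul_mem (hT.1 ht.1) (hVS hb)), fun x hx => ?_⟩
        have h8 := h5 x hx
        calc x * (v'⁻¹ * (t * b)) = v'⁻¹ * (v' * x * v'⁻¹) * (t * b) := by group
          _ = v'⁻¹ * ((t * b) * x * (t * b)⁻¹) * (t * b) := by rw [h8]
          _ = v'⁻¹ * (t * b) * x := by group)
      have h9 := V.mul_mem hv' h7
      rwa [mul_inv_cancel_left] at h9
    · rw [hv'x x hx]
      exact (h5 _ (ofAut_mem β hx)).symm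
  have hVe : (Q ⊔ centralizerIn S Q) ⊔ V = V := sup_eq_right.2 (sup_le hQV hCV)
  have hext := exists_lift_ext hS hF hQf hκ₀F (fun x hx => hκ₀.good.mem x hx) (fun c hc => hκ₀.good.triv c hc)
    hκ₀.co hVN (by
      intro b hb
      obtain ⟨t, ht, htN, htb, htx⟩ := hB b hb
      refine ⟨t * b, Subgroup.mem_sup_right htb, fun x hx => ?_, fun c hc => ?_⟩
      · have hbx : b * x * b⁻¹ ∈ Q := (Subgroup.mem_normalizer_iff.1 (hVN hb).2 x).1 hx
        rw [hκ₀β _ hbx, hκ₀β x hx, htx x hx]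
      · have h1 := comm_mem_of_tcen hT htc ht htN (cen_conj (hVN hb).2 hc
          (S.mul_mem (S.mul_mem (hVS hb) hc.1) (S.inv_mem (hVS hb))))
        have e1 : (t * b * c * (t * b)⁻¹) * (b * c * b⁻¹)⁻¹ = t * (b * c * b⁻¹) * t⁻¹ * (b * c * b⁻¹)⁻¹ := by group
        rw [e1]; exact h1)
  rw [hVe] at hext
  obtain ⟨κ', hκ'F, hκ'co, hκ'0, hκ'b⟩ := hext
  have hκ'm := isMap_ofAut hVS hκ'F
  have hκ'β : ∀ x ∈ Q, ofAut κ' x = ofAut β x := fun x hx => by
    rw [hκ'0 x (Subgroup.mem_sup_left hx), hκ₀β x hx]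
  -- trivial modulo `T`
  obtain ⟨e, he⟩ := exists_exp (p := p) hS
  have hCN : centralizerIn S Q ≤ Subgroup.normalizer (T : Set Ω) := (centralizerIn_le _).trans (sc_le_normalizer hT)
  have hmod : ∀ b ∈ V, b⁻¹ * ofAut κ' b ∈ V ⊓ T := by
    refine coprime_mod (A₀ := V ⊓ T) (A₁ := V ⊓ (T ⊔ centralizerIn S Q)) (B := V) (n := orderOf κ') (N := p ^ e)
      le_rfl inf_le_left (inf_le_inf_left V le_sup_left) ?_ ?_ ?_ ?_ (pow_orderOf_eq_one κ') ?_ (hκ'co.pow_right e)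
    · intro a ha
      have h1 := sc_le_normalizer hT (hVS ha.1)
      rw [Subgroup.mem_normalizer_iff] at h1 ⊢
      intro y
      rw [Subgroup.mem_inf, Subgroup.mem_inf, ← h1 y]
      refine and_congr_left fun _ => ⟨fun h => V.mul_mem (V.mul_mem ha.1 h) (V.inv_mem ha.1), fun h => ?_⟩
      have h2 := V.mul_mem (V.mul_mem (V.inv_mem ha.1) h) ha.1
      have e1 : a⁻¹ * (a * y * a⁻¹) * a = y := by group
      rwa [e1] at h2
    · exact fun a ha => ⟨ofAut_mem κ' ha.1, sc_map_mem hT hκ'm ha.1 ha.2⟩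
    · rintro a ⟨haV, ha⟩
      refine ⟨V.mul_mem (V.inv_mem haV) (ofAut_mem κ' haV), ?_⟩
      obtain ⟨t, ht, c, hc, rfl⟩ := (H85.mem_sup_iff_of_normalizes hCN).1 ha
      have hcV := hCV hc
      have htV : t ∈ V := by
        have := V.mul_mem haV (V.inv_mem hcV)
        rwa [mul_inv_cancel_right] at this
      rw [hκ'm.map_mul htV hcV]
      have h1 := sc_map_mem hT hκ'm htV ht
      have h2 : c⁻¹ * ofAut κ' c ∈ T := by
        rw [hκ'0 c (Subgroup.mem_sup_right hc)]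
        exact hQT (hκ₀.good.triv c hc)
      have e1 : (t * c)⁻¹ * (ofAut κ' t * ofAut κ' c) = (c⁻¹ * (t⁻¹ * ofAut κ' t) * c⁻¹⁻¹) * (c⁻¹ * ofAut κ' c) := by
        group
      rw [e1]
      exact T.mul_mem (sc_conj_mem hT (S.inv_mem hc.1) (T.mul_mem (T.inv_mem ht) h1)) h2
    · intro b hb
      refine ⟨V.mul_mem (V.inv_mem hb) (ofAut_mem κ' hb), ?_⟩
      obtain ⟨t, ht, htN, htb, htx⟩ := hB b hb
      have h1 := hκ'b b hb (t * b) (hVS htb) fun x hx => by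
        have hbx : b * x * b⁻¹ ∈ Q := (Subgroup.mem_normalizer_iff.1 (hVN hb).2 x).1 hx
        rw [hκ₀β _ hbx, hκ₀β x hx, htx x hx]
      have e1 : b⁻¹ * ofAut κ' b = (b⁻¹ * t * b⁻¹⁻¹) * ((t * b)⁻¹ * ofAut κ' b) := by group
      rw [e1]
      exact Subgroup.mul_mem _ (Subgroup.mem_sup_left (sc_conj_mem hT (S.inv_mem (hVS hb)) ht))
        (Subgroup.mem_sup_right h1)
    · exact fun a ha => he a (hVS ha.1)
  refine ⟨κ', (mem_esK hVS).2 ⟨hκ'F, fun x hx => ?_, ?_⟩, hκ'co, hκ'β, fun v hv v' hv' h => ?_⟩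
  · have h1 := (hmod x hx).2
    have h2 := sc_conj_mem hT (hVS hx) h1
    have e1 : x * (x⁻¹ * ofAut κ' x) * x⁻¹ = ofAut κ' x * x⁻¹ := by group
    rwa [e1] at h2
  · exact mem_of_restr' hS hi hEs hVS hQc hQV (fun x hx => (hVN hx).2) hκ'F hκ'co
      (fun y hy => by rw [hκ'β y hy]; exact ofAut_mem β hy)
      ((isMap_ofAut hQT hβ).congr fun x hx => (hκ'β x hx).symm)
  · refine hκ'b v hv v' hv' fun x hx => ?_
    have hbx : v * x * v⁻¹ ∈ Q := (Subgroup.mem_normalizer_iff.1 (hVN hv).2 x).1 hx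
    rw [hκ₀β _ hbx, hκ₀β x hx, h x hx]

end Cfsg.Agent.Fus
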