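import Cfsg.Agent.Fus.ES8
import Cfsg.Agent.Fus.Lift1
set_option autoImplicit false

/-!
# The product of a normal subsystem with `S`, IV (helper85)
-/

namespace Cfsg.Agent.Fus

open Cfsg
open Cfsg.FusionSystem (centralizerIn normalizerIn)

variable {Ω : Type*} [Group Ω] {S T : Subgroup Ω} {F : FusionSystem S} {E : FusionSystem T} {p : ℕ}

/-- the automorphisms of `P` in `F`, trivial on `P ∩ T` and modulo `P ∩ T` -/
def zT (F : FusionSystem S) (T P : Subgroup Ω) : Subgroup (MulAut P) where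
  carrier := {κ | κ ∈ F.autGroup P ∧ (∀ x ∈ P ⊓ T, ofAut κ x = x) ∧ ∀ x ∈ P, x⁻¹ * ofAut κ x ∈ P ⊓ T}
  one_mem' := ⟨Subgroup.one_mem _, fun x hx => ofAut_one hx.1, fun x hx => by
    rw [ofAut_one hx, inv_mul_cancel]
    exact Subgroup.one_mem _⟩
  mul_mem' := by
    rintro κ μ ⟨h1, h2, h3⟩ ⟨k1, k2, k3⟩
    refine ⟨Subgroup.mul_mem _ h1 k1, fun x hx => ?_, fun x hx => ?_⟩
    · rw [ofAut_mul _ _ hx.1, k2 x hx, h2 x hx]
    · rw [ofAut_mul _ _ hx]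
      have e : x⁻¹ * ofAut κ (ofAut μ x) = (x⁻¹ * ofAut μ x) * ((ofAut μ x)⁻¹ * ofAut κ (ofAut μ x)) := by
        group
      rw [e]
      exact Subgroup.mul_mem _ (k3 x hx) (h3 _ (ofAut_mem μ hx))
  inv_mem' := by
    rintro κ ⟨h1, h2, h3⟩
    have h4 : ∀ x ∈ P ⊓ T, ofAut κ⁻¹ x = x := fun x hx => by
      conv_lhs => rw [← h2 x hx]
      exact ofAut_inv_apply κ hx.1
    refine ⟨Subgroup.inv_mem _ h1, h4, fun x hx => ?_⟩
    have h5 := h3 _ (ofAut_mem κ⁻¹ hx)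
    rw [ofAut_apply_inv κ hx] at h5
    have e : x⁻¹ * ofAut κ⁻¹ x = ((ofAut κ⁻¹ x)⁻¹ * x)⁻¹ := by group
    rw [e]
    exact Subgroup.inv_mem _ h5

theorem mem_zT {P : Subgroup Ω} {κ : MulAut P} : κ ∈ zT F T P ↔ κ ∈ F.autGroup P ∧
    (∀ x ∈ P ⊓ T, ofAut κ x = x) ∧ ∀ x ∈ P, x⁻¹ * ofAut κ x ∈ P ⊓ T := Iff.rfl

theorem zT_le {P : Subgroup Ω} : zT F T P ≤ F.autGroup P := fun _ h => h.1

theorem zT_isPGroup [Finite S] [Fact p.Prime] (hS : IsPGroup p S) {P : Subgroup Ω} (hP : P ≤ S) :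
    IsPGroup p (zT F T P) := by
  rintro ⟨κ, h1, h2, h3⟩
  obtain ⟨k, hk⟩ := pow_eq_one_of_stab hS hP inf_le_left h2 h3
  exact ⟨k, Subtype.ext hk⟩

theorem zT_conj (hT : F.StronglyClosed T) {P : Subgroup Ω} (hP : P ≤ S) {α ν : MulAut P} (hα : α ∈ F.autGroup P)
    (hν : ν ∈ zT F T P) : α * ν * α⁻¹ ∈ zT F T P := by
  obtain ⟨h1, h2, h3⟩ := hν
  have hα' := isMap_ofAut hP hα
  have hαi := isMap_ofAut hP (Subgroup.inv_mem _ hα)
  have hinv : ∀ x ∈ P ⊓ T, ofAut α x ∈ P ⊓ T := fun x hx => ⟨ofAut_mem α hx.1, sc_map_mem hT hα' hx.1 hx.2⟩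
  have hinv' : ∀ x ∈ P ⊓ T, ofAut α⁻¹ x ∈ P ⊓ T :=
    fun x hx => ⟨ofAut_mem _ hx.1, sc_map_mem hT hαi hx.1 hx.2⟩
  refine ⟨Subgroup.mul_mem _ (Subgroup.mul_mem _ hα h1) (Subgroup.inv_mem _ hα), fun x hx => ?_, fun x hx => ?_⟩
  · rw [ofAut_mul _ _ hx.1, ofAut_mul _ _ (ofAut_mem _ hx.1), h2 _ (hinv' x hx), ofAut_apply_inv α hx.1]
  · have hy := ofAut_mem α⁻¹ hx
    have h4 := hinv _ (h3 _ hy)
    rw [ofAut_map_mul α (P.inv_mem hy) (ofAut_mem ν hy), ofAut_map_inv' α hy, ofAut_apply_inv α hx] at h4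
    rw [ofAut_mul _ _ hx, ofAut_mul _ _ hy]
    exact h4

/-- for `P` fully automized the elements of `zT` are conjugations by elements of `C_S(P ∩ T)` -/
theorem zT_eq_conj [Finite S] [Fact p.Prime] (hS : IsPGroup p S) (hT : F.StronglyClosed T) {P : Subgroup Ω}
    (hPa : F.IsFullyAutomized p P) {z : MulAut P} (hz : z ∈ zT F T P) :
    ∃ w ∈ centralizerIn S (P ⊓ T), w ∈ Subgroup.normalizer (P : Set Ω) ∧ ∀ x ∈ P, ofAut z x = w * x * w⁻¹ := by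
  have hP := hPa.1
  have hfinP := finite_of_le hP
  have hfinA := finite_mulAut (P := P)
  have h1 : zT F T P ≤ autInducedBy S P := (fa_sylIn hPa).le_of_normal zT_le (zT_isPGroup hS hP)
    (conj_le_normalizer_of fun _ hα _ hκ => zT_conj hT hP hα hκ)
  obtain ⟨w, hw, hwx⟩ := mem_autInducedBy'.1 (h1 hz)
  refine ⟨w, ?_, mem_normalizer_of_ofAut hwx, hwx⟩
  rw [mem_centralizerIn]
  refine ⟨hw, fun x hx => ?_⟩
  have h2 := hz.2.1 x hx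
  rw [hwx x hx.1] at h2
  calc x * w = (w * x * w⁻¹) * w := by rw [h2]
    _ = w * x := by group

/-- elements of `zT` act on `P` through `Z(P ∩ T)` -/
theorem zT_val (hT : F.StronglyClosed T) {P : Subgroup Ω} (hP : P ≤ S) {z : MulAut P} (hz : z ∈ zT F T P) {x : Ω} (hx : x ∈ P) {y : Ω}
    (hy : y ∈ P ⊓ T) : y * (x⁻¹ * ofAut z x) = (x⁻¹ * ofAut z x) * y := by
  have hxy : x * y * x⁻¹ ∈ P ⊓ T := ⟨P.mul_mem (P.mul_mem hx hy.1) (P.inv_mem hx), sc_conj_mem hT (hP hx) hy.2⟩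
  have h1 := hz.2.1 _ hxy
  rw [ofAut_map_mul z (P.mul_mem hx hy.1) (P.inv_mem hx), ofAut_map_mul z hx hy.1, hz.2.1 y hy,
    ofAut_map_inv' z hx] at h1
  have h2 : ofAut z x * y = x * y * x⁻¹ * ofAut z x := by rw [← h1]; group
  calc y * (x⁻¹ * ofAut z x) = x⁻¹ * (x * y * x⁻¹ * ofAut z x) := by group
    _ = x⁻¹ * (ofAut z x * y) := by rw [h2]
    _ = (x⁻¹ * ofAut z x) * y := by group

/-- `zT` is commutative -/
theorem zT_comm (hT : F.StronglyClosed T) {P : Subgroup Ω} (hP : P ≤ S) {z z' : MulAut P} (hz : z ∈ zT F T P)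
    (hz' : z' ∈ zT F T P) : z * z' = z' * z := by
  have key : ∀ {z z' : MulAut P}, z ∈ zT F T P → z' ∈ zT F T P → ∀ x ∈ P,
      ofAut (z * z') x = x * ((x⁻¹ * ofAut z x) * (x⁻¹ * ofAut z' x)) := by
    intro z z' hz hz' x hx
    have h1 := hz'.2.2 x hx
    have e1 : ofAut z' x = x * (x⁻¹ * ofAut z' x) := by group
    rw [ofAut_mul _ _ hx, e1, ofAut_map_mul z hx h1.1, hz.2.1 _ h1]
    group
  refine ofAut_injective fun x hx => ?_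
  rw [key hz hz' x hx, key hz' hz x hx, zT_val hT hP hz' hx (hz.2.2 x hx)]

/-- **The extension lemma.** -/
theorem es_ext2 [Finite S] [Fact p.Prime] (hS : IsPGroup p S) (hE : E.IsNormalIn F p) {P V : Subgroup Ω}
    (hPn : F.IsFullyNormalized P) (hQn : F.IsFullyNormalized (P ⊓ T)) (hQc : E.IsCentric (P ⊓ T)) (hPV : P ≤ V)
    (hCV : centralizerIn S (P ⊓ T) ≤ V) (hVN : V ≤ normalizerIn S (P ⊓ T)) {κ : MulAut P}
    (hκ : κ ∈ esK E F hE.1.2.2.2.1 P) (hco : (orderOf κ).Coprime p)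
    (hV : ∀ v ∈ V, ∃ v' ∈ V, ∀ x ∈ P ⊓ T, ofAut κ (v * x * v⁻¹) = v' * ofAut κ x * v'⁻¹) :
    ∃ κ' ∈ esK E F hE.1.2.2.2.1 V, (orderOf κ').Coprime p ∧ ∀ x ∈ P, ofAut κ' x = ofAut κ x := by
  have hF : F.IsSaturated p := hE.1.2.1
  have hi : E.IsInvariantIn F := hE.1.2.2
  have hT := hi.2.1
  have hP := hPn.1
  have hVS : V ≤ S := fun x hx => (hVN hx).1
  have hCT : centralizerIn T (P ⊓ T) ≤ P ⊓ T := hQc.2 _ (isConj_refl hQc.1)
  have hfinP := finite_of_le hP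
  have hfinA := finite_mulAut (P := P)
  obtain ⟨hκF, hκT, hκE⟩ := (mem_esK hP).1 hκ
  have hκm := isMap_ofAut hP hκF
  have hκQ : ∀ x ∈ P ⊓ T, ofAut κ x ∈ P ⊓ T := fun x hx => ⟨ofAut_mem κ hx.1, sc_map_mem hT hκm hx.1 hx.2⟩
  obtain ⟨β, hβF, hβ, hβo⟩ := exists_restrict_mem hP inf_le_left hκF hκQ
  have hβE : β ∈ E.autGroup (P ⊓ T) := (mem_autGroup_iff inf_le_right).2 (hκE.congr fun x hx => (hβ x hx).symm)
  have hNQ : ∀ {v : Ω}, v ∈ V → ∀ x ∈ P ⊓ T, v * x * v⁻¹ ∈ P ⊓ T := fun hv x hx =>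
    (Subgroup.mem_normalizer_iff.1 (show _ ∈ Subgroup.normalizer ((P ⊓ T : Subgroup Ω) : Set Ω) from (hVN hv).2) x).1 hx
  obtain ⟨lam, hlK, hlco, hlβ, hlv⟩ := es_ext1 hS hE hQn hQc (inf_le_left.trans hPV) hCV hVN hβE
    (hco.coprime_dvd_left hβo) (by
      intro v hv
      obtain ⟨v', hv', h⟩ := hV v hv
      exact ⟨v', hv', fun x hx => by rw [hβ _ (hNQ hv x hx), hβ x hx, h x hx]⟩)
  obtain ⟨hlF, hlT, hlE⟩ := (mem_esK hVS).1 hlK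
  -- comparison on `P`
  have hcmp : ∀ x ∈ P, (ofAut κ x)⁻¹ * ofAut lam x ∈ P ⊓ T := by
    intro x hx
    have h1 : (ofAut κ x)⁻¹ * ofAut lam x ∈ centralizerIn S (P ⊓ T) := by
      refine hlv x (hPV hx) _ (hP (ofAut_mem κ hx)) fun y hy => ?_
      rw [hβ _ (hNQ (hPV hx) y hy), hβ y hy, ofAut_map_mul κ (P.mul_mem hx hy.1) (P.inv_mem hx),
        ofAut_map_mul κ hx hy.1, ofAut_map_inv' κ hx]
    have h2 : (ofAut κ x)⁻¹ * ofAut lam x ∈ T := by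
      have h3 := hκT x hx
      have h4 := hlT x (hPV hx)
      have h5 := T.mul_mem (T.inv_mem h3) h4
      have h6 := sc_conj_mem hT (S.inv_mem (hP hx)) h5
      have e1 : x⁻¹ * ((ofAut κ x * x⁻¹)⁻¹ * (ofAut lam x * x⁻¹)) * x⁻¹⁻¹ = (ofAut κ x)⁻¹ * ofAut lam x := by group
      rwa [e1] at h6
    exact hCT (mem_centralizerIn.2 ⟨h2, (mem_centralizerIn.1 h1).2⟩)
  obtain ⟨μ, hμF, hμ, hμo⟩ := exists_restrict_mem hVS hPV hlF (by
    intro x hx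
    have h1 := P.mul_mem (ofAut_mem κ hx) (hcmp x hx).1
    rwa [mul_inv_cancel_left] at h1)
  have hκμ : κ * μ⁻¹ ∈ zT F T P := by
    have hpt : ∀ y ∈ P, ∃ x ∈ P, y = ofAut μ x := fun y hy => ⟨_, ofAut_mem μ⁻¹ hy, (ofAut_apply_inv μ hy).symm⟩
    refine ⟨Subgroup.mul_mem _ hκF (Subgroup.inv_mem _ hμF), fun y hy => ?_, fun y hy => ?_⟩
    · obtain ⟨x, hx, rfl⟩ := hpt y hy.1
      have hxT : x ∈ T := (sc_map_mem_iff hT (isMap_ofAut hP hμF) hx).1 hy.2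
      rw [ofAut_mul _ _ (ofAut_mem μ hx), ofAut_inv_apply μ hx, hμ x hx, hlβ x ⟨hx, hxT⟩, hβ x ⟨hx, hxT⟩]
    · obtain ⟨x, hx, rfl⟩ := hpt y hy
      rw [ofAut_mul _ _ (ofAut_mem μ hx), ofAut_inv_apply μ hx, hμ x hx]
      have h1 := Subgroup.inv_mem _ (hcmp x hx)
      have e1 : ((ofAut κ x)⁻¹ * ofAut lam x)⁻¹ = (ofAut lam x)⁻¹ * ofAut κ x := by group
      rwa [e1] at h1
  obtain ⟨z, hz, hzμ⟩ := conj_of_congr (N := zT F T P) (L := F.autGroup P) zT_le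
    (conj_le_normalizer_of fun _ hα _ hν => zT_conj hT hP hα hν) (zT_isPGroup hS hP) hκF hμF hco
    (hlco.coprime_dvd_left hμo) hκμ
  obtain ⟨w, hw, hwN, hwz⟩ := zT_eq_conj hS hT (sat_fullyAutomized hS hF hPn) hz
  have hwV := hCV hw
  have hwVN : w ∈ Subgroup.normalizer (V : Set Ω) := Subgroup.le_normalizer hwV
  have hwF : conjAut w hwVN ∈ F.autGroup V := conjAut_mem_autGroup hVS (hVS hwV) hwVN
  refine ⟨conjAut w hwVN * lam * (conjAut w hwVN)⁻¹, ?_, ?_, fun x hx => ?_⟩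
  · rw [esK_eq hVS] at hlK ⊢
    exact kR_conj hi hwF hlK
  · rw [orderOf_conj']; exact hlco
  · have hwPi : w⁻¹ * x * w ∈ P := by
      have := (Subgroup.mem_normalizer_iff.1 (Subgroup.inv_mem _ hwN) x).1 hx
      rwa [inv_inv] at this
    have h1 : ofAut (conjAut w hwVN)⁻¹ x = w⁻¹ * x * w := by
      have h3 : x = ofAut (conjAut w hwVN) (w⁻¹ * x * w) := by
        rw [ofAut_conjAut _ _ (hPV hwPi)]; group
      conv_lhs => rw [h3]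
      exact ofAut_inv_apply _ (hPV hwPi)
    have h2 : ofAut z⁻¹ x = w⁻¹ * x * w := by
      have h3 : x = ofAut z (w⁻¹ * x * w) := by
        rw [hwz _ hwPi]; group
      conv_lhs => rw [h3]
      exact ofAut_inv_apply _ hwPi
    rw [ofAut_mul _ _ (hPV hx), ofAut_mul _ _ (ofAut_mem _ (hPV hx)), h1, ofAut_conjAut _ _ (ofAut_mem _ (hPV hwPi)),
      ← hzμ, ofAut_mul _ _ hx, ofAut_mul _ _ (ofAut_mem _ hx), h2, hwz _ (ofAut_mem _ hwPi), hμ _ hwPi]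

end Cfsg.Agent.Fus
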