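import Cfsg.Agent.Fus.Trans2
import Cfsg.Agent.Solv.Frattini
set_option autoImplicit false
set_option maxHeartbeats 400000

/-!
# The elementary part of Tate's theorem for fusion systems (helper88)
-/

namespace Cfsg.Agent.Fus.Tr

variable {X B A : Type*} [Group B] [CommGroup A]

/-- Gauge functions exist when the stabilizers lie in the kernel. -/
theorem exists_gauge' {r : B →* Equiv.Perm X} (l : B →* A) (hr : ∀ b x, r b x = x → l b = 1) :
    ∃ h : X → A, Gauge r l h := by
  have key : ∀ x : X, ∃ b, r b (omk r x).out = x := fun x => omk_eq.mp (omk_out _)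
  choose τ hτ using key
  refine ⟨fun x => l (τ x), fun b x => ?_⟩
  have h1 : omk r (r b x) = omk r x := (omk_eq.mpr ⟨b, rfl⟩).symm
  have h2 := hτ (r b x)
  rw [h1] at h2
  have h3 : r (τ (r b x)) (omk r x).out = r (b * τ x) (omk r x).out := by
    rw [h2, map_mul, Equiv.Perm.mul_apply, hτ]
  have h4 : r ((b * τ x)⁻¹ * τ (r b x)) (omk r x).out = (omk r x).out := by
    rw [map_mul, Equiv.Perm.mul_apply, h3, ← Equiv.Perm.mul_apply, ← map_mul, inv_mul_cancel, map_one]
    rfl
  have h5 := hr _ _ h4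
  show l (τ (r b x)) = l b * l (τ x)
  rw [map_mul, map_inv, inv_mul_eq_one] at h5
  rw [← h5, map_mul]

end Cfsg.Agent.Fus.Tr

namespace Cfsg.Agent.Fus.Bi

open Cfsg Cfsg.Agent.Fus Cfsg.Agent.Fus.Burn

variable {Ω : Type*} [Group Ω] {S : Subgroup Ω} {F : FusionSystem S} {p : ℕ} {X A : Type*} [CommGroup A]

/-- `l` is `F`-stable -/
def Stable (F : FusionSystem S) (l : S →* A) : Prop :=
  ∀ (P : Subgroup Ω) (f : Ω → Ω) (h : IsMap F P f), ∀ u (hu : u ∈ P), l ⟨f u, h.mem hu⟩ = l ⟨u, h.le hu⟩

theorem stable_iff {l : S →* A} : Stable F l ↔ ∀ x (hx : x ∈ S), x ∈ F.focalSubgroup → l ⟨x, hx⟩ = 1 := by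
  constructor
  · intro h x hx hxf
    have h1 : F.focalSubgroup ≤ l.ker.map S.subtype := by
      refine focal_le fun P f hf x hx => ?_
      refine ⟨⟨x, hf.le hx⟩⁻¹ * ⟨f x, hf.mem hx⟩, ?_, rfl⟩
      rw [SetLike.mem_coe, MonoidHom.mem_ker, map_mul, map_inv, h P f hf x hx, inv_mul_cancel]
    obtain ⟨w, hw, hwx⟩ := h1 hxf
    have : w = ⟨x, hx⟩ := Subtype.ext hwx
    rw [← this]
    exact hw
  · intro h P f hf u hu
    have h1 := h (u⁻¹ * f u) (S.mul_mem (S.inv_mem (hf.le hu)) (hf.mem hu)) (mem_focal_of_isMap hf hu)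
    have h2 : (⟨u⁻¹ * f u, S.mul_mem (S.inv_mem (hf.le hu)) (hf.mem hu)⟩ : S) = ⟨u, hf.le hu⟩⁻¹ * ⟨f u, hf.mem hu⟩ := rfl
    rw [h2, map_mul, map_inv, inv_mul_eq_one] at h1
    exact h1.symm

theorem V_stable_of [Finite X] {α : S × S →* Equiv.Perm X} (hα : RealAct F α) {l : S →* A} {h : X → A}
    (hh : Tr.Gauge (ract α) l h) : Stable F (V hh) := fun _ _ hf _ hu => V_fus hα hh hf hu

/-- the gauge for a stable homomorphism -/
theorem exists_gauge_stable {α : S × S →* Equiv.Perm X} (hα : RealAct F α) {l : S →* A} (hl : Stable F l) :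
    ∃ h : X → A, ∀ (a b : S) (x : X), h (α (a, b) x) = (l a)⁻¹ * l b * h x := by
  obtain ⟨h, hh⟩ := Tr.exists_gauge' (r := α) ((l⁻¹).coprod l) (by
    rintro ⟨a, b⟩ x hx
    obtain ⟨P, f, hf, hP⟩ := hα.supp x
    have h1 : ((a, b) : S × S) ∈ graph hf := by rw [← hP]; exact hx
    have h2 : b = ⟨f a, hf.mem h1.1⟩ := Subtype.ext h1.2
    rw [MonoidHom.coprod_apply, MonoidHom.inv_apply]
    show (l a)⁻¹ * l b = 1
    rw [h2, hl P f hf a h1.1, inv_mul_cancel])
  exact ⟨h, fun a b x => hh (a, b) x⟩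

/-- The transfer of a stable homomorphism. -/
theorem V_of_stable [Finite X] {α : S × S →* Equiv.Perm X} (hα : RealAct F α) {l : S →* A} (hl : Stable F l) {h : X → A}
    (hh : Tr.Gauge (ract α) l h) (a : S) : V hh a = (l a)⁻¹ ^ Nat.card (Tr.Orb (ract α)) := by
  classical
  obtain ⟨h', hh'⟩ := exists_gauge_stable hα hl
  have hg : Tr.Gauge (ract α) l h' := fun b x => by
    rw [ract_apply, hh', map_one, inv_one, one_mul]
  rw [V_apply, Tr.trg_congr hh hg (left_mem_cen α a)]
  let _ : Fintype (Tr.Orb (ract α)) := Fintype.ofFinite _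
  unfold Tr.trg
  simp only
  rw [Finset.prod_congr rfl (fun o _ => by rw [hh', map_one, mul_one, mul_div_assoc, div_self', mul_one]),
    Finset.prod_const, Finset.card_univ, ← Nat.card_eq_fintype_card]

/-- Elementary Tate: `foc(F) ≤ K Φ(S)` implies `foc(F) ≤ K`. -/
theorem focal_le_of_elementary [Finite S] [Fact p.Prime] (hS : IsPGroup p S) (hF : F.IsSaturated p)
    {K : Subgroup Ω} (hKS : K ≤ S) (hSK : ⁅S, S⁆ ≤ K) (hKF : K ≤ F.focalSubgroup)
    (h : F.focalSubgroup ≤ K ⊔ (frattini S).map S.subtype) : F.focalSubgroup ≤ K := by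
  obtain ⟨c, hc⟩ := exists_isChar hS hF
  have hX : Finite (carr c) := (finite_carr c).to_subtype
  have hα := charAct_carr hc
  set α := restr (uact (S × S)) (carr c) (carr_inv c) with hαd
  set m := Nat.card (Tr.Orb (ract α)) with hm
  have hpm : ¬ p ∣ m := hα.not_dvd
  -- the quotient
  have hcomm : commutator S ≤ K.subgroupOf S := by
    intro x hx
    rw [Subgroup.mem_subgroupOf]
    apply hSK
    have h7 : (commutator S).map S.subtype = ⁅S, S⁆ := by
      rw [commutator_def, Subgroup.map_commutator, ← MonoidHom.range_eq_map, Subgroup.range_subtype]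
    rw [← h7]
    exact ⟨x, hx, rfl⟩
  have hKn : (K.subgroupOf S).Normal := Subgroup.Normal.of_commutator_le _ hcomm
  let _ : CommGroup (S ⧸ K.subgroupOf S) :=
    { (inferInstance : Group (S ⧸ K.subgroupOf S)) with
      mul_comm := ((Subgroup.Normal.quotient_commutative_iff_commutator_le).mpr hcomm).is_comm.comm }
  -- the elementary case
  have helem : ∀ l : S →* S ⧸ K.subgroupOf S, (∀ s, l s ^ p = 1) → K.subgroupOf S ≤ l.ker →
      F.focalSubgroup ≤ l.ker.map S.subtype := by
    intro l hl hlK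
    have h1 : frattini S ≤ l.ker := by
      refine Cfsg.Agent.Solv.frattini_le_of_elementary_quotient (p := p) l.ker (hcomm.trans hlK) fun x => ?_
      rw [MonoidHom.mem_ker, map_pow, hl]
    refine h.trans (sup_le ?_ (Subgroup.map_mono h1))
    intro x hx
    exact ⟨⟨x, hKS hx⟩, hlK hx, rfl⟩
  have hker_stable : ∀ l : S →* S ⧸ K.subgroupOf S, F.focalSubgroup ≤ l.ker.map S.subtype → Stable F l := by
    intro l hl
    rw [stable_iff]
    intro x hx hxf
    obtain ⟨w, hw, hwx⟩ := hl hxf
    have : w = ⟨x, hx⟩ := Subtype.ext hwx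
    rw [← this]
    exact hw
  have main : ∀ (k : ℕ) (l : S →* S ⧸ K.subgroupOf S), (∀ s, l s ^ p ^ k = 1) → K.subgroupOf S ≤ l.ker →
      Stable F l := by
    intro k
    induction k with
    | zero =>
      intro l hl _ P f hf u hu
      have h1 := hl ⟨f u, hf.mem hu⟩
      have h2 := hl ⟨u, hf.le hu⟩
      rw [pow_zero, pow_one] at h1 h2
      rw [h1, h2]
    | succ k ih =>
      intro l hl hlK
      -- the `p`-th power
      let lp : S →* S ⧸ K.subgroupOf S := (powMonoidHom p).comp l
      have hlp : ∀ s, lp s = l s ^ p := fun s => rfl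
      have hlpS : Stable F lp := ih lp (fun s => by rw [hlp, ← pow_mul, ← pow_succ', hl]) (fun s hs => by
        rw [MonoidHom.mem_ker, hlp, MonoidHom.mem_ker.mp (hlK hs), one_pow])
      obtain ⟨g, hg⟩ := Tr.exists_gauge (r := ract α) hα.toRealAct.free l
      have hgp : Tr.Gauge (ract α) lp (fun x => g x ^ p) := fun b x => by
        show g (ract α b x) ^ p = l b ^ p * g x ^ p
        rw [hg, mul_pow]
      have hVp : ∀ a, V hg a ^ p = V hgp a := by
        classical
        intro a
        rw [V_apply, V_apply]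
        let _ : Fintype (Tr.Orb (ract α)) := Fintype.ofFinite _
        unfold Tr.trg
        simp only
        rw [← Finset.prod_pow]
        refine Finset.prod_congr rfl fun o _ => ?_
        rw [div_pow]
      -- the difference
      let d : S →* S ⧸ K.subgroupOf S := ((powMonoidHom m).comp l) * V hg
      have hd : ∀ s, d s = l s ^ m * V hg s := fun s => rfl
      have hdp : ∀ s, d s ^ p = 1 := by
        intro s
        rw [hd, mul_pow, hVp, V_of_stable hα.toRealAct hlpS hgp, hlp, ← pow_mul, mul_comm m p, pow_mul, inv_pow,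
          mul_inv_cancel]
      have hdS : Stable F d := by
        apply hker_stable
        apply helem d hdp
        intro s hs
        rw [MonoidHom.mem_ker, hd, MonoidHom.mem_ker.mp (hlK hs), one_pow, one_mul]
        have h1 := stable_iff.mp (V_stable_of hα.toRealAct hg) s s.2 (hKF hs)
        exact h1
      -- hence `l ^ m` is stable
      intro P f hf u hu
      have h1 := hdS P f hf u hu
      rw [hd, hd, V_stable_of hα.toRealAct hg P f hf u hu] at h1
      have h2 := mul_right_cancel h1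
      -- `m` is prime to `p`
      have h3 : ∀ x y : S ⧸ K.subgroupOf S, x ^ p ^ (k + 1) = 1 → y ^ p ^ (k + 1) = 1 → x ^ m = y ^ m → x = y := by
        intro x y hx hy hxy
        have h4 : (x / y) ^ p ^ (k + 1) = 1 := by rw [div_pow, hx, hy, div_one]
        have h5 : (x / y) ^ m = 1 := by rw [div_pow, hxy, div_self']
        rw [← orderOf_dvd_iff_pow_eq_one] at h4 h5
        have h6 : orderOf (x / y) = 1 := Nat.eq_one_of_dvd_coprimes
          (Nat.Coprime.pow_left (k + 1) ((Fact.out : p.Prime).coprime_iff_not_dvd.mpr hpm)) h4 h5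
        rw [orderOf_eq_one_iff, div_eq_one] at h6
        exact h6
      exact h3 _ _ (hl _) (hl _) h2
  -- conclusion
  obtain ⟨k, hk⟩ := IsPGroup.iff_card.mp hS
  have hmain := main k (QuotientGroup.mk' _) (fun s => by
    rw [← map_pow, ← hk, pow_card_eq_one', map_one]) (by rw [QuotientGroup.ker_mk'])
  intro x hx
  have hxS : x ∈ S := (h.trans (sup_le hKS (Subgroup.map_subtype_le _))) hx
  have h1 := stable_iff.mp hmain x hxS hx
  rw [← MonoidHom.mem_ker, QuotientGroup.ker_mk'] at h1
  exact h1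

end Cfsg.Agent.Fus.Bi
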