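import Cfsg.Agent.Fus.SEConj
import Cfsg.Agent.Extra.Basic
set_option autoImplicit false

/-!
# Essential subgroups of `p`-groups with an extraspecial subgroup of index `p`
-/

namespace Cfsg.Agent.Fus

open Cfsg Cfsg.Agent Cfsg.Agent.FusSE Cfsg.Agent.Extra
open scoped Pointwise commutatorElement

variable {Ω : Type*} [Group Ω] {S : Subgroup Ω} {F : FusionSystem S} {p : ℕ}

theorem mem_of_conjAut_inn {P : Subgroup Ω} (hP : F.IsCentric P) {n : Ω} (hn : n ∈ S)
    (hnP : n ∈ Subgroup.normalizer (P : Set Ω)) (h : conjAut n hnP ∈ Inn P) : n ∈ P := by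
  rw [inn_eq_autInducedBy, mem_autInducedBy'] at h
  obtain ⟨g, hg, hgn⟩ := h
  have hc : g⁻¹ * n ∈ FusionSystem.centralizerIn S P := by
    rw [mem_centralizerIn]
    refine ⟨S.mul_mem (S.inv_mem (hP.1 hg)) hn, fun x hx => ?_⟩
    have h1 : n * x * n⁻¹ = g * x * g⁻¹ := by rw [← hgn x hx, ofAut_conjAut _ _ hx]
    calc x * (g⁻¹ * n) = g⁻¹ * (g * x * g⁻¹) * n := by group
      _ = g⁻¹ * (n * x * n⁻¹) * n := by rw [h1]
      _ = g⁻¹ * n * x := by group
  have := P.mul_mem hg (centric_centralizer_le hP hc)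
  rwa [mul_inv_cancel_left] at this

/-- An element of `N_S(E)` centralizing `C` and `E / C` for an `Aut_F(E)`-invariant `C` lies in `E`. -/
theorem mem_of_triv2 [Finite S] [Fact p.Prime] (hS : IsPGroup p S) {E : Subgroup Ω} (hE : F.IsEssential p E)
    (C : Subgroup E) (hC : ∀ α ∈ F.autGroup E, ∀ x ∈ C, α x ∈ C) {q : Ω} (hqS : q ∈ S)
    (hq : q ∈ Subgroup.normalizer (E : Set Ω)) (h1 : ∀ x ∈ C, conjAut q hq x = x)
    (h2 : ∀ x : E, conjAut q hq x * x⁻¹ ∈ C) : q ∈ E := by
  have hES := hE.1.1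
  have := finite_of_le hES
  have hEp : IsPGroup p E := isPGroup_of_le hS hES
  have hSE : SEOut p (F.autGroup E) := hE.2.2
  apply mem_of_conjAut_inn hE.1 hqS hq
  set c : ℕ → Subgroup E := fun i => match i with
      | 0 => ⊥
      | 1 => C
      | _ => ⊤ with hc
  have hmono : Monotone c := by
    apply monotone_nat_of_le_succ
    intro n
    match n with
    | 0 => exact bot_le
    | 1 => exact le_top
    | n + 2 => exact le_rfl
  refine hSE.mem_inn_of_actsTriv hEp (n := 2) (c := c) rfl rfl hmono ?_ (conjAut_mem_autGroup hES hqS hq) ?_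
  · intro α hα i x hx
    match i with
    | 0 =>
      have hx' : x = 1 := hx
      rw [hx', map_one]; exact Subgroup.one_mem _
    | 1 => exact hC α hα x hx
    | n + 2 => trivial
  · intro i hi x hx
    interval_cases i
    · show conjAut q hq x * x⁻¹ ∈ (⊥ : Subgroup E)
      rw [Subgroup.mem_bot, mul_inv_eq_one]
      exact h1 x hx
    · exact h2 x

theorem char_inv' {H : Type*} [Group H] {C : Subgroup H} [hC : C.Characteristic] (α : MulAut H) {x : H}
    (hx : x ∈ C) : α x ∈ C := by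
  have h1 := Subgroup.characteristic_iff_map_le.mp hC α
  exact h1 ⟨x, hx, rfl⟩

/-- abelian essential subgroup `E ≤ Q` with `[E, Q] ≤ Z`, `|Z| = p`: then `|Q : E| ≤ p`. -/
theorem index_le_prime [Finite S] [Fact p.Prime] (hS : IsPGroup p S) {E : Subgroup Ω} (hE : F.IsEssential p E)
    (hab : ∀ a ∈ E, ∀ b ∈ E, a * b = b * a) {Z Q : Subgroup Ω} (hQS : Q ≤ S) (hZE : Z ≤ E) (hZ : Nat.card Z = p)
    (hcz : ∀ q ∈ Q, ∀ z ∈ Z, q * z * q⁻¹ = z) (hcQ : ∀ q ∈ Q, ∀ e ∈ E, q * e * q⁻¹ * e⁻¹ ∈ Z) :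
    (E.subgroupOf Q).index ≤ p := by
  have hES := hE.1.1
  have := finite_of_le hES
  have := finite_of_le hQS
  have := finite_mulAut (P := E)
  have hEp : IsPGroup p E := isPGroup_of_le hS hES
  have hSE : SEOut p (F.autGroup E) := hE.2.2
  have hQN : ∀ q ∈ Q, q ∈ Subgroup.normalizer (E : Set Ω) := by
    intro q hq
    refine mem_normalizer_of_conj fun e he => ?_
    have := E.mul_mem (hZE (hcQ q hq e he)) he
    rwa [inv_mul_cancel_right] at this
  have hcard := hSE.card_le_prime hEp (fun a b => Subtype.ext (hab a a.2 b b.2)) (Z := Z.subgroupOf E)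
    ((Nat.card_congr (Subgroup.subgroupOfEquivOfLe hZE).toEquiv).trans hZ)
    (T := (autInducedBy Q E).subgroupOf (F.autGroup E)) ?_ ?_
  · refine le_trans ?_ hcard
    rw [Subgroup.index]
    let f : Q → ((autInducedBy Q E).subgroupOf (F.autGroup E) : Subgroup (F.autGroup E)) := fun q =>
      ⟨⟨conjAut (q : Ω) (hQN q q.2), conjAut_mem_autGroup hES (hQS q.2) _⟩, by
        rw [Subgroup.mem_subgroupOf]; exact conjAut_mem q.2 _⟩
    have hf : ∀ a b : Q, f a = f b → a⁻¹ * b ∈ E.subgroupOf Q := by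
      intro a b hab'
      have h1 : conjAut (a : Ω) (hQN a a.2) = conjAut (b : Ω) (hQN b b.2) :=
        congrArg (fun t => ((t : F.autGroup E) : MulAut E)) (congrArg Subtype.val hab')
      rw [Subgroup.mem_subgroupOf]
      apply centric_centralizer_le hE.1
      rw [mem_centralizerIn]
      refine ⟨hQS (a⁻¹ * b).2, fun x hx => ?_⟩
      have h2 := congrArg (fun t : MulAut E => ((t ⟨x, hx⟩ : E) : Ω)) h1
      have h3 : (a : Ω) * x * (a : Ω)⁻¹ = (b : Ω) * x * (b : Ω)⁻¹ := h2
      show x * ((a : Ω)⁻¹ * b) = (a : Ω)⁻¹ * b * x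
      calc x * ((a : Ω)⁻¹ * b) = (a : Ω)⁻¹ * ((a : Ω) * x * (a : Ω)⁻¹) * b := by group
        _ = (a : Ω)⁻¹ * ((b : Ω) * x * (b : Ω)⁻¹) * b := by rw [h3]
        _ = (a : Ω)⁻¹ * b * x := by group
    refine Nat.card_le_card_of_injective (fun x : Q ⧸ E.subgroupOf Q => f x.out) ?_
    intro x y hxy
    have h1 := hf _ _ hxy
    rw [← QuotientGroup.eq, QuotientGroup.out_eq', QuotientGroup.out_eq'] at h1
    exact h1
  · intro t ht z hz
    rw [Subgroup.mem_subgroupOf, mem_autInducedBy] at ht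
    obtain ⟨q, hq, h1⟩ := ht
    apply Subtype.ext
    rw [h1]
    exact hcz q hq _ hz
  · intro t ht x
    rw [Subgroup.mem_subgroupOf, mem_autInducedBy] at ht
    obtain ⟨q, hq, h1⟩ := ht
    rw [Subgroup.mem_subgroupOf]
    show (((t : MulAut E) x : E) : Ω) * (x : Ω)⁻¹ ∈ Z
    rw [h1]
    exact hcQ q hq x x.2

/-- data extracted from an extraspecial subgroup -/
theorem exsp_data {Q : Subgroup Ω} (hQ : IsExtraspecial p ↥Q) : ∃ Z : Subgroup Ω, Z ≤ Q ∧ Nat.card Z = p ∧
    (∀ x ∈ Q, ∀ z ∈ Z, x * z = z * x) ∧ (∀ z ∈ Q, (∀ x ∈ Q, x * z = z * x) → z ∈ Z) ∧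
    (∀ x ∈ Q, ∀ y ∈ Q, x * y * x⁻¹ * y⁻¹ ∈ Z) ∧ Z = Q ⊓ Subgroup.centralizer (Q : Set Ω) := by
  refine ⟨(Subgroup.center Q).map Q.subtype, ?_, ?_, ?_, ?_, ?_, ?_⟩
  · rintro _ ⟨x, -, rfl⟩; exact x.2
  · rw [Subgroup.card_map_of_injective Q.subtype_injective]; exact hQ.2
  · rintro x hx _ ⟨z, hz, rfl⟩
    exact congrArg Subtype.val (Subgroup.mem_center_iff.1 hz ⟨x, hx⟩)
  · intro z hz h
    refine ⟨⟨z, hz⟩, Subgroup.mem_center_iff.2 fun x => Subtype.ext (h x x.2), rfl⟩
  · intro x hx y hy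
    have h1 := (classTwo_of_isSpecial hQ.1).mem (⟨x, hx⟩ : Q) ⟨y, hy⟩
    exact ⟨_, h1, rfl⟩
  · ext z
    constructor
    · rintro ⟨w, hw, rfl⟩
      refine ⟨w.2, ?_⟩
      show (w : Ω) ∈ Subgroup.centralizer (Q : Set Ω)
      rw [Subgroup.mem_centralizer_iff]
      intro x hx
      exact congrArg Subtype.val (Subgroup.mem_center_iff.1 hw ⟨x, hx⟩)
    · rintro ⟨hz, hz2⟩
      have hz3 : z ∈ Subgroup.centralizer (Q : Set Ω) := hz2
      rw [Subgroup.mem_centralizer_iff] at hz3
      exact ⟨⟨z, hz⟩, Subgroup.mem_center_iff.2 fun x => Subtype.ext (hz3 x x.2), rfl⟩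

/-- an extraspecial group with an abelian subgroup of index `p` has order at most `p^3` -/
theorem exsp_card_le {Q : Type*} [Group Q] [Finite Q] [Fact p.Prime] (hQ : IsExtraspecial p Q) {E' : Subgroup Q}
    (hidx2 : E'.index = p) (hab : ∀ a ∈ E', ∀ b ∈ E', a * b = b * a) : Nat.card Q ≤ p ^ 3 := by
  have hpp : p.Prime := Fact.out
  obtain ⟨qq, hqE⟩ : ∃ q : Q, q ∉ E' := by
    by_contra hcon
    push Not at hcon
    rw [(Subgroup.eq_top_iff' E').2 hcon, Subgroup.index_top] at hidx2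
    exact hpp.one_lt.ne hidx2
  have hcl := classTwo_of_isSpecial hQ.1
  have hCidx : (Subgroup.centralizer ({qq} : Set Q)).index ≤ p := by
    rw [← ker_commHom hcl, Subgroup.index_ker, ← hQ.2]
    exact Subgroup.card_le_card_group _
  have hEC : E' ⊓ Subgroup.centralizer ({qq} : Set Q) ≤ Subgroup.center Q := by
    intro e he
    rw [Subgroup.mem_center_iff]
    intro x
    have hmax : Subgroup.centralizer ({e} : Set Q) = ⊤ := by
      by_contra hne
      have h1 : E' ≤ Subgroup.centralizer ({e} : Set Q) := by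
        intro y hy
        rw [Subgroup.mem_centralizer_singleton_iff]
        exact hab y hy e he.1
      have h2 : qq ∈ Subgroup.centralizer ({e} : Set Q) := by
        have : e ∈ Subgroup.centralizer ({qq} : Set Q) := he.2
        rw [Subgroup.mem_centralizer_singleton_iff] at this
        rw [Subgroup.mem_centralizer_singleton_iff]
        exact this.symm
      have h3 : E' < Subgroup.centralizer ({e} : Set Q) := lt_of_le_of_ne h1 fun h => hqE (by
        rw [← h] at h2; exact h2)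
      have h4 := Subgroup.relIndex_mul_index h1
      rw [hidx2] at h4
      have h5 : (Subgroup.centralizer ({e} : Set Q)).index ∣ p := Dvd.intro_left _ h4
      rcases (Nat.dvd_prime hpp).1 h5 with h6 | h6
      · exact hne (Subgroup.index_eq_one.1 h6)
      · rw [h6] at h4
        have h7 : E'.relIndex (Subgroup.centralizer ({e} : Set Q)) = 1 :=
          Nat.eq_of_mul_eq_mul_right hpp.pos (by rw [h4, one_mul])
        exact h3.not_ge (Subgroup.relIndex_eq_one.1 h7)
    have h1 : x ∈ Subgroup.centralizer ({e} : Set Q) := by rw [hmax]; trivial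
    rw [Subgroup.mem_centralizer_singleton_iff] at h1
    exact h1
  have hEcard : Nat.card E' ≤ p ^ 2 := by
    have h1 : Nat.card (E' ⊓ Subgroup.centralizer ({qq} : Set Q) : Subgroup Q) ≤ p := by
      rw [← hQ.2]; exact Subgroup.card_le_of_le hEC
    have h2 : (E' ⊓ Subgroup.centralizer ({qq} : Set Q)).relIndex E' ≤ p := by
      rw [Subgroup.inf_relIndex_left]
      refine le_trans ?_ hCidx
      rw [← Subgroup.relIndex_top_right]
      exact Subgroup.relIndex_le_of_le_right le_top (by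
        rw [Subgroup.relIndex_top_right]; exact Subgroup.index_ne_zero_of_finite)
    have h3 : Nat.card (E' ⊓ Subgroup.centralizer ({qq} : Set Q) : Subgroup Q) *
        (E' ⊓ Subgroup.centralizer ({qq} : Set Q)).relIndex E' = Nat.card E' := by
      rw [← Subgroup.relIndex_bot_left, ← Subgroup.relIndex_bot_left]
      exact Subgroup.relIndex_mul_relIndex _ _ _ bot_le inf_le_left
    rw [← h3, pow_two]
    exact Nat.mul_le_mul h1 h2
  rw [← Subgroup.card_mul_index E', hidx2]
  calc Nat.card E' * p ≤ p ^ 2 * p := Nat.mul_le_mul_right _ hEcard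
    _ = p ^ 3 := by ring

/-- An essential subgroup of `F` properly contained in an extraspecial group `Q` is abelian, of index `p` in `Q`
and of order `p^2`. -/
theorem ess_lt_exsp [Finite S] [Fact p.Prime] (hS : IsPGroup p S) {Q : Subgroup Ω} (hQS : Q ≤ S)
    (hQ : IsExtraspecial p ↥Q) {E : Subgroup Ω} (hE : F.IsEssential p E) (hEQ : E < Q) :
    (∀ a ∈ E, ∀ b ∈ E, a * b = b * a) ∧ Nat.card Q ≤ p ^ 3 := by
  obtain ⟨Z, hZQ, hZp, hZc, hZm, hZcomm, -⟩ := exsp_data hQ
  have hES := hE.1.1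
  have := finite_of_le hES
  have := finite_of_le hQS
  have hpp : p.Prime := Fact.out
  have hZE : Z ≤ E := by
    refine le_trans ?_ (centric_centralizer_le hE.1)
    intro z hz
    rw [mem_centralizerIn]
    exact ⟨hQS (hZQ hz), fun x hx => hZc x (hEQ.le hx) z hz⟩
  have hcQ : ∀ q ∈ Q, ∀ e ∈ E, q * e * q⁻¹ * e⁻¹ ∈ Z := fun q hq e he => hZcomm q hq e (hEQ.le he)
  have hcz : ∀ q ∈ Q, ∀ z ∈ Z, q * z * q⁻¹ = z := fun q hq z hz => by rw [hZc q hq z hz, mul_inv_cancel_right]
  have hQN : ∀ q ∈ Q, q ∈ Subgroup.normalizer (E : Set Ω) := by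
    intro q hq
    refine mem_normalizer_of_conj fun e he => ?_
    have := E.mul_mem (hZE (hcQ q hq e he)) he
    rwa [inv_mul_cancel_right] at this
  have hab : ∀ a ∈ E, ∀ b ∈ E, a * b = b * a := by
    by_contra hna
    have hcommZ : commutator E ≤ Z.subgroupOf E := by
      rw [commutator_def, Subgroup.commutator_le]
      intro x _ y _
      rw [Subgroup.mem_subgroupOf]
      exact hcQ x (hEQ.le x.2) y y.2
    have hcomm1 : commutator E ≠ ⊥ := by
      intro h
      apply hna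
      intro a ha b hb
      have h1 : ⁅(⟨a, ha⟩ : E), ⟨b, hb⟩⁆ ∈ commutator E :=
        Subgroup.commutator_mem_commutator (Subgroup.mem_top _) (Subgroup.mem_top _)
      rw [h, Subgroup.mem_bot, commutatorElement_eq_one_iff_mul_comm] at h1
      exact congrArg Subtype.val h1
    have hZE' : Nat.card (Z.subgroupOf E) = p :=
      (Nat.card_congr (Subgroup.subgroupOfEquivOfLe hZE).toEquiv).trans hZp
    have hcommeq : commutator E = Z.subgroupOf E := by
      apply Subgroup.eq_of_le_of_card_ge hcommZ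
      have h1 := Subgroup.card_dvd_of_le hcommZ
      rw [hZE', Nat.dvd_prime hpp] at h1
      rcases h1 with h1 | h1
      · exact absurd (Subgroup.card_eq_one.1 h1) hcomm1
      · rw [h1, hZE']
    obtain ⟨q, hq, hqE⟩ := SetLike.exists_of_lt hEQ
    apply hqE
    refine mem_of_triv2 hS hE (commutator E) (fun α _ x hx => char_inv' α hx) (hQS hq) (hQN q hq) ?_ ?_
    · intro x hx
      apply Subtype.ext
      rw [coe_conjAut]
      exact hcz q hq _ (Subgroup.mem_subgroupOf.1 (hcommZ hx))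
    · intro x
      rw [hcommeq, Subgroup.mem_subgroupOf]
      exact hcQ q hq x x.2
  refine ⟨hab, ?_⟩
  have hidx := index_le_prime hS hE hab hQS hZE hZp hcz hcQ
  obtain ⟨q, hq, hqE⟩ := SetLike.exists_of_lt hEQ
  -- `Q = E ⟨q⟩`
  set E' : Subgroup Q := E.subgroupOf Q with hE'
  have hidx2 : E'.index = p := by
    have h1 : E'.index ∣ Nat.card Q := Subgroup.index_dvd_card E'
    obtain ⟨k, hk⟩ := (isPGroup_of_le hS hQS).exists_card_eq
    rw [hk] at h1
    obtain ⟨j, hj, hj2⟩ := (Nat.dvd_prime_pow hpp).1 h1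
    have hj0 : j ≠ 0 := by
      rintro rfl
      rw [pow_zero] at hj2
      have := Subgroup.index_eq_one.1 hj2
      rw [hE', Subgroup.subgroupOf_eq_top] at this
      exact hqE (this hq)
    have hj1 : j ≤ 1 := by
      by_contra hcon
      have : p ^ 2 ≤ p ^ j := Nat.pow_le_pow_right hpp.pos (by omega)
      rw [hj2] at hidx
      nlinarith [hpp.one_lt]
    have : j = 1 := by omega
    rw [hj2, this, pow_one]
  exact exsp_card_le hQ hidx2 fun a ha b hb => Subtype.ext (hab a ha b hb)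

end Cfsg.Agent.Fus
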