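import Cfsg.Agent.Fus.ExIdx
import Cfsg.Agent.Fus.TransvFus2
import Cfsg.Agent.Fus.Small
set_option autoImplicit false

/-!
# `Z(S) = Z(Q)` for `O_p(F) = 1`, `Q` extraspecial of index `p` in `S`, `p` odd
-/

namespace Cfsg.Agent.Fus

open Cfsg Cfsg.Agent Cfsg.Agent.FusSE Cfsg.Agent.Extra
open scoped Pointwise commutatorElement

variable {Ω : Type*} [Group Ω] {S : Subgroup Ω} {F : FusionSystem S} {p : ℕ}

theorem exists_essential_of_core [Finite S] [Fact p.Prime] (hS : IsPGroup p S) (hF : F.IsSaturated p)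
    (hO : F.core = ⊥) (hne : S ≠ ⊥) : ∃ P, F.IsEssential p P := by
  by_contra hcon
  push Not at hcon
  have h1 : F.IsNormal S := isNormal_of_essential hS hF fun P hP => by
    rcases hP with rfl | hP
    · exact ⟨le_rfl, fun α _ x hx => ofAut_mem α hx⟩
    · exact absurd hP (hcon P)
  have h2 := Join.le_core h1
  rw [hO] at h2
  exact hne (le_bot_iff.1 h2)

theorem le_normalizer_of_index [Finite S] [Fact p.Prime] (hS : IsPGroup p S) {Q : Subgroup Ω} (hQS : Q ≤ S)
    (hi : (Q.subgroupOf S).index = p) : S ≤ Subgroup.normalizer (Q : Set Ω) := by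
  have hpp : p.Prime := Fact.out
  have hne : Q ≠ S := by
    rintro rfl
    rw [Subgroup.subgroupOf_self, Subgroup.index_top] at hi
    exact hpp.one_lt.ne hi
  have h1 := lt_normalizerIn hS (lt_of_le_of_ne hQS hne)
  have h2 : Q.relIndex (FusionSystem.normalizerIn S Q) * (FusionSystem.normalizerIn S Q).relIndex S = Q.relIndex S :=
    Subgroup.relIndex_mul_relIndex _ _ _ h1.le inf_le_left
  have h3 : Q.relIndex S = p := hi
  rw [h3] at h2
  have h4 : Q.relIndex (FusionSystem.normalizerIn S Q) ≠ 1 := fun h => h1.not_ge (Subgroup.relIndex_eq_one.1 h)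
  have h5 : (FusionSystem.normalizerIn S Q).relIndex S = 1 := by
    rcases (Nat.dvd_prime hpp).1 (Dvd.intro _ h2) with h | h
    · exact absurd h h4
    · rw [h] at h2
      exact Nat.eq_of_mul_eq_mul_left hpp.pos (by rw [h2, mul_one])
  exact (Subgroup.relIndex_eq_one.1 h5).trans inf_le_right

theorem exidx_center [Finite S] [Fact p.Prime] (hp2 : p ≠ 2) (hS : IsPGroup p S)
    {Q : Subgroup Ω} (hQS : Q ≤ S) (hQ : IsExtraspecial p ↥Q) (hQi : (Q.subgroupOf S).index = p)
    (hF : F.IsSaturated p) (hO : F.core = ⊥) :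
    S ⊓ Subgroup.centralizer (S : Set Ω) = Q ⊓ Subgroup.centralizer (Q : Set Ω) := by
  have hpp : p.Prime := Fact.out
  obtain ⟨Z, hZQ, hZp, hZc, hZm, hZcomm, hZeq⟩ := exsp_data hQ
  rw [← hZeq]
  have := finite_of_le hQS
  have hSN := le_normalizer_of_index hS hQS hQi
  -- `Z ≤ Z(S)`
  have hZS : Z ≤ zc S := by
    have hnorm : ∀ s ∈ S, ∀ z ∈ Z, s * z * s⁻¹ ∈ Z := by
      intro s hs z hz
      have h1 : ∀ x ∈ Q, s⁻¹ * x * s ∈ Q := fun x hx => (Subgroup.mem_normalizer_iff''.1 (hSN hs) x).1 hx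
      refine hZm _ ((Subgroup.mem_normalizer_iff.1 (hSN hs) z).1 (hZQ hz)) fun x hx => ?_
      have h2 := hZc _ (h1 x hx) z hz
      calc x * (s * z * s⁻¹) = s * ((s⁻¹ * x * s) * z) * s⁻¹ := by group
        _ = s * (z * (s⁻¹ * x * s)) * s⁻¹ := by rw [h2]
        _ = s * z * s⁻¹ * x := by group
    have hn : (Z.subgroupOf S).Normal := ⟨fun z hz s => hnorm s s.2 z hz⟩
    have h3 := Cfsg.Agent.H63.le_center_of_card_eq_prime hS (Z.subgroupOf S)
      ((Nat.card_congr (Subgroup.subgroupOfEquivOfLe (hZQ.trans hQS)).toEquiv).trans hZp)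
    intro z hz
    refine ⟨hQS (hZQ hz), fun s hs => ?_⟩
    have h4 : (⟨z, hQS (hZQ hz)⟩ : S) ∈ Subgroup.center S := h3 hz
    exact congrArg Subtype.val (Subgroup.mem_center_iff.1 h4 ⟨s, hs⟩)
  have hle : zc S ⊓ Q ≤ Z := fun z hz => hZm z hz.2 fun x hx => (mem_zc.1 hz.1).2 x (hQS hx)
  by_contra hne
  have hnQ : ¬ zc S ≤ Q := fun h => hne (le_antisymm (fun z hz => hle ⟨hz, h hz⟩) hZS)
  obtain ⟨c, hc, hcQ⟩ := SetLike.not_le_iff_exists.1 hnQ
  -- `S = Q Z(S)`
  have hSdec : ∀ s ∈ S, ∃ q ∈ Q, ∃ z ∈ zc S, s = q * z := by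
    have h1 : Q ⊔ Subgroup.zpowers c = S := by
      have h2 : Q ⊔ Subgroup.zpowers c ≤ S := sup_le hQS (by rw [Subgroup.zpowers_le]; exact hc.1)
      have h3 : Q.relIndex (Q ⊔ Subgroup.zpowers c) * (Q ⊔ Subgroup.zpowers c).relIndex S = Q.relIndex S :=
        Subgroup.relIndex_mul_relIndex _ _ _ le_sup_left h2
      have h4 : Q.relIndex S = p := hQi
      rw [h4] at h3
      refine le_antisymm h2 (Subgroup.relIndex_eq_one.1 ?_)
      rcases (Nat.dvd_prime hpp).1 (Dvd.intro _ h3) with h | h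
      · exact absurd (Subgroup.relIndex_eq_one.1 h
          ((le_sup_right : Subgroup.zpowers c ≤ _) (Subgroup.mem_zpowers c))) hcQ
      · rw [h] at h3
        exact Nat.eq_of_mul_eq_mul_left hpp.pos (by rw [h3, mul_one])
    let T : Subgroup Ω :=
      { carrier := {s | ∃ q ∈ Q, ∃ z ∈ zc S, s = q * z}
        one_mem' := ⟨1, Q.one_mem, 1, Subgroup.one_mem _, by rw [one_mul]⟩
        mul_mem' := by
          rintro _ _ ⟨q, hq, z, hz, rfl⟩ ⟨q', hq', z', hz', rfl⟩
          refine ⟨q * q', Q.mul_mem hq hq', z * z', Subgroup.mul_mem _ hz hz', ?_⟩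
          have := (mem_zc.1 hz).2 q' (hQS hq')
          calc q * z * (q' * z') = q * (z * q') * z' := by group
            _ = q * (q' * z) * z' := by rw [this]
            _ = q * q' * (z * z') := by group
        inv_mem' := by
          rintro _ ⟨q, hq, z, hz, rfl⟩
          refine ⟨q⁻¹, Q.inv_mem hq, z⁻¹, Subgroup.inv_mem _ hz, ?_⟩
          have := (mem_zc.1 (Subgroup.inv_mem _ hz)).2 q⁻¹ (hQS (Q.inv_mem hq))
          rw [mul_inv_rev, this] }
    intro s hs
    have h2 : Q ⊔ Subgroup.zpowers c ≤ T := by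
      refine sup_le (fun q hq => ⟨q, hq, 1, Subgroup.one_mem _, (mul_one q).symm⟩) ?_
      rw [Subgroup.zpowers_le]
      exact ⟨1, Q.one_mem, c, hc, (one_mul c).symm⟩
    rw [← h1] at hs
    exact h2 hs
  have hSZ : ∀ s ∈ S, ∀ t ∈ S, s * t * s⁻¹ * t⁻¹ ∈ Z := by
    intro s hs t ht
    obtain ⟨q, hq, z, hz, rfl⟩ := hSdec s hs
    obtain ⟨q', hq', z', hz', rfl⟩ := hSdec t ht
    have h1 := hZcomm q hq q' hq'
    have h2 := (mem_zc.1 hz).2 (q' * z') ht
    have h3 := (mem_zc.1 hz').2 q (hQS hq)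
    have h4 : q * z * (q' * z') * (q * z)⁻¹ * (q' * z')⁻¹ = q * q' * q⁻¹ * q'⁻¹ := by
      calc q * z * (q' * z') * (q * z)⁻¹ * (q' * z')⁻¹ = q * (z * (q' * z')) * z⁻¹ * q⁻¹ * z'⁻¹ * q'⁻¹ := by group
        _ = q * ((q' * z') * z) * z⁻¹ * q⁻¹ * z'⁻¹ * q'⁻¹ := by rw [h2]
        _ = q * q' * z' * (z' * q)⁻¹ * q'⁻¹ := by group
        _ = q * q' * z' * (q * z')⁻¹ * q'⁻¹ := by rw [h3]
        _ = q * q' * q⁻¹ * q'⁻¹ := by group
    rw [h4]
    exact h1
  -- essential subgroups
  have hess : ∀ E, F.IsEssential p E → (∀ a ∈ E, ∀ b ∈ E, a * b = b * a) ∧ (zc S).relIndex E = p ∧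
      S ≤ Subgroup.normalizer (E : Set Ω) := by
    intro E hE
    have hES := hE.1.1
    have hEfin := finite_of_le hES
    have hzE := zc_le_of_centric hE.1
    have hZE := hZS.trans hzE
    have hEN : S ≤ Subgroup.normalizer (E : Set Ω) := by
      intro s hs
      refine mem_normalizer_of_conj fun e he => ?_
      have := E.mul_mem (hZE (hSZ s hs e (hES he))) he
      rwa [inv_mul_cancel_right] at this
    have hcz : ∀ s ∈ S, ∀ z ∈ Z, s * z * s⁻¹ = z := fun s hs z hz => by
      rw [(mem_zc.1 (hZS hz)).2 s hs, mul_inv_cancel_right]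
    have hES' : E < S := lt_of_le_of_ne hES (essential_ne_self hS hF hE)
    have hab : ∀ a ∈ E, ∀ b ∈ E, a * b = b * a := by
      by_contra hna
      have hcommZ : commutator E ≤ Z.subgroupOf E := by
        rw [commutator_def, Subgroup.commutator_le]
        intro x _ y _
        rw [Subgroup.mem_subgroupOf]
        exact hSZ x (hES x.2) y (hES y.2)
      have hcomm1 : commutator E ≠ ⊥ := by
        intro h
        apply hna
        intro a ha b hb
        have h1 : ⁅(⟨a, ha⟩ : E), ⟨b, hb⟩⁆ ∈ commutator E :=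
          Subgroup.commutator_mem_commutator (Subgroup.mem_top _) (Subgroup.mem_top _)
        rw [h, Subgroup.mem_bot, commutatorElement_eq_one_iff_mul_comm] at h1
        exact congrArg Subtype.val h1
      have hZE' : Nat.card (Z.subgroupOf E) = p :=
        (Nat.card_congr (Subgroup.subgroupOfEquivOfLe hZE).toEquiv).trans hZp
      have hcommeq : commutator E = Z.subgroupOf E := by
        apply Subgroup.eq_of_le_of_card_ge hcommZ
        have h1 := Subgroup.card_dvd_of_le hcommZ
        rw [hZE', Nat.dvd_prime hpp] at h1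
        rcases h1 with h1 | h1
        · exact absurd (Subgroup.card_eq_one.1 h1) hcomm1
        · rw [h1, hZE']
      obtain ⟨q, hq, hqE⟩ := SetLike.exists_of_lt hES'
      apply hqE
      refine mem_of_triv2 hS hE (commutator E) (fun α _ x hx => char_inv' α hx) hq (hEN hq) ?_ ?_
      · intro x hx
        apply Subtype.ext
        rw [coe_conjAut]
        exact hcz q hq _ (Subgroup.mem_subgroupOf.1 (hcommZ hx))
      · intro x
        rw [hcommeq, Subgroup.mem_subgroupOf]
        exact hSZ q hq x (hES x.2)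
    refine ⟨hab, ?_, hEN⟩
    have hidx := index_le_prime hS hE hab le_rfl hZE hZp hcz fun s hs e he => hSZ s hs e (hES he)
    -- `|S : E| = p`
    have hidx2 : E.relIndex S = p := by
      obtain ⟨k, hk⟩ := hS.exists_card_eq
      have h1 : E.relIndex S ∣ p ^ k := by rw [← hk]; exact Subgroup.relIndex_dvd_card _ _
      obtain ⟨j, hj, hj2⟩ := (Nat.dvd_prime_pow hpp).1 h1
      have hj0 : j ≠ 0 := by
        rintro rfl
        rw [pow_zero] at hj2
        exact hES'.not_ge (Subgroup.relIndex_eq_one.1 hj2)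
      have hj1 : j ≤ 1 := by
        by_contra hcon
        have h2 : p ^ 2 ≤ p ^ j := Nat.pow_le_pow_right hpp.pos (by omega)
        have h3 : E.relIndex S ≤ p := hidx
        rw [hj2] at h3
        nlinarith [hpp.one_lt]
      have : j = 1 := by omega
      rw [hj2, this, pow_one]
    -- `|Q : E ∩ Q| = p`
    have hQE : (E.subgroupOf Q).index = p := by
      have h1 : E.relIndex Q ≤ E.relIndex S := Subgroup.relIndex_le_of_le_right hQS (by rw [hidx2]; exact hpp.ne_zero)
      rw [hidx2] at h1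
      obtain ⟨k, hk⟩ := (isPGroup_of_le hS hQS).exists_card_eq
      have h2 : E.relIndex Q ∣ p ^ k := by rw [← hk]; exact Subgroup.relIndex_dvd_card _ _
      obtain ⟨j, hj, hj2⟩ := (Nat.dvd_prime_pow hpp).1 h2
      have hj0 : j ≠ 0 := by
        rintro rfl
        rw [pow_zero] at hj2
        have h3 := Subgroup.relIndex_eq_one.1 hj2
        apply hES'.not_ge
        intro s hs
        obtain ⟨q, hq, z, hz, rfl⟩ := hSdec s hs
        exact E.mul_mem (h3 hq) (hzE hz)
      have hj1 : j ≤ 1 := by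
        by_contra hcon
        have h3 : p ^ 2 ≤ p ^ j := Nat.pow_le_pow_right hpp.pos (by omega)
        rw [hj2] at h1
        nlinarith [hpp.one_lt]
      have : j = 1 := by omega
      rw [show (E.subgroupOf Q).index = E.relIndex Q from rfl, hj2, this, pow_one]
    have hQ3 := exsp_card_le hQ hQE fun a ha b hb => Subtype.ext (hab a ha b hb)
    -- `|S : Z(S)| ≤ p ^ 2`
    have hzS : zc S ≤ S := fun x hx => hx.1
    have hzfin := finite_of_le hzS
    have hzcard : p ^ 2 ≤ Nat.card (zc S) := by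
      obtain ⟨k, hk⟩ := (isPGroup_of_le hS hzS).exists_card_eq
      have h1 : Z < zc S := lt_of_le_of_ne hZS fun h => hcQ (hZQ (h ▸ hc))
      have h2 : Nat.card Z < Nat.card (zc S) := card_lt_of_lt hzS h1
      rw [hZp, hk] at h2
      have h3 : 1 < k := by
        by_contra hcon
        have : p ^ k ≤ p ^ 1 := Nat.pow_le_pow_right hpp.pos (by omega)
        rw [pow_one] at this
        omega
      rw [hk]
      exact Nat.pow_le_pow_right hpp.pos h3
    have h1 : (zc S).relIndex S ≤ p ^ 2 := by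
      have h2 : Nat.card (zc S) * (zc S).relIndex S = Nat.card S := by
        rw [← Subgroup.relIndex_bot_left, ← Subgroup.relIndex_bot_left]
        exact Subgroup.relIndex_mul_relIndex _ _ _ bot_le hzS
      have h3 : Nat.card Q * p = Nat.card S := by
        have h4 : Nat.card Q * Q.relIndex S = Nat.card S := by
          rw [← Subgroup.relIndex_bot_left, ← Subgroup.relIndex_bot_left]
          exact Subgroup.relIndex_mul_relIndex _ _ _ bot_le hQS
        rw [show Q.relIndex S = p from hQi] at h4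
        exact h4
      have h5 : p ^ 2 * (zc S).relIndex S ≤ p ^ 2 * p ^ 2 := by
        calc p ^ 2 * (zc S).relIndex S ≤ Nat.card (zc S) * (zc S).relIndex S := Nat.mul_le_mul_right _ hzcard
          _ = Nat.card Q * p := by rw [h2, h3]
          _ ≤ p ^ 3 * p := Nat.mul_le_mul_right _ hQ3
          _ = p ^ 2 * p ^ 2 := by ring
      exact Nat.le_of_mul_le_mul_left h5 (pow_pos hpp.pos 2)
    have h2 : (zc S).relIndex E * E.relIndex S = (zc S).relIndex S := Subgroup.relIndex_mul_relIndex _ _ _ hzE hES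
    rw [hidx2] at h2
    have h3 : (zc S).relIndex E ≤ p := by
      have : (zc S).relIndex E * p ≤ p * p := by rw [h2, ← pow_two]; exact h1
      exact Nat.le_of_mul_le_mul_right this hpp.pos
    obtain ⟨k, hk⟩ := (isPGroup_of_le hS hES).exists_card_eq
    have h4 : (zc S).relIndex E ∣ p ^ k := by rw [← hk]; exact Subgroup.relIndex_dvd_card _ _
    obtain ⟨j, hj, hj2⟩ := (Nat.dvd_prime_pow hpp).1 h4
    have hj0 : j ≠ 0 := by
      rintro rfl
      rw [pow_zero] at hj2
      have h5 := Subgroup.relIndex_eq_one.1 hj2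
      apply hES'.not_ge
      refine le_trans ?_ (centric_centralizer_le hE.1)
      intro s hs
      rw [mem_centralizerIn]
      exact ⟨hs, fun x hx => ((mem_zc.1 (h5 hx)).2 s hs).symm⟩
    have hj1 : j ≤ 1 := by
      by_contra hcon
      have h5 : p ^ 2 ≤ p ^ j := Nat.pow_le_pow_right hpp.pos (by omega)
      rw [hj2] at h3
      nlinarith [hpp.one_lt]
    have : j = 1 := by omega
    rw [hj2, this, pow_one]
  -- the `TI` structure
  have hTI : ∀ E, F.IsEssential p E → ∃ C a b, TI F p Z E C a b := by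
    intro E hE
    obtain ⟨hab, hidx, hEN⟩ := hess E hE
    obtain ⟨C, a, b, hD⟩ := exists_edec hS hF hE hab hidx
    have hNS : FusionSystem.normalizerIn S E = S := inf_eq_left.2 hEN
    refine ⟨C, a, b, hD, ?_, hE.1.1, zc_le_of_centric hE.1, ?_⟩
    · have hZfin := finite_of_le (hZQ.trans hQS)
      refine Subgroup.eq_of_le_of_card_ge ?_ ?_
      · rw [Subgroup.zpowers_le]
        obtain ⟨n, hn, hnb, -⟩ := hD.nrm
        have h1 : a = n * b * n⁻¹ * b⁻¹ := by
          rw [hnb, (mem_zc.mp hD.aZ).2 b (hE.1.1 hD.bP), mul_inv_cancel_right]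
        rw [h1]
        exact hSZ n hn.1 b (hE.1.1 hD.bP)
      · rw [hZp, Nat.card_zpowers, orderOf_eq_prime hD.ap hD.a1]
    · intro g hg _
      rw [hNS] at hg
      exact ⟨g, hg, fun x hx => rfl⟩
  obtain ⟨E, hE⟩ := exists_essential_of_core hS hF hO (fun h => hcQ (by
    have h0 : c ∈ S := hc.1
    rw [h, Subgroup.mem_bot] at h0
    rw [h0]
    exact Q.one_mem))
  obtain ⟨C, a, b, hT⟩ := hTI E hE
  have hC := TI.C_eq_bot hS hF hp2 hO hT (fun g hg z hz => ?_) fun P' hP' => Or.inl (hTI P' hP')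
  · obtain ⟨r, c', hc', h1⟩ := hT.dec.spanZ c hc
    rw [hC, Subgroup.mem_bot] at hc'
    rw [hc', one_mul] at h1
    apply hcQ
    rw [h1]
    exact hZQ (Z.pow_mem hT.aZ₀ r)
  · -- `Z = [S, S]`
    have hZcl : Z = Subgroup.closure {w : Ω | ∃ x ∈ S, ∃ y ∈ S, w = x * y * x⁻¹ * y⁻¹} := by
      apply le_antisymm
      · have h1 : commutator Q = Subgroup.center Q := hQ.1.2.2
        have h2 : Z = (commutator Q).map Q.subtype := by
          rw [h1, hZeq]
          ext x
          constructor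
          · rintro ⟨hx, hx2⟩
            have hx3 : x ∈ Subgroup.centralizer (Q : Set Ω) := hx2
            rw [Subgroup.mem_centralizer_iff] at hx3
            exact ⟨⟨x, hx⟩, Subgroup.mem_center_iff.2 fun y => Subtype.ext (hx3 y y.2), rfl⟩
          · rintro ⟨w, hw, rfl⟩
            refine ⟨w.2, ?_⟩
            show (w : Ω) ∈ Subgroup.centralizer (Q : Set Ω)
            rw [Subgroup.mem_centralizer_iff]
            intro y hy
            exact congrArg Subtype.val (Subgroup.mem_center_iff.1 hw ⟨y, hy⟩)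
        rw [h2, Subgroup.map_le_iff_le_comap, commutator_def, Subgroup.commutator_le]
        intro x _ y _
        exact Subgroup.subset_closure ⟨x, hQS x.2, y, hQS y.2, rfl⟩
      · rw [Subgroup.closure_le]
        rintro _ ⟨x, hx, y, hy, rfl⟩
        exact hSZ x hx y hy
    have hind : ∀ z ∈ Subgroup.closure {w : Ω | ∃ x ∈ S, ∃ y ∈ S, w = x * y * x⁻¹ * y⁻¹}, g z ∈ Z := by
      intro z hz
      induction hz using Subgroup.closure_induction with
      | mem w hw =>
        obtain ⟨x, hx, y, hy, rfl⟩ := hw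
        rw [hg.map_mul (S.mul_mem (S.mul_mem hx hy) (S.inv_mem hx)) (S.inv_mem hy),
          hg.map_mul (S.mul_mem hx hy) (S.inv_mem hx), hg.map_mul hx hy, hg.map_inv hx, hg.map_inv hy]
        exact hSZ _ (hg.mem hx) _ (hg.mem hy)
      | one => rw [hg.map_one]; exact Z.one_mem
      | mul x y hx hy h1 h2 =>
        rw [← hZcl] at hx hy
        rw [hg.map_mul (hQS (hZQ hx)) (hQS (hZQ hy))]
        exact Z.mul_mem h1 h2
      | inv x hx h1 =>
        rw [← hZcl] at hx
        rw [hg.map_inv (hQS (hZQ hx))]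
        exact Z.inv_mem h1
    rw [← hZcl] at hind
    exact hind z hz

end Cfsg.Agent.Fus
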