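import Cfsg.Agent.Fus.FT10
import Cfsg.Agent.H87.FusGlau
import Cfsg.Agent.Fus.GoodStep

set_option autoImplicit false
set_option linter.style.haveILetI false
set_option linter.unusedSectionVars false
set_option linter.unusedVariables false

/-!
# The fusion theoretic reduction for S5278
-/

namespace Cfsg.Agent.Fus.FT

open Cfsg Cfsg.FusionSystem Cfsg.Agent.Fus Cfsg.Agent.H87

universe u

section

variable {Ω : Type u} [Group Ω] {S : Subgroup Ω} {F : FusionSystem S} {p : ℕ}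

theorem nat_thompsonA (Q R : Type u) [Group Q] [Group R] [Finite Q] (φ : Q ≃* R) :
    (thompsonSubgroupA Q).map φ.toMonoidHom = thompsonSubgroupA R :=
  Cfsg.Agent.ZJ.isNat_thompsonA Q R φ

/-- `J` is carried along isomorphisms of subgroups -/
theorem mem_J_iff [Fact p.Prime] {Ω' : Type u} [Group Ω'] {T : Subgroup Ω} [Finite T] (hT : IsPGroup p T) {T' : Subgroup Ω'}
    (e : T ≃* T') {x : Ω} (hx : x ∈ T) :
    x ∈ thompsonSubgroupAOf T ↔ ((e ⟨x, hx⟩ : T') : Ω') ∈ thompsonSubgroupAOf T' :=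
  map_WO (p := p) (fun Q _ => thompsonSubgroupA Q) (fun Q R _ _ _ _ φ => nat_thompsonA Q R φ) hT e hx

theorem extend_centric [Finite S] [Fact p.Prime] (hS : IsPGroup p S) (hF : F.IsSaturated p) {Q : Subgroup Ω}
    (hQ : F.IsFullyNormalized Q) {α : MulAut Q} (hα : α ∈ F.autGroup Q) :
    ∃ g, IsMap F (Q ⊔ centralizerIn S Q) g ∧ (∀ x ∈ Q, g x = ofAut α x) ∧
      img (Q ⊔ centralizerIn S Q) g = Q ⊔ centralizerIn S Q ∧
      normalizerIn S Q ≤ normalizerIn S (Q ⊔ centralizerIn S Q) := by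
  have hQ' : Q ≤ S := hQ.1
  have hmα := isMap_ofAut hQ' hα
  obtain ⟨g, hg, hgα⟩ := recep_exists_extend_centralizer (sat_receptive' hS hF hQ) hmα (img_ofAut α)
  have hQ₁S : Q ⊔ centralizerIn S Q ≤ S := sup_le hQ' (centralizerIn_le Q)
  have hfin := finite_of_le hQ₁S
  have himg : img (Q ⊔ centralizerIn S Q) g = Q ⊔ centralizerIn S Q := by
    refine hg.img_eq fun x hx => ?_
    refine (Subgroup.closure_induction (p := fun x _ => x ∈ Q ⊔ centralizerIn S Q ∧ g x ∈ Q ⊔ centralizerIn S Q)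
      ?_ ?_ ?_ ?_ (show x ∈ Subgroup.closure ((Q : Set Ω) ∪ (centralizerIn S Q : Set Ω)) by
        rwa [Subgroup.closure_union, Subgroup.closure_eq, Subgroup.closure_eq])).2
    · rintro x (hx | hx)
      · refine ⟨le_sup_left (b := centralizerIn S Q) hx, le_sup_left (b := centralizerIn S Q) ?_⟩
        rw [hgα x hx]
        exact ofAut_mem α hx
      · refine ⟨le_sup_right (a := Q) hx, le_sup_right (a := Q) ?_⟩
        rw [mem_centralizerIn]
        refine ⟨hg.mem (le_sup_right (a := Q) hx), fun y hy => ?_⟩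
        have h1 := hg.map_centralizer (P := Q) le_sup_left (le_sup_right (a := Q) hx) (mem_centralizerIn.mp hx).2
        refine h1 y ?_
        rw [img_congr hgα, img_ofAut]
        exact hy
    · rw [hg.map_one]
      exact ⟨Subgroup.one_mem _, Subgroup.one_mem _⟩
    · rintro x y - - ⟨hx, hx'⟩ ⟨hy, hy'⟩
      rw [hg.map_mul hx hy]
      exact ⟨Subgroup.mul_mem _ hx hy, Subgroup.mul_mem _ hx' hy'⟩
    · rintro x - ⟨hx, hx'⟩
      rw [hg.map_inv hx]
      exact ⟨Subgroup.inv_mem _ hx, Subgroup.inv_mem _ hx'⟩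
  have hNle : normalizerIn S Q ≤ normalizerIn S (Q ⊔ centralizerIn S Q) := by
    intro n hn
    refine ⟨hn.1, mem_normalizer_of_conj fun x hx => ?_⟩
    refine Subgroup.closure_induction (p := fun x _ => n * x * n⁻¹ ∈ Q ⊔ centralizerIn S Q)
      ?_ ?_ ?_ ?_ (show x ∈ Subgroup.closure ((Q : Set Ω) ∪ (centralizerIn S Q : Set Ω)) by
        rwa [Subgroup.closure_union, Subgroup.closure_eq, Subgroup.closure_eq])
    · rintro x (hx | hx)
      · exact le_sup_left (b := centralizerIn S Q) ((Subgroup.mem_normalizer_iff.mp hn.2 x).mp hx)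
      · refine le_sup_right (a := Q) (mem_centralizerIn.mpr ?_)
        obtain ⟨hxS, hxc⟩ := mem_centralizerIn.mp hx
        refine ⟨S.mul_mem (S.mul_mem hn.1 hxS) (S.inv_mem hn.1), fun y hy => ?_⟩
        have hy' : n⁻¹ * y * n⁻¹⁻¹ ∈ Q := (Subgroup.mem_normalizer_iff.mp (Subgroup.inv_mem _ hn.2) y).mp hy
        calc y * (n * x * n⁻¹) = n * ((n⁻¹ * y * n⁻¹⁻¹) * x) * n⁻¹ := by group
          _ = n * (x * (n⁻¹ * y * n⁻¹⁻¹)) * n⁻¹ := by rw [hxc _ hy']
          _ = n * x * n⁻¹ * y := by group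
    · simp
    · intro x y _ _ hx hy
      have : n * (x * y) * n⁻¹ = (n * x * n⁻¹) * (n * y * n⁻¹) := by group
      rw [this]
      exact Subgroup.mul_mem _ hx hy
    · intro x _ hx
      have : n * x⁻¹ * n⁻¹ = (n * x * n⁻¹)⁻¹ := by group
      rw [this]
      exact Subgroup.inv_mem _ hx
  exact ⟨g, hg, hgα, himg, hNle⟩

/-- The system `N_F(T)` for `T` normalized by `S`, as a system over `S`. -/
theorem exists_normSys_self [Finite S] (F : FusionSystem S) {T : Subgroup Ω} (hTS : T ≤ S)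
    (hn : S ≤ Subgroup.normalizer (T : Set Ω)) :
    ∃ E : FusionSystem S,
      (∀ (P : Subgroup Ω) (f : Ω → Ω), T ≤ P → (IsMap E P f ↔ IsMap F P f ∧ ∀ x ∈ T, f x ∈ T)) ∧
      (F ≤ E → F.WeaklyClosed T) ∧ (F ≤ E → F.IsNormal T) := by
  have hTf : Finite T := finite_of_le hTS
  obtain ⟨E, hE⟩ := exists_kSystem_self F hTS ⊤ (by
    rw [kNorm_top]; exact (inf_eq_left.mpr hn).symm)
  have hN : normalizerIn S T = S := inf_eq_left.mpr hn
  refine ⟨E, fun P f hTP => ?_, fun hle => ?_, fun hle => ?_⟩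
  · rw [hE]
    constructor
    · rintro ⟨hP, -, g, hg, hgf, κ, hκ, hgκ⟩
      rw [sup_eq_left.mpr hTP] at hg
      refine ⟨hg.congr hgf, fun x hx => ?_⟩
      rw [← hgf x (hTP hx), hgκ x hx]
      exact ofAut_mem κ hx
    · rintro ⟨hf, hfT⟩
      have himg : img T f = T := (hf.mono hTP).img_eq hfT
      refine ⟨by rw [kNorm_top, hN]; exact hf.le, fun x hx => by rw [kNorm_top, hN]; exact hf.mem hx, f, ?_,
        fun _ _ => rfl, (hf.mono hTP).aut himg, trivial, fun x hx => ?_⟩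
      · rw [sup_eq_left.mpr hTP]; exact hf
      · exact ((hf.mono hTP).ofAut_aut himg hx).symm
  · refine weaklyClosed_iff_img.mpr ⟨hTS, fun f hf => ?_⟩
    obtain ⟨-, -, g, hg, hgf, κ, -, hgκ⟩ := (hE T _).mp (le_iff.mp hle T _ hf)
    rw [← img_congr hgf, img_congr hgκ, img_ofAut]
  · refine isNormal_iff_isMap.mpr ⟨hTS, fun P f hf => ?_⟩
    obtain ⟨-, -, g, hg, hgf, κ, -, hgκ⟩ := (hE P f).mp (le_iff.mp hle P f hf)
    exact ⟨g, hg, hgf, by rw [img_congr hgκ, img_ofAut]⟩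

/-- the conclusion of S5278 -/
def XConcl (F : FusionSystem S) (p : ℕ) (T : Subgroup Ω) : Prop :=
  ∃ X : Subgroup (MulAut ↥T), X ≤ F.autGroup T ∧ X ≠ ⊥ ∧ IsCyclic ↥X ∧ (Nat.card ↥X).Coprime p ∧
    ∀ a b : ↥T, a ∈ Subgroup.closure {y : ↥T | ∃ ψ ∈ X, ∃ t : ↥T, y = ψ t * t⁻¹} →
      b ∈ Subgroup.closure {y : ↥T | ∃ ψ ∈ X, ∃ t : ↥T, y = ψ t * t⁻¹} → a ≠ 1 → b ≠ 1 → ∃ ψ ∈ X, ψ a = b

/-- an automorphism with the right properties gives the conclusion -/
theorem xconcl_of_aut {T : Subgroup Ω} [Finite T] {β : MulAut T} (hβ : β ∈ F.autGroup T)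
    (hne : β ≠ 1) {n : ℕ} (hn : n.Coprime p) (hβn : β ^ n = 1) (D : Subgroup T)
    (hD : ∀ t, β t * t⁻¹ ∈ D) (htr : ∀ a ∈ D, ∀ b ∈ D, a ≠ 1 → b ≠ 1 → ∃ k : ℕ, (β ^ k) a = b) :
    XConcl F p T := by
  haveI : Finite (MulAut T) := inferInstance
  have hDβ : ∀ d ∈ D, β d ∈ D := by
    intro d hd
    have := D.mul_mem (hD d) hd
    rwa [inv_mul_cancel_right] at this
  have hk : ∀ k : ℕ, ∀ t, (β ^ k) t * t⁻¹ ∈ D := by
    intro k
    induction k with
    | zero => intro t; simp [D.one_mem]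
    | succ k ih =>
      intro t
      have h1 := D.mul_mem (hD ((β ^ k) t)) (ih t)
      have e : (β ^ (k + 1)) t = β ((β ^ k) t) := by rw [pow_succ']; rfl
      rw [e]
      have e2 : β ((β ^ k) t) * ((β ^ k) t)⁻¹ * ((β ^ k) t * t⁻¹) = β ((β ^ k) t) * t⁻¹ := by group
      rwa [e2] at h1
  have hcl : Subgroup.closure {y : ↥T | ∃ ψ ∈ Subgroup.zpowers β, ∃ t : ↥T, y = ψ t * t⁻¹} ≤ D := by
    rw [Subgroup.closure_le]
    rintro _ ⟨ψ, hψ, t, rfl⟩
    obtain ⟨k, hk'⟩ := (mem_powers_iff_mem_zpowers.mpr hψ : ψ ∈ Submonoid.powers β)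
    have : ψ = β ^ k := hk'.symm
    rw [this]
    exact hk k t
  refine ⟨Subgroup.zpowers β, by rwa [Subgroup.zpowers_le], by rwa [Ne, Subgroup.zpowers_eq_bot],
    inferInstance, ?_, ?_⟩
  · rw [Nat.card_zpowers]
    exact Nat.Coprime.coprime_dvd_left (orderOf_dvd_of_pow_eq_one hβn) hn
  · intro a b ha hb ha1 hb1
    obtain ⟨k, hk⟩ := htr a (hcl ha) b (hcl hb) ha1 hb1
    exact ⟨β ^ k, Subgroup.pow_mem _ (Subgroup.mem_zpowers β) k, hk⟩

end

end Cfsg.Agent.Fus.FT
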