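import Cfsg.Agent.Fus.FT11

set_option autoImplicit false
set_option linter.style.haveILetI false
set_option linter.unusedSectionVars false
set_option linter.unusedVariables false

namespace Cfsg.Agent.Fus.FT

open Cfsg Cfsg.FusionSystem Cfsg.Agent.Fus Cfsg.Agent.H87

universe u

section

variable {Ω : Type u} [Group Ω] {S : Subgroup Ω} {F : FusionSystem S} {p : ℕ}

theorem central_le_J {P T : Subgroup Ω} [Finite P] (hTP : T ≤ P) (hTc : ∀ t ∈ T, ∀ y ∈ P, t * y = y * t) :
    T ≤ thompsonSubgroupAOf P := by
  -- work inside `P`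
  intro t ht
  have h1 : (⟨t, hTP ht⟩ : P) ∈ thompsonSubgroupA P := by
    apply H87.center_le_thompsonA
    rw [Subgroup.mem_center_iff]
    intro g
    exact Subtype.ext (hTc t ht g g.2).symm
  exact ⟨_, h1, rfl⟩

theorem main_le [Finite S] [Fact p.Prime] (hp2 : p ≠ 2) (hS : IsPGroup p S) (hF : F.IsSaturated p)
    {T : Subgroup Ω} (hT : T ≤ S ⊓ Subgroup.centralizer (S : Set Ω))
    (hJT : ∀ f, IsMap F (thompsonSubgroupAOf S) f → img (thompsonSubgroupAOf S) f = thompsonSubgroupAOf S →
      ∀ x ∈ T, f x ∈ T)
    (hX : ¬ XConcl F p T) {E : FusionSystem S}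
    (hE1 : ∀ (P : Subgroup Ω) (f : Ω → Ω), T ≤ P → (IsMap E P f ↔ IsMap F P f ∧ ∀ x ∈ T, f x ∈ T)) :
    F ≤ E := by
  have hp : p.Prime := Fact.out
  have hTS : T ≤ S := hT.trans inf_le_left
  have hTc : ∀ t ∈ T, ∀ s ∈ S, t * s = s * t := by
    intro t ht s hs
    exact (Subgroup.mem_centralizer_iff.mp (hT ht).2 s hs).symm
  have hTf : Finite T := finite_of_le hTS
  have hWS : thompsonSubgroupAOf S ≤ S := Subgroup.map_subtype_le _
  have hTJ : T ≤ thompsonSubgroupAOf S := central_le_J hTS hTc
  refine well_placed hS hF ?_ ?_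
  · -- automorphisms of `S`
    intro α hα
    have hm := isMap_ofAut le_rfl hα
    refine (hE1 S _ hTS).mpr ⟨hm, ?_⟩
    refine hJT _ (hm.mono hWS) ?_
    have := finite_of_le hWS
    refine (hm.mono hWS).img_eq fun x hx => ?_
    rw [ofAut_apply _ (hWS hx)]
    exact (mem_J_iff hS α (hWS hx)).mp hx
  · intro Q hQ hQS IH1 IH2 α hα
    have hQ' : Q ≤ S := hQ.1
    have hQN : Q ≤ normalizerIn S Q := le_normalizerIn hQ'
    have hmα := isMap_ofAut hQ' hα
    by_cases hC : centralizerIn S Q ≤ Q
    swap
    · -- not centric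
      obtain ⟨g, hg, hgα, himg, hNle⟩ := extend_centric hS hF hQ hα
      have hQ₁S : Q ⊔ centralizerIn S Q ≤ S := sup_le hQ' (centralizerIn_le Q)
      have hfN' := finite_of_le (normalizerIn_le (S := S) (Q ⊔ centralizerIn S Q))
      have hlt : Nat.card Q < Nat.card (Q ⊔ centralizerIn S Q : Subgroup Ω) :=
        card_lt_of_lt hQ₁S (lt_of_le_of_ne le_sup_left fun h => hC (by
          conv_rhs => rw [h]
          exact le_sup_right))
      have hgE := IH2 _ hQ₁S (Subgroup.card_le_of_le hNle) (Or.inr hlt) g hg himg
      exact (hgE.mono le_sup_left).congr hgα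
    · -- centric
      have hQc := isCentric_of_fullyCentralized (sat_fullyCentralized hS hF hQ) hC
      have hTQ : T ≤ Q := fun t ht => hC (mem_centralizerIn.mpr ⟨hTS ht, fun x hx => (hTc t ht x (hQ' hx)).symm⟩)
      rw [hE1 Q _ hTQ]
      refine ⟨hmα, ?_⟩
      -- the model
      obtain ⟨NQ, hNQ⟩ := exists_isNormalizerSystem F hQ'
      have hST : IsPGroup p (normalizerIn S Q) := isPGroup_of_le hS (normalizerIn_le Q)
      have hfT := finite_of_le (normalizerIn_le (S := S) Q)
      have hNQs := normalizerSystem_saturated hS hF hQ hNQ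
      have hNQn := isNormal_normSys hQ' hNQ
      obtain ⟨G, hG, ι, hM⟩ := exists_model hST (isConstrained_normSys hS hF hQ hQc hNQ)
      have hr := hM.2.1
      have hfG : Finite G := hM.1
      have hRn := coreOf_normal hM
      have hQR : Q ≤ coreOf p ι := le_coreOf_of_normal hM hST hNQn
      have hRT : coreOf p ι ≤ normalizerIn S Q := coreOf_le
      have hRS : coreOf p ι ≤ S := hRT.trans (normalizerIn_le Q)
      have hTN : T ≤ normalizerIn S Q := hTQ.trans hQN
      -- `α` is conjugation by `m`
      have hαN : IsMap NQ Q (ofAut α) := (isMap_normSys_of_le hNQ le_rfl).mpr ⟨hQN, hmα, img_ofAut α⟩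
      obtain ⟨-, -, m, hm⟩ := (isMap_realized hr).mp hαN
      -- conjugation on a larger subgroup
      have tool : ∀ (R : Subgroup Ω), R ≤ normalizerIn S Q → T ≤ R → ∀ g : G,
          (∀ x ∈ R, ∃ y ∈ R, jj ι y = g * jj ι x * g⁻¹) →
          (∀ a, IsMap F R a → img R a = R → ∀ x ∈ T, a x ∈ T) →
          ∀ t ∈ T, ∃ t' ∈ T, jj ι t' = g * jj ι t * g⁻¹ := by
        intro R hR hTR g hg h1
        choose! a ha haj using hg
        have haM : IsMap NQ R a := (isMap_realized hr).mpr ⟨hR, fun x hx => hR (ha x hx), g, haj⟩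
        have haF := isMap_of_normSys hNQ haM
        have hRS' := hR.trans (normalizerIn_le Q)
        have := finite_of_le hRS'
        intro t ht
        exact ⟨a t, h1 a haF (haF.img_eq ha) t ht, haj t (hTR ht)⟩
      have tool2 : ∀ (R : Subgroup Ω), R ≤ normalizerIn S Q → T ≤ R →
          (Nat.card (normalizerIn S Q) ≤ Nat.card (normalizerIn S R)) →
          (Nat.card (normalizerIn S Q) < Nat.card (normalizerIn S R) ∨ Nat.card Q < Nat.card R) →
          ∀ a, IsMap F R a → img R a = R → ∀ x ∈ T, a x ∈ T := by
        intro R hR hTR h1 h2 a ha hai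
        exact ((hE1 R a hTR).mp (IH2 R (hR.trans (normalizerIn_le Q)) h1 h2 a ha hai)).2
      suffices hmz : ∀ t ∈ T, ∃ t' ∈ T, jj ι t' = m * jj ι t * m⁻¹ by
        intro t ht
        obtain ⟨t', ht', he⟩ := hmz t ht
        have : ofAut α t = t' := by
          apply jj_inj hr.1 (hQN (ofAut_mem _ (hTQ ht))) (hTN ht')
          rw [hm t (hTQ ht), he]
        rw [this]; exact ht'
      by_cases hRQ : coreOf p ι ≤ Q
      swap
      · -- `O_p(G)` is larger than `Q`
        have hlt : Nat.card Q < Nat.card (coreOf p ι) :=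
          card_lt_of_lt hRS (lt_of_le_of_ne hQR fun h => hRQ h.ge)
        have hTR : normalizerIn S Q ≤ normalizerIn S (coreOf p ι) := fun n hn =>
          ⟨hn.1, IsNormal.le_normalizer hRn hn⟩
        have hfin := finite_of_le (normalizerIn_le (S := S) (coreOf p ι))
        exact tool (coreOf p ι) hRT (hTQ.trans hQR) m (fun x hx => imj_normal hST hM hRn m hx)
          (tool2 _ hRT (hTQ.trans hQR) (Subgroup.card_le_of_le hTR) (Or.inr hlt))
      · have hRQ' : coreOf p ι = Q := le_antisymm hRQ hQR
        obtain ⟨P, hP⟩ := hM.2.2.1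
        have hTs : H85.SylIn p ι.range (⊤ : Subgroup G) := by
          rw [← hP]
          exact H85.sylIn_top P
        have hQnm : ∀ (g : G), ∀ x ∈ Q, ∃ y ∈ Q, jj ι y = g * jj ι x * g⁻¹ := fun g x hx =>
          imj_normal hST hM hNQn g hx
        -- group theorem
        by_contra hcon
        apply hX
        have hmemT : ∀ y : G, y ∈ imj ι T ↔ ∃ x ∈ T, jj ι x = y := fun y => mem_imj hTN
        have hmemQ : ∀ y : G, y ∈ imj ι Q ↔ ∃ x ∈ Q, jj ι x = y := fun y => mem_imj hQN
        have hnormT : ∀ g : G, g ∈ Subgroup.normalizer (imj ι T : Set G) →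
            ∀ t ∈ T, ∃ t' ∈ T, jj ι t' = g * jj ι t * g⁻¹ := by
          intro g hg t ht
          have h1 := (Subgroup.mem_normalizer_iff.mp hg (jj ι t)).mp ((hmemT _).mpr ⟨t, ht, rfl⟩)
          exact (hmemT _).mp h1
        have hnormT' : ∀ g : G, (∀ t ∈ T, ∃ t' ∈ T, jj ι t' = g * jj ι t * g⁻¹) →
            g ∈ Subgroup.normalizer (imj ι T : Set G) := by
          intro g hg
          rw [H85.mem_normalizer_iff_cj]
          apply Subgroup.eq_of_le_of_card_ge
          · rintro _ ⟨y, hy, rfl⟩
            obtain ⟨t, ht, rfl⟩ := (hmemT y).mp hy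
            obtain ⟨t', ht', he⟩ := hg t ht
            exact (hmemT _).mpr ⟨t', ht', he⟩
          · rw [H85.card_cj]
        have hrangemem : ∀ y : G, y ∈ ι.range ↔ ∃ x ∈ normalizerIn S Q, jj ι x = y := by
          intro y
          constructor
          · rintro ⟨x, rfl⟩
            exact ⟨x, x.2, jj_coe x⟩
          · rintro ⟨x, hx, rfl⟩
            exact ⟨⟨x, hx⟩, (jj_apply hx).symm⟩
        have gt : GT p (imj ι Q) (imj ι T) ⊤ ι.range :=
          { hQH := le_top
            hQn := by
              intro g _
              rw [H85.mem_normalizer_iff_cj]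
              apply Subgroup.eq_of_le_of_card_ge
              · rintro _ ⟨y, hy, rfl⟩
                obtain ⟨x, hx, rfl⟩ := (hmemQ y).mp hy
                obtain ⟨x', hx', he⟩ := hQnm g x hx
                exact (hmemQ _).mpr ⟨x', hx', he⟩
              · rw [H85.card_cj]
            hQp := by
              refine hTs.isPGroup.to_le ?_
              intro y hy
              obtain ⟨x, hx, rfl⟩ := (hmemQ y).mp hy
              exact (hrangemem _).mpr ⟨x, hQN hx, rfl⟩
            hcQ := by
              rintro c ⟨-, hc⟩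
              have h1 := mem_cent.mp hc
              obtain ⟨s, hs, rfl⟩ := mem_coreOf_of_centralizes hM (c := c) (fun x hx => by
                rw [hRQ'] at hx
                exact h1 (jj ι x) ((hmemQ _).mpr ⟨x, hx, rfl⟩))
              rw [hRQ'] at hs
              exact (hmemQ _).mpr ⟨s, hs, rfl⟩
            hP := hTs
            hTP := by
              intro y hy
              obtain ⟨x, hx, rfl⟩ := (hmemT y).mp hy
              exact (hrangemem _).mpr ⟨x, hTN hx, rfl⟩
            hTc := by
              intro t ht y hy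
              obtain ⟨t', ht', rfl⟩ := (hmemT t).mp ht
              obtain ⟨y', hy', rfl⟩ := (hrangemem y).mp hy
              rw [← jj_mul (hTN ht') hy', ← jj_mul hy' (hTN ht'), hTc t' ht' y' hy'.1]
            hJ := by
              rintro g ⟨-, hg⟩
              apply hnormT'
              -- `J(N_S(Q))`
              let e : normalizerIn S Q ≃* ι.range := MonoidHom.ofInjective hr.1
              have he : ∀ (x : Ω) (hx : x ∈ normalizerIn S Q), ((e ⟨x, hx⟩ : ι.range) : G) = jj ι x := fun x hx =>
                (jj_apply hx).symm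
              have hJmem : ∀ x ∈ normalizerIn S Q, (x ∈ thompsonSubgroupAOf (normalizerIn S Q) ↔
                  jj ι x ∈ thompsonSubgroupAOf ι.range) := by
                intro x hx
                rw [mem_J_iff hST e hx, he]
              have hJT' : thompsonSubgroupAOf (normalizerIn S Q) ≤ normalizerIn S Q := Subgroup.map_subtype_le _
              have hJn : ∀ x ∈ thompsonSubgroupAOf (normalizerIn S Q),
                  ∃ y ∈ thompsonSubgroupAOf (normalizerIn S Q), jj ι y = g * jj ι x * g⁻¹ := by
                intro x hx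
                have h1 := (Subgroup.mem_normalizer_iff.mp hg _).mp ((hJmem x (hJT' hx)).mp hx)
                obtain ⟨y, hy, hyj⟩ := (hrangemem _).mp (Subgroup.map_subtype_le _ h1)
                exact ⟨y, (hJmem y hy).mpr (by rw [hyj]; exact h1), hyj⟩
              have hTJ' : T ≤ thompsonSubgroupAOf (normalizerIn S Q) :=
                central_le_J hTN (fun t ht y hy => hTc t ht y hy.1)
              refine tool _ hJT' hTJ' g hJn ?_
              by_cases hTS' : normalizerIn S Q = S
              · rw [hTS']; exact hJT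
              · have hlt : normalizerIn S Q < S := lt_of_le_of_ne (normalizerIn_le Q) hTS'
                have h5 : Nat.card (normalizerIn S Q) < Nat.card (normalizerIn S (normalizerIn S Q)) :=
                  card_lt_of_lt (normalizerIn_le _) (lt_normalizerIn hS hlt)
                have hle : normalizerIn S (normalizerIn S Q) ≤
                    normalizerIn S (thompsonSubgroupAOf (normalizerIn S Q)) :=
                  fun s hs => ⟨hs.1, normalizer_le_J _ hs.2⟩
                have hfin := finite_of_le (normalizerIn_le (S := S) (thompsonSubgroupAOf (normalizerIn S Q)))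
                have h6 := Subgroup.card_le_of_le hle
                exact tool2 _ hJT' hTJ' (by omega) (Or.inl (by omega))
            hTn := by
              intro h
              exact hcon (hnormT m (h trivial)) }
        obtain ⟨x, -, hxN, hxmove, ⟨n, hn, hxn⟩, D, hDT, hDx, hDtr⟩ :=
          gt_main hp2 (imj ι Q) (imj ι T) _ ⊤ ι.range rfl gt
        have hxT := hnormT x hxN
        choose! f hfT hfj using hxT
        have hfM : IsMap NQ T f := (isMap_realized hr).mpr ⟨hTN, fun y hy => hTN (hfT y hy), x, hfj⟩
        have hfF : IsMap F T f := isMap_of_normSys hNQ hfM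
        have hfi : img T f = T := hfF.img_eq hfT
        obtain ⟨β, hβ, hβf⟩ := hfF.exists_aut hfi
        have hβj : ∀ t : T, jj ι ((β t : T) : Ω) = x * jj ι (t : Ω) * x⁻¹ := by
          intro t
          rw [← hfj t t.2, ← hβf t t.2, ofAut_apply β t.2]
        have hβk : ∀ (k : ℕ) (t : T), jj ι (((β ^ k) t : T) : Ω) = x ^ k * jj ι (t : Ω) * (x ^ k)⁻¹ := by
          intro k
          induction k with
          | zero => intro t; simp
          | succ k ih =>
            intro t
            have e : (β ^ (k + 1)) t = β ((β ^ k) t) := by rw [pow_succ']; rfl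
            rw [e, hβj, ih, conj_pow']
        refine xconcl_of_aut (β := β) hβ ?_ hn ?_
          ((D.comap ι).comap (Subgroup.inclusion hTN)) ?_ ?_
        · rintro rfl
          obtain ⟨y, hy, hne⟩ := hxmove
          obtain ⟨t, ht, rfl⟩ := (hmemT y).mp hy
          apply hne
          have := hβj ⟨t, ht⟩
          have h2 : jj ι t = x * jj ι t * x⁻¹ := this
          calc x * jj ι t = x * jj ι t * x⁻¹ * x := by group
            _ = jj ι t * x := by rw [← h2]
        · ext t
          have h1 := hβk n t
          have h2 := hxn (jj ι (t : Ω)) ((hmemT _).mpr ⟨t, t.2, rfl⟩)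
          rw [h2, mul_inv_cancel_right] at h1
          exact jj_inj hr.1 (hTN ((β ^ n) t).2) (hTN t.2) h1
        · intro t
          show ι (Subgroup.inclusion hTN (β t * t⁻¹)) ∈ D
          have h1 := hDx (jj ι (t : Ω)) ((hmemT _).mpr ⟨t, t.2, rfl⟩)
          rw [← hβj t, ← jj_inv (hTN t.2), ← jj_mul (hTN (β t).2) ((normalizerIn S Q).inv_mem (hTN t.2)),
            jj_apply ((normalizerIn S Q).mul_mem (hTN (β t).2) ((normalizerIn S Q).inv_mem (hTN t.2)))] at h1
          exact h1
        · intro a ha b hb ha1 hb1
          have ha' : jj ι (a : Ω) ∈ D := by rw [jj_apply (hTN a.2)]; exact ha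
          have hb' : jj ι (b : Ω) ∈ D := by rw [jj_apply (hTN b.2)]; exact hb
          have hne1 : ∀ c : T, c ≠ 1 → jj ι (c : Ω) ≠ 1 := by
            intro c hc h
            apply hc
            apply Subtype.ext
            apply jj_inj hr.1 (hTN c.2) (normalizerIn S Q).one_mem
            rw [h, jj_one]
          obtain ⟨k, hk⟩ := hDtr _ ha' _ hb' (hne1 a ha1) (hne1 b hb1)
          refine ⟨k, ?_⟩
          apply Subtype.ext
          apply jj_inj hr.1 (hTN ((β ^ k) a).2) (hTN b.2)
          rw [hβk, hk]

end

end Cfsg.Agent.Fus.FT
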