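import Cfsg.Agent.Fus.Quot
import Cfsg.Agent.Fus.Extend
import Cfsg.Agent.Fus.Hyper
import Cfsg.Agent.Fus.Chain
set_option autoImplicit false

/-!
# The hyperfocal subgroup of a factor system (helper35)

* `IsFac.hyper_eq`: `hyp(F/T) = θ(hyp(F))`.
-/

namespace Cfsg.Agent.Fus

open Cfsg Cfsg.FusionSystem Cfsg.Agent.H85

/-- A `p'`-element of an image lifts to a `p'`-element. -/
theorem FacHyper.exists_coprime_lift {A B : Type*} [Group A] [Finite A] [Group B] {p : ℕ} [hp : Fact p.Prime]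
    (f : A →* B) {b : B} (hb : (orderOf b).Coprime p) {a : A} (ha : f a = b) :
    ∃ a', f a' = b ∧ (orderOf a').Coprime p := by
  obtain ⟨e, m, hm, hn⟩ := Nat.exists_eq_pow_mul_and_not_dvd (orderOf_pos a).ne' p hp.out.ne_one
  have hco : Nat.Coprime (p ^ e) (orderOf b) := (hb.symm).pow_left e
  obtain ⟨k, hk⟩ := exists_pow_eq_self_of_coprime hco
  refine ⟨(a ^ p ^ e) ^ k, by rw [map_pow, map_pow, ha, hk], ?_⟩
  have h1 : orderOf (a ^ p ^ e) = m := by
    rw [orderOf_pow_of_dvd (pow_ne_zero _ hp.out.ne_zero) (hn ▸ Dvd.intro _ rfl), hn,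
      Nat.mul_div_cancel_left _ (pow_pos hp.out.pos e)]
  have h2 : orderOf ((a ^ p ^ e) ^ k) ∣ m := h1 ▸ orderOf_pow_dvd k
  exact Nat.Coprime.coprime_dvd_left h2 ((Nat.Prime.coprime_iff_not_dvd hp.out).2 hm).symm

variable {Ω Ω' : Type*} [Group Ω] [Group Ω'] {S T : Subgroup Ω} {S' : Subgroup Ω'} {F : FusionSystem S}
  {E : FusionSystem S'} {θ : S →* Ω'} {p : ℕ}

namespace IsFac

theorem hyper_le_map [Finite S] [Fact p.Prime] (h : IsFac F T θ E) :
    E.hyperfocalSubgroup p ≤ ((F.hyperfocalSubgroup p).subgroupOf S).map θ := by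
  refine hyper_le fun P' hP' α' hα' y hy => ?_
  obtain ⟨Q, hQS, hTQ, rfl⟩ : ∃ Q, Q ≤ S ∧ T ≤ Q ∧ imageAlong θ Q = P' :=
    ⟨preimageAlong θ P', preimageAlong_le θ P', h.le_pre P', h.im_pre hP'⟩
  have hfin := finite_of_le hQS
  have hfA := finite_mulAut (P := Q)
  have h1 : (α' : MulAut (imageAlong θ Q)) ∈ (facAut h.sc h.ker hQS).range := by
    rw [h.facAut_range hQS hTQ]; exact α'.2
  obtain ⟨β, hβ⟩ := h1
  obtain ⟨γ, hγ, hγo⟩ := FacHyper.exists_coprime_lift (p := p) (facAut h.sc h.ker hQS) (b := (α' : MulAut (imageAlong θ Q)))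
    (by rwa [Subgroup.orderOf_coe]) hβ
  obtain ⟨x, hx, hxS, rfl⟩ := (mem_imageAlong θ).1 hy
  have h2 := mem_hyper_of_coprime hQS γ.2 (by rwa [Subgroup.orderOf_coe]) hx
  have hγx : ofAut (γ : MulAut Q) x ∈ S := hQS (ofAut_mem (γ : MulAut Q) hx)
  rw [← hγ, ofAut_facAut h.sc h.ker hQS γ hx, ← ext_inv θ hxS, ← ext_mul θ (S.inv_mem hxS) hγx]
  refine ⟨⟨_, S.mul_mem (S.inv_mem hxS) hγx⟩, h2, ?_⟩
  rw [ext_apply θ (S.mul_mem (S.inv_mem hxS) hγx)]

theorem map_hyper_le [Finite S] [Fact p.Prime] (h : IsFac F T θ E) (hS : IsPGroup p S) (hF : F.IsSaturated p) :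
    ((F.hyperfocalSubgroup p).subgroupOf S).map θ ≤ E.hyperfocalSubgroup p := by
  have hfinS' := h.finite
  suffices key : F.hyperfocalSubgroup p ≤ preimageAlong θ (E.hyperfocalSubgroup p) by
    rintro _ ⟨x, hx, rfl⟩
    have h1 := (mem_preimageAlong θ).1 (key hx)
    have h2 : ext θ (x : Ω) ∈ E.hyperfocalSubgroup p := h1.2
    rw [ext_apply θ x.2] at h2
    exact h2
  refine hyper_le fun P hP α hα x hx => ?_
  have hfinP := finite_of_le hP
  have hfA := finite_mulAut (P := P)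
  rw [mem_preimageAlong]
  have hxS := hP hx
  have hαx : ofAut (α : MulAut P) x ∈ S := hP (ofAut_mem (α : MulAut P) hx)
  refine ⟨S.mul_mem (S.inv_mem hxS) hαx, ?_⟩
  have hα1 := isMap_ofAut hP α.2
  obtain ⟨g, hg, hgf⟩ := exists_extend_stronglyClosed hS hF h.sc hα1
  set Q := P ⊔ T with hQ
  have hfinQ := finite_of_le hg.le
  have himg : img Q g = Q := by
    refine hg.img_eq ?_
    refine hg.forall_sup_mem ?_ ?_
    · intro z hz
      have h1 := hgf z hz
      have h2 : g z = (g z * (ofAut (α : MulAut P) z)⁻¹) * ofAut (α : MulAut P) z := by group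
      rw [h2]
      exact Q.mul_mem (le_sup_right (a := P) h1) (le_sup_left (a := P) (ofAut_mem (α : MulAut P) hz))
    · intro z hz
      exact le_sup_right (a := P) (sc_map_mem h.sc hg (le_sup_right (a := P) hz) hz)
  have hβ := hg.aut_mem himg
  set β : F.autGroup Q := ⟨hg.aut himg, hβ⟩ with hβdef
  set β' := facAut h.sc h.ker hg.le β with hβ'
  have hβ'm : β' ∈ E.autGroup (imageAlong θ Q) := by
    rw [← h.facAut_range hg.le le_sup_right]; exact ⟨β, rfl⟩
  -- the action on the image of `P`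
  have hact : ∀ z ∈ P, ofAut β' (ext θ z) = ext θ (ofAut (α : MulAut P) z) := by
    intro z hz
    have hzQ : z ∈ Q := le_sup_left (a := P) hz
    rw [hβ', ofAut_facAut h.sc h.ker hg.le β hzQ]
    show ext θ (ofAut (hg.aut himg) z) = _
    rw [hg.ofAut_aut himg hzQ, h.eq_iff (hg.mem hzQ) (hP (ofAut_mem (α : MulAut P) hz))]
    exact hgf z hz
  have hpow : ∀ (n : ℕ), ∀ z ∈ P, ofAut (β' ^ n) (ext θ z) = ext θ (ofAut ((α : MulAut P) ^ n) z) := by
    intro n
    induction n with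
    | zero =>
      intro z hz
      rw [pow_zero, pow_zero, ofAut_one hz, ofAut_one (ext_mem_imageAlong θ hg.le (le_sup_left (a := P) hz))]
    | succ n ih =>
      intro z hz
      have hzQ : z ∈ Q := le_sup_left (a := P) hz
      rw [pow_succ', pow_succ', ofAut_mul _ _ (ext_mem_imageAlong θ hg.le hzQ), ofAut_mul _ _ hz, ih z hz,
        hact _ (ofAut_mem _ hz)]
  have hord : (orderOf β').Coprime p := by
    have h1 : β' ^ orderOf (α : MulAut P) = 1 := by
      refine ofAut_injective fun y hy => ?_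
      rw [ofAut_one hy]
      obtain ⟨z, hz, hzS, rfl⟩ := (mem_imageAlong θ).1 hy
      have hPn : P ≤ Subgroup.normalizer (T : Set Ω) := hP.trans (sc_le_normalizer h.sc)
      rw [hQ, sup_comm, mem_sup_iff_of_normalizes hPn] at hz
      obtain ⟨a, ha, b, hb, rfl⟩ := hz
      have hbS := hP hb
      have haS := h.sc.1 ha
      have e : ext θ (a * b) = ext θ b := by
        rw [ext_mul θ haS hbS, (h.ker a haS).2 ha, one_mul]
      rw [e, hpow _ b hb, pow_orderOf_eq_one, ofAut_one hb]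
    have h2 := orderOf_dvd_of_pow_eq_one h1
    rw [Subgroup.orderOf_coe] at h2
    exact Nat.Coprime.coprime_dvd_left h2 hα
  have hxQ : x ∈ Q := le_sup_left (a := P) hx
  have h3 := mem_hyper_of_coprime (h.im_le Q) hβ'm hord (ext_mem_imageAlong θ hg.le hxQ)
  rw [hact x hx] at h3
  rwa [ext_mul θ (S.inv_mem hxS) hαx, ext_inv θ hxS]

/-- `hyp(F/T) = θ(hyp(F))`. -/
theorem hyper_eq [Finite S] [Fact p.Prime] (h : IsFac F T θ E) (hS : IsPGroup p S) (hF : F.IsSaturated p) :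
    E.hyperfocalSubgroup p = ((F.hyperfocalSubgroup p).subgroupOf S).map θ :=
  le_antisymm h.hyper_le_map (h.map_hyper_le hS hF)

end IsFac

end Cfsg.Agent.Fus
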