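import Cfsg.Agent.Fus.And4
set_option autoImplicit false
set_option linter.unusedSectionVars false
set_option linter.unusedVariables false

/-!
# The system generated by a focal family: invariance and saturation (helper85)
-/

namespace Cfsg.Agent.Fus

open Cfsg Cfsg.FusionSystem Cfsg.Agent.H85

variable {Ω : Type*} [Group Ω] {S T : Subgroup Ω} {F : FusionSystem S} {p : ℕ}

namespace FocData

variable {ℋ : Subgroup Ω → Prop} {X : (P : Subgroup Ω) → Subgroup (MulAut P)}

variable (h : FocData F p T ℋ X) [Finite S] [Fact p.Prime] (hl : LocData p T ℋ (focA F p T X))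
include h

/-- decomposition of the maps defined on subgroups in the family -/
theorem dec_mem : ∀ (n : ℕ) {P : Subgroup Ω}, Nat.card T - Nat.card P = n → ℋ P → ∀ {f : Ω → Ω}, IsMap F P f →
    Dec hl.fs F P f := by
  intro n
  induction n using Nat.strong_induction_on with
  | _ n ih =>
    intro P hn hP f hf
    have hTS := h.TS
    have hPT := h.le P hP
    have hPS := h.leS hP
    have hfT := finite_of_le hTS
    have hfP := finite_of_le hPS
    have hTp := isPGroup_of_le h.hS hTS
    have hTI := h.fs_tInv hl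
    rcases eq_or_lt_of_le hPT with rfl | hlt
    · have himg : Fus.img P f = P := sc_img_eq h.sc hf le_rfl
      obtain ⟨α, hα, hαx⟩ := hf.exists_aut himg
      exact ⟨α, hα, fun x => x, isMap_id' le_rfl, fun x hx => (hαx x hx).symm⟩
    · -- maps defined on normalizers
      have key : ∀ {R : Subgroup Ω} {k : Ω → Ω}, ℋ R → Nat.card R = Nat.card P → IsMap F (normalizerIn T R) k →
          Dec hl.fs F R k := by
        intro R k hR hc hk
        have hRT := h.le R hR
        have hfR := finite_of_le hRT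
        have hRlt : R < T := lt_of_le_of_ne hRT fun e => by
          have := card_lt_of_lt (S := T) le_rfl hlt
          rw [e] at hc
          omega
        have h1 : R < normalizerIn T R := lt_normalizerIn hTp hRlt
        have h2 := card_lt_of_lt (S := T) (normalizerIn_le R) h1
        have h3 : Nat.card (normalizerIn T R) ≤ Nat.card T := Subgroup.card_le_of_le (normalizerIn_le R)
        exact (ih _ (by omega) rfl (h.mono _ _ hR h1.le (normalizerIn_le R)) hk).mono h1.le
      obtain ⟨Q, hPQ, hQn⟩ := exists_fullyNormalized (F := F) hPS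
      have hQ := h.conj hP hPQ
      have hQT := h.le Q hQ
      have hQS := hQn.1
      have hfQ := finite_of_le hQS
      obtain ⟨g₁, hg₁, himg₁, -⟩ := sat_exists_normalizer_map h.hS h.sat hQn hPQ
      have hfc := hf.isConj
      obtain ⟨g₂, hg₂, himg₂, -⟩ := sat_exists_normalizer_map h.hS h.sat hQn (isConj_trans (isConj_symm hfc) hPQ)
      have hNT : ∀ R : Subgroup Ω, normalizerIn T R ≤ normalizerIn S R := fun R => inf_le_inf_right _ hTS
      have hg₁P := hg₁.mono (le_normalizerIn hPS)
      have hg₂P := hg₂.mono (le_normalizerIn hf.img_le)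
      have hfPi : ℋ (Fus.img P f) := h.img P f hP hf
      have hd₁ : Dec hl.fs F P g₁ := key hP rfl (hg₁.mono (hNT P))
      have hd₂ : Dec hl.fs F (Fus.img P f) g₂ := key hfPi hf.card_img (hg₂.mono (hNT _))
      -- the automorphism of `Q`
      have hm₁ : IsMap F Q (minv P g₁) := by rw [← himg₁]; exact hg₁P.minv_isMap
      have hm₁Q : ∀ x ∈ Q, minv P g₁ x ∈ P := fun x hx => hg₁P.minv_mem (by rw [himg₁]; exact hx)
      have hμ : IsMap F Q (fun x => g₂ (f (minv P g₁ x))) :=
        hg₂P.comp (hf.comp hm₁ hm₁Q) fun x hx => subset_img (hm₁Q x hx)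
      have hμi : Fus.img Q (fun x => g₂ (f (minv P g₁ x))) = Q := by
        refine hμ.img_eq fun x hx => ?_
        have : g₂ (f (minv P g₁ x)) ∈ Fus.img (Fus.img P f) g₂ := subset_img (subset_img (hm₁Q x hx))
        rwa [himg₂] at this
      obtain ⟨α, hα, hαx⟩ := hμ.exists_aut hμi
      have hdα : Dec hl.fs F Q (ofAut α) := by
        have hfA := finite_mulAut (P := Q)
        have hαm := isMap_ofAut hQS hα
        have h1 : H85.cj α (autInducedBy T Q) ≤ focA F p T X Q := by
          rintro _ ⟨β, hβ, rfl⟩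
          refine (h.focA_equi hQ hαm (img_ofAut α) (β := α * β * α⁻¹) fun x hx => ?_).1 (h.autT_le_focA hQ hβ)
          rw [ofAut_mul _ _ (ofAut_mem α hx), ofAut_inv_apply α hx, ofAut_mul _ _ hx]
        obtain ⟨b, hb, hbT⟩ := (h.focA_sylIn hQ hQn).exists_cj_le h1 (isPGroup_cj (isPGroup_autInducedBy hTp Q))
        rw [cj_cj] at hbT
        have hbα : b * α ∈ F.autGroup Q := Subgroup.mul_mem _ (h.focA_le_autF hQ hb) hα
        have hbm := isMap_ofAut hQS hbα
        obtain ⟨k, hk, hkx⟩ := recep_exists_extend_of_le (sat_receptive' h.hS h.sat hQn) hbm (img_ofAut _)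
          (N := normalizerIn T Q) (le_normalizerIn hQT) (by
            intro t ht
            obtain ⟨r, hr, hrx⟩ := mem_autInducedBy'.1 (hbT (conj_mem_cj (conjAut_mem ht.1 ht.2)))
            refine ⟨hTS ht.1, ht.2, r, hTS hr, fun y hy => ?_⟩
            have h3 := hrx _ (ofAut_mem (b * α) hy)
            rw [ofAut_mul _ _ (ofAut_mem _ hy), ofAut_mul _ _ (ofAut_mem _ (ofAut_mem _ hy)),
              ofAut_inv_apply _ hy, ofAut_conjAut _ _ hy] at h3
            exact h3)
        have hd : Dec hl.fs F Q (ofAut (b * α)) := (key hQ (isConj_card_eq hPQ) hk).congr hkx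
        have hbi : IsMap hl.fs Q (ofAut b⁻¹) := hl.fs_isMap hQ (Subgroup.inv_mem _ hb)
        have hd2 : Dec hl.fs F (Fus.img Q (ofAut (b * α))) (ofAut b⁻¹) := by
          rw [img_ofAut]; exact dec_of_isMap hbi
        refine (dec_compT hTI hd hd2).congr fun x hx => ?_
        show ofAut b⁻¹ (ofAut (b * α) x) = _
        rw [ofAut_mul _ _ hx, ofAut_inv_apply b (ofAut_mem α hx)]
      -- composition
      have hdα' : Dec hl.fs F (Fus.img P g₁) (ofAut α) := by rw [himg₁]; exact hdα
      have h1 := dec_compT hTI hd₁ hdα'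
      have himg3 : Fus.img P (fun x => ofAut α (g₁ x)) = Fus.img (Fus.img P f) g₂ := by
        rw [himg₂, hg₁P.img_comp, himg₁, img_ofAut]
      have h2 : Dec hl.fs F (Fus.img P (fun x => ofAut α (g₁ x))) (minv (Fus.img P f) g₂) := by
        rw [himg3]; exact dec_minvT hTI hg₂P hd₂
      refine (dec_compT hTI h1 h2).congr fun x hx => ?_
      have hgx : g₁ x ∈ Q := by rw [← himg₁]; exact subset_img hx
      show minv (Fus.img P f) g₂ (ofAut α (g₁ x)) = f x
      rw [hαx _ hgx, hg₁P.minv_apply hx, hg₂P.minv_apply (subset_img hx)]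

/-- decomposition of all maps -/
theorem fs_dec (hrad : ∀ R : Subgroup Ω, F.IsCentric R → F.IsRadical p R → ℋ (R ⊓ T)) {P : Subgroup Ω} (hP : P ≤ T)
    {f : Ω → Ω} (hf : IsMap F P f) : Dec hl.fs F P f := by
  have hTI := h.fs_tInv hl
  have hle : F ≤ (decSpecT h.sc hTI).toFS := by
    refine alperin_coprime h.hS h.sat fun Q hQn hQc hQr α hα hαp => ?_
    rw [(decSpecT h.sc hTI).isMap_toFS]
    have hαm := isMap_ofAut hQn.1 hα
    exact ⟨hαm, h.dec_mem hl _ rfl (hrad Q hQc hQr) (hαm.mono inf_le_left)⟩
  have h1 := ((decSpecT h.sc hTI).isMap_toFS.mp (le_iff.mp hle P f hf)).2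
  rwa [inf_eq_left.mpr hP] at h1

theorem fs_invariant (hrad : ∀ R : Subgroup Ω, F.IsCentric R → F.IsRadical p R → ℋ (R ⊓ T)) :
    hl.fs.IsInvariantIn F :=
  isInvariantIn_of_tInv (h.fs_le_F hl) h.sc (h.fs_tInv hl) fun _ _ hP hf => h.fs_dec hl hrad hP hf

end FocData

variable {X : (P : Subgroup Ω) → Subgroup (MulAut P)}

/-- saturation when the family is that of the `T`-centric subgroups -/
theorem FocData.fs_saturated' [Finite S] [Fact p.Prime] (h : FocData F p T (TCen F T) X)
    (hl : LocData p T (TCen F T) (focA F p T X)) : hl.fs.IsSaturated p := by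
  have hfT := finite_of_le h.TS
  have hTp := isPGroup_of_le h.hS h.TS
  refine hl.fs_saturated hTp fun P hPc hP => absurd ?_ hP
  exact (tcen_iff_isCentric (h.fs_le_F hl) fun P f hP hf => h.fs_dec hl
    (fun R hRc hRr => tcen_of_radical h.hS h.sat h.sc hRc hRr) hP hf).2 hPc

end Cfsg.Agent.Fus
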