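import Cfsg.Agent.Fus.Marks
import Cfsg.Agent.Fus.Saturated
set_option autoImplicit false
set_option maxHeartbeats 400000

/-!
# Graphs of the maps of a fusion system, as subgroups of `S × S` (helper88)
-/

namespace Cfsg.Agent.Fus.Bi

open Cfsg Cfsg.Agent.Fus Cfsg.Agent.Fus.Burn

variable {Ω : Type*} [Group Ω] {S : Subgroup Ω} {F : FusionSystem S} {p : ℕ}

/-- The graph of a map of `F`. -/
def graph {P : Subgroup Ω} {f : Ω → Ω} (h : IsMap F P f) : Subgroup (S × S) where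
  carrier := {z | (z.1 : Ω) ∈ P ∧ (z.2 : Ω) = f z.1}
  one_mem' := ⟨P.one_mem, h.map_one.symm⟩
  mul_mem' := by
    rintro ⟨a, b⟩ ⟨c, d⟩ ⟨h1, h2⟩ ⟨h3, h4⟩
    refine ⟨P.mul_mem h1 h3, ?_⟩
    show (b : Ω) * d = f ((a : Ω) * c)
    rw [h.map_mul h1 h3, ← h2, ← h4]
  inv_mem' := by
    rintro ⟨a, b⟩ ⟨h1, h2⟩
    refine ⟨P.inv_mem h1, ?_⟩
    show (b : Ω)⁻¹ = f (a : Ω)⁻¹
    rw [h.map_inv h1, ← h2]

theorem mem_graph {P : Subgroup Ω} {f : Ω → Ω} {h : IsMap F P f} {z : S × S} :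
    z ∈ graph h ↔ (z.1 : Ω) ∈ P ∧ (z.2 : Ω) = f z.1 := Iff.rfl

/-- The subgroups of `S × S` which are graphs of maps of `F`. -/
def FT (F : FusionSystem S) : Set (Subgroup (S × S)) :=
  {H | ∃ (P : Subgroup Ω) (f : Ω → Ω) (h : IsMap F P f), H = graph h}

theorem graph_mem_FT {P : Subgroup Ω} {f : Ω → Ω} (h : IsMap F P f) : graph h ∈ FT F := ⟨P, f, h, rfl⟩

/-- First projection, in `Ω`. -/
def pr1 (H : Subgroup (S × S)) : Subgroup Ω := (H.map (MonoidHom.fst S S)).map S.subtype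

/-- Second projection, in `Ω`. -/
def pr2 (H : Subgroup (S × S)) : Subgroup Ω := (H.map (MonoidHom.snd S S)).map S.subtype

theorem mem_pr1 {H : Subgroup (S × S)} {x : Ω} : x ∈ pr1 H ↔ ∃ z ∈ H, (z.1 : Ω) = x := by
  constructor
  · rintro ⟨_, ⟨z, hz, rfl⟩, rfl⟩; exact ⟨z, hz, rfl⟩
  · rintro ⟨z, hz, rfl⟩; exact ⟨_, ⟨z, hz, rfl⟩, rfl⟩

theorem mem_pr2 {H : Subgroup (S × S)} {x : Ω} : x ∈ pr2 H ↔ ∃ z ∈ H, (z.2 : Ω) = x := by
  constructor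
  · rintro ⟨_, ⟨z, hz, rfl⟩, rfl⟩; exact ⟨z, hz, rfl⟩
  · rintro ⟨z, hz, rfl⟩; exact ⟨_, ⟨z, hz, rfl⟩, rfl⟩

theorem pr1_le (H : Subgroup (S × S)) : pr1 H ≤ S := Subgroup.map_subtype_le _

theorem pr2_le (H : Subgroup (S × S)) : pr2 H ≤ S := Subgroup.map_subtype_le _

theorem pr1_graph {P : Subgroup Ω} {f : Ω → Ω} (h : IsMap F P f) : pr1 (graph h) = P := by
  ext x
  rw [mem_pr1]
  constructor
  · rintro ⟨z, hz, rfl⟩; exact hz.1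
  · intro hx
    exact ⟨(⟨x, h.le hx⟩, ⟨f x, h.mem hx⟩), ⟨hx, rfl⟩, rfl⟩

theorem pr2_graph {P : Subgroup Ω} {f : Ω → Ω} (h : IsMap F P f) : pr2 (graph h) = img P f := by
  ext x
  rw [mem_pr2, h.mem_img]
  constructor
  · rintro ⟨z, hz, rfl⟩; exact ⟨z.1, hz.1, hz.2.symm⟩
  · rintro ⟨y, hy, rfl⟩
    exact ⟨(⟨y, h.le hy⟩, ⟨f y, h.mem hy⟩), ⟨hy, rfl⟩, rfl⟩

theorem card_graph {P : Subgroup Ω} {f : Ω → Ω} (h : IsMap F P f) : Nat.card (graph h) = Nat.card P := by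
  refine Nat.card_congr ⟨fun z => ⟨(z.1.1 : Ω), z.2.1⟩, fun x => ⟨(⟨x, h.le x.2⟩, ⟨f x, h.mem x.2⟩), x.2, rfl⟩,
    fun z => ?_, fun x => rfl⟩
  apply Subtype.ext
  apply Prod.ext
  · rfl
  · exact Subtype.ext z.2.2.symm

/-- A subgroup of a graph is the graph of the restriction. -/
theorem eq_graph_of_le {P : Subgroup Ω} {f : Ω → Ω} (h : IsMap F P f) {H : Subgroup (S × S)} (hH : H ≤ graph h) :
    ∃ hA : pr1 H ≤ P, H = graph (h.mono hA) := by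
  have hA : pr1 H ≤ P := by
    intro x hx
    obtain ⟨z, hz, rfl⟩ := mem_pr1.mp hx
    exact (hH hz).1
  refine ⟨hA, ?_⟩
  ext z
  constructor
  · intro hz
    exact ⟨mem_pr1.mpr ⟨z, hz, rfl⟩, (hH hz).2⟩
  · rintro ⟨h1, h2⟩
    obtain ⟨w, hw, hwz⟩ := mem_pr1.mp h1
    have h3 := (hH hw).2
    have : w = z := by
      apply Prod.ext
      · exact Subtype.ext hwz
      · apply Subtype.ext
        rw [h3, hwz, ← h2]
    rwa [← this]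

theorem mem_FT_of_le {H K : Subgroup (S × S)} (hK : K ∈ FT F) (h : H ≤ K) : H ∈ FT F := by
  obtain ⟨P, f, hf, rfl⟩ := hK
  obtain ⟨hA, hH⟩ := eq_graph_of_le hf h
  rw [hH]
  exact graph_mem_FT _

/-- If all elements of `H` lie on the "graph" of a map of `F` then `H` is a graph. -/
theorem mem_FT_of {H : Subgroup (S × S)} {P : Subgroup Ω} {f : Ω → Ω} (h : IsMap F P f)
    (hH : ∀ z ∈ H, (z.1 : Ω) ∈ P ∧ (z.2 : Ω) = f z.1) : H ∈ FT F :=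
  mem_FT_of_le (graph_mem_FT h) fun z hz => hH z hz

theorem isMap_conj_conj {P : Subgroup Ω} {f : Ω → Ω} (h : IsMap F P f) {s t : Ω} (hs : s ∈ S) (ht : t ∈ S) :
    IsMap F (img P (fun x => s * x * s⁻¹)) (fun x => t * f (s⁻¹ * x * s) * t⁻¹) := by
  have h1 : IsMap F (img P (fun x => s * x * s⁻¹)) (fun x => s⁻¹ * x * s⁻¹⁻¹) :=
    isMap_conj (isMap_conj (F := F) h.le hs).img_le (S.inv_mem hs)
  have h2 : ∀ x ∈ img P (fun x => s * x * s⁻¹), s⁻¹ * x * s⁻¹⁻¹ ∈ P := by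
    intro x hx
    obtain ⟨y, hy, rfl⟩ := (isMap_conj (F := F) h.le hs).mem_img.mp hx
    simpa [mul_assoc] using hy
  have h3 := (isMap_conj (F := F) (P := S) le_rfl ht).comp (h.comp h1 h2) fun x hx => h.mem (h2 x hx)
  exact h3.congr fun x _ => by simp only [inv_inv]

theorem FT_conj {H K : Subgroup (S × S)} (h : Cj H K) (hH : H ∈ FT F) : K ∈ FT F := by
  obtain ⟨⟨s, t⟩, hg⟩ := h
  obtain ⟨P, f, hf, rfl⟩ := hH
  refine mem_FT_of (isMap_conj_conj hf s.2 t.2) ?_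
  rintro ⟨a, b⟩ hz
  obtain ⟨h1, h2⟩ := (hg _).mp hz
  have h1' : (s : Ω)⁻¹ * a * s ∈ P := h1
  have h2' : (t : Ω)⁻¹ * b * t = f ((s : Ω)⁻¹ * a * s) := h2
  constructor
  · have : (a : Ω) = s * ((s : Ω)⁻¹ * a * s) * (s : Ω)⁻¹ := by group
    show (a : Ω) ∈ _
    rw [this]
    exact subset_img h1'
  · show (b : Ω) = t * f ((s : Ω)⁻¹ * a * s) * (t : Ω)⁻¹
    rw [← h2']; group

/-- Conjugates of the second projection. -/
theorem pr2_conj {H K : Subgroup (S × S)} {g : S × S} (h : ∀ x, x ∈ K ↔ g⁻¹ * x * g ∈ H) :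
    ∀ y, y ∈ pr2 K ↔ (g.2 : Ω)⁻¹ * y * g.2 ∈ pr2 H := by
  intro y
  rw [mem_pr2, mem_pr2]
  constructor
  · rintro ⟨z, hz, rfl⟩
    exact ⟨g⁻¹ * z * g, (h z).mp hz, rfl⟩
  · rintro ⟨w, hw, hwy⟩
    refine ⟨g * w * g⁻¹, ?_, ?_⟩
    · rw [h]
      have e : g⁻¹ * (g * w * g⁻¹) * g = w := by group
      rwa [e]
    · show (g.2 : Ω) * (w.2 : Ω) * (g.2 : Ω)⁻¹ = y
      rw [hwy]; group

/-- The elements of the normalizer of a graph. -/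
theorem mem_normalizer_graph [Finite S] {P : Subgroup Ω} {f : Ω → Ω} (h : IsMap F P f) {z : S × S}
    (hz : z ∈ Subgroup.normalizer (graph h : Set (S × S))) :
    (z.1 : Ω) ∈ Subgroup.normalizer (P : Set Ω) ∧ (z.2 : Ω) ∈ Subgroup.normalizer (img P f : Set Ω) ∧
      ∀ x ∈ P, f ((z.1 : Ω) * x * (z.1 : Ω)⁻¹) = z.2 * f x * (z.2 : Ω)⁻¹ := by
  have hP : Finite P := finite_of_le h.le
  have hQ : Finite (img P f) := finite_of_le h.img_le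
  have key : ∀ x ∈ P, (z.1 : Ω) * x * (z.1 : Ω)⁻¹ ∈ P ∧
      (z.2 : Ω) * f x * (z.2 : Ω)⁻¹ = f ((z.1 : Ω) * x * (z.1 : Ω)⁻¹) := by
    intro x hx
    have h1 : ((⟨x, h.le hx⟩, ⟨f x, h.mem hx⟩) : S × S) ∈ graph h := ⟨hx, rfl⟩
    have h2 := (Subgroup.mem_normalizer_iff.mp hz _).mp h1
    exact ⟨h2.1, h2.2⟩
  refine ⟨mem_normalizer_of_conj fun x hx => (key x hx).1, mem_normalizer_of_conj fun y hy => ?_,
    fun x hx => (key x hx).2.symm⟩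
  obtain ⟨x, hx, rfl⟩ := h.mem_img.mp hy
  rw [(key x hx).2]
  exact subset_img (key x hx).1

theorem mem_normalizer_graph' [Finite S] {P : Subgroup Ω} {f : Ω → Ω} (h : IsMap F P f) {z : S × S}
    (h1 : ∀ x ∈ P, (z.1 : Ω) * x * (z.1 : Ω)⁻¹ ∈ P)
    (h2 : ∀ x ∈ P, f ((z.1 : Ω) * x * (z.1 : Ω)⁻¹) = z.2 * f x * (z.2 : Ω)⁻¹) :
    z ∈ Subgroup.normalizer (graph h : Set (S × S)) := by
  apply mem_normalizer_of_conj
  rintro ⟨a, b⟩ ⟨ha, hb⟩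
  refine ⟨h1 _ ha, ?_⟩
  have hb' : (b : Ω) = f a := hb
  show (z.2 : Ω) * b * (z.2 : Ω)⁻¹ = f ((z.1 : Ω) * a * (z.1 : Ω)⁻¹)
  rw [hb', h2 _ ha]

end Cfsg.Agent.Fus.Bi
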