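import Cfsg.Agent.Fus.RelNorm
import Cfsg.Agent.Fus.Factor
import Cfsg.Agent.Fus.Hyper
set_option autoImplicit false
set_option maxHeartbeats 400000

/-!
# Grün's lemma for fusion systems (helper88)
-/

namespace Cfsg.Agent.Fus

open Cfsg Cfsg.FusionSystem

variable {Ω Ω' : Type*} [Group Ω] [Group Ω'] {S : Subgroup Ω} {S' : Subgroup Ω'} {F : FusionSystem S} {p : ℕ}

theorem IsMap.fix_center [Finite S] {P : Subgroup Ω} {f : Ω → Ω} (hf : IsMap F P f) {x : Ω} (hx : x ∈ P)
    (hxZ : x ∈ F.center) : f x = x := by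
  obtain ⟨-, h⟩ := isCentral_iff_isMap.mp (Join.isCentral_center F)
  obtain ⟨g, hg, h1, h2⟩ := h P f hf
  rw [← h1 x hx, h2 x hxZ]

/-- Lifting maps fixing the centre of the quotient. -/
theorem exists_lift_center [Finite S] {θ : S →* Ω'} {E : FusionSystem S'}
    (hE : F.IsFactorSystem F.center θ E) {P : Subgroup Ω} {f : Ω → Ω} (hf : IsMap F P f) (hZ : F.center ≤ P) :
    ∃ ψ, IsMap F (P ⊔ preimageAlong θ E.center) ψ ∧ (∀ x ∈ P, ext θ (ψ x) = ext θ (f x)) ∧
      ∀ x ∈ preimageAlong θ E.center, ext θ (ψ x) = ext θ x := by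
  obtain ⟨-, hker, hrange, hmap⟩ := isFactorSystem_iff.mp hE
  have : Finite S' := by rw [← hrange]; exact Set.finite_range θ
  obtain ⟨f', hf'⟩ := exists_ind θ hf (fun x hx h => by
    rw [hker x (hf.le hx)] at h
    rw [hf.fix_center hx h]
    exact (hker x (hf.le hx)).mpr h)
  have hpre : preimageAlong θ (imageAlong θ P) = P :=
    preimageAlong_imageAlong θ hf.le (fun x hx h => hZ ((hker x hx).mp h))
  have hf'E : IsMap E (imageAlong θ P) f' := by
    rw [hmap]
    refine ⟨imageAlong_le_range θ P, f, ?_, ?_⟩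
    · rwa [hpre]
    · rwa [hpre]
  obtain ⟨-, h⟩ := isCentral_iff_isMap.mp (Join.isCentral_center E)
  obtain ⟨g', hg', h1, h2⟩ := h _ f' hf'E
  obtain ⟨-, ψ, hψ, hψi⟩ := (hmap _ _).mp hg'
  have hle : P ⊔ preimageAlong θ E.center ≤ preimageAlong θ (imageAlong θ P ⊔ E.center) := by
    refine sup_le ?_ (preimageAlong_mono θ le_sup_right)
    exact hpre.ge.trans (preimageAlong_mono θ le_sup_left)
  refine ⟨ψ, hψ.mono hle, fun x hx => ?_, fun x hx => ?_⟩
  · rw [← hψi x (hle (le_sup_left (a := P) hx)), h1 _ (ext_mem_imageAlong θ hf.le hx), hf' x hx]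
  · rw [← hψi x (hle (le_sup_right (a := P) hx))]
    exact h2 _ ((mem_preimageAlong θ).mp hx).2

theorem mem_preimage_center [Finite S] {θ : S →* Ω'} {E : FusionSystem S'}
    (hE : F.IsFactorSystem F.center θ E) {x : Ω} (hx : x ∈ F.center) : x ∈ preimageAlong θ E.center := by
  obtain ⟨-, hker, hrange, hmap⟩ := isFactorSystem_iff.mp hE
  have hxS := (Join.center_le F) hx
  rw [mem_preimageAlong]
  refine ⟨hxS, ?_⟩
  rw [(hker x hxS).mpr hx]
  exact E.center.one_mem

/-- Grün's lemma for fusion systems. -/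
theorem gruen [Finite S] [Fact p.Prime] (hS : IsPGroup p S) (hF : F.IsSaturated p)
    (hperf : F.hyperfocalSubgroup p = S) {θ : S →* Ω'} {E : FusionSystem S'}
    (hE : F.IsFactorSystem F.center θ E) : E.center = ⊥ := by
  obtain ⟨-, hker, hrange, hmap⟩ := isFactorSystem_iff.mp hE
  have : Finite S' := by rw [← hrange]; exact Set.finite_range θ
  set Z := F.center with hZdef
  set W := preimageAlong θ E.center with hW
  have hWS : W ≤ S := preimageAlong_le θ _
  have hZS : Z ≤ S := Join.center_le F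
  have hZW : Z ≤ W := fun x hx => mem_preimage_center hE hx
  have : Finite Z := finite_of_le hZS
  have hZcen : ∀ z ∈ Z, ∀ s ∈ S, s * z = z * s := fun z hz s hs =>
    Subgroup.mem_centralizer_iff.mp (center_le_center hz).2 s hs
  -- commutators with elements of `W` lie in `Z`
  have hcomm : ∀ x ∈ W, ∀ g ∈ S, g * x * g⁻¹ * x⁻¹ ∈ Z := by
    intro x hx g hg
    have hxS := hWS hx
    have h1 : ext θ x ∈ E.center := ((mem_preimageAlong θ).mp hx).2
    have h2 := (center_le_center h1).2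
    have h3 := Subgroup.mem_centralizer_iff.mp h2 (ext θ g) (by rw [← hrange]; exact ext_mem_range θ hg)
    rw [← hker _ (S.mul_mem (S.mul_mem (S.mul_mem hg hxS) (S.inv_mem hg)) (S.inv_mem hxS)),
      ext_mul θ (S.mul_mem (S.mul_mem hg hxS) (S.inv_mem hg)) (S.inv_mem hxS), ext_conj θ hg hxS,
      ext_inv θ hxS, h3]
    group
  have hdiff : ∀ a ∈ S, ∀ b ∈ S, ext θ a = ext θ b → ∃ z ∈ Z, a = b * z := by
    intro a ha b hb hab
    refine ⟨b⁻¹ * a, ?_, by group⟩
    rw [← hker _ (S.mul_mem (S.inv_mem hb) ha), ext_mul θ (S.inv_mem hb) ha, ext_inv θ hb, hab, inv_mul_cancel]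
  -- Step 1 and 2
  have hWcen : ∀ x ∈ W, ∀ s ∈ S, s * x = x * s := by
    intro x hx
    have hxS := hWS hx
    have hle : F.hyperfocalSubgroup p ≤ Subgroup.centralizer {x} := by
      refine hyper_le fun P hP α _ g hg => ?_
      rw [Subgroup.mem_centralizer_singleton_iff]
      obtain ⟨-, hcen⟩ := isCentral_iff_isMap.mp (Join.isCentral_center F)
      obtain ⟨f, hf, hfα, hfZ⟩ := hcen P _ (isMap_ofAut hP α.2)
      obtain ⟨ψ, hψ, hψ1, hψ2⟩ := exists_lift_center hE hf le_sup_right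
      have hgS := hP hg
      have hgf : g ∈ P ⊔ F.center := le_sup_left (a := P) hg
      have hgψ : g ∈ P ⊔ F.center ⊔ preimageAlong θ E.center := le_sup_left (a := P ⊔ F.center) hgf
      have hxψ : x ∈ P ⊔ F.center ⊔ preimageAlong θ E.center := le_sup_right (a := P ⊔ F.center) hx
      set a := ofAut (α : MulAut P) g with ha
      have haS : a ∈ S := hP (ofAut_mem _ hg)
      obtain ⟨z, hz, hψg⟩ := hdiff (ψ g) (hψ.mem hgψ) a haS (by rw [hψ1 g hgf, hfα g hg])
      obtain ⟨z', hz', hψx⟩ := hdiff (ψ x) (hψ.mem hxψ) x hxS (hψ2 x hx)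
      have h1 := hcomm x hx g hgS
      have hmem : g * x * g⁻¹ * x⁻¹ ∈ P ⊔ F.center ⊔ preimageAlong θ E.center :=
        Subgroup.mul_mem _ (Subgroup.mul_mem _ (Subgroup.mul_mem _ hgψ hxψ) (Subgroup.inv_mem _ hgψ))
          (Subgroup.inv_mem _ hxψ)
      have h2 : ψ (g * x * g⁻¹ * x⁻¹) = g * x * g⁻¹ * x⁻¹ := hψ.fix_center hmem h1
      rw [hψ.map_mul (Subgroup.mul_mem _ (Subgroup.mul_mem _ hgψ hxψ) (Subgroup.inv_mem _ hgψ))
        (Subgroup.inv_mem _ hxψ), hψ.map_mul (Subgroup.mul_mem _ hgψ hxψ) (Subgroup.inv_mem _ hgψ),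
        hψ.map_mul hgψ hxψ, hψ.map_inv hgψ, hψ.map_inv hxψ, hψg, hψx] at h2
      -- `z, z'` central in `S`
      have e1 : a * z * (x * z') * (a * z)⁻¹ * (x * z')⁻¹ = a * x * a⁻¹ * x⁻¹ := by
        have c1 := hZcen z hz x hxS
        have c2 := hZcen z' hz' a haS
        have c3 := hZcen z' hz' x hxS
        have c4 := hZcen z' hz' z (hZS hz)
        calc a * z * (x * z') * (a * z)⁻¹ * (x * z')⁻¹
            = a * (z * x) * (z' * z⁻¹) * (a⁻¹ * z'⁻¹) * x⁻¹ := by group
          _ = a * (x * z) * (z⁻¹ * z') * (z'⁻¹ * a⁻¹) * x⁻¹ := by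
            rw [← c1]
            have c5 : z' * z⁻¹ = z⁻¹ * z' := by
              rw [mul_inv_eq_iff_eq_mul, mul_assoc, ← c4, inv_mul_cancel_left]
            have c6 : a⁻¹ * z'⁻¹ = z'⁻¹ * a⁻¹ := by
              rw [← mul_inv_rev, ← mul_inv_rev, c2]
            rw [c5, c6]
          _ = a * x * a⁻¹ * x⁻¹ := by group
      rw [e1] at h2
      -- so `a` and `g` act equally on `x`
      have h3 : a * x * a⁻¹ = g * x * g⁻¹ := mul_right_cancel h2
      show g⁻¹ * a * x = x * (g⁻¹ * a)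
      calc g⁻¹ * a * x = g⁻¹ * (a * x * a⁻¹) * a := by group
        _ = g⁻¹ * (g * x * g⁻¹) * a := by rw [h3]
        _ = x * (g⁻¹ * a) := by group
    intro s hs
    rw [← hperf] at hs
    exact Subgroup.mem_centralizer_singleton_iff.mp (hle hs)
  -- Step 3
  have hWn : F.IsFullyNormalized W := by
    refine ⟨hWS, fun P _ => ?_⟩
    have : FusionSystem.normalizerIn S W = S := by
      refine inf_eq_left.mpr fun s hs => ?_
      rw [Subgroup.mem_normalizer_iff]
      intro w
      constructor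
      · intro hw
        have : s * w * s⁻¹ = w := by rw [hWcen w hw s hs, mul_inv_cancel_right]
        rwa [this]
      · intro hw
        have h1 := hWcen _ hw s hs
        have : s * w * s⁻¹ = w := by
          have h2 : s * (s * w * s⁻¹) = s * w := by rw [h1]; group
          exact mul_left_cancel h2
        rwa [this] at hw
    rw [this]
    exact Subgroup.card_le_of_le (normalizerIn_le P)
  have : Finite W := finite_of_le hWS
  have := finite_mulAut (P := W)
  have hcop : ¬ p ∣ Nat.card (F.autGroup W) :=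
    not_dvd_card_autGroup (sat_fullyAutomized hS hF hWn) (autInducedBy_eq_bot fun s hs x hx => hWcen x hx s hs)
  have hWfix : ∀ f, IsMap F W f → ∀ x ∈ W, f x = x := by
    intro f hf
    have h1 : ∀ x ∈ W, ∃ z ∈ Z, f x = x * z := by
      intro x hx
      obtain ⟨ψ, hψ, hψ1, hψ2⟩ := exists_lift_center hE hf hZW
      refine hdiff _ (hf.mem hx) x (hWS hx) ?_
      rw [← hψ1 x hx, hψ2 x hx]
    have hfW : ∀ x ∈ W, f x ∈ W := fun x hx => by
      obtain ⟨z, hz, h⟩ := h1 x hx
      rw [h]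
      exact W.mul_mem hx (hZW hz)
    obtain ⟨α, hα, hαf⟩ := hf.exists_aut (hf.img_eq hfW)
    have hpow : ∀ n : ℕ, ∀ x ∈ W, ∀ z, f x = x * z → ofAut (α ^ n) x = x * z ^ n := by
      intro n
      induction n with
      | zero => intro x hx z hz; rw [pow_zero, ofAut_one hx, pow_zero, mul_one]
      | succ n ih =>
        intro x hx z hz
        have hzZ : z ∈ Z := by
          obtain ⟨z1, hz1, h⟩ := h1 x hx
          have : z = z1 := mul_left_cancel (hz.symm.trans h)
          rw [this]; exact hz1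
        rw [pow_succ', ofAut_mul _ _ hx, ih x hx z hz, hαf _ (W.mul_mem hx (W.pow_mem (hZW hzZ) n)),
          hf.map_mul hx (W.pow_mem (hZW hzZ) n), hz,
          hf.fix_center (W.pow_mem (hZW hzZ) n) (Z.pow_mem hzZ n), mul_assoc, ← pow_succ']
    obtain ⟨k, hk⟩ := IsPGroup.iff_card.mp (hS.to_le hZS)
    have hα1 : (⟨α, hα⟩ : F.autGroup W) ^ (p ^ k) = 1 := by
      apply Subtype.ext
      refine ofAut_injective fun x hx => ?_
      obtain ⟨z, hz, h⟩ := h1 x hx
      have h3 := hpow (p ^ k) x hx z h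
      have h4 : z ^ (p ^ k) = 1 := by
        have : (⟨z, hz⟩ : Z) ^ (p ^ k) = 1 := by rw [← hk]; exact pow_card_eq_one'
        exact congrArg Subtype.val this
      rw [h4, mul_one] at h3
      show ofAut (α ^ p ^ k) x = ofAut 1 x
      rw [h3, ofAut_one hx]
    have hord : orderOf (⟨α, hα⟩ : F.autGroup W) = 1 := by
      have h5 : orderOf (⟨α, hα⟩ : F.autGroup W) ∣ p ^ k := orderOf_dvd_of_pow_eq_one hα1
      have h6 : orderOf (⟨α, hα⟩ : F.autGroup W) ∣ Nat.card (F.autGroup W) := orderOf_dvd_natCard _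
      have h7 : Nat.Coprime (p ^ k) (Nat.card (F.autGroup W)) :=
        Nat.Coprime.pow_left k ((Nat.Prime.coprime_iff_not_dvd Fact.out).mpr hcop)
      exact Nat.dvd_one.mp (h7 ▸ Nat.dvd_gcd h5 h6)
    rw [orderOf_eq_one_iff] at hord
    have hα2 : α = 1 := congrArg Subtype.val hord
    intro x hx
    rw [← hαf x hx, hα2, ofAut_one hx]
  -- Step 4
  have hWZ : W ≤ Z := by
    refine Join.le_center ?_
    rw [isCentral_iff_singleton hS hF]
    refine ⟨hWS, fun x hx y hxy => ?_⟩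
    obtain ⟨f, hf, rfl⟩ := isConjElt_iff.mp hxy
    -- `f x ∈ x Z`
    obtain ⟨-, hcen⟩ := isCentral_iff_isMap.mp (Join.isCentral_center F)
    obtain ⟨f₁, hf₁, hf₁f, -⟩ := hcen _ f hf
    obtain ⟨ψ, hψ, hψ1, hψ2⟩ := exists_lift_center hE hf₁ le_sup_right
    have hxz : x ∈ Subgroup.zpowers x := Subgroup.mem_zpowers x
    have h1 : ext θ (f x) = ext θ x := by
      rw [← hf₁f x hxz, ← hψ1 x (le_sup_left (a := Subgroup.zpowers x) hxz), hψ2 x hx]
    obtain ⟨z, hz, h2⟩ := hdiff _ (hf.mem hxz) x (hWS hx) h1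
    have hfxW : f x ∈ W := by rw [h2]; exact W.mul_mem hx (hZW hz)
    obtain ⟨g, hg, hgf⟩ := exists_extend_of_central hS hF hf (by
      intro s hs
      rw [Subgroup.mem_centralizer_iff]
      intro y hy
      exact (hWcen y ((Subgroup.zpowers_le.mpr hx) hy) s hs).symm) (by
      intro s hs
      rw [Subgroup.mem_centralizer_iff]
      intro y hy
      obtain ⟨u, hu, rfl⟩ := hf.mem_img.mp hy
      obtain ⟨n, rfl⟩ := hu
      have : f (x ^ n) = (f x) ^ n := hf.map_zpow hxz n
      simp only at *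
      rw [this]
      exact (hWcen _ (W.zpow_mem hfxW n) s hs).symm)
    rw [← hgf x hxz]
    exact hWfix g (hg.mono hWS) x hx
  rw [eq_bot_iff]
  intro y hy
  have hyS : y ∈ θ.range := by rw [hrange]; exact (Join.center_le E) hy
  obtain ⟨x, hx, rfl⟩ := (mem_range_iff θ).mp hyS
  have hxW : x ∈ W := (mem_preimageAlong θ).mpr ⟨hx, hy⟩
  exact (hker x hx).mpr (hWZ hxW)

end Cfsg.Agent.Fus
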