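import Cfsg.Agent.Fus.StrongEmb
set_option autoImplicit false

/-!
# A counting argument for offenders with strongly embedded normalizer (helper86)

`E` abelian of order `q²`, `A ≤ Aut(E)` with a strongly `p`-embedded subgroup, whose Sylow subgroup `P` has order at least
`q` and acts with `C_E(x) = [E,x] = Z` of order `q` for all `x ∈ P#`. Then no nontrivial subgroup of `Z` is `A`-invariant.
-/

namespace Cfsg.Agent.FusSE

open Cfsg

variable {E : Type*} [Group E]

theorem map_mulAut_mul (α β : MulAut E) (Z : Subgroup E) :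
    (Z.map β.toMonoidHom).map α.toMonoidHom = Z.map (α * β).toMonoidHom := by
  rw [Subgroup.map_map]; rfl

theorem map_mulAut_one (Z : Subgroup E) : Z.map (1 : MulAut E).toMonoidHom = Z := by
  ext x
  constructor
  · rintro ⟨y, hy, rfl⟩; exact hy
  · intro hx; exact ⟨x, hx, rfl⟩

theorem card_map_mulAut (α : MulAut E) (Z : Subgroup E) : Nat.card (Z.map α.toMonoidHom) = Nat.card Z :=
  (Nat.card_congr (Z.equivMapOfInjective α.toMonoidHom α.injective).toEquiv).symm

theorem map_mulAut_inf (α : MulAut E) (Z W : Subgroup E) :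
    (Z ⊓ W).map α.toMonoidHom = Z.map α.toMonoidHom ⊓ W.map α.toMonoidHom :=
  Subgroup.map_inf _ _ _ α.injective

theorem mem_map_mulAut {α : MulAut E} {Z : Subgroup E} {x : E} : x ∈ Z.map α.toMonoidHom ↔ α⁻¹ x ∈ Z := by
  constructor
  · rintro ⟨y, hy, rfl⟩
    show α⁻¹ (α y) ∈ Z
    rwa [MulAut.inv_apply_self]
  · intro h
    exact ⟨α⁻¹ x, h, MulAut.apply_inv_self _ _ _⟩

theorem map_mulAut_inj {α : MulAut E} {Z W : Subgroup E} (h : Z.map α.toMonoidHom = W.map α.toMonoidHom) : Z = W :=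
  Subgroup.map_injective α.injective h

/-- counting: subgroups of order `q` with pairwise intersection `D` inside `B` -/
theorem count_subgroups [Finite E] {ι : Type*} [Finite ι] (W : ι → Subgroup E) (D B : Subgroup E) (q d : ℕ)
    (hW : ∀ i, Nat.card (W i) = q) (hD : Nat.card D = d) (hDW : ∀ i, D ≤ W i) (hWB : ∀ i, W i ≤ B) (hDB : D ≤ B)
    (hinf : ∀ i j, i ≠ j → W i ⊓ W j ≤ D) :
    Nat.card ι * (q - d) + d ≤ Nat.card B := by
  classical
  have : Fintype ι := Fintype.ofFinite ι
  have : Fintype E := Fintype.ofFinite E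
  have hc : ∀ X : Subgroup E, ((X : Set E).toFinset).card = Nat.card X := fun X => by
    rw [Set.toFinset_card, Nat.card_eq_fintype_card]; rfl
  set t : ι → Finset E := fun i => (W i : Set E).toFinset \ (D : Set E).toFinset with ht
  have h1 : (Finset.univ.biUnion t).card = Nat.card ι * (q - d) := by
    rw [Finset.card_biUnion]
    · rw [Finset.sum_congr rfl (g := fun _ => q - d)]
      · rw [Finset.sum_const, Finset.card_univ, Nat.card_eq_fintype_card, smul_eq_mul]
      · intro i _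
        show ((W i : Set E).toFinset \ (D : Set E).toFinset).card = _
        rw [Finset.card_sdiff_of_subset (by rw [Set.toFinset_subset_toFinset]; exact hDW i), hc, hc, hW, hD]
    · intro i _ j _ hij
      show Disjoint (t i) (t j)
      rw [Finset.disjoint_left]
      intro x hx hx'
      simp only [ht, Finset.mem_sdiff, Set.mem_toFinset, SetLike.mem_coe] at hx hx'
      exact hx.2 (hinf i j hij ⟨hx.1, hx'.1⟩)
  have h2 : Disjoint (Finset.univ.biUnion t) (D : Set E).toFinset := by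
    rw [Finset.disjoint_left]
    intro x hx hx'
    simp only [ht, Finset.mem_biUnion, Finset.mem_sdiff, Set.mem_toFinset, SetLike.mem_coe] at hx hx'
    obtain ⟨i, -, h3, h4⟩ := hx
    exact h4 hx'
  have h3 : Finset.univ.biUnion t ∪ (D : Set E).toFinset ⊆ (B : Set E).toFinset := by
    intro x hx
    simp only [ht, Finset.mem_union, Finset.mem_biUnion, Finset.mem_sdiff, Set.mem_toFinset, SetLike.mem_coe] at hx ⊢
    rcases hx with ⟨i, -, h3, -⟩ | hx
    · exact hWB i h3
    · exact hDB hx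
  have h4 := Finset.card_le_card h3
  rw [Finset.card_union_of_disjoint h2, h1, hc, hc, hD] at h4
  exact h4

variable [Finite E] {p : ℕ} [Fact p.Prime]

/-- the automorphisms acting trivially on `Z` and on `E/Z` -/
def stabZ (Z : Subgroup E) (_hZn : ∀ a b : E, a * b = b * a) : Subgroup (MulAut E) where
  carrier := {α | (∀ x ∈ Z, α x = x) ∧ ∀ x, α x * x⁻¹ ∈ Z}
  mul_mem' := by
    rintro α β ⟨h1, h2⟩ ⟨h3, h4⟩
    refine ⟨fun x hx => ?_, fun x => ?_⟩
    · rw [MulAut.mul_apply, h3 x hx, h1 x hx]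
    · rw [MulAut.mul_apply]
      have : α (β x) * x⁻¹ = (α (β x) * (β x)⁻¹) * (β x * x⁻¹) := by group
      rw [this]
      exact Z.mul_mem (h2 _) (h4 _)
  one_mem' := ⟨fun x _ => rfl, fun x => by rw [MulAut.one_apply, mul_inv_cancel]; exact Z.one_mem⟩
  inv_mem' := by
    rintro α ⟨h1, h2⟩
    have h3 : ∀ x ∈ Z, α⁻¹ x = x := fun x hx => by
      conv_lhs => rw [← h1 x hx]
      exact MulAut.inv_apply_self _ _ _
    refine ⟨h3, fun x => ?_⟩
    have h4 := h2 (α⁻¹ x)
    rw [MulAut.apply_inv_self] at h4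
    have h5 := Z.inv_mem h4
    rwa [mul_inv_rev, inv_inv] at h5

theorem isPGroup_stabZ (hE : IsPGroup p E) (Z : Subgroup E) (hZn : ∀ a b : E, a * b = b * a) :
    IsPGroup p (stabZ Z hZn) := by
  have h0 : Monotone (fun i : ℕ => if i = 0 then (⊥ : Subgroup E) else if i = 1 then Z else ⊤) := by
    refine monotone_nat_of_le_succ fun n => ?_
    rcases n with _ | _ | n
    · exact bot_le
    · exact le_top
    · exact le_rfl
  refine (isPGroup_chainStab hE 2 (fun i : ℕ => if i = 0 then (⊥ : Subgroup E) else if i = 1 then Z else ⊤)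
    rfl rfl h0).to_le ?_
  rintro α ⟨h1, h2⟩ i hi x hx
  interval_cases i
  · show α x * x⁻¹ ∈ (⊥ : Subgroup E)
    rw [h1 x hx, mul_inv_cancel]; exact Subgroup.one_mem _
  · exact h2 x

theorem heis_count (hEp : IsPGroup p E) {q : ℕ} (hq : 1 < q) (hE : ∀ a b : E, a * b = b * a)
    {A P : Subgroup (MulAut E)} (hPA : P ≤ A) (hPp : IsPGroup p P)
    (hmax : ∀ Q' ≤ A, IsPGroup p Q' → P ≤ Q' → Q' ≤ P) {Z : Subgroup E} (hZ : Nat.card Z = q)
    (hEq : Nat.card E = q ^ 2) (hPq : q ≤ Nat.card P) (h1 : ∀ α ∈ P, ∀ x ∈ Z, α x = x)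
    (h2 : ∀ α ∈ P, ∀ x, α x * x⁻¹ ∈ Z) (h3 : ∀ α ∈ P, α ≠ 1 → ∀ x, α x = x → x ∈ Z) (hSE : SEOut p A)
    {R : Subgroup E} (hRZ : R ≤ Z) (hR : ∀ α ∈ A, ∀ x ∈ R, α x ∈ R) : R = ⊥ := by
  classical
  have : Finite (MulAut E) := Finite.of_injective (fun f => (f : E → E)) DFunLike.coe_injective
  -- `P` is the stabilizer of the chain
  have hPst : ∀ α ∈ A, (∀ x ∈ Z, α x = x) → (∀ x, α x * x⁻¹ ∈ Z) → α ∈ P := by
    intro α hα h4 h5
    have h6 := hmax (A ⊓ stabZ Z hE) inf_le_left ((isPGroup_stabZ hEp Z hE).to_le inf_le_right)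
      (le_inf hPA fun β hβ => ⟨h1 β hβ, h2 β hβ⟩)
    exact h6 ⟨hα, h4, h5⟩
  have hPinv : ∀ α ∈ P, Z.map α.toMonoidHom = Z := by
    intro α hα
    ext x
    rw [mem_map_mulAut]
    have h4 := h1 α⁻¹ (P.inv_mem hα)
    constructor
    · intro hx
      have h5 := h1 α hα _ hx
      rw [MulAut.apply_inv_self] at h5
      rw [h5]; exact hx
    · intro hx; rw [h4 x hx]; exact hx
  -- elements of `A` fixing `Z` normalize `P`
  have hnorm : ∀ α ∈ A, Z.map α.toMonoidHom = Z → ∀ β ∈ P, α * β * α⁻¹ ∈ P := by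
    intro α hα hαZ β hβ
    have hZ1 : ∀ x ∈ Z, α⁻¹ x ∈ Z := fun x hx => by
      rw [← hαZ] at hx; exact mem_map_mulAut.1 hx
    have hZ2 : ∀ x ∈ Z, α x ∈ Z := fun x hx => by
      rw [← hαZ]; exact ⟨x, hx, rfl⟩
    refine hPst _ (A.mul_mem (A.mul_mem hα (hPA hβ)) (A.inv_mem hα)) (fun x hx => ?_) fun x => ?_
    · rw [MulAut.mul_apply, MulAut.mul_apply, h1 β hβ _ (hZ1 x hx), MulAut.apply_inv_self]
    · rw [MulAut.mul_apply, MulAut.mul_apply]
      have h4 := hZ2 _ (h2 β hβ (α⁻¹ x))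
      rwa [map_mul, map_inv, MulAut.apply_inv_self] at h4
  -- some element of `A` moves `Z`
  have hmove : ∃ γ ∈ A, Z.map γ.toMonoidHom ≠ Z := by
    by_contra hcon
    push Not at hcon
    have hn : (P.subgroupOf A).Normal := by
      constructor
      intro β hβ α
      exact hnorm α α.2 (hcon α α.2) β hβ
    have h4 := hSE.le_inn_of_normal (B := P.subgroupOf A) (hPp.comap_of_injective A.subtype A.subtype_injective)
    have h5 : P = ⊥ := by
      rw [eq_bot_iff]
      intro β hβ
      have h6 : (⟨β, hPA hβ⟩ : A) ∈ (Inn E).subgroupOf A := h4 (by exact hβ)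
      obtain ⟨g, hg⟩ := (h6 : β ∈ Inn E)
      have hg' : MulAut.conj g = β := hg
      rw [Subgroup.mem_bot, ← hg']
      ext x
      rw [MulAut.conj_apply, MulAut.one_apply, hE g x, mul_inv_cancel_right]
    rw [h5, Subgroup.card_bot] at hPq
    omega
  -- choose the pair with the largest intersection
  set c : MulAut E → ℕ := fun γ => Nat.card (Z ⊓ Z.map γ.toMonoidHom : Subgroup E) with hc
  obtain ⟨γ, ⟨hγA, hγZ⟩, hγmax⟩ := Set.exists_max_image {γ : MulAut E | γ ∈ A ∧ Z.map γ.toMonoidHom ≠ Z} c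
    (Set.toFinite _) (by obtain ⟨γ, h4, h5⟩ := hmove; exact ⟨γ, h4, h5⟩)
  set D : Subgroup E := Z ⊓ Z.map γ.toMonoidHom with hD
  set d := Nat.card D with hd
  have hmaxinf : ∀ α ∈ A, ∀ β ∈ A, Z.map α.toMonoidHom ≠ Z.map β.toMonoidHom →
      Nat.card (Z.map α.toMonoidHom ⊓ Z.map β.toMonoidHom : Subgroup E) ≤ d := by
    intro α hα β hβ hne
    have h4 : Z.map (α⁻¹ * β).toMonoidHom ≠ Z := by
      intro h5
      apply hne
      rw [← map_mulAut_mul] at h5
      have h6 := congrArg (fun X => Subgroup.map α.toMonoidHom X) h5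
      simp only [map_mulAut_mul, mul_inv_cancel_left] at h6
      exact h6.symm
    have h5 := hγmax _ ⟨A.mul_mem (A.inv_mem hα) hβ, h4⟩
    have h6 : Nat.card (Z.map α.toMonoidHom ⊓ Z.map β.toMonoidHom : Subgroup E) = c (α⁻¹ * β) := by
      have h7 := card_map_mulAut α (Z ⊓ Z.map (α⁻¹ * β).toMonoidHom)
      rw [map_mulAut_inf, map_mulAut_mul, mul_inv_cancel_left] at h7
      exact h7
    rw [h6]
    exact h5
  -- elements of `P` move `γ(Z)`
  have hdist : ∀ u ∈ P, u ≠ 1 → Z.map (u * γ).toMonoidHom ≠ Z.map γ.toMonoidHom := by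
    intro u hu hu1 h4
    have hwA : γ⁻¹ * u * γ ∈ A := A.mul_mem (A.mul_mem (A.inv_mem hγA) (hPA hu)) hγA
    have hwZ : Z.map (γ⁻¹ * u * γ).toMonoidHom = Z := by
      rw [mul_assoc, ← map_mulAut_mul, h4, map_mulAut_mul, inv_mul_cancel, map_mulAut_one]
    have hwn : γ⁻¹ * u * γ ∈ Subgroup.normalizer (P : Set (MulAut E)) := by
      rw [Subgroup.mem_normalizer_iff]
      intro β
      refine ⟨hnorm _ hwA hwZ β, fun hβ => ?_⟩
      have hwZ' : Z.map ((γ⁻¹ * u * γ)⁻¹).toMonoidHom = Z := by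
        conv_lhs => rw [← hwZ]
        rw [map_mulAut_mul, inv_mul_cancel, map_mulAut_one]
      have h5 := hnorm _ (A.inv_mem hwA) hwZ' _ hβ
      have h6 : (γ⁻¹ * u * γ)⁻¹ * (γ⁻¹ * u * γ * β * (γ⁻¹ * u * γ)⁻¹) * (γ⁻¹ * u * γ)⁻¹⁻¹ = β := by group
      rwa [h6] at h5
    have hwp : IsPGroup p (Subgroup.zpowers (γ⁻¹ * u * γ)) := by
      obtain ⟨k, hk⟩ := hPp ⟨u, hu⟩
      have hk' : u ^ p ^ k = 1 := congrArg Subtype.val hk
      rintro ⟨_, m, rfl⟩
      refine ⟨k, Subtype.ext ?_⟩
      show ((γ⁻¹ * u * γ) ^ m) ^ p ^ k = 1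
      rw [← zpow_natCast, ← zpow_mul, mul_comm, zpow_mul, zpow_natCast]
      have : (γ⁻¹ * u * γ) ^ p ^ k = γ⁻¹ * u ^ p ^ k * γ := by
        have := conj_pow (i := p ^ k) (a := γ⁻¹) (b := u)
        rwa [inv_inv] at this
      rw [this, hk']; simp
    have hsup : IsPGroup p (Subgroup.zpowers (γ⁻¹ * u * γ) ⊔ P : Subgroup (MulAut E)) :=
      hwp.to_sup_of_normal_right' hPp (by rw [Subgroup.zpowers_le]; exact hwn)
    have hwP : γ⁻¹ * u * γ ∈ P :=
      hmax _ (sup_le (by rw [Subgroup.zpowers_le]; exact hwA) hPA) hsup le_sup_right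
        (Subgroup.mem_sup_left (Subgroup.mem_zpowers _))
    -- fixed points
    apply hγZ
    have h5 : ∀ x, x ∈ Z.map γ.toMonoidHom ↔ u x = x := by
      intro x
      rw [mem_map_mulAut]
      have hw1 : γ⁻¹ * u * γ ≠ 1 := by
        intro h
        apply hu1
        have : u = γ * (γ⁻¹ * u * γ) * γ⁻¹ := by group
        rw [this, h]; group
      constructor
      · intro hx
        have h6 := h1 _ hwP _ hx
        rw [MulAut.mul_apply, MulAut.mul_apply, MulAut.apply_inv_self] at h6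
        exact γ⁻¹.injective h6
      · intro hx
        refine h3 _ hwP hw1 _ ?_
        rw [MulAut.mul_apply, MulAut.mul_apply, MulAut.apply_inv_self, hx]
    ext x
    rw [h5]
    exact ⟨h3 u hu hu1 x, h1 u hu x⟩
  -- counting
  have hdq : d ∣ q := by
    rw [hd, ← hZ]
    exact Subgroup.card_dvd_of_le inf_le_left
  have hdlt : d < q := by
    refine lt_of_le_of_ne (Nat.le_of_dvd (by omega) hdq) fun h4 => hγZ ?_
    have h5 : D = Z := Subgroup.eq_of_le_of_card_ge inf_le_left (by rw [hZ]; exact h4.ge)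
    have h6 : Z ≤ Z.map γ.toMonoidHom := inf_eq_left.1 h5
    exact (Subgroup.eq_of_le_of_card_ge h6 (card_map_mulAut γ Z).le).symm
  have hd1 : 0 < d := Nat.card_pos
  have hx2 : ∀ x ∈ P, ∀ z ∈ D, x z = z := fun x hx z hz => h1 x hx z hz.1
  have hZn : Z.Normal := ⟨fun n hn g => by rw [hE g n, mul_inv_cancel_right]; exact hn⟩
  set W := Z.map γ.toMonoidHom with hW
  have hB : Nat.card (W ⊔ Z : Subgroup E) * d = q * q := by
    have e1 : (⊥ : Subgroup E).relIndex Z * Z.relIndex (W ⊔ Z) = (⊥ : Subgroup E).relIndex (W ⊔ Z) :=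
      Subgroup.relIndex_mul_relIndex _ _ _ bot_le le_sup_right
    have e2 : (⊥ : Subgroup E).relIndex D * D.relIndex W = (⊥ : Subgroup E).relIndex W :=
      Subgroup.relIndex_mul_relIndex _ _ _ bot_le inf_le_right
    rw [Subgroup.relIndex_bot_left, Subgroup.relIndex_bot_left, Subgroup.relIndex_sup_right, hZ] at e1
    rw [Subgroup.relIndex_bot_left, Subgroup.relIndex_bot_left, Subgroup.inf_relIndex_right, card_map_mulAut, hZ,
      ← hd] at e2
    rw [← e1, mul_assoc, mul_comm (Z.relIndex W) d, e2]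
  -- the family
  let Wf : Option P → Subgroup E := fun o => match o with
    | none => Z
    | some x => Z.map ((x : MulAut E) * γ).toMonoidHom
  have hD1 : ∀ x ∈ P, D ≤ Z.map (x * γ).toMonoidHom := by
    intro x hx z hz
    rw [mem_map_mulAut, mul_inv_rev, MulAut.mul_apply, h1 _ (P.inv_mem hx) z hz.1]
    exact mem_map_mulAut.1 hz.2
  have hne : ∀ x ∈ P, Z.map (x * γ).toMonoidHom ≠ Z := by
    intro x hx h4
    apply hγZ
    have h5 := hPinv _ (P.inv_mem hx)
    rw [← h4, map_mulAut_mul, inv_mul_cancel_left, h4] at h5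
    exact h5
  have hpair : ∀ x ∈ P, ∀ y ∈ P, x ≠ y → Z.map (x * γ).toMonoidHom ≠ Z.map (y * γ).toMonoidHom := by
    intro x hx y hy hxy h4
    have h5 := hdist (y⁻¹ * x) (P.mul_mem (P.inv_mem hy) hx) (fun h => hxy (inv_mul_eq_one.1 h).symm)
    apply h5
    have h6 := congrArg (fun X => Subgroup.map (y⁻¹ : MulAut E).toMonoidHom X) h4
    simp only [map_mulAut_mul, inv_mul_cancel_left] at h6
    rw [mul_assoc]
    exact h6
  have hle : ∀ X Y : Subgroup E, Nat.card (X ⊓ Y : Subgroup E) ≤ d → D ≤ X → D ≤ Y → X ⊓ Y ≤ D := by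
    intro X Y h4 h5 h6
    exact (Subgroup.eq_of_le_of_card_ge (le_inf h5 h6) h4).ge
  have hcount := count_subgroups (ι := Option P) Wf D (W ⊔ Z) q d (fun o => by
      cases o with
      | none => exact hZ
      | some x => exact (card_map_mulAut _ _).trans hZ) hd.symm (fun o => by
      cases o with
      | none => exact inf_le_left
      | some x => exact hD1 x x.2) (fun o => by
      cases o with
      | none => exact le_sup_right
      | some x =>
        intro y hy
        have h4 := mem_map_mulAut.1 hy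
        rw [mul_inv_rev, MulAut.mul_apply] at h4
        have h5 : (x : MulAut E)⁻¹ y ∈ W := mem_map_mulAut.2 h4
        have h6 := h2 x x.2 ((x : MulAut E)⁻¹ y)
        rw [MulAut.apply_inv_self] at h6
        have h7 : y = (y * ((x : MulAut E)⁻¹ y)⁻¹) * ((x : MulAut E)⁻¹ y) := by group
        rw [h7]
        exact Subgroup.mul_mem _ (Subgroup.mem_sup_right h6) (Subgroup.mem_sup_left h5))
    (inf_le_left.trans le_sup_right) (fun o o' ho => by
      have hone : Z.map (1 : MulAut E).toMonoidHom = Z := map_mulAut_one Z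
      cases o with
      | none =>
        cases o' with
        | none => exact absurd rfl ho
        | some y =>
          refine hle _ _ ?_ inf_le_left (hD1 y y.2)
          have h4 := hmaxinf 1 A.one_mem (y * γ) (A.mul_mem (hPA y.2) hγA) (by
            rw [hone]; exact (hne y y.2).symm)
          rwa [hone] at h4
      | some x =>
        cases o' with
        | none =>
          refine hle _ _ ?_ (hD1 x x.2) inf_le_left
          have h4 := hmaxinf (x * γ) (A.mul_mem (hPA x.2) hγA) 1 A.one_mem (by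
            rw [hone]; exact hne x x.2)
          rwa [hone] at h4
        | some y =>
          have hxy : (x : MulAut E) ≠ y := fun h => ho (congrArg some (Subtype.ext h))
          exact hle _ _ (hmaxinf _ (A.mul_mem (hPA x.2) hγA) _ (A.mul_mem (hPA y.2) hγA)
            (hpair x x.2 y y.2 hxy)) (hD1 x x.2) (hD1 y y.2))
  have hcard : Nat.card (Option P) = Nat.card P + 1 := by
    have : Fintype P := Fintype.ofFinite P
    rw [Nat.card_eq_fintype_card, Fintype.card_option, Nat.card_eq_fintype_card]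
  rw [hcard] at hcount
  -- arithmetic
  have hd_one : d = 1 := by
    by_contra hne1
    have hd2 : 2 ≤ d := by omega
    obtain ⟨e, he⟩ : ∃ e, q = d + e := ⟨q - d, by omega⟩
    have he1 : 1 ≤ e := by omega
    have h4 : (q + 1) * (q - d) + d ≤ Nat.card (W ⊔ Z : Subgroup E) :=
      le_trans (by gcongr) hcount
    have h5 : ((q + 1) * (q - d) + d) * d ≤ q * q := by
      rw [← hB]; exact Nat.mul_le_mul_right _ h4
    have h6 : q - d = e := by omega
    rw [h6, he] at h5
    have h7 : e * (d + e) * 2 ≤ e * (d + e) * d := Nat.mul_le_mul_left _ hd2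
    have h8 : 0 < e * (d + e) := Nat.mul_pos he1 (by omega)
    generalize d = d' at *
    nlinarith
  have hDbot : D = ⊥ := Subgroup.card_eq_one.1 (hd ▸ hd_one)
  rw [eq_bot_iff, ← hDbot]
  refine le_inf hRZ fun x hx => ?_
  rw [mem_map_mulAut]
  exact hRZ (hR _ (A.inv_mem hγA) x hx)

end Cfsg.Agent.FusSE
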