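import Cfsg.Agent.Fus.HeisSyl
import Cfsg.Agent.AutPSL.Unitri
set_option autoImplicit false

/-!
# Sylow `p`-subgroups of `SL₃(K)`, `char K = p`, are of Heisenberg type (helper86)
-/

namespace Cfsg.Agent.Fus

open Cfsg Matrix Cfsg.Agent.AutPSL

/-- the unitriangular subgroup of `SL_n` has index prime to `p` -/
theorem not_dvd_index_unitri {F : Type*} [Field F] [Fintype F] {n : ℕ} (p : ℕ) [hp : Fact p.Prime] [CharP F p]
    (hn : 1 ≤ n) : ¬ p ∣ (unitri n F).index := by
  set q := Fintype.card F with hq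
  obtain ⟨f, _, hf⟩ := FiniteField.card F p
  have hpq : p ∣ q := by rw [hq, hf]; exact dvd_pow_self p f.ne_zero
  have hq1 : 1 < q := Fintype.one_lt_card
  have e1 : Nat.card (GL (Fin n) F) = (∏ i : Fin n, q ^ (i : ℕ)) * ∏ i : Fin n, (q ^ (n - (i : ℕ)) - 1) := by
    rw [Matrix.card_GL_field, ← Finset.prod_mul_distrib]
    refine Finset.prod_congr rfl fun i _ => ?_
    rw [Nat.mul_sub, mul_one, ← pow_add, Nat.add_sub_cancel' i.2.le]
  have e2 := H4.card_SL_mul (F := F) n hn
  have e4 := Subgroup.card_mul_index (unitri n F)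
  rw [card_unitri] at e4
  rw [← e4, e1] at e2
  have hpos : 0 < ∏ j : Fin n, q ^ (j : ℕ) := Finset.prod_pos fun i _ => pow_pos (by omega) _
  have e5 : (q - 1) * (unitri n F).index = ∏ i : Fin n, (q ^ (n - (i : ℕ)) - 1) := by
    apply Nat.eq_of_mul_eq_mul_left hpos
    rw [← e2]; ring
  intro hdvd
  have h6 : p ∣ ∏ i : Fin n, (q ^ (n - (i : ℕ)) - 1) := by
    rw [← e5]; exact Dvd.dvd.mul_left hdvd _
  obtain ⟨i, _, hi⟩ := (Prime.dvd_finsetProd_iff hp.out.prime _).1 h6
  have h7 : p ∣ q ^ (n - (i : ℕ)) := dvd_pow hpq (by omega)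
  have h8 : p ∣ 1 := by
    have h9 : 1 ≤ q ^ (n - (i : ℕ)) := Nat.one_le_pow _ _ (by omega)
    have := (Nat.dvd_sub h7 hi)
    rwa [Nat.sub_sub_self h9] at this
  exact hp.out.one_lt.ne' (Nat.dvd_one.1 h8)

theorem isPGroup_unitri {F : Type*} [Field F] [Fintype F] {n : ℕ} (p : ℕ) [Fact p.Prime] [CharP F p] :
    IsPGroup p ↥(unitri n F) := by
  obtain ⟨f, _, hf⟩ := FiniteField.card F p
  apply IsPGroup.of_card (n := (f : ℕ) * ∑ j : Fin n, (j : ℕ))
  rw [card_unitri, hf, Finset.prod_pow_eq_pow_sum, pow_mul]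

theorem nonempty_equiv_unitri {F : Type*} [Field F] [Fintype F] {n : ℕ} (p : ℕ) [Fact p.Prime] [CharP F p]
    (hn : 1 ≤ n) (T : Sylow p (Matrix.SpecialLinearGroup (Fin n) F)) :
    Nonempty (↥(T : Subgroup (Matrix.SpecialLinearGroup (Fin n) F)) ≃* ↥(unitri n F)) :=
  ⟨Sylow.equiv T ((isPGroup_unitri (n := n) (F := F) p).toSylow (not_dvd_index_unitri p hn))⟩

/-! ### Heisenberg type as a property of abstract groups -/

structure HeisG (G : Type*) [Group G] (q : ℕ) : Prop where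
  cardZ : Nat.card (Subgroup.center G) = q
  cardS : Nat.card G = q ^ 3
  comm : ∀ s t : G, s * t * s⁻¹ * t⁻¹ ∈ Subgroup.center G
  abel : ∀ x ∉ Subgroup.center G, ∀ a b : G, a * x = x * a → b * x = x * b → a * b = b * a
  cardC : ∀ x ∉ Subgroup.center G, Nat.card {a : G // a * x = x * a} = q ^ 2

theorem HeisG.of_equiv {G H : Type*} [Group G] [Group H] {q : ℕ} (h : HeisG H q) (e : G ≃* H) : HeisG G q := by
  have hc : ∀ x : G, x ∈ Subgroup.center G ↔ e x ∈ Subgroup.center H := by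
    intro x
    rw [Subgroup.mem_center_iff, Subgroup.mem_center_iff]
    constructor
    · intro hx y
      have := congrArg e (hx (e.symm y))
      rwa [map_mul, map_mul, MulEquiv.apply_symm_apply] at this
    · intro hx y
      apply e.injective
      rw [map_mul, map_mul, hx]
  have hcm : ∀ a b : G, a * b = b * a ↔ e a * e b = e b * e a := by
    intro a b
    rw [← map_mul, ← map_mul, e.injective.eq_iff]
  refine ⟨?_, ?_, fun s t => ?_, fun x hx a b ha hb => ?_, fun x hx => ?_⟩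
  · rw [← h.cardZ]
    exact Nat.card_congr (e.toEquiv.subtypeEquiv fun x => hc x)
  · rw [← h.cardS]; exact Nat.card_congr e.toEquiv
  · rw [hc]; simpa using h.comm (e s) (e t)
  · rw [hcm]
    exact h.abel (e x) (fun h' => hx ((hc x).2 h')) _ _ ((hcm _ _).1 ha) ((hcm _ _).1 hb)
  · rw [← h.cardC (e x) fun h' => hx ((hc x).2 h')]
    exact Nat.card_congr (e.toEquiv.subtypeEquiv fun a => hcm a x)

theorem HeisG.heis {Ω : Type*} [Group Ω] {S : Subgroup Ω} {q : ℕ} (hq : 1 < q) (h : HeisG S q) :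
    Heis S ((Subgroup.center S).map S.subtype) q where
  le := Subgroup.map_subtype_le _
  q1 := hq
  cardZ := by
    rw [← h.cardZ]
    exact (Nat.card_congr ((Subgroup.center S).equivMapOfInjective S.subtype S.subtype_injective).toEquiv).symm
  cardS := h.cardS
  mem := fun z hz hs => ⟨⟨z, hz⟩, Subgroup.mem_center_iff.2 fun g => Subtype.ext (hs g g.2).symm, rfl⟩
  cent := by
    rintro _ ⟨z, hz, rfl⟩ s hs
    exact (congrArg Subtype.val (Subgroup.mem_center_iff.1 hz ⟨s, hs⟩)).symm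
  comm := fun s hs t ht => ⟨_, h.comm ⟨s, hs⟩ ⟨t, ht⟩, rfl⟩
  abel := by
    intro x hx hxZ a ha b hb hax hbx
    have h1 : (⟨x, hx⟩ : S) ∉ Subgroup.center S := fun h' => hxZ ⟨_, h', rfl⟩
    exact congrArg Subtype.val (h.abel _ h1 ⟨a, ha⟩ ⟨b, hb⟩ (Subtype.ext hax) (Subtype.ext hbx))
  cardC := by
    intro x hx hxZ
    have h1 : (⟨x, hx⟩ : S) ∉ Subgroup.center S := fun h' => hxZ ⟨_, h', rfl⟩
    refine ⟨S ⊓ Subgroup.centralizer {x}, ?_, fun a => ?_⟩
    · rw [← h.cardC _ h1]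
      refine Nat.card_congr ⟨fun a => ⟨⟨a, a.2.1⟩, Subtype.ext ?_⟩, fun a => ⟨a.1, a.1.2, ?_⟩, fun a => rfl, fun a => rfl⟩
      · exact (Subgroup.mem_centralizer_singleton_iff.1 a.2.2)
      · exact Subgroup.mem_centralizer_singleton_iff.2 (congrArg Subtype.val a.2)
    · rw [Subgroup.mem_inf, Subgroup.mem_centralizer_singleton_iff]

/-! ### the unitriangular group of degree 3 -/

section U3
variable {K : Type*} [Field K]

/-- matrices of `SL₃(K)` -/
def s3 (a b c : K) : Matrix.SpecialLinearGroup (Fin 3) K :=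
  ⟨!![1, a, c; 0, 1, b; 0, 0, 1], by simp [Matrix.det_fin_three]⟩

theorem s3_mem (a b c : K) : s3 a b c ∈ unitri 3 K := by
  refine mem_unitri.2 ⟨fun i j hij => ?_, fun i => ?_⟩
  · show (!![1, a, c; 0, 1, b; 0, 0, 1] : Matrix (Fin 3) (Fin 3) K) i j = 0
    fin_cases i <;> fin_cases j <;> first | rfl | (exact absurd hij (by decide))
  · show (!![1, a, c; 0, 1, b; 0, 0, 1] : Matrix (Fin 3) (Fin 3) K) i i = 1
    fin_cases i <;> rfl

/-- matrices of `unitri 3 K` -/
def u3 (a b c : K) : ↥(unitri 3 K) := ⟨s3 a b c, s3_mem a b c⟩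

def e3 : ↥(unitri 3 K) ≃ K × K × K where
  toFun g := (((g : Matrix.SpecialLinearGroup (Fin 3) K) : Matrix (Fin 3) (Fin 3) K) 0 1,
    ((g : Matrix.SpecialLinearGroup (Fin 3) K) : Matrix (Fin 3) (Fin 3) K) 1 2,
    ((g : Matrix.SpecialLinearGroup (Fin 3) K) : Matrix (Fin 3) (Fin 3) K) 0 2)
  invFun x := u3 x.1 x.2.1 x.2.2
  left_inv g := by
    apply Subtype.ext
    apply Subtype.ext
    have hg := mem_unitri.1 g.2
    ext i j
    fin_cases i <;> fin_cases j
    · exact (hg.2 0).symm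
    · rfl
    · rfl
    · exact (hg.1 1 0 (by decide)).symm
    · exact (hg.2 1).symm
    · rfl
    · exact (hg.1 2 0 (by decide)).symm
    · exact (hg.1 2 1 (by decide)).symm
    · exact (hg.2 2).symm
  right_inv x := rfl

theorem u3_mul (a b c a' b' c' : K) : u3 a b c * u3 a' b' c' = u3 (a + a') (b + b') (c' + a * b' + c) := by
  apply Subtype.ext
  apply Subtype.ext
  show (!![1, a, c; 0, 1, b; 0, 0, 1] : Matrix (Fin 3) (Fin 3) K) * !![1, a', c'; 0, 1, b'; 0, 0, 1] =
    !![1, a + a', c' + a * b' + c; 0, 1, b + b'; 0, 0, 1]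
  ext i j
  fin_cases i <;> fin_cases j <;> simp [Matrix.mul_apply, Fin.sum_univ_three, add_comm]

theorem u3_surj (g : ↥(unitri 3 K)) : ∃ a b c, u3 a b c = g := ⟨_, _, _, e3.left_inv g⟩

theorem u3_inj {a b c a' b' c' : K} (h : u3 a b c = u3 a' b' c') : a = a' ∧ b = b' ∧ c = c' := by
  have := congrArg e3 h
  have h1 : (a, b, c) = (a', b', c') := this
  simpa using h1

theorem u3_comm {a b c a' b' c' : K} : u3 a b c * u3 a' b' c' = u3 a' b' c' * u3 a b c ↔ a * b' = a' * b := by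
  rw [u3_mul, u3_mul]
  constructor
  · intro h
    have := (u3_inj h).2.2
    linear_combination this
  · intro h
    rw [add_comm a, add_comm b]
    congr 1
    linear_combination h

theorem u3_center {a b c : K} : u3 a b c ∈ Subgroup.center ↥(unitri 3 K) ↔ a = 0 ∧ b = 0 := by
  rw [Subgroup.mem_center_iff]
  constructor
  · intro h
    have h1 := u3_comm.1 (h (u3 1 0 0))
    have h2 := u3_comm.1 (h (u3 0 1 0))
    simp only [one_mul, mul_zero, zero_mul, mul_one] at h1 h2
    exact ⟨h2.symm, h1⟩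
  · rintro ⟨rfl, rfl⟩ g
    obtain ⟨a', b', c', rfl⟩ := u3_surj g
    rw [u3_comm]; simp

theorem heisG_unitri [Finite K] : HeisG ↥(unitri 3 K) (Nat.card K) where
  cardZ := by
    refine Nat.card_congr ⟨fun g => (e3 (g : ↥(unitri 3 K))).2.2, fun c => ⟨u3 0 0 c, u3_center.2 ⟨rfl, rfl⟩⟩, fun g => ?_, fun c => rfl⟩
    obtain ⟨g, hg⟩ := g
    obtain ⟨a, b, c, rfl⟩ := u3_surj g
    obtain ⟨rfl, rfl⟩ := u3_center.1 hg
    rfl
  cardS := by
    rw [Nat.card_congr e3, Nat.card_prod, Nat.card_prod]; ring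
  comm := by
    intro s t
    obtain ⟨a, b, c, rfl⟩ := u3_surj s
    obtain ⟨a', b', c', rfl⟩ := u3_surj t
    obtain ⟨x, y, z, hx⟩ := u3_surj (u3 a b c * u3 a' b' c' * (u3 a b c)⁻¹ * (u3 a' b' c')⁻¹)
    rw [← hx, u3_center]
    have h1 : u3 x y z * (u3 a' b' c' * u3 a b c) = u3 a b c * u3 a' b' c' := by
      rw [hx]; group
    rw [u3_mul, u3_mul, u3_mul] at h1
    obtain ⟨h2, h3, -⟩ := u3_inj h1
    exact ⟨by linear_combination h2, by linear_combination h3⟩
  abel := by
    intro x hx g h hg hh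
    obtain ⟨a, b, c, rfl⟩ := u3_surj x
    obtain ⟨a', b', c', rfl⟩ := u3_surj g
    obtain ⟨a'', b'', c'', rfl⟩ := u3_surj h
    rw [u3_center] at hx
    rw [u3_comm] at hg hh ⊢
    by_cases ha : a = 0
    · have hb : b ≠ 0 := fun hb => hx ⟨ha, hb⟩
      subst ha
      rw [zero_mul, mul_eq_zero] at hg hh
      have h1 := hg.resolve_right hb
      have h2 := hh.resolve_right hb
      rw [h1, h2, zero_mul, zero_mul]
    · apply mul_left_cancel₀ ha
      linear_combination a' * (-hh) + a'' * hg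
  cardC := by
    classical
    intro x hx
    obtain ⟨a, b, c, rfl⟩ := u3_surj x
    rw [u3_center] at hx
    have key : Nat.card {g : ↥(unitri 3 K) // g * u3 a b c = u3 a b c * g} = Nat.card (K × K) := by
      by_cases ha : a = 0
      · have hb : b ≠ 0 := fun hb => hx ⟨ha, hb⟩
        subst ha
        refine Nat.card_congr ⟨fun g => ((e3 g.1).2.1, (e3 g.1).2.2), fun y => ⟨u3 0 y.1 y.2, ?_⟩, fun g => ?_, fun y => rfl⟩
        · rw [u3_comm]; simp
        · obtain ⟨g, hg⟩ := g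
          obtain ⟨a', b', c', rfl⟩ := u3_surj g
          rw [u3_comm, zero_mul, mul_eq_zero] at hg
          have := hg.resolve_right hb
          subst this
          rfl
      · refine Nat.card_congr ⟨fun g => ((e3 g.1).1, (e3 g.1).2.2), fun y => ⟨u3 y.1 (y.1 * b / a) y.2, ?_⟩, fun g => ?_, fun y => rfl⟩
        · rw [u3_comm]; field_simp
        · obtain ⟨g, hg⟩ := g
          obtain ⟨a', b', c', rfl⟩ := u3_surj g
          rw [u3_comm] at hg
          have : a' * b / a = b' := by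
            rw [hg]; field_simp
          refine Subtype.ext ?_
          show u3 a' (a' * b / a) c' = u3 a' b' c'
          rw [this]
    rw [key, Nat.card_prod]; ring

end U3

end Cfsg.Agent.Fus
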