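import Cfsg.Agent.Fus.HeisCount
import Cfsg.Agent.Fus.NormalChar
import Cfsg.Agent.Fus.Constrained
import Cfsg.Agent.Fus.Join
set_option autoImplicit false

/-!
# Fusion systems over Heisenberg type groups with a nontrivial normal subgroup are constrained (helper86)
-/

namespace Cfsg.Agent.Fus

open Cfsg Cfsg.FusionSystem

variable {Ω : Type*} [Group Ω] {S : Subgroup Ω} {F : FusionSystem S} {p : ℕ}

/-! ### Essential subgroups: general facts -/

theorem centric_self_le {E : Subgroup Ω} (hE : F.IsCentric E) : centralizerIn S E ≤ E := hE.2 E (isConj_refl hE.1)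

theorem ofAut_hom_mul {P : Subgroup Ω} (α : MulAut P) {x y : Ω} (hx : x ∈ P) (hy : y ∈ P) :
    ofAut α (x * y) = ofAut α x * ofAut α y := by
  rw [ofAut_apply α hx, ofAut_apply α hy, ofAut_apply α (P.mul_mem hx hy)]
  rw [← Subgroup.coe_mul, ← map_mul]
  rfl

theorem seOut_of_essential {E : Subgroup Ω} (hE : F.IsEssential p E) : FusSE.SEOut p (F.autGroup E) := hE.2.2

/-- A proper normalizer element acting non-innerly. -/
theorem essential_exists_outer [Finite S] [Fact p.Prime] (hS : IsPGroup p S) (hF : F.IsSaturated p)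
    {E : Subgroup Ω} (hE : F.IsEssential p E) :
    ∃ α ∈ autInducedBy S E, α ∉ Inn E := by
  have hfE := finite_of_le hE.1.1
  have hSE := seOut_of_essential hE
  obtain ⟨α, hα, hαI, m, hm⟩ := hSE.exists_pow
  have hfa := sat_fullyAutomized hS hF hE.2.1
  have hzp : IsPGroup p (Subgroup.zpowers α) := by
    rintro ⟨_, k, rfl⟩
    refine ⟨m, Subtype.ext ?_⟩
    show (α ^ k) ^ p ^ m = 1
    rw [← zpow_natCast, ← zpow_mul, mul_comm, zpow_mul, zpow_natCast, hm, one_zpow]
  obtain ⟨β, hβ, h1⟩ := IsFullyAutomized.conj_le hfa (K := Subgroup.zpowers α) (by rw [Subgroup.zpowers_le]; exact hα) hzp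
  refine ⟨_, h1 α (Subgroup.mem_zpowers _), fun h2 => hαI ?_⟩
  obtain ⟨g, hg⟩ := h2
  refine ⟨β⁻¹ g, ?_⟩
  have h3 : α = β⁻¹ * (β * α * β⁻¹) * β := by group
  rw [h3, ← hg]
  ext x
  simp [MulAut.conj_apply, map_mul]

/-- An essential subgroup is proper and has a proper normalizer. -/
theorem essential_exists_normalizer [Finite S] [Fact p.Prime] (hS : IsPGroup p S) (hF : F.IsSaturated p)
    {E : Subgroup Ω} (hE : F.IsEssential p E) :
    ∃ s ∈ S, s ∈ Subgroup.normalizer (E : Set Ω) ∧ s ∉ E ∧ ∃ α ∈ F.autGroup E, α ∉ Inn E ∧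
      ∀ x ∈ E, ofAut α x = s * x * s⁻¹ := by
  obtain ⟨α, hα, hαI⟩ := essential_exists_outer hS hF hE
  obtain ⟨s, hs, hsα⟩ := mem_autInducedBy'.1 hα
  refine ⟨s, hs, mem_normalizer_of_ofAut hsα, fun hsE => hαI ?_, α, autInducedBy_le_autGroup hE.1.1 hα, hαI, hsα⟩
  refine ⟨⟨s, hsE⟩, ?_⟩
  refine ofAut_injective fun x hx => ?_
  rw [hsα x hx, ofAut_apply _ hx]
  rfl

/-! ### Heisenberg type groups -/

/-- `S` is of Heisenberg type: like a Sylow subgroup of `SL₃(q)` -/
structure Heis (S Z : Subgroup Ω) (q : ℕ) : Prop where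
  le : Z ≤ S
  q1 : 1 < q
  cardZ : Nat.card Z = q
  cardS : Nat.card S = q ^ 3
  mem : ∀ z ∈ S, (∀ s ∈ S, z * s = s * z) → z ∈ Z
  cent : ∀ z ∈ Z, ∀ s ∈ S, z * s = s * z
  comm : ∀ s ∈ S, ∀ t ∈ S, s * t * s⁻¹ * t⁻¹ ∈ Z
  abel : ∀ x ∈ S, x ∉ Z → ∀ a ∈ S, ∀ b ∈ S, a * x = x * a → b * x = x * b → a * b = b * a
  cardC : ∀ x ∈ S, x ∉ Z → ∃ C : Subgroup Ω, Nat.card C = q ^ 2 ∧ ∀ a, a ∈ C ↔ a ∈ S ∧ a * x = x * a

variable {Z : Subgroup Ω} {q : ℕ}

theorem Heis.Z_le [Finite S] (h : Heis S Z q) {E : Subgroup Ω} (hE : F.IsCentric E) : Z ≤ E := by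
  intro z hz
  have h1 := centric_self_le hE
  exact h1 (mem_centralizerIn.2 ⟨h.le hz, fun y hy => (h.cent z hz y (hE.1 hy)).symm⟩)

theorem Heis.exists_notMem [Finite S] (h : Heis S Z q) {E : Subgroup Ω} (hE : F.IsCentric E) : ∃ e ∈ E, e ∉ Z := by
  by_contra hcon
  push Not at hcon
  have h1 : S ≤ E := by
    intro s hs
    exact centric_self_le hE (mem_centralizerIn.2 ⟨hs, fun y hy => h.cent y (hcon y hy) s hs⟩)
  have h2 : S ≤ Z := fun s hs => hcon s (h1 hs)
  have hfZ := finite_of_le h.le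
  have h3 := Nat.card_le_card_of_injective (Subgroup.inclusion h2) (Subgroup.inclusion_injective h2)
  rw [h.cardS, h.cardZ] at h3
  have h4 : q ^ 1 < q ^ 3 := Nat.pow_lt_pow_right h.q1 (by norm_num)
  rw [pow_one] at h4
  omega

/-- Essential subgroups are abelian. -/
theorem Heis.essential_comm [Finite S] [Fact p.Prime] (h : Heis S Z q) (hS : IsPGroup p S) (hF : F.IsSaturated p)
    {E : Subgroup Ω} (hE : F.IsEssential p E) : ∀ a ∈ E, ∀ b ∈ E, a * b = b * a := by
  by_contra hcon
  push Not at hcon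
  obtain ⟨a, ha, b, hb, hab⟩ := hcon
  have hES := hE.1.1
  have hfE := finite_of_le hES
  obtain ⟨s, hs, hsn, hsE, α, hα, hαI, hsα⟩ := essential_exists_normalizer hS hF hE
  -- the centre of `E` is `Z`
  have hZE := h.Z_le (F := F) hE.1
  have hcen : ∀ z ∈ E, (∀ e ∈ E, z * e = e * z) → z ∈ Z := by
    intro z hz hze
    by_contra hzZ
    exact hab (h.abel z (hES hz) hzZ a (hES ha) b (hES hb) (hze a ha).symm (hze b hb).symm)
  apply hαI
  have h0 : Monotone (fun i : ℕ => if i = 0 then (⊥ : Subgroup E) else if i = 1 then Subgroup.center E else ⊤) := by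
    refine monotone_nat_of_le_succ fun n => ?_
    rcases n with _ | _ | n
    · exact bot_le
    · exact le_top
    · exact le_rfl
  refine (seOut_of_essential hE).mem_inn_of_actsTriv (hS.to_le hES) (n := 2)
    (c := fun i : ℕ => if i = 0 then (⊥ : Subgroup E) else if i = 1 then Subgroup.center E else ⊤) rfl rfl h0
    ?_ hα ?_
  · intro β _ i x hx
    rcases i with _ | _ | i
    · have hx' : x = 1 := hx
      show β x ∈ (⊥ : Subgroup E)
      rw [hx', map_one]; exact Subgroup.one_mem _
    · show β x ∈ Subgroup.center E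
      have hx' : x ∈ Subgroup.center E := hx
      rw [Subgroup.mem_center_iff] at hx' ⊢
      intro g
      have h1 := congrArg β (hx' (β⁻¹ g))
      rwa [map_mul, map_mul, MulAut.apply_inv_self] at h1
    · exact Subgroup.mem_top _
  · intro i hi x hx
    have hval : ((α x : E) : Ω) = s * x * s⁻¹ := by
      rw [← ofAut_coe, hsα x x.2]
    interval_cases i
    · have hx' : x ∈ Subgroup.center E := hx
      show α x * x⁻¹ ∈ (⊥ : Subgroup E)
      rw [Subgroup.mem_bot, mul_inv_eq_one]
      refine Subtype.ext ?_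
      have hxZ : (x : Ω) ∈ Z := hcen x x.2 fun e he =>
        (congrArg Subtype.val (Subgroup.mem_center_iff.1 hx' ⟨e, he⟩)).symm
      rw [hval, ← h.cent _ hxZ s hs, mul_inv_cancel_right]
    · show α x * x⁻¹ ∈ Subgroup.center E
      rw [Subgroup.mem_center_iff]
      intro g
      refine Subtype.ext ?_
      have h1 : ((α x * x⁻¹ : E) : Ω) ∈ Z := by
        show ((α x : E) : Ω) * (x : Ω)⁻¹ ∈ Z
        rw [hval]
        exact h.comm s hs x (hES x.2)
      exact (h.cent _ h1 _ (hES g.2)).symm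

/-- An essential subgroup is the centralizer of each of its elements outside `Z`. -/
theorem Heis.essential_eq [Finite S] [Fact p.Prime] (h : Heis S Z q) (hS : IsPGroup p S) (hF : F.IsSaturated p)
    {E : Subgroup Ω} (hE : F.IsEssential p E) {e : Ω} (he : e ∈ E) (heZ : e ∉ Z) {a : Ω} (ha : a ∈ S)
    (hae : a * e = e * a) : a ∈ E := by
  have hES := hE.1.1
  have hEc := h.essential_comm hS hF hE
  refine centric_self_le hE.1 (mem_centralizerIn.2 ⟨ha, fun y hy => ?_⟩)
  exact h.abel e (hES he) heZ y (hES hy) a ha (hEc y hy e he) hae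

theorem Heis.essential_card [Finite S] [Fact p.Prime] (h : Heis S Z q) (hS : IsPGroup p S) (hF : F.IsSaturated p)
    {E : Subgroup Ω} (hE : F.IsEssential p E) : Nat.card E = q ^ 2 := by
  obtain ⟨e, he, heZ⟩ := h.exists_notMem (F := F) hE.1
  have hES := hE.1.1
  have hEc := h.essential_comm hS hF hE
  obtain ⟨C, hC, hCm⟩ := h.cardC e (hES he) heZ
  have : E = C := by
    ext a
    rw [hCm]
    exact ⟨fun ha => ⟨hES ha, hEc a ha e he⟩, fun ha => h.essential_eq hS hF hE he heZ ha.1 ha.2⟩
  rw [this, hC]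

/-- If some `R ≤ Z` is normal in `F` and `F` has an essential subgroup, then `R = 1`. -/
theorem Heis.eq_bot [Finite S] [Fact p.Prime] (h : Heis S Z q) (hS : IsPGroup p S) (hF : F.IsSaturated p)
    {E : Subgroup Ω} (hE : F.IsEssential p E) {R : Subgroup Ω} (hRZ : R ≤ Z) (hR : F.IsNormal R) : R = ⊥ := by
  have hES := hE.1.1
  have hfE := finite_of_le hES
  have hEc := h.essential_comm hS hF hE
  have hZE := h.Z_le (F := F) hE.1
  have hRinv := ((isNormal_iff_essential hS hF).1 hR E (Or.inr hE)).2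
  have hfa := sat_fullyAutomized hS hF hE.2.1
  -- `E` is normalized by `S`
  have hnorm : ∀ s ∈ S, s ∈ Subgroup.normalizer (E : Set Ω) := by
    intro s hs
    refine mem_normalizer_of_conj fun x hx => ?_
    have h1 := h.comm s hs x (hES hx)
    have h2 : s * x * s⁻¹ = (s * x * s⁻¹ * x⁻¹) * x := by group
    rw [h2]
    exact E.mul_mem (hZE h1) hx
  have hval : ∀ α ∈ autInducedBy S E, ∃ s ∈ S, ∀ x : E, ((α x : E) : Ω) = s * x * s⁻¹ := by
    intro α hα
    obtain ⟨s, hs, hsα⟩ := mem_autInducedBy'.1 hα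
    exact ⟨s, hs, fun x => by rw [← ofAut_coe, hsα x x.2]⟩
  -- the order of `Aut_S(E)`
  have hcard : q ≤ Nat.card (autInducedBy S E) := by
    have hfS : Finite S := inferInstance
    have hle : (E.subgroupOf S).index ≤ Nat.card (autInducedBy S E) := by
      have h1 : ∀ s : S, ∃ α : autInducedBy S E, ∀ x ∈ E, ofAut (α : MulAut E) x = s * x * (s : Ω)⁻¹ := fun s =>
        ⟨⟨conjAut (s : Ω) (hnorm s s.2), mem_autInducedBy'.2 ⟨s, s.2, fun x hx => ofAut_conjAut _ _ hx⟩⟩,
          fun x hx => ofAut_conjAut _ _ hx⟩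
      choose g hg using h1
      have := finite_mulAut (P := E)
      rw [Subgroup.index]
      refine Nat.card_le_card_of_injective (Quotient.lift g ?_) ?_
      · intro s t hst
        have hst' : (s⁻¹ * t : S) ∈ E.subgroupOf S := QuotientGroup.leftRel_apply.1 hst
        refine Subtype.ext (ofAut_injective fun x hx => ?_)
        rw [hg s x hx, hg t x hx]
        have h2 : (s : Ω)⁻¹ * t ∈ E := hst'
        have h3 := hEc _ h2 x hx
        have h4 : (t : Ω) = s * ((s : Ω)⁻¹ * t) := by group
        rw [h4, mul_inv_rev]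
        have h5 : (s : Ω) * ((s : Ω)⁻¹ * t) * x = s * (x * ((s : Ω)⁻¹ * t)) := by rw [mul_assoc, h3]
        rw [h5]; group
      · intro a b
        refine Quotient.inductionOn₂ a b fun s t hst => ?_
        have hst' : g s = g t := hst
        refine Quotient.sound (QuotientGroup.leftRel_apply.2 ?_)
        show (s : Ω)⁻¹ * t ∈ E
        refine centric_self_le hE.1 (mem_centralizerIn.2 ⟨S.mul_mem (S.inv_mem s.2) t.2, fun x hx => ?_⟩)
        have h2 := hg s x hx
        rw [hst', hg t x hx] at h2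
        have h3 : x * ((s : Ω)⁻¹ * t) = (s : Ω)⁻¹ * (s * x * (s : Ω)⁻¹) * t := by group
        rw [h3, ← h2]; group
    have hidx : (E.subgroupOf S).index = q := by
      have h1 := Subgroup.relIndex_mul_relIndex ⊥ E S bot_le hES
      rw [Subgroup.relIndex_bot_left, Subgroup.relIndex_bot_left, h.essential_card hS hF hE, h.cardS] at h1
      have h2 : 0 < q ^ 2 := by have := h.q1; positivity
      have h3 : q ^ 2 * E.relIndex S = q ^ 2 * q := by rw [h1]; ring
      exact Nat.eq_of_mul_eq_mul_left h2 h3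
    rw [← hidx]
    exact hle
  have key := FusSE.heis_count (E := E) (hS.to_le hES) h.q1 (fun a b => Subtype.ext (hEc a a.2 b b.2))
    (A := F.autGroup E) (P := autInducedBy S E) (autInducedBy_le_autGroup hES) (isPGroup_autInducedBy hS E)
    (fun Q' h1 h2 h3 => IsFullyAutomized.le_of_isPGroup hfa h1 h2 h3) (Z := Z.subgroupOf E)
    (by rw [Nat.card_congr (Subgroup.subgroupOfEquivOfLe hZE).toEquiv, h.cardZ]) (h.essential_card hS hF hE) hcard
    (fun α hα x hx => by
      obtain ⟨s, hs, hsα⟩ := hval α hα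
      have hx' : (x : Ω) ∈ Z := hx
      refine Subtype.ext ?_
      rw [hsα, ← h.cent _ hx' s hs, mul_inv_cancel_right])
    (fun α hα x => by
      obtain ⟨s, hs, hsα⟩ := hval α hα
      show ((α x : E) : Ω) * (x : Ω)⁻¹ ∈ Z
      rw [hsα]
      exact h.comm s hs x (hES x.2))
    (fun α hα hα1 x hx => by
      obtain ⟨s, hs, hsα⟩ := hval α hα
      by_contra hxZ
      have h1 := hsα x
      rw [hx] at h1
      have h2 : s * x = x * s := by
        conv_rhs => rw [h1]
        group
      have h3 : s ∈ E := h.essential_eq hS hF hE x.2 hxZ hs h2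
      apply hα1
      ext y
      rw [hsα, hEc s h3 y y.2, mul_inv_cancel_right]
      rfl)
    (seOut_of_essential hE) (R := R.subgroupOf E) (fun x hx => hRZ hx)
    (fun α hα x hx => by
      have := hRinv α hα x hx
      rwa [ofAut_coe] at this)
  rw [Subgroup.subgroupOf_eq_bot, disjoint_iff] at key
  rwa [inf_eq_left.2 (hRZ.trans hZE)] at key

/-- A saturated fusion system over a Heisenberg type group with a nontrivial normal subgroup is constrained. -/
theorem Heis.constrained [Finite S] [Fact p.Prime] (h : Heis S Z q) (hS : IsPGroup p S) (hF : F.IsSaturated p)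
    (hR : F.core ≠ ⊥) : F.IsConstrained p := by
  have hcore := Join.isNormal_core F
  by_cases hess : ∃ E, F.IsEssential p E
  · obtain ⟨E, hE⟩ := hess
    by_cases hRZ : F.core ≤ Z
    · exact absurd (h.eq_bot hS hF hE hRZ hcore) hR
    · obtain ⟨r, hr, hrZ⟩ := SetLike.not_le_iff_exists.1 hRZ
      have hin := (isNormal_iff_essential hS hF).1 hcore
      have hrE : ∀ E', F.IsEssential p E' → ∀ x ∈ F.core, x ∈ E' := fun E' hE' x hx => (hin E' (Or.inr hE')).1 hx
      -- `E` is the unique essential subgroup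
      have huniq : ∀ E', F.IsEssential p E' → E' ≤ E := by
        intro E' hE' x hx
        have h1 := h.essential_comm hS hF hE'
        exact h.essential_eq hS hF hE (hrE E hE r hr) hrZ (hE'.1.1 hx) (h1 x hx r (hrE E' hE' r hr))
      have hEn : F.IsNormal E := by
        rw [isNormal_iff_essential hS hF]
        rintro P (rfl | hP)
        · refine ⟨hE.1.1, fun α hα x hx => ?_⟩
          -- `α r ∈ core ∖ Z`
          have h1 := (hin _ (Or.inl rfl)).2 α hα r hr
          have hrS := hE.1.1 (hrE E hE r hr)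
          have h2 : ofAut α r ∉ Z := by
            intro h3
            apply hrZ
            refine h.mem r hrS fun s hs => ?_
            have h4 := h.cent _ h3 _ (ofAut_mem α hs)
            rw [← ofAut_hom_mul α hrS hs, ← ofAut_hom_mul α hs hrS] at h4
            have h5 := congrArg (ofAut α⁻¹) h4
            rwa [ofAut_inv_apply α (P.mul_mem hrS hs), ofAut_inv_apply α (P.mul_mem hs hrS)] at h5
          have hxS := hE.1.1 hx
          refine h.essential_eq hS hF hE (hrE E hE _ h1) h2 (ofAut_mem α hxS) ?_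
          rw [← ofAut_hom_mul α hxS hrS, ← ofAut_hom_mul α hrS hxS,
            h.essential_comm hS hF hE x hx r (hrE E hE r hr)]
        · have hPE := huniq P hP
          have hEP : E ≤ P := by
            intro x hx
            exact h.essential_eq hS hF hP (hrE P hP r hr) hrZ (hE.1.1 hx)
              (h.essential_comm hS hF hE x hx r (hrE E hE r hr))
          exact ⟨hEP, fun α hα x hx => hPE (ofAut_mem α (hEP hx))⟩
      exact ⟨hF, E, hEn, hE.1⟩
  · push Not at hess
    refine ⟨hF, S, ?_, isCentric_self⟩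
    rw [isNormal_iff_essential hS hF]
    rintro P (rfl | hP)
    · exact ⟨le_rfl, fun α hα x hx => ofAut_mem α hx⟩
    · exact absurd hP (hess P)

end Cfsg.Agent.Fus
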