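import Cfsg.Agent.Fus.IdxSq2
set_option autoImplicit false
set_option maxHeartbeats 1000000

/-!
# Fusion systems over `S` with `|S : Z(S)| ≤ 4`, `p = 2` (helper88)
-/

namespace Cfsg.Agent.Fus

open Cfsg Cfsg.FusionSystem

variable {Ω : Type*} [Group Ω] {S : Subgroup Ω} {F : FusionSystem S}

/-- the situation for `p = 2` -/
structure Two (F : FusionSystem S) (P₁ P₂ C₁ C₂ : Subgroup Ω) (a b₁ b₂ : Ω) : Prop where
  e1 : F.IsEssential 2 P₁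
  e2 : F.IsEssential 2 P₂
  ne : P₁ ≠ P₂
  t1 : TI F 2 ⁅S, S⁆ P₁ C₁ a b₁
  t2 : TI F 2 ⁅S, S⁆ P₂ C₂ a b₂
  i1 : (zc S).relIndex P₁ = 2
  i2 : (zc S).relIndex P₂ = 2
  s1 : P₁.relIndex S = 2
  s2 : P₂.relIndex S = 2

namespace Two

variable {P₁ P₂ C₁ C₂ : Subgroup Ω} {a b₁ b₂ : Ω} (h : Two F P₁ P₂ C₁ C₂ a b₁ b₂)

include h

theorem symm : Two F P₂ P₁ C₂ C₁ a b₂ b₁ := ⟨h.e2, h.e1, h.ne.symm, h.t2, h.t1, h.i2, h.i1, h.s2, h.s1⟩

theorem n1 [Finite S] (hS : IsPGroup 2 S) : S ≤ Subgroup.normalizer (P₁ : Set Ω) := by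
  have : Fact (Nat.Prime 2) := ⟨Nat.prime_two⟩
  exact le_normalizer_of_relIndex hS h.t1.PS h.s1

theorem N1 [Finite S] (hS : IsPGroup 2 S) : normalizerIn S P₁ = S := inf_eq_left.mpr (h.n1 hS)

theorem a2 : a * a = 1 := by have := h.t1.dec.ap; rwa [pow_two] at this

theorem bb : b₁ * b₁ = 1 := by have := h.t1.dec.bp; rwa [pow_two] at this

theorem inf_eq [Finite S] : P₁ ⊓ P₂ = zc S := by
  have : Fact (Nat.Prime 2) := ⟨Nat.prime_two⟩
  exact inf_eq_zc h.i1 h.i2 h.t1.ZP h.t2.ZP h.t1.PS h.t2.PS h.ne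

theorem b2P [Finite S] : b₂ ∉ P₁ := fun hb => h.t2.dec.bZ (by rw [← h.inf_eq]; exact ⟨hb, h.t2.dec.bP⟩)

theorem pow_b (j : ℕ) : b₁ ^ j = 1 ∨ b₁ ^ j = b₁ := by
  have h1 : b₁ ^ 2 = 1 := h.t1.dec.bp
  rcases Nat.even_or_odd' j with ⟨k, rfl | rfl⟩
  · left; rw [pow_mul, h1, one_pow]
  · right; rw [pow_succ, pow_mul, h1, one_pow, one_mul]

/-- `S = P₁ ∪ P₁ b₂` -/
theorem cases_S [Finite S] (hS : IsPGroup 2 S) {x : Ω} (hx : x ∈ S) : x ∈ P₁ ∨ ∃ y ∈ P₁, x = y * b₂ := by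
  have : Fact (Nat.Prime 2) := ⟨Nat.prime_two⟩
  obtain ⟨j, hj⟩ := exists_gen_of_relIndex h.t1.PS h.s1
    (fun s hs z hz => (Subgroup.mem_normalizer_iff.mp (h.n1 hS hs) z).mp hz) (h.t2.PS h.t2.dec.bP) h.b2P x hx
  rcases h.symm.pow_b j with h1 | h1
  · left; rw [h1, inv_one, mul_one] at hj; exact hj
  · right; rw [h1] at hj; exact ⟨_, hj, by group⟩

/-- `P₁ = Z ∪ Z b₁` -/
theorem cases_P [Finite S] {x : Ω} (hx : x ∈ P₁) : x ∈ zc S ∨ ∃ y ∈ zc S, x = y * b₁ := by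
  have : Fact (Nat.Prime 2) := ⟨Nat.prime_two⟩
  obtain ⟨j, hj⟩ := exists_gen_of_relIndex h.t1.ZP h.i1
    (fun s hs z hz => by rw [(mem_zc.mp hz).2 s (h.t1.PS hs), mul_inv_cancel_right]; exact hz) h.t1.dec.bP h.t1.dec.bZ x hx
  rcases h.pow_b j with h1 | h1
  · left; rw [h1, inv_one, mul_one] at hj; exact hj
  · right; rw [h1] at hj; exact ⟨_, hj, by group⟩

theorem comm_b [Finite S] (hS : IsPGroup 2 S) : b₂ * b₁ * b₂⁻¹ = a * b₁ := by
  have hb2S := h.t2.PS h.t2.dec.bP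
  have h1 := h.t1.dec.comm b₂ (by rw [h.N1 hS]; exact hb2S) b₁ h.t1.dec.bP
  have h2 : b₂ * b₁ * b₂⁻¹ * b₁⁻¹ = 1 ∨ b₂ * b₁ * b₂⁻¹ * b₁⁻¹ = a := by
    obtain ⟨j, hj⟩ := h1
    have hj : a ^ j = _ := hj
    rw [← hj]
    have h3 : a ^ (2 : ℤ) = 1 := by have := h.t1.dec.ap; exact_mod_cast this
    rcases Int.even_or_odd' j with ⟨k, rfl | rfl⟩
    · left; rw [zpow_mul, h3, one_zpow]
    · right; rw [zpow_add, zpow_mul, h3, one_zpow, one_mul, zpow_one]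
  rcases h2 with h2 | h2
  · exfalso
    -- `b₁` would be central
    apply h.t1.dec.bZ
    refine ⟨h.t1.PS h.t1.dec.bP, fun s hs => ?_⟩
    have : Fact (Nat.Prime 2) := ⟨Nat.prime_two⟩
    have hab := abelian_of_relIndex h.t1.PS h.t1.ZP h.i1
    have h3 : b₂ * b₁ = b₁ * b₂ := by
      rw [mul_inv_eq_one, mul_inv_eq_iff_eq_mul] at h2
      exact h2
    rcases h.cases_S hS hs with h4 | ⟨y, hy, rfl⟩
    · exact hab s h4 b₁ h.t1.dec.bP
    · rw [mul_assoc, h3, ← mul_assoc, hab y hy b₁ h.t1.dec.bP, mul_assoc]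
  · rw [← h2]; group

/-- no third essential subgroup -/
theorem third [Finite S] (hS : IsPGroup 2 S) {P₃ C₃ : Subgroup Ω} {b₃ : Ω} (h3 : TI F 2 ⁅S, S⁆ P₃ C₃ a b₃)
    (i3 : (zc S).relIndex P₃ = 2) (hne1 : P₃ ≠ P₁) (hne2 : P₃ ≠ P₂) : False := by
  have : Fact (Nat.Prime 2) := ⟨Nat.prime_two⟩
  have hb1S := h.t1.PS h.t1.dec.bP
  have hb2S := h.t2.PS h.t2.dec.bP
  have hb3S := h3.PS h3.dec.bP
  have e1 : P₁ ⊓ P₃ = zc S := inf_eq_zc h.i1 i3 h.t1.ZP h3.ZP h.t1.PS h3.PS hne1.symm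
  have e2 : P₂ ⊓ P₃ = zc S := inf_eq_zc h.i2 i3 h.t2.ZP h3.ZP h.t2.PS h3.PS hne2.symm
  have n1 : b₃ ∉ P₁ := fun hb => h3.dec.bZ (by rw [← e1]; exact ⟨hb, h3.dec.bP⟩)
  have n2 : b₃ ∉ P₂ := fun hb => h3.dec.bZ (by rw [← e2]; exact ⟨hb, h3.dec.bP⟩)
  rcases h.cases_S hS hb3S with h4 | ⟨y, hy, hy'⟩
  · exact n1 h4
  rcases h.cases_P hy with h5 | ⟨z, hz, rfl⟩
  · apply n2
    rw [hy']
    exact P₂.mul_mem (h.t2.ZP h5) h.t2.dec.bP
  -- `b₃ = z b₁ b₂`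
  have hbb3 : b₃ * b₃ = 1 := by have := h3.dec.bp; rwa [pow_two] at this
  have hb1 := h.bb
  have hb2 := h.symm.bb
  have hz1 := (mem_zc.mp hz).2 b₁ hb1S
  have hz2 := (mem_zc.mp hz).2 b₂ hb2S
  have ha1 := (mem_zc.mp h.t1.dec.aZ).2 b₁ hb1S
  have hcb := h.comm_b hS
  have hb2i : b₂⁻¹ = b₂ := inv_eq_iff_mul_eq_one.mpr hb2
  rw [hb2i] at hcb
  have h6 : z * z * a = 1 := by
    have h7 : b₃ * b₃ = z * z * a := by
      rw [hy']
      have hbz : b₁ * b₂ * z = z * (b₁ * b₂) := by rw [mul_assoc, hz2, ← mul_assoc, hz1, mul_assoc]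
      calc z * b₁ * b₂ * (z * b₁ * b₂) = z * (b₁ * b₂ * z) * b₁ * b₂ := by group
        _ = z * z * (b₁ * (b₂ * b₁ * b₂)) := by rw [hbz]; group
        _ = z * z * (a * (b₁ * b₁)) := by rw [hcb, ← mul_assoc b₁, ha1, mul_assoc a]
        _ = z * z * a := by rw [hb1, mul_one]
    rw [← h7, hbb3]
  obtain ⟨r, c, hc, hzc⟩ := h.t1.dec.spanZ z hz
  have hcS := h.t1.dec.CZ hc
  have haZ := h.t1.dec.aZ
  have h8 : z * z = c * c := by
    have h9 : a ^ r * a ^ r = 1 := by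
      rw [← pow_add, ← two_mul, pow_mul, h.t1.dec.ap, one_pow]
    have h10 : a ^ r * c = c * a ^ r := (mem_zc.mp hcS).2 _ (S.pow_mem haZ.1 r)
    rw [hzc]
    calc c * a ^ r * (c * a ^ r) = c * (a ^ r * c) * a ^ r := by group
      _ = c * c * (a ^ r * a ^ r) := by rw [h10]; group
      _ = c * c := by rw [h9, mul_one]
  rw [h8] at h6
  have h11 : a = (c * c)⁻¹ := (inv_eq_of_mul_eq_one_right h6).symm
  apply h.t1.dec.a1
  refine h.t1.dec.disj a (Subgroup.subset_closure (by simp)) ?_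
  rw [h11]
  exact C₁.inv_mem (C₁.mul_mem hc hc)

/-- all essential subgroups -/
theorem eq_or [Finite S] (hS : IsPGroup 2 S) (hF : F.IsSaturated 2) (hZ : (Subgroup.center S).index ≤ 2 ^ 2)
    {P₃ : Subgroup Ω} (hP₃ : F.IsEssential 2 P₃) : P₃ = P₁ ∨ P₃ = P₂ := by
  have : Fact (Nat.Prime 2) := ⟨Nat.prime_two⟩
  by_contra hcon
  push Not at hcon
  obtain ⟨C₃, a₃, b₃, h3⟩ := exists_TI_of_le_sq hS hF hZ hP₃
  have ha : a₃ = a := by
    have h4 : a ∈ Subgroup.zpowers a₃ := by rw [h3.az]; exact h.t1.aZ₀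
    obtain ⟨j, hj⟩ := h4
    have hj : a₃ ^ j = a := hj
    have h5 : a₃ ^ (2 : ℤ) = 1 := by have := h3.dec.ap; exact_mod_cast this
    rcases Int.even_or_odd' j with ⟨k, rfl | rfl⟩
    · rw [zpow_mul, h5, one_zpow] at hj
      exact absurd hj.symm h.t1.dec.a1
    · rw [zpow_add, zpow_mul, h5, one_zpow, one_mul, zpow_one] at hj
      exact hj
  subst ha
  exact h.third hS h3 (idx_of_le_sq hS hF hZ hP₃).1 hcon.1 hcon.2

/-- `Aut_F(S)` preserves `P₁`. -/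
theorem aut_P1 [Finite S] (hS : IsPGroup 2 S) (hF : F.IsSaturated 2) (hZ : (Subgroup.center S).index ≤ 2 ^ 2)
    {α : MulAut S} (hα : α ∈ F.autGroup S) : ∀ x ∈ P₁, ofAut α x ∈ P₁ := by
  have hp2 : Fact (Nat.Prime 2) := ⟨Nat.prime_two⟩
  have hA : Finite (MulAut S) := finite_mulAut
  have hm := isMap_ofAut le_rfl hα
  have key1 := h.eq_or hS hF hZ (essential_img hS hF h.e1 hm)
  have key2 := h.eq_or hS hF hZ (essential_img hS hF h.e2 hm)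
  rcases key1 with key1 | key1
  · intro x hx
    have : ofAut α x ∈ img P₁ (ofAut α) := subset_img hx
    rwa [key1] at this
  · exfalso
    have k1 : ∀ x ∈ P₁, ofAut α x ∈ P₂ := by
      intro x hx
      have : ofAut α x ∈ img P₁ (ofAut α) := subset_img hx
      rwa [key1] at this
    have k2 : ∀ x ∈ P₂, ofAut α x ∈ P₁ := by
      rcases key2 with key2 | key2
      · intro x hx
        have : ofAut α x ∈ img P₂ (ofAut α) := subset_img hx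
        rwa [key2] at this
      · exfalso
        apply h.ne
        have hle : ∀ {P Q : Subgroup Ω}, P ≤ S → Q ≤ S → img P (ofAut α) = img Q (ofAut α) → P ≤ Q := by
          intro P Q hP hQ he x hx
          have h1 : ofAut α x ∈ img Q (ofAut α) := by rw [← he]; exact subset_img hx
          obtain ⟨y, hy, hyx⟩ := (hm.mono hQ).mem_img.mp h1
          rw [← hm.inj (hQ hy) (hP hx) hyx]
          exact hy
        exact le_antisymm (hle h.t1.PS h.t2.PS (key1.trans key2.symm)) (hle h.t2.PS h.t1.PS (key2.trans key1.symm))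
    have keyk : ∀ k : ℕ, (∀ x ∈ P₁, ofAut (α ^ (2 * k)) x ∈ P₁) ∧ ∀ x ∈ P₁, ofAut (α ^ (2 * k + 1)) x ∈ P₂ := by
      intro k
      induction k with
      | zero =>
        refine ⟨fun x hx => ?_, fun x hx => ?_⟩
        · rw [mul_zero, pow_zero, ofAut_one (h.t1.PS hx)]; exact hx
        · rw [mul_zero, zero_add, pow_one]; exact k1 x hx
      | succ k ih =>
        have h1 : ∀ x ∈ P₁, ofAut (α ^ (2 * (k + 1))) x ∈ P₁ := by
          intro x hx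
          have e : 2 * (k + 1) = (2 * k + 1) + 1 := by ring
          rw [e, pow_succ', ofAut_mul _ _ (h.t1.PS hx)]
          exact k2 _ (ih.2 x hx)
        refine ⟨h1, fun x hx => ?_⟩
        rw [pow_succ', ofAut_mul _ _ (h.t1.PS hx)]
        exact k1 _ (h1 x hx)
    obtain ⟨e, m, hm2, hem⟩ := Nat.exists_eq_pow_mul_and_not_dvd (orderOf_pos α).ne' 2 (by norm_num)
    have h3 : (α ^ m) ^ 2 ^ e = 1 := by rw [← pow_mul, mul_comm, ← hem, pow_orderOf_eq_one]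
    obtain ⟨s, hs, hs'⟩ := pElement_inner hS hF (Subgroup.pow_mem _ hα m) h3
    obtain ⟨k, rfl⟩ : ∃ k, m = 2 * k + 1 := by
      rcases Nat.even_or_odd' m with ⟨k, rfl | rfl⟩
      · exact absurd (Dvd.intro _ rfl) hm2
      · exact ⟨k, rfl⟩
    have h4 := (keyk k).2 b₁ h.t1.dec.bP
    have hb1S := h.t1.PS h.t1.dec.bP
    rw [hs' b₁ hb1S] at h4
    have h5 : s * b₁ * s⁻¹ ∈ P₁ := (Subgroup.mem_normalizer_iff.mp (h.n1 hS hs) b₁).mp h.t1.dec.bP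
    have h6 : s * b₁ * s⁻¹ ∈ zc S := by rw [← h.inf_eq]; exact ⟨h5, h4⟩
    apply h.t1.dec.bZ
    have h7 := (mem_zc.mp h6).2 s hs
    have h8 : b₁ = s * b₁ * s⁻¹ := by
      have h9 : s⁻¹ * (s * (s * b₁ * s⁻¹)) = s⁻¹ * ((s * b₁ * s⁻¹) * s) := by rw [h7]
      have e1 : s⁻¹ * (s * (s * b₁ * s⁻¹)) = s * b₁ * s⁻¹ := by group
      have e2 : s⁻¹ * ((s * b₁ * s⁻¹) * s) = b₁ := by group
      rw [e1, e2] at h9
      exact h9.symm
    rw [h8]; exact h6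

/-- `Aut_F(S)` preserves `C₁` and `V₁`. -/
theorem aut_dec [Finite S] (hS : IsPGroup 2 S) (hF : F.IsSaturated 2) (hZ : (Subgroup.center S).index ≤ 2 ^ 2)
    {α : MulAut S} (hα : α ∈ F.autGroup S) : (∀ c ∈ C₁, ofAut α c ∈ C₁) ∧
      ∀ v ∈ Subgroup.closure {a, b₁}, ofAut α v ∈ Subgroup.closure {a, b₁} := by
  have hm := (isMap_ofAut le_rfl hα).mono h.t1.PS
  have hPf : Finite P₁ := finite_of_le h.t1.PS
  have himg : img P₁ (ofAut α) = P₁ := hm.img_eq (h.aut_P1 hS hF hZ hα)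
  obtain ⟨β, hβ, hβα⟩ := hm.exists_aut himg
  have hcl : Subgroup.closure {a, b₁} ≤ P₁ := by
    rw [Subgroup.closure_le]
    rintro x (rfl | rfl)
    · exact h.t1.ZP h.t1.dec.aZ
    · exact h.t1.dec.bP
  constructor
  · intro c hc
    rw [← hβα c (h.t1.ZP (h.t1.dec.CZ hc))]
    exact h.t1.dec.Cinv β hβ c hc
  · intro v hv
    rw [← hβα v (hcl hv)]
    exact h.t1.dec.Vinv β hβ v hv

theorem aut_a [Finite S] {α : MulAut S} (hα : α ∈ F.autGroup S) : ofAut α a = a := by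
  have hm := isMap_ofAut le_rfl hα
  have h1 := (commutator_inv hm a h.t1.aZ₀).2
  rw [← h.t1.az] at h1
  obtain ⟨j, hj⟩ := h1
  have hj : a ^ j = ofAut α a := hj
  have h5 : a ^ (2 : ℤ) = 1 := by have := h.t1.dec.ap; exact_mod_cast this
  rcases Int.even_or_odd' j with ⟨k, rfl | rfl⟩
  · exfalso
    rw [zpow_mul, h5, one_zpow] at hj
    apply h.t1.dec.a1
    apply hm.inj h.t1.dec.aZ.1 S.one_mem
    rw [← hj, hm.map_one]
  · rw [zpow_add, zpow_mul, h5, one_zpow, one_mul, zpow_one] at hj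
    exact hj.symm

theorem aut_move [Finite S] (hS : IsPGroup 2 S) (hF : F.IsSaturated 2) (hZ : (Subgroup.center S).index ≤ 2 ^ 2)
    {α : MulAut S} (hα : α ∈ F.autGroup S) {z : Ω} (hz : z ∈ zc S) : ofAut α z * z⁻¹ ∈ C₁ := by
  have hm := isMap_ofAut le_rfl hα
  obtain ⟨r, c, hc, rfl⟩ := h.t1.dec.spanZ z hz
  have hcZ := h.t1.dec.CZ hc
  have haZ := h.t1.dec.aZ
  have hapow : ∀ n : ℕ, ofAut α (a ^ n) = a ^ n := by
    intro n
    induction n with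
    | zero => rw [pow_zero, hm.map_one]
    | succ n ih => rw [pow_succ, hm.map_mul (S.pow_mem haZ.1 n) haZ.1, ih, h.aut_a hα]
  rw [hm.map_mul hcZ.1 (S.pow_mem haZ.1 r), hapow]
  have e : ofAut α c * a ^ r * (c * a ^ r)⁻¹ = ofAut α c * c⁻¹ := by group
  rw [e]
  exact C₁.mul_mem ((h.aut_dec hS hF hZ hα).1 c hc) (C₁.inv_mem hc)

/-- `Aut_F(S)` centralizes `Z(S)`. -/
theorem aut_z [Finite S] (hS : IsPGroup 2 S) (hF : F.IsSaturated 2) (hZ : (Subgroup.center S).index ≤ 2 ^ 2)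
    (hcore : F.core = ⊥) {g : Ω → Ω} (hg : IsMap F S g) {z : Ω} (hz : z ∈ zc S) : g z = z := by
  have hp2 : Fact (Nat.Prime 2) := ⟨Nat.prime_two⟩
  have hK : F.IsNormal (C₁ ⊓ C₂) := by
    have hstep : ∀ α ∈ F.autGroup S, ∀ x ∈ C₁ ⊓ C₂, ofAut α x ∈ C₁ ⊓ C₂ := fun α hα x hx =>
      ⟨(h.aut_dec hS hF hZ hα).1 x hx.1, (h.symm.aut_dec hS hF hZ hα).1 x hx.2⟩
    have hP : ∀ {P₁ P₂ C₁ C₂ : Subgroup Ω} {b₁ b₂ : Ω}, Two F P₁ P₂ C₁ C₂ a b₁ b₂ →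
        (∀ α ∈ F.autGroup S, ∀ x ∈ C₁ ⊓ C₂, ofAut α x ∈ C₁ ⊓ C₂) →
        ∀ α ∈ F.autGroup P₁, ∀ x ∈ C₁ ⊓ C₂, ofAut α x ∈ C₁ ⊓ C₂ := by
      intro P₁ P₂ C₁ C₂ b₁ b₂ h hstep α hα x hx
      obtain ⟨g, hg, -, hgα⟩ := h.t1.dec.frat α hα
      rw [h.N1 hS] at hg
      obtain ⟨β, hβ, hβg⟩ := hg.exists_aut (img_eq_self_of_top hg)
      rw [← hgα x hx.1, ← hβg x (h.t1.dec.CZ hx.1).1]
      exact hstep β hβ x hx
    refine isNormal_of_essential hS hF fun P' hP' => ?_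
    rcases hP' with rfl | hP'
    · exact ⟨fun x hx => (h.t1.dec.CZ hx.1).1, hstep⟩
    · rcases h.eq_or hS hF hZ hP' with rfl | rfl
      · exact ⟨fun x hx => h.t1.ZP (h.t1.dec.CZ hx.1), hP h hstep⟩
      · refine ⟨fun x hx => h.t2.ZP (h.t2.dec.CZ hx.2), fun α hα x hx => ?_⟩
        have h1 := hP h.symm (fun α hα x hx => ((hstep α hα x hx.symm).symm)) α hα x hx.symm
        exact h1.symm
  have hKb : C₁ ⊓ C₂ ≤ ⊥ := by
    have := Join.le_core hK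
    rwa [hcore] at this
  obtain ⟨α, hα, hαg⟩ := hg.exists_aut (img_eq_self_of_top hg)
  have h1 : ofAut α z * z⁻¹ ∈ C₁ ⊓ C₂ := ⟨h.aut_move hS hF hZ hα hz, h.symm.aut_move hS hF hZ hα hz⟩
  have h2 := Subgroup.mem_bot.mp (hKb h1)
  rw [mul_inv_eq_one] at h2
  rw [← hαg z hz.1]
  exact h2

theorem cl_le (h' : Two F P₁ P₂ C₁ C₂ a b₁ b₂) : Subgroup.closure {a, b₁} ≤ P₁ := by
  rw [Subgroup.closure_le]
  rintro x (rfl | rfl)
  · exact h'.t1.ZP h'.t1.dec.aZ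
  · exact h'.t1.dec.bP

theorem moveP [Finite S] (hS : IsPGroup 2 S) (hF : F.IsSaturated 2) (hZ : (Subgroup.center S).index ≤ 2 ^ 2)
    (hcore : F.core = ⊥) {α : MulAut P₁} (hα : α ∈ F.autGroup P₁) :
    ∀ x ∈ P₁, x⁻¹ * ofAut α x ∈ Subgroup.closure {a, b₁} := by
  intro x hx
  have hm := isMap_ofAut h.t1.PS hα
  obtain ⟨r, s, c, hc, rfl⟩ := h.t1.dec.span x hx
  have hcP := h.t1.ZP (h.t1.dec.CZ hc)
  have hv : a ^ r * b₁ ^ s ∈ Subgroup.closure {a, b₁} := Subgroup.mul_mem _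
    (Subgroup.pow_mem _ (Subgroup.subset_closure (by simp)) r) (Subgroup.pow_mem _ (Subgroup.subset_closure (by simp)) s)
  rw [hm.map_mul hcP (h.cl_le h hv)]
  obtain ⟨g, hg, -, hgα⟩ := h.t1.dec.frat α hα
  rw [h.N1 hS] at hg
  rw [← hgα c hc, h.aut_z hS hF hZ hcore hg (h.t1.dec.CZ hc)]
  have e : (c * (a ^ r * b₁ ^ s))⁻¹ * (c * ofAut α (a ^ r * b₁ ^ s)) = (a ^ r * b₁ ^ s)⁻¹ * ofAut α (a ^ r * b₁ ^ s) := by
    group
  rw [e]
  exact Subgroup.mul_mem _ (Subgroup.inv_mem _ hv) (h.t1.dec.Vinv α hα _ hv)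

theorem moveS [Finite S] (hS : IsPGroup 2 S) (hF : F.IsSaturated 2) (hZ : (Subgroup.center S).index ≤ 2 ^ 2)
    (hcore : F.core = ⊥) {α : MulAut S} (hα : α ∈ F.autGroup S) :
    ∀ x ∈ P₁, x⁻¹ * ofAut α x ∈ Subgroup.closure {a, b₁} := by
  intro x hx
  have hm := isMap_ofAut le_rfl hα
  obtain ⟨r, s, c, hc, rfl⟩ := h.t1.dec.span x hx
  have hcP := h.t1.ZP (h.t1.dec.CZ hc)
  have hv : a ^ r * b₁ ^ s ∈ Subgroup.closure {a, b₁} := Subgroup.mul_mem _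
    (Subgroup.pow_mem _ (Subgroup.subset_closure (by simp)) r) (Subgroup.pow_mem _ (Subgroup.subset_closure (by simp)) s)
  rw [hm.map_mul (h.t1.PS hcP) (h.t1.PS (h.cl_le h hv)), h.aut_z hS hF hZ hcore hm (h.t1.dec.CZ hc)]
  have e : (c * (a ^ r * b₁ ^ s))⁻¹ * (c * ofAut α (a ^ r * b₁ ^ s)) = (a ^ r * b₁ ^ s)⁻¹ * ofAut α (a ^ r * b₁ ^ s) := by
    group
  rw [e]
  exact Subgroup.mul_mem _ (Subgroup.inv_mem _ hv) ((h.aut_dec hS hF hZ hα).2 _ hv)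

theorem S_le [Finite S] (hS : IsPGroup 2 S) (hF : F.IsSaturated 2) (hZ : (Subgroup.center S).index ≤ 2 ^ 2)
    (hcore : F.core = ⊥) (hhyp : F.hyperfocalSubgroup 2 = S) : S ≤ Subgroup.closure {a, b₁, b₂} := by
  have hp2 : Fact (Nat.Prime 2) := ⟨Nat.prime_two⟩
  set D := Subgroup.closure {a, b₁, b₂} with hD
  have hV1 : Subgroup.closure {a, b₁} ≤ D := by
    rw [Subgroup.closure_le]
    rintro x (rfl | rfl)
    · exact Subgroup.subset_closure (by simp)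
    · exact Subgroup.subset_closure (by simp)
  have hV2 : Subgroup.closure {a, b₂} ≤ D := by
    rw [Subgroup.closure_le]
    rintro x (rfl | rfl)
    · exact Subgroup.subset_closure (by simp)
    · exact Subgroup.subset_closure (by simp)
  have hR : ⁅S, S⁆ ≤ D := by
    rw [← h.t1.az, Subgroup.zpowers_le]
    exact Subgroup.subset_closure (by simp)
  let E := (mapSpec_coset (F := F) hR).toFS
  have hE : ∀ P f, IsMap E P f ↔ IsMap F P f ∧ ∀ x ∈ P, x⁻¹ * f x ∈ D :=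
    fun P f => (mapSpec_coset (F := F) hR).isMap_toFS
  have hle : F ≤ E := by
    refine alperin_essential hS hF fun P hP => ?_
    intro α hα
    have hPS : P ≤ S := by
      rcases hP with rfl | hP
      · exact le_rfl
      · exact hP.1.1
    rw [mem_autGroup_iff hPS, hE]
    refine ⟨isMap_ofAut hPS hα, ?_⟩
    rcases hP with rfl | hP
    · intro x hx
      have hm := isMap_ofAut hPS hα
      rcases h.cases_S hS hx with h1 | ⟨y, hy, rfl⟩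
      · exact hV1 (h.moveS hS hF hZ hcore hα x h1)
      · have hb2 := h.t2.dec.bP
        have hb2S := h.t2.PS hb2
        have hyS := h.t1.PS hy
        have d1 := hV1 (h.moveS hS hF hZ hcore hα y hy)
        have d2 := hV2 (h.symm.moveS hS hF hZ hcore hα b₂ hb2)
        have hb2D : b₂ ∈ D := Subgroup.subset_closure (by simp)
        rw [hm.map_mul hyS hb2S]
        have e : (y * b₂)⁻¹ * (ofAut α y * ofAut α b₂) =
            b₂⁻¹ * (y⁻¹ * ofAut α y) * b₂ * (b₂⁻¹ * ofAut α b₂) := by group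
        rw [e]
        exact D.mul_mem (D.mul_mem (D.mul_mem (D.inv_mem hb2D) d1) hb2D) d2
    · rcases h.eq_or hS hF hZ hP with rfl | rfl
      · exact fun x hx => hV1 (h.moveP hS hF hZ hcore hα x hx)
      · exact fun x hx => hV2 (h.symm.moveP hS hF hZ hcore hα x hx)
  have hfoc : F.focalSubgroup ≤ D := focal_le fun P f hf x hx => ((hE P f).mp (le_iff.mp hle P f hf)).2 x hx
  calc S = F.hyperfocalSubgroup 2 := hhyp.symm
    _ ≤ F.focalSubgroup := hyper_le_focal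
    _ ≤ D := hfoc

theorem zc_le [Finite S] (hS : IsPGroup 2 S) (hF : F.IsSaturated 2) (hZ : (Subgroup.center S).index ≤ 2 ^ 2)
    (hcore : F.core = ⊥) (hhyp : F.hyperfocalSubgroup 2 = S) : zc S ≤ Subgroup.zpowers a := by
  have hp2 : Fact (Nat.Prime 2) := ⟨Nat.prime_two⟩
  have hSD := h.S_le hS hF hZ hcore hhyp
  have hb2S := h.t2.PS h.t2.dec.bP
  have haV : a ∈ Subgroup.closure {a, b₁} := Subgroup.subset_closure (by simp)
  have hbV : b₁ ∈ Subgroup.closure {a, b₁} := Subgroup.subset_closure (by simp)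
  have hzV : Subgroup.zpowers a ≤ Subgroup.closure {a, b₁} := by rwa [Subgroup.zpowers_le]
  have hconj : ∀ k : ℤ, ∀ v ∈ Subgroup.closure {a, b₁}, b₂ ^ k * v * (b₂ ^ k)⁻¹ ∈ Subgroup.closure {a, b₁} := by
    intro k v hv
    have h1 := hzV (h.t1.dec.comm (b₂ ^ k) (by rw [h.N1 hS]; exact S.zpow_mem hb2S k) v (h.cl_le h hv))
    have h2 := Subgroup.mul_mem _ h1 hv
    rwa [inv_mul_cancel_right] at h2
  have hQ : ∀ x ∈ Subgroup.closure {a, b₁, b₂}, ∃ v ∈ Subgroup.closure {a, b₁}, ∃ k : ℤ, x = v * b₂ ^ k := by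
    intro x hx
    refine Subgroup.closure_induction
      (p := fun x _ => ∃ v ∈ Subgroup.closure {a, b₁}, ∃ k : ℤ, x = v * b₂ ^ k) ?_ ?_ ?_ ?_ hx
    · rintro x (rfl | rfl | rfl)
      · exact ⟨_, haV, 0, by rw [zpow_zero, mul_one]⟩
      · exact ⟨_, hbV, 0, by rw [zpow_zero, mul_one]⟩
      · exact ⟨1, Subgroup.one_mem _, 1, by rw [zpow_one, one_mul]⟩
    · exact ⟨1, Subgroup.one_mem _, 0, by rw [zpow_zero, one_mul]⟩
    · rintro _ _ - - ⟨v, hv, k, rfl⟩ ⟨w, hw, l, rfl⟩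
      refine ⟨v * (b₂ ^ k * w * (b₂ ^ k)⁻¹), Subgroup.mul_mem _ hv (hconj k w hw), k + l, ?_⟩
      rw [zpow_add]; group
    · rintro _ - ⟨v, hv, k, rfl⟩
      refine ⟨b₂ ^ (-k) * v⁻¹ * (b₂ ^ (-k))⁻¹, hconj (-k) _ (Subgroup.inv_mem _ hv), -k, ?_⟩
      rw [zpow_neg]; group
  intro z hz
  obtain ⟨v, hv, k, hk⟩ := hQ z (hSD hz.1)
  have hvP := h.cl_le h hv
  have hb2k : b₂ ^ k ∈ zc S := by
    rw [← h.inf_eq]
    have h1 : b₂ ^ k = v⁻¹ * z := by rw [hk, inv_mul_cancel_left]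
    exact ⟨by rw [h1]; exact P₁.mul_mem (P₁.inv_mem hvP) (h.t1.ZP hz), P₂.zpow_mem h.t2.dec.bP k⟩
  have hb2k1 : b₂ ^ k = 1 := by
    have h5 : b₂ ^ (2 : ℤ) = 1 := by have := h.t2.dec.bp; exact_mod_cast this
    rcases Int.even_or_odd' k with ⟨j, rfl | rfl⟩
    · rw [zpow_mul, h5, one_zpow]
    · rw [zpow_add, zpow_mul, h5, one_zpow, one_mul, zpow_one] at hb2k
      exact absurd hb2k h.t2.dec.bZ
  rw [hb2k1, mul_one] at hk
  subst hk
  -- `z = a ^ r * b₁ ^ s`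
  obtain ⟨m, n, hmn⟩ : ∃ m n : ℤ, z = a ^ m * b₁ ^ n := by
    have hab := abelian_of_relIndex h.t1.PS h.t1.ZP h.i1
    refine Subgroup.closure_induction (p := fun x _ => ∃ m n : ℤ, x = a ^ m * b₁ ^ n) ?_ ?_ ?_ ?_ hv
    · rintro x (rfl | rfl)
      · exact ⟨1, 0, by rw [zpow_one, zpow_zero, mul_one]⟩
      · exact ⟨0, 1, by rw [zpow_one, zpow_zero, one_mul]⟩
    · exact ⟨0, 0, by rw [zpow_zero, zpow_zero, mul_one]⟩
    · rintro _ _ - - ⟨m, n, rfl⟩ ⟨m', n', rfl⟩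
      refine ⟨m + m', n + n', ?_⟩
      have hc : b₁ ^ n * a ^ m' = a ^ m' * b₁ ^ n :=
        hab _ (P₁.zpow_mem h.t1.dec.bP n) _ (P₁.zpow_mem (h.t1.ZP h.t1.dec.aZ) m')
      calc a ^ m * b₁ ^ n * (a ^ m' * b₁ ^ n') = a ^ m * (b₁ ^ n * a ^ m') * b₁ ^ n' := by group
        _ = _ := by rw [hc, zpow_add, zpow_add]; group
    · rintro _ - ⟨m, n, rfl⟩
      refine ⟨-m, -n, ?_⟩
      rw [mul_inv_rev, ← zpow_neg, ← zpow_neg]
      exact hab _ (P₁.zpow_mem h.t1.dec.bP _) _ (P₁.zpow_mem (h.t1.ZP h.t1.dec.aZ) _)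
  have hbn : b₁ ^ n ∈ zc S := by
    have h1 : b₁ ^ n = (a ^ m)⁻¹ * z := by rw [hmn, inv_mul_cancel_left]
    rw [h1]
    exact (zc S).mul_mem ((zc S).inv_mem ((zc S).zpow_mem h.t1.dec.aZ m)) hz
  have hbn1 : b₁ ^ n = 1 := by
    have h5 : b₁ ^ (2 : ℤ) = 1 := by have := h.t1.dec.bp; exact_mod_cast this
    rcases Int.even_or_odd' n with ⟨j, rfl | rfl⟩
    · rw [zpow_mul, h5, one_zpow]
    · rw [zpow_add, zpow_mul, h5, one_zpow, one_mul, zpow_one] at hbn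
      exact absurd hbn h.t1.dec.bZ
  rw [hmn, hbn1, mul_one]
  exact Subgroup.zpow_mem _ (Subgroup.mem_zpowers a) m

end Two

end Cfsg.Agent.Fus
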