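import Cfsg.Agent.Fus.MLift2

set_option autoImplicit false

/-!
# `O^{p'}` of a weakly normal subsystem is normal: conclusion (helper35)
-/

namespace Cfsg.Agent.Fus

open Cfsg Cfsg.FusionSystem

variable {Ω : Type*} [Group Ω] {S T : Subgroup Ω} {F : FusionSystem S} {E : FusionSystem T} {p : ℕ}

/-! ### Invariance of `O^{p'}(E)` -/

theorem pext_conjSysT [Finite T] (h : E.IsInvariantIn F) {β : MulAut T} (hβ : β ∈ F.autGroup T) {X : FusionSystem T}
    (hX : PExt E p E.IsCentric X) : PExt E p E.IsCentric (conjSys β X) := by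
  have hT := h.2.1
  have hTS := hT.1
  have hinv := tInv_of_strongInv (strongInv_of_invariant h) hTS
  have hβ' := Subgroup.inv_mem _ hβ
  refine ⟨?_, pHas_conjSysT h hβ hX.pel, ?_⟩
  · rw [le_iff]
    intro P f hf
    obtain ⟨h1, h2⟩ := isMap_conjSys'.mp hf
    have h3 := hinv β hβ _ _ (le_iff.mp hX.le _ _ h2)
    rw [img_ofAut_inv β h1.le] at h3
    exact h3.congr (cjf_cjf β h1)
  · intro P R f hP hPR hR hf
    obtain ⟨h1, h2⟩ := isMap_conjSys'.mp hf
    rw [isMap_conjSys']
    have hB : IsMap F P (ofAut β⁻¹) := (isMap_ofAut hTS hβ').mono hP.1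
    have hPc : E.IsCentric (img P (ofAut β⁻¹)) :=
      (tcen_iff_of_invariant h).mp (((tcen_iff_of_invariant h).mpr hP).conj hT hB.isConj)
    exact ⟨hR.univ, hX.ext _ _ _ hPc (img_mono hPR) (hinv β⁻¹ hβ' _ _ hR) h2⟩

theorem tInv_pextMin [Finite T] (h : E.IsInvariantIn F) : TInv F (pextMin E p (isFam_centric (F := E))) := by
  intro α hα
  refine autInv_of_le ?_
  rw [le_iff]
  intro P f hf
  rw [isMap_conjSys', inv_inv]
  refine ⟨hf.univ, isMap_interSys.mpr fun X hX => ?_⟩
  have h1 := isMap_interSys.mp hf (conjSys α⁻¹ X) (pext_conjSysT h (Subgroup.inv_mem _ hα) hX)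
  have h2 := (isMap_conjSys'.mp h1).2
  rwa [inv_inv] at h2

theorem tInv_pPrimeRes [Finite T] (h : E.IsInvariantIn F) : TInv F (pPrimeRes E p) := by
  intro α hα
  have hT := h.2.1
  refine autInv_genK (fun P hP => ?_) (tInv_pextMin h α hα)
  have hB : IsMap F P (ofAut α) := (isMap_ofAut hT.1 hα).mono hP.1
  exact (tcen_iff_of_invariant h).mp (((tcen_iff_of_invariant h).mpr hP).conj hT hB.isConj)

theorem isInvariantIn_pPrimeRes [Finite S] [Finite T] [Fact p.Prime] (hS : IsPGroup p S) (hE : E.IsSaturated p)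
    (h : E.IsInvariantIn F) : (pPrimeRes E p).IsInvariantIn F := by
  have hT := h.2.1
  have hTp := isPGroup_of_le hS hT.1
  refine isInvariantIn_of_tInv ?_ hT (tInv_pPrimeRes h) fun P f hP hf => ?_
  · rw [isSubsystemOf_iff]
    intro P f hf
    exact isSubsystemOf_iff.mp h.1 _ _ (le_iff.mp pPrimeRes_le _ _ hf)
  · obtain ⟨α, hα, e, he, h1⟩ := dec_of_invariant h hP hf
    obtain ⟨β, hβ, d, hd, h2⟩ := pPrimeRes_dec hTp hE he
    refine ⟨α * β, Subgroup.mul_mem _ hα (autGroup_sub h.1 hT.1 le_rfl hβ), d, hd, fun x hx => ?_⟩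
    rw [h1 x hx, h2 x hx, ofAut_mul _ _ (hd.mem hx)]

/-! ### The subsystem of maps with the extension property -/

theorem mmSpec [Finite T] (h : E.IsInvariantIn F) : MapSpec T (fun P f => IsMap E P f ∧ ∀ Q ≤ P, TCen F T Q →
    MM F T Q f) where
  congr := by
    rintro P f g ⟨h1, h2⟩ hfg
    exact ⟨h1.congr hfg, fun Q hQ hQc => (h2 Q hQ hQc).congr fun x hx => hfg x (hQ hx)⟩
  le h := h.1.le
  mem h _ hx := h.1.mem hx
  mul h _ hx _ hy := h.1.map_mul hx hy
  inj h _ hx _ hy := h.1.inj hx hy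
  conj hP hg := ⟨isMap_conj hP hg, fun _ hQ _ => mm_conj h.2.1 (hQ.trans hP) hg⟩
  comp := by
    rintro P R f g ⟨h1, h2⟩ ⟨k1, k2⟩ hc
    refine ⟨k1.comp h1 hc, fun Q hQ hQc => ?_⟩
    have h3 := h2 Q hQ hQc
    have h4 := h3.isMap
    refine h3.comp h.2.1 hQc (k2 _ (h4.img_le_iff.mpr fun x hx => hc x (hQ hx)) (hQc.conj h.2.1 h4.isConj))
  inv := by
    rintro P f ⟨h1, h2⟩
    refine ⟨minv P f, fun x hx => h1.minv_apply hx, h1.minv_isMap, fun Q hQ hQc => ?_⟩
    have hm : IsMap E Q (minv P f) := h1.minv_isMap.mono hQ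
    have hmF := isSubsystemOf_iff.mp h.1 _ _ hm
    have hR : img Q (minv P f) ≤ P := hm.img_le_iff.mpr fun x hx => h1.minv_mem (hQ hx)
    have h3 := h2 _ hR (hQc.conj h.2.1 hmF.isConj)
    have h4 := h3.minv h.2.1 (hQc.conj h.2.1 hmF.isConj)
    have e : img (img Q (minv P f)) f = Q := by
      rw [← hm.img_comp]
      have : img Q (fun x => f (minv P f x)) = img Q id := img_congr fun x hx => h1.apply_minv (hQ hx)
      rw [this, img_id]
    rw [e] at h4
    refine h4.congr fun y hy => ?_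
    obtain ⟨x, hx, hxy⟩ : ∃ x ∈ img Q (minv P f), f x = y := ⟨minv P f y, subset_img hy, h1.apply_minv (hQ hy)⟩
    have hf := h3.isMap
    rw [← hxy, hf.minv_apply hx, h1.minv_apply (hR hx)]

theorem aut_mm_of_residual [Finite S] [Finite T] [Fact p.Prime] (hS : IsPGroup p S) (hF : F.IsSaturated p)
    (hE : E.IsSaturated p) (h : E.IsInvariantIn F) {α : MulAut T} (hα : α ∈ (pPrimeRes E p).autGroup T) :
    ExtZ F T α := by
  have hT := h.2.1
  have hTS := hT.1
  have hTp := isPGroup_of_le hS hTS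
  have hTc : TCen F T T := (tcen_iff_of_invariant h).mpr isCentric_self
  have hpHas : PHas E p E.IsCentric (mmSpec h).toFS := by
    intro P β k hP hβ hk
    rw [(mmSpec h).isMap_toFS]
    exact ⟨isMap_ofAut hP.1 hβ, fun Q hQ _ =>
      (mm_of_pel hS hF hE h ((tcen_iff_of_invariant h).mpr hP) hβ hk).mono hQ⟩
  have hext : PExt E p E.IsCentric (mmSpec h).toFS := by
    refine ⟨?_, hpHas, ?_⟩
    · rw [le_iff]
      intro P f hf
      exact ((mmSpec h).isMap_toFS.mp hf).1
    · intro P R f hP hPR hR hf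
      rw [(mmSpec h).isMap_toFS] at hf ⊢
      have hPc := (tcen_iff_of_invariant h).mpr hP
      refine ⟨hR, ?_⟩
      suffices hMR : MM F T R f from fun Q hQ _ => hMR.mono hQ
      have hRc : TCen F T R := hPc.mono hT hPR hR.le
      -- decomposition of `f`
      obtain ⟨β, hβ, e, he, hfe⟩ := hpHas.dec hTp hE isFam_centric hR
      rw [(mmSpec h).isMap_toFS] at he
      have heR := he.2 R le_rfl hRc
      have heP := he.2 P hPR hPc
      have hePm := heP.isMap
      have heRm := heR.isMap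
      have heRT : img R e ≤ T := isConj_le_sc hT hR.le heRm.isConj
      have hβP : MM F T (img P e) (ofAut β) := by
        have h1 := heP.minv hT hPc
        have h2 : MM F T (img (img P e) (minv P e)) f := by
          rw [hePm.img_minv]
          exact hf.2 P le_rfl hPc
        refine (h1.comp hT (hPc.conj hT hePm.isConj) h2).congr fun y hy => ?_
        obtain ⟨x, hx, rfl⟩ := hePm.mem_img.mp hy
        show f (minv P e (e x)) = _
        rw [hePm.minv_apply hx, hfe x (hPR hx)]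
      have hβT := mm_top hS hF hE h (hPc.conj hT hePm.isConj) hβ hβP
      refine (heR.comp hT hRc (hβT.mono heRT)).congr fun x hx => (hfe x hx).symm
  have h1 : pPrimeRes E p ≤ (mmSpec h).toFS := fusLe_trans genK_le (pextMin_le isFam_centric hext)
  have h2 := (mmSpec h).isMap_toFS.mp (le_iff.mp h1 _ _ (isMap_ofAut le_rfl hα))
  exact extZ_of_mm hT (h2.2 T le_rfl hTc)

/-- **`O^{p'}` of a weakly normal subsystem is normal.** -/
theorem isNormalIn_pPrimeRes [Finite S] [Finite T] [Fact p.Prime] (hS : IsPGroup p S) (hF : F.IsSaturated p)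
    (hE : E.IsSaturated p) (h : E.IsInvariantIn F) : (pPrimeRes E p).IsNormalIn F p := by
  have hTp := isPGroup_of_le hS h.2.1.1
  rw [isNormalIn_iff]
  exact ⟨⟨pPrimeRes_saturated hTp hE, hF, isInvariantIn_pPrimeRes hS hE h⟩,
    fun α hα => aut_mm_of_residual hS hF hE h hα⟩

end Cfsg.Agent.Fus
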