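import Cfsg.Agent.Fus.Trans
import Cfsg.Agent.Fus.Gruen
set_option autoImplicit false
set_option maxHeartbeats 400000

/-!
# Transfer for fusion systems (helper88)
-/

namespace Cfsg.Agent.Fus.Bi

open Cfsg Cfsg.Agent.Fus Cfsg.Agent.Fus.Burn

variable {Ω : Type*} [Group Ω] {S : Subgroup Ω} {F : FusionSystem S} {p : ℕ} {X A : Type*} [CommGroup A]

/-- the right action -/
def ract (α : S × S →* Equiv.Perm X) : S →* Equiv.Perm X := α.comp (MonoidHom.inr S S)

theorem ract_apply (α : S × S →* Equiv.Perm X) (b : S) : ract α b = α (1, b) := rfl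

theorem left_mem_cen (α : S × S →* Equiv.Perm X) (a : S) : α (a, 1) ∈ Tr.Cen (ract α) := left_mem_cent α a

theorem RealAct.free {α : S × S →* Equiv.Perm X} (hα : RealAct F α) (b : S) (x : X) (h : ract α b x = x) : b = 1 :=
  hα.right_free h

/-- The transfer of `l : S → A`. -/
noncomputable def V [Finite X] {α : S × S →* Equiv.Perm X} {l : S →* A} {h : X → A}
    (hh : Tr.Gauge (ract α) l h) : S →* A where
  toFun a := Tr.trg (ract α) h (α (a, 1))
  map_one' := by
    show Tr.trg (ract α) h (α 1) = 1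
    rw [map_one]
    exact Tr.trg_one
  map_mul' a b := by
    rw [← Tr.trg_mul hh (left_mem_cen α a) (left_mem_cen α b), ← map_mul]
    congr 2
    exact Prod.ext rfl (one_mul 1).symm

theorem V_apply [Finite X] {α : S × S →* Equiv.Perm X} {l : S →* A} {h : X → A}
    (hh : Tr.Gauge (ract α) l h) (a : S) : V hh a = Tr.trg (ract α) h (α (a, 1)) := rfl

theorem V_fus [Finite X] {α : S × S →* Equiv.Perm X} (hα : RealAct F α) {l : S →* A} {h : X → A}
    (hh : Tr.Gauge (ract α) l h) {P : Subgroup Ω} {f : Ω → Ω} (hf : IsMap F P f) {u : Ω} (hu : u ∈ P) :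
    V hh ⟨f u, hf.mem hu⟩ = V hh ⟨u, hf.le hu⟩ := by
  obtain ⟨θ, hθ⟩ := hα.real P f hf
  have hθc : θ ∈ Tr.Cen (ract α) := by
    intro b x
    have h1 := hθ (1, b) x
    rw [kin_apply, kmap_apply] at h1
    have h2 : ((⟨f ((1 : P) : Ω), hf.mem (1 : P).2⟩ : S), b) = ((1 : S), b) := by
      apply Prod.ext
      · exact Subtype.ext hf.map_one
      · rfl
    rw [h2] at h1
    exact h1
  have h1 : θ * α (⟨u, hf.le hu⟩, 1) = α (⟨f u, hf.mem hu⟩, 1) * θ := by
    ext1 x
    exact hθ (⟨u, hu⟩, 1) x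
  have h2 := Tr.trg_mul hh hθc (left_mem_cen α ⟨u, hf.le hu⟩)
  have h3 := Tr.trg_mul hh (left_mem_cen α ⟨f u, hf.mem hu⟩) hθc
  rw [h1, h3, mul_comm] at h2
  exact mul_left_cancel h2

theorem V_focal [Finite X] {α : S × S →* Equiv.Perm X} (hα : RealAct F α) {l : S →* A} {h : X → A}
    (hh : Tr.Gauge (ract α) l h) : F.focalSubgroup ≤ (V hh).ker.map S.subtype := by
  refine focal_le fun P f hf x hx => ?_
  refine ⟨⟨x, hf.le hx⟩⁻¹ * ⟨f x, hf.mem hx⟩, ?_, rfl⟩
  rw [SetLike.mem_coe, MonoidHom.mem_ker, map_mul, map_inv, V_fus hα hh hf hx, inv_mul_cancel]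

/-- The transfer at an element acting from the left like an element acts from the right. -/
theorem V_central [Finite X] {α : S × S →* Equiv.Perm X} {l : S →* A} {h : X → A}
    (hh : Tr.Gauge (ract α) l h) {z : S} (hz : ∀ x, α (z, z) x = x) :
    V hh z = (l z)⁻¹ ^ Nat.card (Tr.Orb (ract α)) := by
  classical
  let _ : Fintype (Tr.Orb (ract α)) := Fintype.ofFinite _
  rw [V_apply]
  unfold Tr.trg
  simp only
  have h1 : ∀ x, α (z, 1) x = ract α z⁻¹ x := by
    intro x
    rw [ract_apply]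
    have h2 : ((z, 1) : S × S) = (1, z⁻¹) * (z, z) := by
      apply Prod.ext
      · exact (one_mul z).symm
      · exact (inv_mul_cancel z).symm
    rw [h2, map_mul, Equiv.Perm.mul_apply, hz]
  rw [Finset.prod_congr rfl (fun o _ => by rw [h1, hh, mul_div_assoc, div_self', mul_one, map_inv]), Finset.prod_const,
    Finset.card_univ, ← Nat.card_eq_fintype_card]

/-- A characteristic action. -/
structure CharAct (F : FusionSystem S) (p : ℕ) (α : S × S →* Equiv.Perm X) : Prop extends RealAct F α where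
  size : ∃ n, Nat.card X = Nat.card S * n ∧ ¬ p ∣ n

theorem CharAct.not_dvd [Finite X] [Finite S] {α : S × S →* Equiv.Perm X} (hα : CharAct F p α) :
    ¬ p ∣ Nat.card (Tr.Orb (ract α)) := by
  obtain ⟨n, hn, hpn⟩ := hα.size
  have h1 := Tr.card_orb_mul (r := ract α) hα.toRealAct.free
  rw [hn] at h1
  rwa [Nat.eq_of_mul_eq_mul_left Nat.card_pos h1]

theorem charAct_carr [Finite S] {c : Subgroup (S × S) → ℕ} (hc : IsChar F p c) :
    CharAct F p (restr (uact (S × S)) (carr c) (carr_inv c)) := by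
  refine ⟨realAct_carr hc.supp hc.stab, ?_⟩
  obtain ⟨n, hn, hpn⟩ := hc.size
  exact ⟨n, by rw [Nat.card_coe_set_eq, ← mark_bot, hn], hpn⟩

/-- the points fixed by the diagonal of `Z(F)` -/
def fixZ (F : FusionSystem S) (α : S × S →* Equiv.Perm X) : Set X :=
  {x | ∀ z : S, (z : Ω) ∈ F.center → α (z, z) x = x}

theorem fixZ_inv [Finite S] (F : FusionSystem S) (α : S × S →* Equiv.Perm X) : Inv α (fixZ F α) := by
  intro g x hx z hz
  have h1 : (z, z) * g = g * (z, z) := by
    have h2 : ∀ s : S, z * s = s * z := fun s =>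
      Subtype.ext (Subgroup.mem_centralizer_iff.mp (center_le_center hz).2 s s.2).symm
    exact Prod.ext (h2 _) (h2 _)
  rw [← Equiv.Perm.mul_apply, ← map_mul, h1, map_mul, Equiv.Perm.mul_apply, hx z hz]

theorem realAct_fixZ [Finite S] {α : S × S →* Equiv.Perm X} (hα : RealAct F α) :
    RealAct F (restr α (fixZ F α) (fixZ_inv F α)) where
  supp x := by
    rw [stab_restr]
    exact hα.supp x
  real P f h := by
    obtain ⟨-, hc⟩ := isCentral_iff_isMap.mp (Join.isCentral_center F)
    obtain ⟨g, hg, h1, h2⟩ := hc P f h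
    obtain ⟨θ, hθ⟩ := hα.real _ g hg
    have hzz : ∀ z : S, (z : Ω) ∈ F.center → ∀ x, θ (α (z, z) x) = α (z, z) (θ x) := by
      intro z hz x
      have hzP : (z : Ω) ∈ P ⊔ F.center := (le_sup_right : F.center ≤ _) hz
      have h3 := hθ (⟨z, hzP⟩, z) x
      rw [kin_apply, kmap_apply] at h3
      have h4 : ((⟨g z, hg.mem hzP⟩ : S), z) = (z, z) := Prod.ext (Subtype.ext (h2 z hz)) rfl
      rw [h4] at h3
      exact h3
    have hθA : ∀ x, θ x ∈ fixZ F α ↔ x ∈ fixZ F α := by
      intro x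
      constructor
      · intro hx z hz
        apply θ.injective
        rw [hzz z hz, hx z hz]
      · intro hx z hz
        rw [← hzz z hz, hx z hz]
    refine ⟨θ.subtypePerm fun x => hθA x, fun z x => ?_⟩
    apply Subtype.ext
    have hzP : (z.1 : Ω) ∈ P ⊔ F.center := (le_sup_left : P ≤ _) z.1.2
    have h3 := hθ (⟨z.1, hzP⟩, z.2) x
    rw [kin_apply, kmap_apply] at h3
    show θ (α (kin h.le z) x) = α (kmap h z) (θ x)
    rw [kin_apply, kmap_apply]
    have h4 : ((⟨g z.1, hg.mem hzP⟩ : S), z.2) = (⟨f z.1, h.mem z.1.2⟩, z.2) :=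
      Prod.ext (Subtype.ext (h1 z.1 z.1.2)) rfl
    rw [h4] at h3
    exact h3

theorem charAct_fixZ [Finite S] [Finite X] [Fact p.Prime] (hS : IsPGroup p S) {α : S × S →* Equiv.Perm X}
    (hα : CharAct F p α) : CharAct F p (restr α (fixZ F α) (fixZ_inv F α)) := by
  have hR := realAct_fixZ hα.toRealAct
  refine ⟨hR, _, (Tr.card_orb_mul hR.free).symm, ?_⟩
  intro hdvd
  obtain ⟨n, hn, hpn⟩ := hα.size
  have h1 := Tr.card_orb_mul hR.free
  have hZS : F.center ≤ S := Join.center_le F
  have : Finite F.center := finite_of_le hZS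
  -- the complement
  have h2 : Nat.card S * p ∣ ((fixZ F α)ᶜ).ncard := by
    refine dvd_ncard (α.comp (kin hZS)) _ _ _ (Set.toFinite _) rfl ?_ ?_
    · intro g x hx hgx
      apply hx
      have h3 := fixZ_inv F α (kin hZS g⁻¹) _ hgx
      have h4 : α (kin hZS g⁻¹) ((α.comp (kin hZS)) g x) = x := by
        show α (kin hZS g⁻¹) (α (kin hZS g) x) = x
        rw [← Equiv.Perm.mul_apply, ← map_mul, ← map_mul, inv_mul_cancel, map_one, map_one]
        rfl
      rwa [h4] at h3
    · intro x hx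
      set H := Burn.stab (α.comp (kin hZS)) x with hH
      have hHm : ∀ z ∈ H, (z.1 : Ω) = z.2 := by
        intro z hz
        obtain ⟨P, f, hf, hP⟩ := hα.supp x
        have h3 : kin hZS z ∈ graph hf := by rw [← hP]; exact hz
        have h4 : (z.2 : Ω) = f z.1 := h3.2
        rw [h4]
        exact (hf.fix_center h3.1 z.1.2).symm
      -- the projection
      set H₁ := H.map (MonoidHom.fst F.center S) with hH₁
      have hcard : Nat.card H₁ = Nat.card H := by
        refine Nat.card_congr (Equiv.ofBijective (fun z : H => (⟨z.1.1, ⟨z.1, z.2, rfl⟩⟩ : H₁)) ⟨?_, ?_⟩).symm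
        · rintro ⟨z, hz⟩ ⟨w, hw⟩ hzw
          have h3 : z.1 = w.1 := congrArg Subtype.val hzw
          apply Subtype.ext
          apply Prod.ext h3
          apply Subtype.ext
          rw [← hHm z hz, ← hHm w hw, h3]
        · rintro ⟨_, ⟨z, hz, rfl⟩⟩
          exact ⟨⟨z, hz⟩, rfl⟩
      have hlt : Nat.card (H₁.map F.center.subtype) < Nat.card F.center := by
        rw [Subgroup.card_map_of_injective F.center.subtype_injective]
        refine lt_of_le_of_ne (Subgroup.card_le_card_group H₁) fun h => hx ?_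
        have htop : H₁ = ⊤ := Subgroup.eq_top_of_card_eq H₁ h
        intro z hz
        have h3 : (⟨z, hz⟩ : F.center) ∈ H₁ := by rw [htop]; trivial
        obtain ⟨w, hw, hwz⟩ := h3
        have h4 : (w.1 : Ω) = z := congrArg Subtype.val hwz
        have h5 := hHm w hw
        have h6 : α (kin hZS w) x = x := hw
        rw [kin_apply] at h6
        have h7 : ((⟨w.1, hZS w.1.2⟩ : S), w.2) = (z, z) := by
          apply Prod.ext
          · exact Subtype.ext h4
          · exact Subtype.ext (by rw [← h5, h4])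
        rwa [h7] at h6
      obtain ⟨r, hr, hpr⟩ := exists_ratio (isPGroup_of_le hS hZS) (Subgroup.map_subtype_le H₁) hlt
      rw [Subgroup.card_map_of_injective F.center.subtype_injective, hcard] at hr
      have h3 := Subgroup.card_mul_index H
      rw [Nat.card_prod, hr] at h3
      have h4 : H.index = Nat.card S * r := by
        refine Nat.eq_of_mul_eq_mul_left (Nat.card_pos (α := H)) ?_
        rw [h3]; ring
      rw [h4]
      exact mul_dvd_mul_left _ hpr
  -- counting
  have h3 : (fixZ F α).ncard + ((fixZ F α)ᶜ).ncard = Nat.card X := Set.ncard_add_ncard_compl _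
  rw [← Nat.card_coe_set_eq, ← h1, hn] at h3
  obtain ⟨m, hm⟩ := h2
  obtain ⟨k, hk⟩ := hdvd
  rw [hk, hm] at h3
  apply hpn
  refine ⟨k + m, ?_⟩
  refine Nat.eq_of_mul_eq_mul_left (Nat.card_pos (α := S)) ?_
  rw [← h3]; ring

/-- `foc(F) ∩ Z(F) = S' ∩ Z(F)`. -/
theorem focal_inf_center [Finite S] [Fact p.Prime] (hS : IsPGroup p S) (hF : F.IsSaturated p) :
    F.focalSubgroup ⊓ F.center = ⁅S, S⁆ ⊓ F.center := by
  refine le_antisymm ?_ (inf_le_inf_right _ commutator_le_focal)
  rintro z ⟨hzf, hzZ⟩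
  refine ⟨?_, hzZ⟩
  obtain ⟨c, hc⟩ := exists_isChar hS hF
  have hX : Finite (carr c) := (finite_carr c).to_subtype
  have hα := charAct_fixZ hS (charAct_carr hc)
  set α := restr (uact (S × S)) (carr c) (carr_inv c) with hαd
  set β := restr α (fixZ F α) (fixZ_inv F α) with hβ
  obtain ⟨h, hh⟩ := Tr.exists_gauge (r := ract β) hα.toRealAct.free (Abelianization.of (G := S))
  have hzS : z ∈ S := Join.center_le F hzZ
  have h1 : V hh ⟨z, hzS⟩ = 1 := by
    obtain ⟨w, hw, hwz⟩ := V_focal hα.toRealAct hh hzf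
    have h2 : w = ⟨z, hzS⟩ := Subtype.ext hwz
    rw [← h2]
    exact hw
  have h2 := V_central hh (z := ⟨z, hzS⟩) (fun x => Subtype.ext (x.2 ⟨z, hzS⟩ hzZ))
  rw [h1] at h2
  set m := Nat.card (Tr.Orb (ract β)) with hm
  have h3 : (Abelianization.of (⟨z, hzS⟩ : S)) ^ m = 1 := by
    rw [inv_pow] at h2
    exact inv_eq_one.mp h2.symm
  obtain ⟨k, hk⟩ := hS ⟨z, hzS⟩
  have h4 : (Abelianization.of (⟨z, hzS⟩ : S)) ^ (p ^ k) = 1 := by rw [← map_pow, hk, map_one]
  have h5 : Abelianization.of (⟨z, hzS⟩ : S) = 1 := by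
    rw [← orderOf_dvd_iff_pow_eq_one] at h3 h4
    rw [← orderOf_eq_one_iff]
    exact Nat.eq_one_of_dvd_coprimes
      (Nat.Coprime.pow_left k ((Fact.out : p.Prime).coprime_iff_not_dvd.mpr hα.not_dvd)).symm h3 h4
  have h6 : (⟨z, hzS⟩ : S) ∈ commutator S := by
    rwa [← Abelianization.ker_of, MonoidHom.mem_ker]
  have h7 : (commutator S).map S.subtype = ⁅S, S⁆ := by
    rw [commutator_def, Subgroup.map_commutator, ← MonoidHom.range_eq_map, Subgroup.range_subtype]
  rw [← h7]
  exact ⟨_, h6, rfl⟩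

end Cfsg.Agent.Fus.Bi
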