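import Cfsg.Agent.Fus.And5
import Cfsg.Agent.Fus.CompExist
import Cfsg.Agent.Fus.MLift3
import Cfsg.Agent.Fus.Trans2
set_option autoImplicit false
set_option linter.unusedSectionVars false
set_option linter.unusedVariables false

/-!
# Normal subsystems of quasisimple systems (helper85)
-/

namespace Cfsg.Agent.Fus

open Cfsg Cfsg.FusionSystem Cfsg.Agent.H85
open scoped commutatorElement

variable {Ω Ω' : Type*} [Group Ω] [Group Ω'] {S T : Subgroup Ω} {S' T' : Subgroup Ω'} {F : FusionSystem S}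
  {N : FusionSystem T} {E : FusionSystem S'} {Z : Subgroup Ω} {θ : S →* Ω'} {p : ℕ}

/-- the restriction of `θ` to a subgroup -/
def resH (θ : S →* Ω') (hT : T ≤ S) : T →* Ω' := θ.comp (Subgroup.inclusion hT)

theorem ext_resH (θ : S →* Ω') (hT : T ≤ S) {x : Ω} (hx : x ∈ T) : ext (resH θ hT) x = ext θ x := by
  rw [ext_apply _ hx, ext_apply _ (hT hx)]; rfl

theorem mem_pre_resH (θ : S →* Ω') (hT : T ≤ S) {P' : Subgroup Ω'} {x : Ω} :
    x ∈ preimageAlong (resH θ hT) P' ↔ x ∈ T ∧ ext θ x ∈ P' := by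
  rw [mem_preimageAlong]
  constructor
  · rintro ⟨h1, h2⟩; rw [ext_resH θ hT h1] at h2; exact ⟨h1, h2⟩
  · rintro ⟨h1, h2⟩; exact ⟨h1, by rw [ext_resH θ hT h1]; exact h2⟩

/-- data for pushing a normal subsystem to a central quotient -/
structure Push (F : FusionSystem S) (p : ℕ) (Z : Subgroup Ω) (θ : S →* Ω') (E : FusionSystem S')
    (N : FusionSystem T) (hT : T ≤ S) (M : FusionSystem T') : Prop where
  hS : IsPGroup p S
  hF : F.IsSaturated p
  hZ : F.IsCentral Z
  fac : IsFac F Z θ E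
  hN : N.IsInvariantIn F
  hNs : N.IsSaturated p
  facN : IsFac N (T ⊓ Z) (resH θ hT) M

namespace Push

variable {hT : T ≤ S} {M : FusionSystem T'} (h : Push F p Z θ E N hT M) [Finite S] [Fact p.Prime]
include h

theorem fixZ {P : Subgroup Ω} {f : Ω → Ω} (hf : IsMap F P f) {x : Ω} (hx : x ∈ P) (hxZ : x ∈ Z) : f x = x :=
  IsFac.central_fixes h.hZ hf hx hxZ

theorem isSub : M.IsSubsystemOf E := by
  refine isSubsystemOf_iff.2 fun P' f' hf' => ?_
  obtain ⟨f, hf, hi⟩ := h.facN.lift hf'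
  have hfF := inv_isMap h.hN hf
  obtain ⟨g, hg, hgf, hgZ⟩ := (isCentral_iff_isMap.1 h.hZ).2 _ _ hfF
  have hP'T' := hf'.le
  have hPT : preimageAlong (resH θ hT) P' ≤ T := preimageAlong_le _ _
  have himg : imageAlong θ (preimageAlong (resH θ hT) P' ⊔ Z) = P' := by
    ext y
    rw [mem_imageAlong]
    constructor
    · rintro ⟨x, hx, hxS, rfl⟩
      obtain ⟨a, ha, z, hz, rfl⟩ := (mem_sup_iff_of_normalizes (A := Z) (N := preimageAlong (resH θ hT) P') (by
        intro z hz
        have hfin := finite_of_le (hPT.trans hT)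
        refine mem_normalizer_of_conj fun x hx => ?_
        have h1 := (F.center_le_centralizer (Join.le_center h.hZ hz) x (hT (hPT hx)))
        rw [← h1, mul_inv_cancel_right]; exact hx)).1 hx
      have ha' := (mem_pre_resH θ hT).1 ha
      rw [ext_mul θ (hT ha'.1) (h.hZ.1 hz), (h.fac.ker z (h.hZ.1 hz)).2 hz, mul_one]
      exact ha'.2
    · intro hy
      obtain ⟨x, hx, rfl⟩ := h.facN.exists_ext (hP'T' hy)
      rw [ext_resH θ hT hx] at hy ⊢
      exact ⟨x, le_sup_left (a := preimageAlong (resH θ hT) P') ((mem_pre_resH θ hT).2 ⟨hx, hy⟩), hT hx, rfl⟩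
  have h1 : IsMap E (imageAlong θ (preimageAlong (resH θ hT) P' ⊔ Z)) f' := by
    refine h.fac.isMap_of_ind hg le_sup_right fun x hx => ?_
    obtain ⟨a, ha, z, hz, rfl⟩ := (mem_sup_iff_of_normalizes (A := Z) (N := preimageAlong (resH θ hT) P') (by
        intro z hz
        have hfin := finite_of_le (hPT.trans hT)
        refine mem_normalizer_of_conj fun x hx => ?_
        have h1 := (F.center_le_centralizer (Join.le_center h.hZ hz) x (hT (hPT hx)))
        rw [← h1, mul_inv_cancel_right]; exact hx)).1 hx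
    have haS := hT (hPT ha)
    have hzS := h.hZ.1 hz
    have hfa := hfF.mem ha
    rw [hg.map_mul (le_sup_left (a := preimageAlong (resH θ hT) P') ha)
      (le_sup_right (a := preimageAlong (resH θ hT) P') hz), hgf a ha, hgZ z hz, ext_mul θ haS hzS,
      ext_mul θ hfa hzS, (h.fac.ker z hzS).2 hz, mul_one, mul_one]
    have h2 := hi a ha
    rw [ext_resH θ hT (hPT ha), ext_resH θ hT (hf.mem ha)] at h2
    exact h2
  rwa [himg] at h1

theorem sc : E.StronglyClosed T' := by
  refine stronglyClosed_iff.2 ⟨fun y hy => ?_, fun P' f' hf' hP' y hy => ?_⟩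
  · obtain ⟨x, hx, rfl⟩ := h.facN.exists_ext hy
    rw [ext_resH θ hT hx]; exact h.fac.ext_mem (hT hx)
  · obtain ⟨f, hf, hi⟩ := h.fac.lift hf'
    obtain ⟨x, hx, rfl⟩ := h.facN.exists_ext (hP' hy)
    rw [ext_resH θ hT hx] at hy ⊢
    have hxP : x ∈ preimageAlong θ P' := (mem_preimageAlong θ).2 ⟨hT hx, hy⟩
    rw [hi x hxP]
    have hfx : f x ∈ T := sc_map_mem h.hN.2.1 hf hxP hx
    rw [← ext_resH θ hT hfx]
    exact h.facN.ext_mem hfx

theorem strong : StrongInv M E := by
  intro P' Q' f' g' hPQ hQT hf' hfQ hg'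
  obtain ⟨f, hf, hfi⟩ := h.facN.lift hf'
  obtain ⟨g, hg, hgi⟩ := h.fac.lift hg'
  have hPT : preimageAlong (resH θ hT) P' ≤ T := preimageAlong_le _ _
  have hPQ' : preimageAlong (resH θ hT) P' ≤ preimageAlong θ Q' ⊓ T := fun x hx => by
    have := (mem_pre_resH θ hT).1 hx
    exact ⟨(mem_preimageAlong θ).2 ⟨hT this.1, hPQ this.2⟩, this.1⟩
  have hfQ' : ∀ x ∈ preimageAlong (resH θ hT) P', f x ∈ preimageAlong θ Q' ⊓ T := fun x hx => by
    have hxP := (mem_pre_resH θ hT).1 hx
    have hfx := hf.mem hx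
    refine ⟨(mem_preimageAlong θ).2 ⟨hT hfx, ?_⟩, hfx⟩
    have h1 := hfi x hx
    rw [ext_resH θ hT hxP.1, ext_resH θ hT hfx] at h1
    rw [← h1]; exact hfQ _ hxP.2
  obtain ⟨k, hk, hkx⟩ := strongInv_of_invariant h.hN _ _ f g hPQ' inf_le_right hf hfQ' (hg.mono inf_le_left)
  have hgP := hg.mono (hPQ'.trans inf_le_left)
  have hZk : T ⊓ Z ≤ img (preimageAlong (resH θ hT) P') g := by
    intro z hz
    have hzP : z ∈ preimageAlong (resH θ hT) P' := h.facN.le_pre P' hz
    rw [← h.fixZ hgP hzP hz.2]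
    exact subset_img hzP
  obtain ⟨k', hk', hki⟩ := h.facN.induce hk hZk
  have himg : imageAlong (resH θ hT) (img (preimageAlong (resH θ hT) P') g) = img P' g' := by
    ext y
    rw [mem_imageAlong, (hg'.mono hPQ).mem_img]
    constructor
    · rintro ⟨x, hx, hxT, rfl⟩
      obtain ⟨a, ha, rfl⟩ := hgP.mem_img.1 hx
      have ha' := (mem_pre_resH θ hT).1 ha
      refine ⟨ext θ a, ha'.2, ?_⟩
      rw [ext_resH θ hT hxT, hgi a (hPQ' ha).1]
    · rintro ⟨x, hx, rfl⟩
      obtain ⟨a, ha, rfl⟩ := h.facN.exists_ext ((hPQ.trans hQT) hx)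
      rw [ext_resH θ hT ha] at hx ⊢
      have haP : a ∈ preimageAlong (resH θ hT) P' := (mem_pre_resH θ hT).2 ⟨ha, hx⟩
      have hga : g a ∈ T := sc_map_mem h.hN.2.1 hgP haP ha
      refine ⟨g a, subset_img haP, hga, ?_⟩
      rw [ext_resH θ hT hga, hgi a (hPQ' haP).1]
  rw [himg] at hk'
  refine ⟨k', hk', fun x hx => ?_⟩
  obtain ⟨a, ha, rfl⟩ := h.facN.exists_ext ((hPQ.trans hQT) hx)
  rw [ext_resH θ hT ha] at hx ⊢
  have haP : a ∈ preimageAlong (resH θ hT) P' := (mem_pre_resH θ hT).2 ⟨ha, hx⟩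
  have hga : g a ∈ T := sc_map_mem h.hN.2.1 hgP haP ha
  have h1 := hki (g a) (subset_img haP)
  have hkga : k (g a) = g (f a) := hkx a haP
  have hfa := hf.mem haP
  have hgfa : g (f a) ∈ T := sc_map_mem h.hN.2.1 hg (hfQ' a haP).1 hfa
  rw [ext_resH θ hT hga, hkga, ext_resH θ hT hgfa] at h1
  have h2 := hfi a haP
  rw [ext_resH θ hT ha, ext_resH θ hT hfa] at h2
  rw [hgi a (hPQ' haP).1, h1, h2, hgi _ (hfQ' a haP).1]

theorem invariant : M.IsInvariantIn E := by
  have := h.fac.finite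
  exact isInvariantIn_of_strongInv (h.fac.isPGroup h.hS) (h.fac.isSaturated h.hS h.hF) h.isSub h.sc h.strong

theorem sat : M.IsSaturated p := by
  have := finite_of_le hT
  exact h.facN.isSaturated (isPGroup_of_le h.hS hT) h.hNs

end Push

/-- A normal subsystem of a quasisimple system is over a central subgroup or is the whole system. -/
theorem quasisimple_normal [Finite S] [Fact p.Prime] (hS : IsPGroup p S) (hq : F.Quasisimple p)
    (hN : N.IsNormalIn F p) : T ≤ F.center ∨ (T = S ∧ ∀ P : Subgroup Ω, N.Hom P = F.Hom P) := by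
  have hF := hq.1
  have hNi := (isNormalIn_iff_ext.1 hN).1.2.2
  have hNs := (isNormalIn_iff_ext.1 hN).1.1
  have hT := hNi.2.1.1
  have hfT := finite_of_le hT
  have hZ := Join.isCentral_center F
  have hZn := Join.isNormal_of_isCentral hZ
  have hZs := sc_of_isNormal hZn
  have hZS := hZ.1
  set θ := QuotientGroup.mk' ((F.center).subgroupOf S) with hθ
  have hker : ∀ x ∈ S, ext θ x = 1 ↔ x ∈ F.center := by
    intro x hx
    rw [ext_apply θ hx, hθ, QuotientGroup.mk'_apply, QuotientGroup.eq_one_iff, Subgroup.mem_subgroupOf]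
  obtain ⟨E, hE⟩ := exists_isFactorSystem F hZs θ hker
    (S' := (⊤ : Subgroup (S ⧸ (F.center).subgroupOf S)))
    (MonoidHom.range_eq_top.2 (QuotientGroup.mk'_surjective _))
  have hfac := isFac_of_isFactorSystem hZs hE
  have hsim := hq.2.2 E hE
  have hfin' := hfac.finite
  have hSp' := hfac.isPGroup hS
  have hkerN : ∀ x ∈ T, ext (resH θ hT) x = 1 ↔ x ∈ T ⊓ F.center := by
    intro x hx
    rw [ext_resH θ hT hx, hker x (hT hx)]
    exact ⟨fun h => ⟨hx, h⟩, fun h => h.2⟩
  have hscN : N.StronglyClosed (T ⊓ F.center) := by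
    refine stronglyClosed_iff.2 ⟨inf_le_left, fun P f hf hP x hx => ⟨hf.mem hx, ?_⟩⟩
    rw [IsFac.central_fixes hZ (inv_isMap hNi hf) hx (hP hx).2]
    exact (hP hx).2
  obtain ⟨M, hM⟩ := exists_isFactorSystem N hscN (resH θ hT) hkerN rfl
  have hfacN := isFac_of_isFactorSystem hscN hM
  have h : Push F p F.center θ E N hT M := ⟨hS, hF, hZ, hfac, hNi, hNs, hfacN⟩
  have hfinT' := hfacN.finite
  have hn := isNormalIn_pPrimeRes hSp' hsim.1 h.sat h.invariant
  rcases hsim.2.2 _ _ hn with hbot | ⟨htop, hmaps⟩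
  · left
    intro x hx
    have h1 := hfacN.ext_mem hx
    rw [hbot, Subgroup.mem_bot] at h1
    exact ((hkerN x hx).1 h1).2
  · right
    -- `T Z = S`
    have hTZ : ∀ s ∈ S, ∃ t ∈ T, s * t⁻¹ ∈ F.center := by
      intro s hs
      have h1 : ext θ s ∈ (resH θ hT).range := by rw [htop]; exact Subgroup.mem_top _
      obtain ⟨t, ht, hts⟩ := hfacN.exists_ext h1
      rw [ext_resH θ hT ht] at hts
      exact ⟨t, ht, (hfac.eq_iff hs (hT ht)).1 hts.symm⟩
    have hcomm : ⁅S, S⁆ ≤ T := by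
      rw [Subgroup.commutator_le]
      intro a ha b hb
      obtain ⟨t, ht, hta⟩ := hTZ a ha
      obtain ⟨u, hu, hub⟩ := hTZ b hb
      have hc1 : ∀ x ∈ S, x * (a * t⁻¹) = (a * t⁻¹) * x := fun x hx => F.center_le_centralizer hta x hx
      have hc2 : ∀ x ∈ S, x * (b * u⁻¹) = (b * u⁻¹) * x := fun x hx => F.center_le_centralizer hub x hx
      have e : ⁅a, b⁆ = ⁅t, u⁆ := by
        have ea : a = (a * t⁻¹) * t := by group
        have eb : b = (b * u⁻¹) * u := by group
        generalize hz : a * t⁻¹ = z at *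
        generalize hw : b * u⁻¹ = w at *
        have hzS := hZS hta
        have hwS := hZS hub
        have hzi : z⁻¹ * w⁻¹ = w⁻¹ * z⁻¹ := by
          rw [← mul_inv_rev, ← mul_inv_rev, hc1 w hwS]
        rw [ea, eb, commutatorElement_def, commutatorElement_def]
        calc z * t * (w * u) * (z * t)⁻¹ * (w * u)⁻¹
            = z * (t * w) * u * t⁻¹ * z⁻¹ * u⁻¹ * w⁻¹ := by group
          _ = z * (w * t) * u * t⁻¹ * z⁻¹ * u⁻¹ * w⁻¹ := by rw [hc2 t (hT ht)]
          _ = z * w * (t * u * t⁻¹) * z⁻¹ * u⁻¹ * w⁻¹ := by group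
          _ = z * w * ((t * u * t⁻¹) * z⁻¹) * u⁻¹ * w⁻¹ := by group
          _ = z * w * (z⁻¹ * (t * u * t⁻¹)) * u⁻¹ * w⁻¹ := by
            have h5 := hc1 (t * u * t⁻¹) (S.mul_mem (S.mul_mem (hT ht) (hT hu)) (S.inv_mem (hT ht)))
            have h6 : t * u * t⁻¹ * z⁻¹ = z⁻¹ * (t * u * t⁻¹) :=
              (Commute.inv_right (show Commute (t * u * t⁻¹) z from h5)).eq
            rw [h6]
          _ = z * w * z⁻¹ * (t * u * t⁻¹ * u⁻¹) * w⁻¹ := by group
          _ = z * w * z⁻¹ * ((t * u * t⁻¹ * u⁻¹) * w⁻¹) := by group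
          _ = z * w * z⁻¹ * (w⁻¹ * (t * u * t⁻¹ * u⁻¹)) := by
            have h5 := hc2 (t * u * t⁻¹ * u⁻¹) (S.mul_mem (S.mul_mem (S.mul_mem (hT ht) (hT hu)) (S.inv_mem (hT ht)))
              (S.inv_mem (hT hu)))
            have h6 : t * u * t⁻¹ * u⁻¹ * w⁻¹ = w⁻¹ * (t * u * t⁻¹ * u⁻¹) :=
              (Commute.inv_right (show Commute (t * u * t⁻¹ * u⁻¹) w from h5)).eq
            rw [h6]
          _ = z * (w * z⁻¹) * w⁻¹ * (t * u * t⁻¹ * u⁻¹) := by group
          _ = z * (z⁻¹ * w) * w⁻¹ * (t * u * t⁻¹ * u⁻¹) := by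
            have h6 : w * z⁻¹ = z⁻¹ * w := by
              rw [mul_inv_eq_iff_eq_mul, mul_assoc, hc1 w hwS]; group
            rw [h6]
          _ = t * u * t⁻¹ * u⁻¹ := by group
      rw [e, commutatorElement_def]
      exact T.mul_mem (T.mul_mem (T.mul_mem ht hu) (T.inv_mem ht)) (T.inv_mem hu)
    have hfoc : F.focalSubgroup = S := le_antisymm (focal_le fun P f hf x hx => S.mul_mem (S.inv_mem (hf.le hx)) (hf.mem hx)) (by
      have h1 := hyper_le_focal (F := F) (p := p); rw [hq.2.1] at h1; exact h1)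
    have hZT : F.center ≤ T := by
      intro z hz
      have h1 : z ∈ F.focalSubgroup ⊓ F.center := ⟨by rw [hfoc]; exact hZS hz, hz⟩
      rw [Bi.focal_inf_center hS hF] at h1
      exact hcomm h1.1
    have hTS : T = S := by
      refine le_antisymm hT fun s hs => ?_
      obtain ⟨t, ht, hst⟩ := hTZ s hs
      have := T.mul_mem (hZT hst) ht
      rwa [inv_mul_cancel_right] at this
    subst hTS
    refine ⟨rfl, fun P => ?_⟩
    have hle : F ≤ N := by
      refine alperin_coprime hS hF fun P hPn hPc hPr α hα hco => ?_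
      have hPS := hPn.1
      have hZP : F.center ≤ P := by
        intro z hz
        refine centric_centralizer_le hPc (mem_centralizerIn.2 ⟨hZS hz, fun y hy => ?_⟩)
        exact F.center_le_centralizer hz y (hPS hy)
      have hαm := isMap_ofAut hPS hα
      obtain ⟨f', hf', hi⟩ := hfac.induce hαm hZP
      have hf'M : IsMap M (imageAlong θ P) f' := by
        have h1 := (hom_eq_iff.1 (hmaps (imageAlong θ P)) f').2 hf'
        exact le_iff.1 pPrimeRes_le _ _ h1
      obtain ⟨g, hg, hgi⟩ := hfacN.lift hf'M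
      have hpre : preimageAlong (resH θ hT) (imageAlong θ P) = P := by
        ext x
        rw [mem_pre_resH]
        constructor
        · rintro ⟨h1, h2⟩; exact (hfac.mem_im_iff hPS hZP h1).1 h2
        · intro hx; exact ⟨hPS hx, (hfac.mem_im_iff hPS hZP (hPS hx)).2 hx⟩
      rw [hpre] at hg hgi
      have hgS := inv_isMap hNi hg
      have heq : ∀ x ∈ P, ext θ (g x) = ext θ (ofAut α x) := by
        intro x hx
        have h1 := hgi x hx
        rw [ext_resH θ hT (hPS hx), ext_resH θ hT (hg.mem hx), hi x hx] at h1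
        exact h1.symm
      have hgP : ∀ x ∈ P, g x ∈ P := fun x hx => by
        refine (hfac.mem_im_iff hPS hZP (hg.mem hx)).1 ?_
        rw [heq x hx]
        exact (hfac.mem_im_iff hPS hZP (hαm.mem hx)).2 (ofAut_mem α hx)
      have hfP := finite_of_le hPS
      obtain ⟨e, he, hex⟩ := hg.exists_aut (hg.img_eq hgP)
      obtain ⟨k, hk⟩ := pow_eq_one_of_stab hS hPS hZP (κ := α⁻¹ * e) (fun z hz => by
          rw [ofAut_mul _ _ (hZP hz), hex z (hZP hz), h.fixZ hgS (hZP hz) hz]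
          have h2 := h.fixZ hαm (hZP hz) hz
          conv_lhs => rw [← h2]
          exact ofAut_inv_apply α (hZP hz)) (fun x hx => by
          rw [ofAut_mul _ _ hx, hex x hx]
          -- `g x = α x z`
          have h2 : g x * (ofAut α x)⁻¹ ∈ F.center := (hfac.eq_iff (hg.mem hx) (hαm.mem hx)).1 (heq x hx)
          have h3 : g x = (g x * (ofAut α x)⁻¹) * ofAut α x := by group
          have h4 := F.center_le_centralizer h2 (ofAut α x) (hαm.mem hx)
          rw [h3, ← h4, ofAut_map_mul α⁻¹ (ofAut_mem α hx) (hZP h2), ofAut_inv_apply α hx, inv_mul_cancel_left]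
          have h5 := isMap_ofAut hPS (Subgroup.inv_mem _ hα)
          rw [h.fixZ h5 (hZP h2) h2]
          exact h2)
      exact isMap_ofAut hPS (mem_of_mod hNi hPS hα hco he hk)
    exact hom_eq_iff.2 fun f => ⟨fun hf => inv_isMap hNi hf, fun hf => le_iff.1 hle P f hf⟩

end Cfsg.Agent.Fus
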