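import Cfsg.Agent.Fus.Lay9
import Cfsg.Agent.Fus.IsoNormal
set_option autoImplicit false

/-!
# Transport of components and layers (helper85)
-/

namespace Cfsg.Agent.Fus

open Cfsg Cfsg.FusionSystem Cfsg.Agent.H85

section

variable {Ω : Type*} [Group Ω] {S T U W : Subgroup Ω} {F : FusionSystem S} {E : FusionSystem T}
  {N : FusionSystem W} {D : FusionSystem U} {p : ℕ}

theorem constrained_of_le_center [Finite S] [Fact p.Prime] (hN : N.IsNormalIn F p) (h : W ≤ F.center) :
    N.IsConstrained p := by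
  have hfW := finite_of_le (isNormalIn.sc hN).1
  have hc : N.IsCentral W := by
    refine isCentral_iff_isMap.2 ⟨le_rfl, fun P f hf => ⟨fun x => x, isMap_id' (sup_le hf.le le_rfl), fun x hx => ?_,
      fun _ _ => rfl⟩⟩
    exact (IsFac.central_fixes (Join.isCentral_center F) (isSubsystemOf_iff.1 hN.1.2.2.1 _ _ hf) hx
      (h (hf.le hx))).symm
  have hn := Join.isNormal_of_isCentral hc
  exact ⟨hN.1.1, W, hn, isCentric_of_isNormal hn (centralizerIn_le _)⟩

theorem allProper_of_quasisimple [Finite S] [Fact p.Prime] (hS : IsPGroup p S) (hq : F.Quasisimple p) :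
    AllProper F p := by
  intro T D hD
  rcases quasisimple_normal hS hq hD with h | h
  · exact Or.inr (constrained_of_le_center hD h)
  · exact Or.inl h

theorem quasisimple_iff [Finite S] [Fact p.Prime] (hS : IsPGroup p S) :
    F.Quasisimple p ↔ F.IsSaturated p ∧ ¬ F.IsConstrained p ∧ AllProper F p :=
  ⟨fun h => ⟨h.1, quasisimple_not_constrained hS h, allProper_of_quasisimple hS h⟩,
    fun h => quasisimple_of_proper hS h.1 h.2.1 h.2.2⟩

/-- layers are unique -/
theorem layer_unique {E' : FusionSystem W} (h : E.IsLayerOf F p) (h' : E'.IsLayerOf F p) :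
    T = W ∧ ∀ P, E.Hom P = E'.Hom P := by
  have h1 := h.2.2 _ E' h'.1 h'.2.1
  have h2 := h'.2.2 _ E h.1 h.2.1
  exact ⟨le_antisymm (sub_le h1) (sub_le h2), fun P => Set.Subset.antisymm (h1 P) (h2 P)⟩

/-- the isomorphism given by an automorphism -/
noncomputable def SIso.ofAut (α : MulAut T) : SIso T T where
  θ := Fus.ofAut α
  η := Fus.ofAut α⁻¹
  θ_mem hx := ofAut_mem α hx
  η_mem hx := ofAut_mem α⁻¹ hx
  ηθ hx := ofAut_inv_apply α hx
  θη hx := ofAut_apply_inv α hx
  θ_mul hx hy := ofAut_map_mul α hx hy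

theorem SIso.ofAut_im (α : MulAut T) {P : Subgroup Ω} (hP : P ≤ T) : (SIso.ofAut α).im P = img P (Fus.ofAut α) := by
  ext y
  rw [SIso.mem_im_iff_exists _ hP, mem_img_ofAut α hP]
  rfl

/-- invariant systems are transported to themselves -/
theorem tr_ofAut (hE : E.IsInvariantIn F) {α : MulAut T} (hα : α ∈ F.autGroup T) : Tr (SIso.ofAut α) E E where
  le := le_rfl
  im_eq := SIso.im_self _
  isMap_iff P f hP hfP := by
    rw [SIso.ofAut_im α hP]
    constructor
    · exact fun hf => inv_conj hE hf hα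
    · intro hf
      have h1 := inv_conj hE hf (Subgroup.inv_mem _ hα)
      rw [inv_inv, img_ofAut_inv' α hP] at h1
      refine h1.congr fun x hx => ?_
      show Fus.ofAut α⁻¹ (Fus.ofAut α (f (Fus.ofAut α⁻¹ (Fus.ofAut α x)))) = f x
      rw [ofAut_inv_apply α (hP hx), ofAut_inv_apply α (hfP x hx)]

/-- transitivity of invariance, for characteristic subsystems -/
theorem invariant_of_char [Finite S] (hE : E.IsInvariantIn F) (hD : D.IsInvariantIn E)
    (h : ∀ α ∈ F.autGroup T, (∀ x ∈ U, ofAut α x ∈ U) ∧ ∀ (P : Subgroup Ω) (f : Ω → Ω), IsMap D P f →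
      IsMap D (img P (ofAut α)) (fun y => ofAut α (f (ofAut α⁻¹ y)))) : D.IsInvariantIn F := by
  have hTS := hE.2.1.1
  have hUT := hD.2.1.1
  have hUS := hUT.trans hTS
  have hfU := finite_of_le hUS
  have hsc : F.StronglyClosed U := by
    refine stronglyClosed_iff.2 ⟨hUS, fun P f hf hP x hx => ?_⟩
    obtain ⟨α, hα, f₀, hf₀, he⟩ := inv_frattini hE (hP.trans hUT) hf
    rw [he x hx]
    exact (h α hα).1 _ (sc_map_mem hD.2.1 hf₀ hx (hP hx))
  -- decomposition of `Aut_F(U)`
  have hdec : ∀ β ∈ F.autGroup U, ∃ α ∈ F.autGroup T, ∃ β₀ ∈ E.autGroup U, ∀ x ∈ U, ofAut β x = ofAut α (ofAut β₀ x) := by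
    intro β hβ
    obtain ⟨α, hα, f₀, hf₀, he⟩ := inv_frattini hE hUT (isMap_ofAut hUS hβ)
    obtain ⟨β₀, hβ₀, hx⟩ := hf₀.exists_aut (hf₀.img_eq fun x hx => sc_map_mem hD.2.1 hf₀ hx hx)
    exact ⟨α, hα, β₀, hβ₀, fun x hxU => by rw [he x hxU, hx x hxU]⟩
  have hTI : TInv F D := by
    intro β hβ P f hf
    obtain ⟨α, hα, β₀, hβ₀, he⟩ := hdec β hβ
    have hPU := hf.le
    have h1 := inv_conj hD hf hβ₀
    have h2 := (h α hα).2 _ _ h1
    have h3 : img (img P (ofAut β₀)) (ofAut α) = img P (ofAut β) := by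
      have hb := isMap_ofAut hUT hβ₀
      rw [← (hb.mono hPU).img_comp]
      exact img_congr fun x hx => (he x (hPU hx)).symm
    rw [h3] at h2
    refine h2.congr fun y hy => ?_
    obtain ⟨x, hx, rfl⟩ := (mem_img_ofAut β hPU).1 hy
    have hxU := hPU hx
    rw [cjf_apply β hPU f hx]
    show ofAut α (ofAut β₀ (f (ofAut β₀⁻¹ (ofAut α⁻¹ (ofAut β x))))) = _
    rw [he x hxU, ofAut_inv_apply α (hUT (ofAut_mem _ hxU)), ofAut_inv_apply β₀ hxU, ← he _ (hf.mem hx)]
  refine isInvariantIn_of_tInv (isSubsystemOf_trans hD.1 hE.1) hsc hTI fun P f hP hf => ?_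
  obtain ⟨α, hα, f₀, hf₀, he⟩ := inv_frattini hE (hP.trans hUT) hf
  obtain ⟨β, hβ, f₁, hf₁, he₁⟩ := inv_frattini hD hP hf₀
  have hαm := isMap_ofAut hTS hα
  obtain ⟨α', hα', hα'x⟩ := (hαm.mono hUT).exists_aut ((hαm.mono hUT).img_eq fun x hx => (h α hα).1 x hx)
  have hβF : β ∈ F.autGroup U := (mem_autGroup_iff hUS).2 (inv_isMap hE (isMap_ofAut hUT hβ))
  refine ⟨α' * β, Subgroup.mul_mem _ hα' hβF, f₁, hf₁, fun x hx => ?_⟩
  have h1 := hf₁.mem hx
  rw [he x hx, he₁ x hx, ofAut_mul _ _ h1, hα'x _ (ofAut_mem β h1)]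

end

namespace Tr

variable {Ω Ω' : Type*} [Group Ω] [Group Ω'] {S : Subgroup Ω} {S' : Subgroup Ω'} {p : ℕ}
  {T U : Subgroup Ω} {T' U' : Subgroup Ω'} {E : FusionSystem T} {E' : FusionSystem T'}
  {D : FusionSystem U} {D' : FusionSystem U'} {i : SIso S S'}

/-- two transports of the same system are equal -/
theorem unique {T'' : Subgroup Ω'} {E'' : FusionSystem T''} (h : Tr i E E') (h' : Tr i E E'') :
    T' = T'' ∧ ∀ P, E'.Hom P = E''.Hom P := by
  have e := h.im_eq.symm.trans h'.im_eq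
  subst e
  exact ⟨rfl, hom_eq h h' fun _ => rfl⟩

theorem allProper [Finite U] [Fact p.Prime] (hU : IsPGroup p U) (hD : Tr i D D') (h : AllProper D p) :
    AllProper D' p := by
  have := hD.finite
  have hU' := hD.isPGroup hU
  intro V A hA
  have hVU : V ≤ U' := hA.1.2.2.2.1.1
  have hfV := finite_of_le hVU
  obtain ⟨A', hA'⟩ := exists_tr i.symm A (hVU.trans hD.le')
  have h1 := hA'.isNormalIn hU' hD.symm hA
  rcases h _ _ h1 with ⟨h2, h3⟩ | h2
  · left
    have hV : V = U' := by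
      have h4 := i.im_symm_im (hVU.trans hD.le')
      rw [h2, hD.im_eq] at h4
      exact h4.symm
    subst hV
    refine ⟨rfl, ?_⟩
    have key : ∀ {W : Subgroup Ω} {B : FusionSystem W}, Tr i.symm A B → W = U → (∀ P, B.Hom P = D.Hom P) →
        ∀ P, A.Hom P = D'.Hom P := by
      intro W B hB hW hBD
      subst hW
      exact hom_eq hB.symm hD hBD
    exact key hA' h2 h3
  · right
    have hfA := hA'.finite
    exact hA'.symm.isConstrained h2

theorem quasisimple [Finite U] [Fact p.Prime] (hU : IsPGroup p U) (hD : Tr i D D') (h : D.Quasisimple p) :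
    D'.Quasisimple p := by
  have := hD.finite
  have hU' := hD.isPGroup hU
  rw [quasisimple_iff hU'] 
  rw [quasisimple_iff hU] at h
  refine ⟨hD.isSaturated h.1, fun hc => h.2.1 (hD.symm.isConstrained hc), hD.allProper hU h.2.2⟩

theorem isSubnormalIn (hp : Fact p.Prime) (h : E.IsSubnormalIn D p) : ∀ {T' U' : Subgroup Ω'}
    {E' : FusionSystem T'} {D' : FusionSystem U'}, Finite U → IsPGroup p U → Tr i E E' → Tr i D D' →
    E'.IsSubnormalIn D' p := by
  induction h with
  | refl F p =>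
    intro T' U' E' D' _ _ h1 h2
    obtain ⟨rfl, h3⟩ := h1.unique h2
    have := fusionSystem_ext h3
    subst this
    exact IsSubnormalIn.refl _ _
  | step h1 h2 ih =>
    intro T' U' E' D' hfin hpU hE hD
    have hle := h2.1.2.2.2.1.1
    obtain ⟨M', hM'⟩ := exists_tr i _ (hle.trans hD.le)
    exact IsSubnormalIn.step (ih hp (finite_of_le hle) (isPGroup_of_le hpU hle) hE hM')
      (hM'.isNormalIn hpU hD h2)

theorem isComponentIn [hfin : Finite U] [hp : Fact p.Prime] (hU : IsPGroup p U) (hE : Tr i E E') (hD : Tr i D D')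
    (h : E.IsComponentIn D p) : E'.IsComponentIn D' p := by
  have hTU := subnormal_le h.1
  have hfT := finite_of_le hTU
  exact ⟨isSubnormalIn hp h.1 hfin hU hE hD, hE.quasisimple (isPGroup_of_le hU hTU) h.2⟩

theorem isLayerOf [Finite U] [hp : Fact p.Prime] (hU : IsPGroup p U) (hE : Tr i E E') (hD : Tr i D D')
    (h : E.IsLayerOf D p) : E'.IsLayerOf D' p := by
  have := hD.finite
  have hU' := hD.isPGroup hU
  refine ⟨hE.isNormalIn hU hD h.1, fun V C' hC' => ?_, fun R M' hM' hall => ?_⟩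
  · have hVU := subnormal_le hC'.1
    obtain ⟨C, hC⟩ := exists_tr i.symm C' (hVU.trans hD.le')
    exact hC.symm.isSubsystemOf hE (h.2.1 _ C (hC.isComponentIn hU' hD.symm hC'))
  · have hRU := hM'.1.2.2.2.1.1
    obtain ⟨M, hM⟩ := exists_tr i.symm M' (hRU.trans hD.le')
    refine hE.isSubsystemOf hM.symm (h.2.2 _ M (hM.isNormalIn hU' hD.symm hM') fun V C hC => ?_)
    obtain ⟨C', hC'⟩ := exists_tr i C ((subnormal_le hC.1).trans hD.le)
    exact hC'.symm.isSubsystemOf hM (hall _ C' (hC'.isComponentIn hU hD hC))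

end Tr

section

variable {Ω : Type*} [Group Ω] {S T U W : Subgroup Ω} {F : FusionSystem S} {E : FusionSystem T}
  {L : FusionSystem W} {p : ℕ}

/-- the layer of an invariant subsystem is invariant -/
theorem layer_invariant [Finite S] [Fact p.Prime] (hS : IsPGroup p S) (hE : E.IsInvariantIn F)
    (hL : L.IsLayerOf E p) : L.IsInvariantIn F := by
  have hTS := hE.2.1.1
  have hfT := finite_of_le hTS
  refine invariant_of_char hE hL.1.1.2.2 fun α hα => ?_
  have hWT := (isNormalIn.sc hL.1).1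
  have htr := tr_ofAut hE hα
  obtain ⟨L', hL'⟩ := exists_tr (SIso.ofAut α) L hWT
  obtain ⟨h1, h2⟩ := layer_unique hL (hL'.isLayerOf (isPGroup_of_le hS hTS) htr hL)
  rw [SIso.ofAut_im α hWT] at h1
  constructor
  · intro x hx
    have : ofAut α x ∈ img W (ofAut α) := subset_img hx
    rwa [← h1] at this
  · intro P f hf
    have h3 := hL'.isMap hf
    rw [← SIso.ofAut_im α (hf.le.trans hWT)]
    exact (hom_eq_iff.1 (h2 _) _).2 h3

/-- **The layer of a normal subsystem is normal.** -/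
theorem layer_normal [Finite S] [Fact p.Prime] (hS : IsPGroup p S) (hE : E.IsNormalIn F p)
    (hL : L.IsLayerOf E p) : L.IsNormalIn F p :=
  char_normal hS hL.1 hE (layer_invariant hS hE.1.2.2 hL)

end

end Cfsg.Agent.Fus
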