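import Cfsg.Agent.Fus.Lay10
set_option autoImplicit false

/-!
# Components are normal in their hulls, in the layer and in the generalized Fitting subsystem (helper85)
-/

namespace Cfsg.Agent.Fus

open Cfsg Cfsg.FusionSystem Cfsg.Agent.H85

variable {Ω : Type*} [Group Ω] {S T₁ T₂ T U W V : Subgroup Ω} {F : FusionSystem S} {E₁ : FusionSystem T₁}
  {E₂ : FusionSystem T₂} {D : FusionSystem T} {X : FusionSystem V} {p : ℕ}

theorem CProd.isMap_left_iff [Finite T₁] (h : CProd E₁ E₂ D) {P : Subgroup Ω} (hP : P ≤ T₁) {f : Ω → Ω} :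
    IsMap D P f ↔ IsMap E₁ P f := by
  refine ⟨fun hf => ?_, h.isMap_left⟩
  obtain ⟨-, f₁, f₂, hf₁, hf₂, hff⟩ := (h.isMap_iff _ _).1 hf
  have hle : P ≤ prL T₁ T₂ P := le_inf hP le_sup_left
  refine (hf₁.mono hle).congr fun x hx => ?_
  have h1 := hff x (hP hx) 1 T₂.one_mem (by rwa [mul_one])
  rw [mul_one, hf₂.map_one, mul_one] at h1
  exact h1.symm

/-- normal subsystems of a factor of a central product are normal -/
theorem CProd.normal_left [Finite T₁] [Finite T₂] [Fact p.Prime] (h : CProd E₁ E₂ D) (hDs : D.IsSaturated p)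
    (hX : X.IsNormalIn E₁ p) : X.IsNormalIn D p := by
  have hVs := isNormalIn.sc hX
  have hV := hVs.1
  have hfT : Finite T := by
    have : Finite ↥(T₁.prod T₂) := Finite.of_equiv _ (Subgroup.prodEquiv T₁ T₂).symm.toEquiv
    have hc := h.comm
    have he := h.eq
    have e : T = (mulHom hc).range := by
      ext z
      rw [he, hc.mem_sup]
      constructor
      · rintro ⟨x, hx, y, hy, rfl⟩
        exact ⟨⟨(x, y), pmem hx hy⟩, rfl⟩
      · rintro ⟨⟨⟨x, y⟩, hxy⟩, rfl⟩
        exact ⟨x, (Subgroup.mem_prod.1 hxy).1, y, (Subgroup.mem_prod.1 hxy).2, rfl⟩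
    rw [e]
    exact Finite.of_surjective _ (mulHom hc).rangeRestrict_surjective
  have hVT : V ≤ T := hV.trans h.le_left
  have haut : ∀ {α : MulAut V}, α ∈ D.autGroup V ↔ α ∈ E₁.autGroup V := by
    intro α
    rw [mem_autGroup_iff hVT, mem_autGroup_iff hV, h.isMap_left_iff hV]
  have hsc : D.StronglyClosed V := stronglyClosed_iff.2 ⟨hVT, fun P f hf hP x hx =>
    sc_map_mem hVs ((h.isMap_left_iff (hP.trans hV)).1 hf) hx (hP hx)⟩
  have hXi := hX.1.2.2
  rw [isNormalIn_iff]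
  refine ⟨⟨hX.1.1, hDs, isInvariantIn_of_tInv (isSubsystemOf_iff.2 fun P f hf => h.isMap_left (inv_isMap hXi hf)) hsc
    (fun α hα P f hf => inv_conj hXi hf (haut.1 hα)) fun P f hP hf => ?_⟩, fun α hα => ?_⟩
  · obtain ⟨α, hα, f₀, hf₀, he⟩ := dec_of_invariant hXi hP ((h.isMap_left_iff (hP.trans hV)).1 hf)
    exact ⟨α, haut.2 hα, f₀, hf₀, he⟩
  · obtain ⟨β, hβ, hβα, hβc⟩ := (isNormalIn_iff.1 hX).2 α hα
    have hle : V ⊔ centralizerIn T₁ V ≤ T₁ := sup_le hV (centralizerIn_le V)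
    obtain ⟨g, hg, hgβ, hg2⟩ := h.isMap_left_fix (isMap_ofAut hle hβ)
    have hdec : ∀ c ∈ centralizerIn T V, ∃ a ∈ centralizerIn T₁ V, ∃ b ∈ T₂, a * b = c := by
      intro c hc
      obtain ⟨hcT, hcV⟩ := mem_centralizerIn.1 hc
      rw [h.eq, h.comm.mem_sup] at hcT
      obtain ⟨a, ha, b, hb, rfl⟩ := hcT
      refine ⟨a, mem_centralizerIn.2 ⟨ha, fun v hv => ?_⟩, b, hb, rfl⟩
      have h1 := hcV v hv
      have h2 := h.comm v (hV hv) b hb
      have h3 : v * a * b = a * v * b := by rw [mul_assoc, h1, mul_assoc, ← h2, mul_assoc]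
      exact mul_right_cancel h3
    have hCT : centralizerIn T V ≤ (V ⊔ centralizerIn T₁ V) ⊔ T₂ := by
      intro c hc
      obtain ⟨a, ha, b, hb, rfl⟩ := hdec c hc
      exact Subgroup.mul_mem _ (Subgroup.mem_sup_left (Subgroup.mem_sup_right ha)) (Subgroup.mem_sup_right hb)
    have hg' : IsMap D (V ⊔ centralizerIn T V) g := hg.mono (sup_le (le_sup_left.trans le_sup_left) hCT)
    have hgc : ∀ c ∈ centralizerIn T V, c⁻¹ * g c ∈ V ⊓ Subgroup.centralizer (V : Set Ω) := by
      intro c hc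
      obtain ⟨a, ha, b, hb, rfl⟩ := hdec c hc
      have h1 := hβc a ha
      have ha' : a ∈ V ⊔ centralizerIn T₁ V := Subgroup.mem_sup_right ha
      have h2 : g (a * b) = ofAut β a * b := by
        rw [hg.map_mul (Subgroup.mem_sup_left ha') (Subgroup.mem_sup_right hb), hgβ a ha', hg2 b hb]
      have h3 := h.comm _ (hV h1.1) b hb
      have h4 : (a * b)⁻¹ * g (a * b) = a⁻¹ * ofAut β a := by
        rw [h2]
        calc (a * b)⁻¹ * (ofAut β a * b) = b⁻¹ * ((a⁻¹ * ofAut β a) * b) := by group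
          _ = b⁻¹ * (b * (a⁻¹ * ofAut β a)) := by rw [h3]
          _ = _ := by group
      rw [h4]; exact h1
    have hgV : ∀ x ∈ V, g x = ofAut α x := fun x hx => by
      rw [hgβ x (Subgroup.mem_sup_left hx), hβα x hx]
    have hfin := finite_of_le hg'.le
    have hgi : img (V ⊔ centralizerIn T V) g = V ⊔ centralizerIn T V := by
      refine hg'.img_eq (hg'.forall_sup_mem (fun x hx => ?_) fun c hc => ?_)
      · rw [hgV x hx]; exact Subgroup.mem_sup_left (ofAut_mem _ hx)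
      · have h5 := Subgroup.mul_mem _ (Subgroup.mem_sup_right (S := V) hc)
          (Subgroup.mem_sup_left (T := centralizerIn T V) (hgc c hc).1)
        rwa [mul_inv_cancel_left] at h5
    refine ⟨hg'.aut hgi, hg'.aut_mem hgi, fun x hx => ?_, fun c hc => ?_⟩
    · rw [hg'.ofAut_aut hgi (Subgroup.mem_sup_left hx), hgV x hx]
    · rw [hg'.ofAut_aut hgi (Subgroup.mem_sup_right hc)]
      exact hgc c hc

variable {E : FusionSystem T} {C : FusionSystem U} {L : FusionSystem W}

/-- `Z(E)` contains `T ∩ C_S(E)` -/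
theorem inf_cenE_le_center [Finite S] [Fact p.Prime] (hS : IsPGroup p S) (hE : E.IsNormalIn F p)
    {Q : Subgroup Ω} (hQ : F.StronglyClosed Q) (hQT : Q ≤ T) (hQc : Q ≤ cenE E F p) : Q ≤ E.center := by
  have hTs := isNormalIn.sc hE
  have hfT := finite_of_le hTs.1
  have hTp := isPGroup_of_le hS hTs.1
  have hab : IsMulCommutative ↥Q :=
    ⟨⟨fun a b => Subtype.ext ((mem_centralizerIn.1 (cenE_le (hQc b.2))).2 a (hQT a.2))⟩⟩
  have hn : E.IsNormal Q := stronglyClosed_abelian_normal hTp hE.1.1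
    (sc_of_subsystem hE.1.2.2.1 hQ hQT) hab
  refine normal_le_center (F := F) hn fun P f hf => ?_
  obtain ⟨g, hg, h1, h2⟩ := cenE_extends hS hE hf
  exact ⟨g, hg.mono (sup_le_sup_left hQc _), h1, fun c hc => h2 c (hQc hc)⟩

/-- **The layer is a central product of the hull of a component with a normal subsystem.** -/
theorem layer_cprod [Finite S] [Fact p.Prime] (hS : IsPGroup p S) (hF : F.IsSaturated p)
    (hL : L.IsLayerOf F p) (hE : Hull C F p E) : ∃ (K : Subgroup Ω) (M : FusionSystem K), M.IsNormalIn F p ∧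
      M.IsNormalIn L p ∧ E.IsNormalIn L p ∧ CProd E M L := by
  have hTs := isNormalIn.sc hE.normal
  have hWs := isNormalIn.sc hL.1
  have hfT := finite_of_le hTs.1
  have hfW := finite_of_le hWs.1
  have hWp := isPGroup_of_le hS hWs.1
  have hUW : U ≤ W := sub_le (hL.2.1 U C hE.comp)
  -- `E` is normal in `L`
  have hEL : E.IsNormalIn L p := by
    obtain ⟨D, ⟨hDF, hDE, hDL⟩, -⟩ := exists_meet hS hE.normal hL.1
    have h1 := hE.least _ D hDF (le_inf hE.le hUW)
    have h2 : T ≤ T ⊓ W := sub_le h1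
    have h3 : T ⊓ W = T := le_antisymm inf_le_left h2
    revert D
    rw [h3]
    intro D hDF hDE hDL h1
    have : D = E := fusionSystem_ext fun P => Set.Subset.antisymm (hDE.1.2.2.1 P) (h1 P)
    rwa [this] at hDL
  obtain ⟨K, hK⟩ : ∃ K, K = cenE E F p := ⟨_, rfl⟩
  obtain ⟨N, hN, hNc⟩ : ∃ N : FusionSystem K, N.IsNormalIn F p ∧ ∀ P : Subgroup Ω, N.Hom P ⊆ F.centralizerHom T P := by
    subst hK; exact exists_cenSub hS hE.normal
  obtain ⟨M, ⟨hMF, hMN, hML⟩, -⟩ := exists_meet hS hN hL.1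
  have hKs : F.StronglyClosed K := hK ▸ cenE_stronglyClosed hS hE.normal
  have hc : Comm T (K ⊓ W) := fun x hx y hy => (mem_centralizerIn.1 (cenE_le (hK ▸ hy.1))).2 x hx
  have hQs : F.StronglyClosed (T ⊓ (K ⊓ W)) := sc_inf hTs (sc_inf hKs hWs)
  have hcen1 : T ⊓ (K ⊓ W) ≤ E.center :=
    inf_cenE_le_center hS hE.normal hQs inf_le_left (hK ▸ inf_le_right.trans inf_le_left)
  have hKWS : K ⊓ W ≤ S := inf_le_right.trans hWs.1
  have hfK := finite_of_le hKWS
  have hcen2 : T ⊓ (K ⊓ W) ≤ M.center := by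
    have hab : IsMulCommutative ↥(T ⊓ (K ⊓ W)) :=
      ⟨⟨fun a b => Subtype.ext (hc a a.2.1 b b.2.2)⟩⟩
    have hn : M.IsNormal (T ⊓ (K ⊓ W)) := stronglyClosed_abelian_normal (isPGroup_of_le hS hKWS) hMF.1.1
      (sc_of_subsystem hMF.1.2.2.1 hQs inf_le_right) hab
    refine normal_le_center (F := F) hn fun P f hf => ?_
    have hfN := isSubsystemOf_iff.1 hMN.1.2.2.1 _ _ hf
    obtain ⟨-, -, g, hg, hgf, κ, hκ, hgκ⟩ := mem_centralizerHom_iff.1 (hNc P hfN.hom_mem)
    refine ⟨g, hg.mono (sup_le_sup_left inf_le_left _), fun x hx => ?_, fun c hc => ?_⟩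
    · rw [hgf x hx, ofHom_apply _ hx]; rfl
    · rw [hgκ c hc.1, Subgroup.mem_bot.1 hκ, ofAut_one hc.1]
  obtain ⟨P, hP⟩ := exists_centralProduct (E₁ := E) (E₂ := M) hc rfl hcen1 hcen2
  have hPc := cprod_of_isCentralProductOf hP
  have hcn : CNorm F E M P p := ⟨hS, hE.normal, hMF, hPc⟩
  have hcnL : CNorm L E M P p := ⟨hWp, hEL, hML, hPc⟩
  have hPL : P.IsSubsystemOf L := isSubsystemOf_iff.2 fun _ _ hf => hcnL.isMapF hf
  have hLP : L.IsSubsystemOf P := by
    refine hL.2.2 _ P hcn.normal fun U' C' hC' => ?_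
    obtain ⟨T', E', hE'⟩ := exists_hull hS hF hC'
    rcases comp_or_commute hS hF hE.normal hE' with h1 | ⟨h1, -⟩
    · exact isSubsystemOf_iff.2 fun _ _ hf => hPc.isMap_left
        (isSubsystemOf_iff.1 (subnormal_isSubsystemOf h1.1) _ _ hf)
    · have h2 : U' ≤ K ⊓ W := le_inf (hE'.le.trans (hK ▸ h1)) (sub_le (hL.2.1 U' C' hC'))
      have h3 := (comp_of_le hS hF hC' hMF h2).2
      exact isSubsystemOf_iff.2 fun _ _ hf => hPc.isMap_right (isSubsystemOf_iff.1 h3 _ _ hf)
  have heq : W = T ⊔ (K ⊓ W) := le_antisymm (sub_le hLP) (sub_le hPL)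
  refine ⟨K ⊓ W, M, hMF, hML, hEL, ⟨hc, heq, hcen1, hcen2, fun Q f => ?_⟩⟩
  rw [show IsMap L Q f ↔ IsMap P Q f from ⟨isSubsystemOf_iff.1 hLP _ _, isSubsystemOf_iff.1 hPL _ _⟩,
    hPc.isMap_iff, ← heq]

/-- **A component is normal in its hull.** -/
theorem Hull.normal_comp [Finite S] [Fact p.Prime] (hS : IsPGroup p S) (hE : Hull C F p E) : C.IsNormalIn E p := by
  refine normal_ind (p := p) (fun {S} F => ∀ {U T : Subgroup Ω} {C : FusionSystem U}
    {E : FusionSystem T}, Hull C F p E → C.IsNormalIn E p) ?_ F hS (hE.sat hS) hE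
  intro S F _ hS hF IH U T C E hE
  have hTs := isNormalIn.sc hE.normal
  have hfT := finite_of_le hTs.1
  have hTp := isPGroup_of_le hS hTs.1
  by_cases hEF : T = S ∧ ∀ P, E.Hom P = F.Hom P
  · obtain ⟨rfl, h2⟩ := hEF
    have : E = F := fusionSystem_ext h2
    subst this
    obtain ⟨rfl, h3⟩ := eq_self_of_subnormal hE.comp.1 hE.least
    have : C = E := fusionSystem_ext h3
    subst this
    exact isNormalIn_self hS hF
  · have hEs := hE.normal.1.1
    have hCE := hE.compE hS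
    obtain ⟨T', E', hE'⟩ := exists_hull hTp hEs hCE
    have h1 := IH E hE.normal hEF hE'
    obtain ⟨W, L, hL⟩ := exists_layer hTp hEs
    have hLF := layer_normal hS hE.normal hL
    have hUW : U ≤ W := sub_le (hL.2.1 U C hCE)
    have h2 := hE.least W L hLF hUW
    have h3 := hL.1.1.2.2.1
    have hTW : W = T := le_antisymm (sub_le h3) (sub_le h2)
    subst hTW
    have hLE : L = E := fusionSystem_ext fun P => Set.Subset.antisymm (h3 P) (h2 P)
    subst hLE
    obtain ⟨K, M, hM, -, -, hcp⟩ := layer_cprod hTp hEs hL hE'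
    have hf1 := finite_of_le (isNormalIn.sc hE'.normal).1
    have hf2 := finite_of_le (isNormalIn.sc hM).1
    exact hcp.normal_left hEs h1

/-- **Components are normal in the layer.** -/
theorem comp_normal_layer [Finite S] [Fact p.Prime] (hS : IsPGroup p S) (hF : F.IsSaturated p)
    (hC : C.IsComponentIn F p) (hL : L.IsLayerOf F p) : C.IsNormalIn L p := by
  obtain ⟨T, E, hE⟩ := exists_hull hS hF hC
  obtain ⟨K, M, hM, -, -, hcp⟩ := layer_cprod hS hF hL hE
  have hf1 := finite_of_le (isNormalIn.sc hE.normal).1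
  have hf2 := finite_of_le (isNormalIn.sc hM).1
  exact hcp.normal_left hL.1.1.1 (hE.normal_comp hS)

theorem comp_normal_genFitting [Finite S] [Fact p.Prime] (hS : IsPGroup p S) (hF : F.IsSaturated p)
    (hC : C.IsComponentIn F p) (hD : D.IsGeneralizedFittingOf F p) : C.IsNormalIn D p := by
  have hDn := (genFitting hS hF).2 _ D hD
  obtain ⟨W, L, hL, hDc⟩ := hD
  have hcn := genFitting_cnorm hS hF hL hDc
  have hf1 := finite_of_le (Join.core_le F)
  have hf2 := finite_of_le (isNormalIn.sc hL.1).1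
  exact hcn.cp.symm.normal_left hDn.1.1 (comp_normal_layer hS hF hC hL)

/-- components of central products -/
theorem comp_of_cprod [Finite S] [Fact p.Prime] (hS : IsPGroup p S) (hF : F.IsSaturated p) (h : CProd E₁ E₂ F)
    (h₁ : E₁.IsSaturated p) (h₂ : E₂.IsSaturated p) (hC : C.IsComponentIn F p) :
    C.IsComponentIn E₁ p ∨ C.IsComponentIn E₂ p := by
  have hf1 := finite_of_le h.le_left
  have hf2 := finite_of_le h.le_right
  have hn1 : E₁.IsNormalIn F p := h.normal_left hF (isNormalIn_self (isPGroup_of_le hS h.le_left) h₁)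
  have hn2 : E₂.IsNormalIn F p := h.symm.normal_left hF (isNormalIn_self (isPGroup_of_le hS h.le_right) h₂)
  obtain ⟨T, E, hE⟩ := exists_hull hS hF hC
  rcases comp_or_commute hS hF hn1 hE with h3 | ⟨-, h3⟩
  · exact Or.inl h3
  rcases comp_or_commute hS hF hn2 hE with h4 | ⟨-, h4⟩
  · exact Or.inr h4
  exfalso
  have hUS := subnormal_le hC.1
  have hfU := finite_of_le hUS
  have hle : U ≤ cenE E F p := hUS.trans (h.eq.le.trans (sup_le h3 h4))
  refine not_le_center_of_quasisimple (isPGroup_of_le hS hUS) hC.2 ?_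
  refine Join.le_center (isCentral_iff_isMap.2 ⟨le_rfl, fun P f hf => ?_⟩)
  have hfE := isSubsystemOf_iff.1 (hE.sub hS) _ _ hf
  obtain ⟨g, -, hgf, hgc⟩ := cenE_extends hS hE.normal hfE
  exact ⟨fun x => x, isMap_id' (sup_le hf.le le_rfl), fun x hx =>
    ((hgf x hx).symm.trans (hgc x (hle (hf.le hx)))).symm, fun _ _ => rfl⟩

end Cfsg.Agent.Fus
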