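import Cfsg.Agent.Fus.Lay1
import Cfsg.Agent.Fus.Subnormal
set_option autoImplicit false
set_option linter.unusedSectionVars false
set_option linter.unusedVariables false

/-!
# Components and normal subsystems, existence of the layer (helper85)
-/

namespace Cfsg.Agent.Fus

open Cfsg Cfsg.FusionSystem Cfsg.Agent.H85

variable {Ω : Type*} [Group Ω] {S T U : Subgroup Ω} {F : FusionSystem S} {E : FusionSystem T}
  {N : FusionSystem U} {p : ℕ}

theorem isNormalIn_self [Finite S] [Fact p.Prime] (hS : IsPGroup p S) (hF : F.IsSaturated p) : F.IsNormalIn F p := by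
  refine isNormalIn_iff_ext.2 ⟨⟨hF, hF, invariant_self hS hF⟩, fun α hα => ?_⟩
  have h1 : S ⊔ centralizerIn S S = S := sup_eq_left.2 (centralizerIn_le S)
  refine ⟨ofAut α, by rw [h1]; exact isMap_ofAut le_rfl hα, fun x _ => rfl, fun c hc => ?_⟩
  have hcS := (mem_centralizerIn.1 hc).1
  exact S.mul_mem (S.inv_mem hcS) (ofAut_mem α hcS)

/-- intersection of a subnormal and a normal subsystem -/
theorem subnormal_meet (hp : Fact p.Prime) (h : E.IsSubnormalIn F p) (hfin : Finite S) (hS : IsPGroup p S)
    (hF : F.IsSaturated p) : ∀ {U : Subgroup Ω} {N : FusionSystem U}, N.IsNormalIn F p →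
    ∃ (V : Subgroup Ω) (D : FusionSystem V), V = T ⊓ U ∧ D.IsNormalIn E p ∧ D.IsSubnormalIn N p := by
  induction h with
  | refl F p =>
    intro U N hN
    exact ⟨U, N, (inf_eq_right.2 hN.1.2.2.2.1.1).symm, hN, IsSubnormalIn.refl N p⟩
  | step h1 h2 ih =>
    intro U N hN
    have hWS := h2.1.2.2.2.1.1
    obtain ⟨M, ⟨-, hMD, hMN⟩, -⟩ := exists_meet hS h2 hN
    obtain ⟨V, A, hV, hA1, hA2⟩ := ih hp (finite_of_le hWS) (isPGroup_of_le hS hWS) h2.1.1 hMD
    refine ⟨V, A, ?_, hA1, subnormal_trans hA2 (subnormal_of_normal hMN)⟩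
    rw [hV, ← inf_assoc, inf_eq_left.2 (subnormal_le h1)]

theorem not_le_center_of_quasisimple [Finite S] [Fact p.Prime] (hS : IsPGroup p S) (hq : F.Quasisimple p) :
    ¬ S ≤ F.center := by
  intro hle
  have hZ := Join.isCentral_center F
  have hZn := Join.isNormal_of_isCentral hZ
  exact quasisimple_not_constrained hS hq ⟨hq.1, F.center, hZn, isCentric_of_isNormal hZn
    ((centralizerIn_le _).trans hle)⟩

/-- A component is contained in a normal subsystem, or meets it in a central subgroup. -/
theorem comp_dich [Finite S] [hp : Fact p.Prime] (hS : IsPGroup p S) (hF : F.IsSaturated p)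
    (hC : E.IsComponentIn F p) (hN : N.IsNormalIn F p) :
    (E.IsComponentIn N p ∧ E.IsSubsystemOf N) ∨ T ⊓ U ≤ E.center := by
  have hTS := subnormal_le hC.1
  have hfT := finite_of_le hTS
  obtain ⟨V, D, rfl, hD1, hD2⟩ := subnormal_meet hp hC.1 inferInstance hS hF hN
  rcases quasisimple_normal (isPGroup_of_le hS hTS) hC.2 hD1 with h | ⟨h1, h2⟩
  · exact Or.inr h
  · left
    generalize T ⊓ U = V at *
    subst h1
    have : D = E := fusionSystem_ext h2
    subst this
    exact ⟨⟨hD2, hC.2⟩, subnormal_isSubsystemOf hD2⟩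

theorem comp_of_le [Finite S] [Fact p.Prime] (hS : IsPGroup p S) (hF : F.IsSaturated p)
    (hC : E.IsComponentIn F p) (hN : N.IsNormalIn F p) (hTU : T ≤ U) :
    E.IsComponentIn N p ∧ E.IsSubsystemOf N := by
  have hTS := subnormal_le hC.1
  have hfT := finite_of_le hTS
  refine (comp_dich hS hF hC hN).resolve_right fun h => ?_
  rw [inf_eq_left.2 hTU] at h
  exact not_le_center_of_quasisimple (isPGroup_of_le hS hTS) hC.2 h

/-- the components of a normal subsystem are components -/
theorem comp_of_normal (hC : E.IsComponentIn N p) (hN : N.IsNormalIn F p) : E.IsComponentIn F p :=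
  ⟨IsSubnormalIn.step hC.1 hN, hC.2⟩

/-- least normal subsystem with a property of the support, stable under intersections -/
theorem exists_least_normal [Finite S] [Fact p.Prime] (hS : IsPGroup p S) (hF : F.IsSaturated p)
    (Pr : Subgroup Ω → Prop) (h0 : Pr S) (hm : ∀ T₁ T₂, Pr T₁ → Pr T₂ → Pr (T₁ ⊓ T₂)) :
    ∃ (T : Subgroup Ω) (E : FusionSystem T), E.IsNormalIn F p ∧ Pr T ∧
      ∀ (T' : Subgroup Ω) (E' : FusionSystem T'), E'.IsNormalIn F p → Pr T' → E.IsSubsystemOf E' := by
  suffices H : ∀ (n m : ℕ) (T : Subgroup Ω) (E : FusionSystem T), Nat.card T = n → Nat.card (E.autGroup T) = m →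
      E.IsNormalIn F p → Pr T → ∃ (T : Subgroup Ω) (E : FusionSystem T), E.IsNormalIn F p ∧ Pr T ∧
      ∀ (T' : Subgroup Ω) (E' : FusionSystem T'), E'.IsNormalIn F p → Pr T' → E.IsSubsystemOf E' from
    H _ _ S F rfl rfl (isNormalIn_self hS hF) h0
  intro n
  induction n using Nat.strong_induction_on with
  | _ n IHn =>
    intro m
    induction m using Nat.strong_induction_on with
    | _ m IHm =>
      intro T E hn hm' hE hT
      by_cases hall : ∀ (T' : Subgroup Ω) (E' : FusionSystem T'), E'.IsNormalIn F p → Pr T' → E.IsSubsystemOf E'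
      · exact ⟨T, E, hE, hT, hall⟩
      · push Not at hall
        obtain ⟨T', E', hE', hT', hnot⟩ := hall
        obtain ⟨D, ⟨hDF, hDE, hDE'⟩, -⟩ := exists_meet hS hE hE'
        have hDle := hDE'.1.2.2.1
        have hTS := hE.1.2.2.2.1.1
        have hfT := finite_of_le hTS
        have hP := hm T T' hT hT'
        have hle : T ⊓ T' ≤ T := inf_le_left
        generalize T ⊓ T' = V at *
        rcases hle.lt_or_eq with hlt | rfl
        · exact IHn (Nat.card V) (by rw [← hn]; exact card_lt_of_lt (S := T) le_rfl hlt) _ V D rfl rfl hDF hP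
        · have hlt : Nat.card (D.autGroup V) < Nat.card (E.autGroup V) := by
            have hfA := finite_mulAut (P := V)
            have hle2 : D.autGroup V ≤ E.autGroup V := fun α hα =>
              (mem_autGroup_iff le_rfl).2 (inv_isMap hDE.1.2.2 (isMap_ofAut le_rfl hα))
            by_contra hge
            have := Subgroup.eq_of_le_of_card_ge hle2 (not_lt.1 hge)
            have h1 := inv_eq_of_autGroup_le hDE.1.2.2 this.ge
            subst h1
            exact hnot hDle
          exact IHm _ (by rw [← hm']; exact hlt) V D hn rfl hDF hP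

/-- **Existence of the layer.** -/
theorem exists_layer [Finite S] [Fact p.Prime] (hS : IsPGroup p S) (hF : F.IsSaturated p) :
    ∃ (T : Subgroup Ω) (E : FusionSystem T), E.IsLayerOf F p := by
  obtain ⟨T, E, hE, hT, hmin⟩ := exists_least_normal hS hF
    (fun T => ∀ (U : Subgroup Ω) (C : FusionSystem U), C.IsComponentIn F p → U ≤ T)
    (fun U C hC => subnormal_le hC.1) fun T₁ T₂ h1 h2 U C hC => le_inf (h1 U C hC) (h2 U C hC)
  refine ⟨T, E, hE, fun U C hC => (comp_of_le hS hF hC hE (hT U C hC)).2, fun R D hD hR => ?_⟩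
  exact hmin R D hD fun U C hC => (isSubsystemOf_iff.1 (hR U C hC) U _ (isMap_id' le_rfl)).le

end Cfsg.Agent.Fus
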