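import Cfsg.Agent.Fus.Lay2
import Cfsg.Agent.Fus.ExtZ
set_option autoImplicit false
set_option linter.unusedSectionVars false
set_option linter.unusedVariables false

/-!
# Normality of invariant normal subsystems of normal subsystems (helper85)
-/

namespace Cfsg.Agent.Fus

open Cfsg Cfsg.FusionSystem Cfsg.Agent.H85

variable {Ω : Type*} [Group Ω] {S T U : Subgroup Ω} {F : FusionSystem S} {E : FusionSystem T}
  {D : FusionSystem U} {p : ℕ}

theorem eq_one_of_pow_coprime {G : Type*} [Group G] {μ : G} {n m : ℕ} (h1 : μ ^ n = 1) (h2 : μ ^ m = 1)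
    (hco : n.Coprime m) : μ = 1 := by
  have h3 : orderOf μ ∣ 1 := by
    rw [← hco.gcd_eq_one]
    exact Nat.dvd_gcd (orderOf_dvd_of_pow_eq_one h1) (orderOf_dvd_of_pow_eq_one h2)
  exact orderOf_eq_one_iff.1 (Nat.dvd_one.1 h3)

/-- good lifts of order prime to `p` are unique -/
theorem PGood.ext [Finite S] [Fact p.Prime] (hS : IsPGroup p S) (hE : E.IsNormalIn F p) {P : Subgroup Ω}
    (hP : E.IsCentric P) {κ κ' : MulAut ↥(P ⊔ centralizerIn S P)} (h : PGood E F p P κ) (h' : PGood E F p P κ')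
    (heq : ∀ x ∈ P, ofAut κ' x = ofAut κ x) : κ' = κ := by
  have hTS := hE.1.2.2.2.1.1
  have hPS := hP.1.trans hTS
  have hRS : P ⊔ centralizerIn S P ≤ S := sup_le hPS (centralizerIn_le P)
  have hPR : P ≤ P ⊔ centralizerIn S P := le_sup_left
  have hCR : centralizerIn S P ≤ P ⊔ centralizerIn S P := le_sup_right
  have hval : ∀ x ∈ centralizerIn S P, ∃ f ∈ P, ofAut κ' x = ofAut κ x * f ∧ ofAut κ f = f := fun x hx =>
    good_unique hS hE hP h le_rfl h'.good.isMap heq h'.good.triv hx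
  have hfix : ∀ x ∈ P, ofAut (κ⁻¹ * κ') x = x := fun x hx => by
    rw [ofAut_mul _ _ (hPR hx), heq x hx, ofAut_inv_apply κ (hPR hx)]
  have hμC : ∀ x ∈ centralizerIn S P, ∃ f ∈ P, ofAut (κ⁻¹ * κ') x = x * f ∧ ofAut κ f = f ∧ f ∈ centralizerIn S P := by
    intro x hx
    obtain ⟨f, hf, h1, h2⟩ := hval x hx
    refine ⟨f, hf, ?_, h2, ?_⟩
    · rw [ofAut_mul _ _ (hCR hx), h1, ofAut_map_mul κ⁻¹ (ofAut_mem κ (hCR hx)) (hPR hf), ofAut_inv_apply κ (hCR hx)]
      congr 1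
      conv_lhs => rw [← h2]
      exact ofAut_inv_apply κ (hPR hf)
    · have h3 := Subgroup.mul_mem _ (Subgroup.inv_mem _ (h.good.mem_C hx)) (h'.good.mem_C hx)
      rw [h1, inv_mul_cancel_left] at h3
      exact h3
  have hcomm : κ * (κ⁻¹ * κ') = (κ⁻¹ * κ') * κ := by
    refine ofAut_injective fun x hx => ?_
    obtain ⟨y, hy, c, hc, rfl⟩ := (mem_sup_iff_of_normalizes (N := P) (A := centralizerIn S P)
      ((centralizerIn_le_normalizerIn P).trans inf_le_right)).1 hx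
    have key1 : ∀ y ∈ P, ofAut (κ * (κ⁻¹ * κ')) y = ofAut ((κ⁻¹ * κ') * κ) y := fun y hy => by
      rw [ofAut_mul _ _ (hPR hy), hfix y hy, ofAut_mul _ _ (hPR hy), hfix _ (h.good.mem y hy)]
    have key2 : ∀ c ∈ centralizerIn S P, ofAut (κ * (κ⁻¹ * κ')) c = ofAut ((κ⁻¹ * κ') * κ) c := by
      intro c hc
      obtain ⟨f, hf, h1, h2, h3⟩ := hμC c hc
      have hz := h.good.triv c hc
      have e : ofAut κ c = c * (c⁻¹ * ofAut κ c) := by group
      rw [ofAut_mul _ _ (hCR hc), h1, ofAut_map_mul κ (hCR hc) (hPR hf), h2, ofAut_mul _ _ (hCR hc)]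
      conv_rhs => rw [e, ofAut_map_mul _ (hCR hc) (hPR hz), h1, hfix _ hz]
      have h4 := (mem_centralizerIn.1 h3).2 _ hz
      rw [mul_assoc, ← h4, ← mul_assoc, mul_inv_cancel_left]
    rw [ofAut_map_mul _ (hPR hy) (hCR hc), ofAut_map_mul _ (hPR hy) (hCR hc), key1 y hy, key2 c hc]
  obtain ⟨k, hk⟩ := pow_eq_one_of_stab hS hRS hPR (κ := κ⁻¹ * κ') hfix (fun x hx => by
    rw [ofAut_mul _ _ hx]
    have h1 := h'.good.triv_sup hx
    have h3 := h.inv.good.triv_sup hx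
    have e : ofAut κ' x = x * (x⁻¹ * ofAut κ' x) := by group
    rw [e, ofAut_map_mul κ⁻¹ hx (hPR h1), ← mul_assoc]
    exact P.mul_mem h3 (h.inv.good.mem _ h1))
  have hn : (κ⁻¹ * κ') ^ (orderOf κ * orderOf κ') = 1 := by
    have h1 : κ' = κ * (κ⁻¹ * κ') := by group
    have h2 : κ' ^ (orderOf κ * orderOf κ') = 1 := by rw [mul_comm, pow_mul, pow_orderOf_eq_one, one_pow]
    have h3 : κ ^ (orderOf κ * orderOf κ') = 1 := by rw [pow_mul, pow_orderOf_eq_one, one_pow]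
    have hc : Commute κ (κ⁻¹ * κ') := hcomm
    have h4 := hc.mul_pow (orderOf κ * orderOf κ')
    rw [← h1, h2, h3, one_mul] at h4
    exact h4.symm
  have h5 := eq_one_of_pow_coprime hn hk (Nat.Coprime.pow_right _ (Nat.Coprime.mul_left h.co h'.co))
  exact (inv_mul_eq_one.1 h5).symm

/-- the conjugation by `b ∈ C_S(H)` commutes with the lifts -/
theorem lift_commute [Finite S] [Fact p.Prime] (hS : IsPGroup p S) (hDE : D.IsNormalIn E p) (hE : E.IsInvariantIn F)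
    (hU : U ≤ T) {κ₁ : MulAut ↥(U ⊔ centralizerIn T U)} (hκ : PGood D E p U κ₁) {b : Ω} (hb : b ∈ centralizerIn S U) :
    ∀ x ∈ U ⊔ centralizerIn T U, ofAut κ₁ (b * x * b⁻¹) = b * ofAut κ₁ x * b⁻¹ := by
  have hTS := hE.2.1.1
  have hfT := finite_of_le hTS
  have hTp := isPGroup_of_le hS hTS
  have hfU := finite_of_le (hU.trans hTS)
  have hYT : U ⊔ centralizerIn T U ≤ T := sup_le hU (centralizerIn_le U)
  have hUY : U ≤ U ⊔ centralizerIn T U := le_sup_left
  have hCY : centralizerIn T U ≤ U ⊔ centralizerIn T U := le_sup_right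
  have hbN := norm_sup_cen hE.2.1 (hU.trans hTS) (centralizerIn_le_normalizerIn U hb)
  have hbiN := Subgroup.inv_mem _ hbN
  have hbS := (mem_centralizerIn.1 hb).1
  have hbfix : ∀ x ∈ U, b * x * b⁻¹ = x := fun x hx => by rw [← (mem_centralizerIn.1 hb).2 x hx]; group
  have hbfix' : ∀ x ∈ U, b⁻¹ * x * b = x := fun x hx => by
    have := (mem_centralizerIn.1 hb).2 x hx
    rw [mul_assoc, this]; group
  have hcb : conjAut b hbN ∈ F.autGroup (U ⊔ centralizerIn T U) := conjAut_mem_autGroup (hYT.trans hTS) hbS hbN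
  have hinv : ∀ x ∈ U ⊔ centralizerIn T U, ofAut (conjAut b hbN)⁻¹ x = b⁻¹ * x * b := by
    intro x hx
    have hx' : b⁻¹ * x * b ∈ U ⊔ centralizerIn T U := by
      have := (Subgroup.mem_normalizer_iff.1 hbiN x).1 hx
      rwa [inv_inv] at this
    have e : x = ofAut (conjAut b hbN) (b⁻¹ * x * b) := by rw [ofAut_conjAut b hbN hx']; group
    conv_lhs => rw [e]
    exact ofAut_inv_apply _ hx'
  have hval : ∀ x ∈ U ⊔ centralizerIn T U, ofAut (conjAut b hbN * κ₁ * (conjAut b hbN)⁻¹) x =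
      b * ofAut κ₁ (b⁻¹ * x * b) * b⁻¹ := by
    intro x hx
    have hx' : b⁻¹ * x * b ∈ U ⊔ centralizerIn T U := by
      have := (Subgroup.mem_normalizer_iff.1 hbiN x).1 hx
      rwa [inv_inv] at this
    rw [ofAut_mul _ _ hx, hinv x hx, ofAut_mul _ _ hx', ofAut_conjAut b hbN (ofAut_mem κ₁ hx')]
  have hκ' : PGood D E p U (conjAut b hbN * κ₁ * (conjAut b hbN)⁻¹) := by
    have hfixU : ∀ x ∈ U, ofAut (conjAut b hbN * κ₁ * (conjAut b hbN)⁻¹) x = ofAut κ₁ x := fun x hx => by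
      rw [hval x (hUY hx), hbfix' x hx, hbfix _ (hκ.good.mem x hx)]
    refine ⟨⟨isMap_ofAut hYT (inv_normal hE hYT hcb hκ.memF), hκ.good.isMapE.congr fun x hx => (hfixU x hx).symm,
      fun x hx => by rw [hfixU x hx]; exact hκ.good.mem x hx, fun c hc => ?_⟩, ?_⟩
    · have hc' : b⁻¹ * c * b ∈ centralizerIn T U := by
        have h1 := cen_conj (Subgroup.inv_mem _ (centralizerIn_le_normalizerIn U hb).2) hc
          (sc_conj_mem hE.2.1 (S.inv_mem hbS) (mem_centralizerIn.1 hc).1)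
        rwa [inv_inv] at h1
      rw [hval c (hCY hc)]
      have h1 := hκ.good.triv _ hc'
      have h2 := hbfix _ h1
      have e : c⁻¹ * (b * ofAut κ₁ (b⁻¹ * c * b) * b⁻¹) = b * ((b⁻¹ * c * b)⁻¹ * ofAut κ₁ (b⁻¹ * c * b)) * b⁻¹ := by group
      rw [e, h2]; exact h1
    · rw [orderOf_conj']; exact hκ.co
  have hfixU : ∀ x ∈ U, ofAut (conjAut b hbN * κ₁ * (conjAut b hbN)⁻¹) x = ofAut κ₁ x := fun x hx => by
    rw [hval x (hUY hx), hbfix' x hx, hbfix _ (hκ.good.mem x hx)]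
  have heq := PGood.ext hTp hDE isCentric_self hκ hκ' hfixU
  intro x hx
  have hbx : b * x * b⁻¹ ∈ U ⊔ centralizerIn T U := (Subgroup.mem_normalizer_iff.1 hbN x).1 hx
  have h1 := hval _ hbx
  rw [heq] at h1
  rw [h1]
  congr 3; group

/-- Invariant normal subsystems of normal subsystems are normal. -/
theorem char_normal [Finite S] [Fact p.Prime] (hS : IsPGroup p S) (hDE : D.IsNormalIn E p) (hEF : E.IsNormalIn F p)
    (hD : D.IsInvariantIn F) : D.IsNormalIn F p := by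
  have hF := (isNormalIn_iff_ext.1 hEF).1.2.1
  have hE := (isNormalIn_iff_ext.1 hEF).1.2.2
  have hEs := (isNormalIn_iff_ext.1 hEF).1.1
  have hDs : D.IsSaturated p := hDE.1.1
  have hTS := hE.2.1.1
  have hfT := finite_of_le hTS
  have hTp := isPGroup_of_le hS hTS
  have hUT : U ≤ T := hDE.1.2.2.2.1.1
  have hUS := hUT.trans hTS
  have hfU := finite_of_le hUS
  have hUp := isPGroup_of_le hS hUS
  refine isNormalIn_iff.2 ⟨⟨hDs, hF, hD⟩, ?_⟩
  have h1 : D.autGroup U ≤ extZ F hUS := by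
    refine autGroup_le_of_coprime hUp hDs (fun α t ht h => extZ_conj ht hUS h) fun β hβ hco => ?_
    obtain ⟨κ₁, hκ₁, hκ₁β⟩ := exists_pgood hTp hDE isCentric_self hβ hco
    have hYT : U ⊔ centralizerIn T U ≤ T := sup_le hUT (centralizerIn_le U)
    have hYS := hYT.trans hTS
    have hfY := finite_of_le hYS
    have hUY : U ≤ U ⊔ centralizerIn T U := le_sup_left
    have hUfcE := sat_fullyCentralized hTp hEs (isFullyNormalized_of_sc (sc_of_subsystem hE.1 hD.2.1 hUT))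
    have hYc : E.IsCentric (U ⊔ centralizerIn T U) := fc_sup_centric hUfcE
    obtain ⟨κ₂, hκ₂, hκ₂κ⟩ := exists_pgood hS hEF hYc hκ₁.memF hκ₁.co
    -- `Y` is weakly closed
    have hYw : F.WeaklyClosed (U ⊔ centralizerIn T U) := by
      refine weaklyClosed_iff_img.2 ⟨hYS, fun f hf => hf.img_eq ?_⟩
      refine hf.forall_sup_mem (fun x hx => hUY (sc_map_mem hD.2.1 hf (hUY hx) hx)) fun c hc => ?_
      have hcY := le_sup_right (a := U) hc
      refine le_sup_right (a := U) (mem_centralizerIn.2 ⟨sc_map_mem hE.2.1 hf hcY (mem_centralizerIn.1 hc).1, ?_⟩)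
      have h2 := hf.map_centralizer hUY hcY (mem_centralizerIn.1 hc).2
      rw [sc_img_eq hD.2.1 hf hUY] at h2
      exact h2
    have hYf := sat_fullyCentralized hS hF (weaklyClosed_fullyNormalized hYw)
    have hbY : ∀ b ∈ centralizerIn S U, b ∈ normalizerIn S (U ⊔ centralizerIn T U) := fun b hb =>
      ⟨(mem_centralizerIn.1 hb).1, norm_sup_cen hE.2.1 hUS (centralizerIn_le_normalizerIn U hb)⟩
    obtain ⟨κ₃, hκ₃, hκ₃o, hκ₃R, hκ₃B⟩ := exists_lift_ext hS hF hYf (B := centralizerIn S U) hκ₂.memF hκ₂.good.mem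
      hκ₂.good.triv hκ₂.co hbY (fun b hb => ⟨b, le_sup_right (a := U ⊔ centralizerIn T U ⊔
        centralizerIn S (U ⊔ centralizerIn T U)) hb, fun x hx => by
        rw [hκ₂κ _ ((Subgroup.mem_normalizer_iff.1 (hbY b hb).2 x).1 hx), hκ₂κ x hx]
        exact lift_commute hS hDE hE hUT hκ₁ hb x hx, fun c hc => by
        rw [mul_inv_cancel]; exact Subgroup.one_mem _⟩)
    -- the big group
    have hRS : U ⊔ centralizerIn T U ⊔ centralizerIn S (U ⊔ centralizerIn T U) ≤ S :=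
      sup_le hYS (centralizerIn_le _)
    have hWS : U ⊔ centralizerIn T U ⊔ centralizerIn S (U ⊔ centralizerIn T U) ⊔ centralizerIn S U ≤ S :=
      sup_le hRS (centralizerIn_le _)
    have hYR : U ⊔ centralizerIn T U ≤ U ⊔ centralizerIn T U ⊔ centralizerIn S (U ⊔ centralizerIn T U) := le_sup_left
    have hRW : U ⊔ centralizerIn T U ⊔ centralizerIn S (U ⊔ centralizerIn T U) ≤
      U ⊔ centralizerIn T U ⊔ centralizerIn S (U ⊔ centralizerIn T U) ⊔ centralizerIn S U := le_sup_left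
    have hCW : centralizerIn S U ≤
      U ⊔ centralizerIn T U ⊔ centralizerIn S (U ⊔ centralizerIn T U) ⊔ centralizerIn S U := le_sup_right
    have hm := isMap_ofAut hWS hκ₃
    have hSN : S ≤ Subgroup.normalizer (U : Set Ω) := sc_le_normalizer hD.2.1
    have hκU : ∀ x ∈ U, ofAut κ₃ x = ofAut β x := fun x hx => by
      rw [hκ₃R x (hYR (hUY hx)), hκ₂κ x (hUY hx), hκ₁β x hx]
    have hκUm : ∀ x ∈ U, ofAut κ₃ x ∈ U := fun x hx => by rw [hκU x hx]; exact ofAut_mem β hx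
    obtain ⟨e, he⟩ := exists_exp hS
    have ht1 : ∀ x ∈ U ⊔ centralizerIn T U, x⁻¹ * ofAut κ₃ x ∈ U := fun x hx => by
      rw [hκ₃R x (hYR hx), hκ₂κ x hx]; exact hκ₁.good.triv_sup hx
    have ht2 : ∀ x ∈ U ⊔ centralizerIn T U ⊔ centralizerIn S (U ⊔ centralizerIn T U),
        x⁻¹ * ofAut κ₃ x ∈ U ⊔ centralizerIn T U := fun x hx => by
      rw [hκ₃R x hx]; exact hκ₂.good.triv_sup hx
    have ht3 : ∀ x ∈ U ⊔ centralizerIn T U ⊔ centralizerIn S (U ⊔ centralizerIn T U), x⁻¹ * ofAut κ₃ x ∈ U :=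
      coprime_mod (κ := κ₃) hRW hYR hUY (hYS.trans hSN) hκUm ht1 ht2 (pow_orderOf_eq_one κ₃) (N := p ^ e)
        (fun a ha => he a (hYS ha)) (Nat.Coprime.pow_right _ hκ₃o)
    have ht4 : ∀ x ∈ U ⊔ centralizerIn T U ⊔ centralizerIn S (U ⊔ centralizerIn T U) ⊔ centralizerIn S U,
        x⁻¹ * ofAut κ₃ x ∈ U ⊔ centralizerIn T U ⊔ centralizerIn S (U ⊔ centralizerIn T U) := by
      refine triv_sup' hm (fun b hb => ?_) ?_ le_rfl fun b hb => ?_
      · exact norm_sup_cen (stronglyClosed_self F) hYS (hbY b hb)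
      · intro x hx; rw [hκ₃R x hx]; exact ofAut_mem κ₂ hx
      · refine le_sup_right (a := U ⊔ centralizerIn T U) (hκ₃B b hb b (mem_centralizerIn.1 hb).1 fun x hx => ?_)
        rw [hκ₂κ _ ((Subgroup.mem_normalizer_iff.1 (hbY b hb).2 x).1 hx), hκ₂κ x hx]
        exact lift_commute hS hDE hE hUT hκ₁ hb x hx
    have ht5 : ∀ x ∈ U ⊔ centralizerIn T U ⊔ centralizerIn S (U ⊔ centralizerIn T U) ⊔ centralizerIn S U,
        x⁻¹ * ofAut κ₃ x ∈ U :=
      coprime_mod (κ := κ₃) le_rfl hRW (hUY.trans hYR) (hRS.trans hSN) hκUm ht3 ht4 (pow_orderOf_eq_one κ₃) (N := p ^ e)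
        (fun a ha => he a (hRS ha)) (Nat.Coprime.pow_right _ hκ₃o)
    -- restriction to `U C_S(U)`
    have hVW : U ⊔ centralizerIn S U ≤
        U ⊔ centralizerIn T U ⊔ centralizerIn S (U ⊔ centralizerIn T U) ⊔ centralizerIn S U :=
      sup_le (hUY.trans (hYR.trans hRW)) hCW
    have hVS := hVW.trans hWS
    have hκC : ∀ c ∈ centralizerIn S U, ofAut κ₃ c ∈ centralizerIn S U := by
      intro c hc
      have h2 := hm.map_centralizer (hUY.trans (hYR.trans hRW)) (hCW hc) (mem_centralizerIn.1 hc).2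
      rw [(hm.mono (hUY.trans (hYR.trans hRW))).img_eq hκUm] at h2
      exact mem_centralizerIn.2 ⟨hm.mem (hCW hc), h2⟩
    obtain ⟨γ, hγ, hγx, -⟩ := exists_restrict_mem hWS hVW hκ₃ ((hm.mono hVW).forall_sup_mem
      (fun x hx => le_sup_left (a := U) (hκUm x hx)) fun c hc => le_sup_right (a := U) (hκC c hc))
    refine mem_extZ.2 ⟨γ, hγ, fun x hx => by rw [hγx x (le_sup_left (a := U) hx), hκU x hx], fun c hc => ?_⟩
    rw [inf_centralizer_eq hUS, hγx c (le_sup_right (a := U) hc)]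
    exact ⟨ht5 c (hCW hc), Subgroup.mul_mem _ (Subgroup.inv_mem _ hc) (hκC c hc)⟩
  exact fun α hα => h1 hα

end Cfsg.Agent.Fus
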