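import Cfsg.Agent.Fus.Lay3
set_option autoImplicit false
set_option linter.unusedSectionVars false
set_option linter.unusedVariables false

/-!
# `O^p` of a normal subsystem, hulls of components (helper85)
-/

namespace Cfsg.Agent.Fus

open Cfsg Cfsg.FusionSystem Cfsg.Agent.H85

variable {Ω : Type*} [Group Ω] {S T U : Subgroup Ω} {F : FusionSystem S} {E : FusionSystem T}
  {D : FusionSystem U} {p : ℕ}

/-- maps of `F` preserve the hyperfocal subgroup of an invariant subsystem -/
theorem hyper_inv_map [Finite T] [Fact p.Prime] (hE : E.IsInvariantIn F) {g : Ω → Ω} (hg : IsMap F T g) {x : Ω}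
    (hx : x ∈ E.hyperfocalSubgroup p) : g x ∈ E.hyperfocalSubgroup p := by
  let R : Subgroup Ω :=
    { carrier := {x | x ∈ T ∧ g x ∈ E.hyperfocalSubgroup p}
      one_mem' := ⟨T.one_mem, by rw [hg.map_one]; exact Subgroup.one_mem _⟩
      mul_mem' := fun ha hb => ⟨T.mul_mem ha.1 hb.1, by rw [hg.map_mul ha.1 hb.1]; exact Subgroup.mul_mem _ ha.2 hb.2⟩
      inv_mem' := fun ha => ⟨T.inv_mem ha.1, by rw [hg.map_inv ha.1]; exact Subgroup.inv_mem _ ha.2⟩ }
  have hle : E.hyperfocalSubgroup p ≤ R := by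
    refine hyper_le fun P hP α hα x hx => ?_
    have hgP := hg.mono hP
    have hαx := ofAut_mem (α : MulAut P) hx
    refine ⟨T.mul_mem (T.inv_mem (hP hx)) (hP hαx), ?_⟩
    rw [hg.map_mul (T.inv_mem (hP hx)) (hP hαx), hg.map_inv (hP hx), ← hgP.ofAut_trans rfl (α : MulAut P) hx]
    have h1 := inv_trans_mem hE hP hgP rfl α.2
    have hle : img P g ≤ T := hgP.img_le_iff.2 fun x hx => sc_map_mem hE.2.1 hgP hx (hP hx)
    refine mem_hyper_of_coprime hle h1 ?_ (subset_img hx)
    rw [orderOf_trans, Subgroup.orderOf_coe]; exact hα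
  exact (hle hx).2

theorem hyper_mono' [Finite T] [Fact p.Prime] (h : D.IsSubsystemOf E) : D.hyperfocalSubgroup p ≤ E.hyperfocalSubgroup p := by
  refine hyper_le fun P hP α hα x hx => ?_
  have h1 := isSubsystemOf_iff.1 h _ _ (isMap_ofAut hP α.2)
  have hPT := h1.le
  refine mem_hyper_of_coprime hPT ((mem_autGroup_iff hPT).2 h1) ?_ hx
  rw [Subgroup.orderOf_coe]; exact hα

/-- `O^p(E)` is normal in `F` -/
theorem exists_opE [Finite S] [Fact p.Prime] (hS : IsPGroup p S) (hEF : E.IsNormalIn F p) :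
    ∃ D : FusionSystem (E.hyperfocalSubgroup p), D.IsNormalIn F p ∧ D.IsNormalIn E p := by
  have hF := (isNormalIn_iff_ext.1 hEF).1.2.1
  have hE := (isNormalIn_iff_ext.1 hEF).1.2.2
  have hEs := (isNormalIn_iff_ext.1 hEF).1.1
  have hTS := hE.2.1.1
  have hfT := finite_of_le hTS
  have hTp := isPGroup_of_le hS hTS
  have hhT : E.hyperfocalSubgroup p ≤ T := hyper_le_S
  obtain ⟨D, hDs, hDE, hDc⟩ := exists_ppower _ rfl hTp hEs hhT le_rfl
  have hi : D.HasPPowerIndexIn E p := hasPPowerIndexIn_iff.2 ⟨hDE, le_rfl, hDc⟩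
  have hscE := stronglyClosed_hyper hTp hEs
  have hDn : D.IsNormalIn E p := isNormalIn_of_ppower hTp hEs hhT (fun s hs x hx => sc_conj_mem hscE hs hx) le_rfl hDs hi
  have hDi := hDn.1.2.2
  have hHS := hhT.trans hTS
  have hfH := finite_of_le hHS
  have hHp := isPGroup_of_le hS hHS
  -- strongly closed
  have hsc : F.StronglyClosed (E.hyperfocalSubgroup p) := by
    refine stronglyClosed_iff.2 ⟨hHS, fun P f hf hP x hx => ?_⟩
    obtain ⟨α, hα, f₀, hf₀, he⟩ := inv_frattini hE (hP.trans hhT) hf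
    rw [he x hx]
    exact hyper_inv_map hE (isMap_ofAut hTS hα) (sc_map_mem hscE hf₀ hx (hP hx))
  have hle : D.IsSubsystemOf F := isSubsystemOf_trans hDE hE.1
  -- invariance
  have hTI : TInv F D := by
    intro α hα
    refine autInv_of_le (alperin_coprime hHp hDs fun P hPn _ _ β hβ hβp => ?_)
    have hPH := hPn.1
    have hβD := isMap_ofAut hPH hβ
    rw [isMap_conjSys', inv_inv]
    refine ⟨hβD.univ, ?_⟩
    have hA : IsMap F P (ofAut α) := (isMap_ofAut hHS hα).mono hPH
    have hAH : img P (ofAut α) ≤ E.hyperfocalSubgroup p := hA.img_le_iff.mpr fun x hx => ofAut_mem α (hPH hx)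
    have hβE : β ∈ E.autGroup P := (mem_autGroup_iff (hPH.trans hhT)).2 (isSubsystemOf_iff.1 hDE _ _ hβD)
    have h1 := hDc (img P (ofAut α)) hAH (hA.trans rfl β) (inv_trans_mem hE (hPH.trans hhT) hA rfl hβE)
      (by rw [orderOf_trans]; exact hβp)
    refine h1.congr fun x hx => ?_
    obtain ⟨y, hy, rfl⟩ := (mem_img_ofAut α hPH).mp hx
    rw [hA.ofAut_trans rfl β hy, cjf_apply α hPH _ hy]
  have hDF : D.IsInvariantIn F := by
    refine isInvariantIn_of_tInv hle hsc hTI fun P f hP hf => ?_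
    obtain ⟨α, hα, f₀, hf₀, he⟩ := inv_frattini hE (hP.trans hhT) hf
    obtain ⟨β, hβ, f₁, hf₁, he₁⟩ := inv_frattini hDi hP hf₀
    -- restriction of `α`
    have hαm := isMap_ofAut hTS hα
    obtain ⟨α', hα', hα'x⟩ := (hαm.mono hhT).exists_aut ((hαm.mono hhT).img_eq fun x hx => hyper_inv_map hE hαm hx)
    have hβF : β ∈ F.autGroup (E.hyperfocalSubgroup p) := (mem_autGroup_iff hHS).2 (inv_isMap hE (isMap_ofAut hhT hβ))
    refine ⟨α' * β, Subgroup.mul_mem _ hα' hβF, f₁, hf₁, fun x hx => ?_⟩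
    have h1 := hf₁.mem hx
    rw [he x hx, he₁ x hx, ofAut_mul _ _ h1, hα'x _ (ofAut_mem β h1)]
  exact ⟨D, char_normal hS hDn hEF hDF, hDn⟩

/-- The least normal subsystem containing a component. -/
structure Hull (C : FusionSystem U) (F : FusionSystem S) (p : ℕ) (E : FusionSystem T) : Prop where
  comp : C.IsComponentIn F p
  normal : E.IsNormalIn F p
  le : U ≤ T
  least : ∀ (T' : Subgroup Ω) (E' : FusionSystem T'), E'.IsNormalIn F p → U ≤ T' → E.IsSubsystemOf E'

theorem exists_hull [Finite S] [Fact p.Prime] (hS : IsPGroup p S) (hF : F.IsSaturated p) {C : FusionSystem U}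
    (hC : C.IsComponentIn F p) : ∃ (T : Subgroup Ω) (E : FusionSystem T), Hull C F p E := by
  obtain ⟨T, E, hE, hT, hmin⟩ := exists_least_normal hS hF (fun T => U ≤ T) (subnormal_le hC.1)
    fun T₁ T₂ h1 h2 => le_inf h1 h2
  exact ⟨T, E, hC, hE, hT, hmin⟩

theorem sub_le (h : D.IsSubsystemOf E) : U ≤ T := (isSubsystemOf_iff.1 h U _ (isMap_id' le_rfl)).le

namespace Hull

variable {C : FusionSystem U} (h : Hull C F p E) [Finite S] [Fact p.Prime] (hS : IsPGroup p S)
include h hS

theorem sat : F.IsSaturated p := h.normal.1.2.1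

theorem compE : C.IsComponentIn E p := (comp_of_le hS (h.sat hS) h.comp h.normal h.le).1

theorem sub : C.IsSubsystemOf E := (comp_of_le hS (h.sat hS) h.comp h.normal h.le).2

theorem hyper : E.hyperfocalSubgroup p = T := by
  obtain ⟨D, hDF, -⟩ := exists_opE hS h.normal
  refine le_antisymm hyper_le_S (sub_le (h.least _ D hDF ?_))
  have hfT := finite_of_le h.normal.1.2.2.2.1.1
  have h1 := hyper_mono' (p := p) (h.sub hS)
  rwa [h.comp.2.2.1] at h1

end Hull

end Cfsg.Agent.Fus
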