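import Cfsg.Agent.Fus.Lay5
set_option autoImplicit false
set_option linter.unusedSectionVars false
set_option linter.unusedVariables false

/-!
# Strongly closed subgroups meeting `O^p`-perfect normal subsystems in the centre, II (helper85)
-/

namespace Cfsg.Agent.Fus

open Cfsg Cfsg.FusionSystem Cfsg.Agent.H85
open scoped commutatorElement

variable {Ω : Type*} [Group Ω] {S T U : Subgroup Ω} {F : FusionSystem S} {E : FusionSystem T}
  {D : FusionSystem U} {C Y : Subgroup Ω} {p : ℕ}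

/-- maps extending over `C`, from generators -/
theorem ext_of_gens [Finite S] [Fact p.Prime] (hS : IsPGroup p S) (hEs : E.IsSaturated p) (hTS : T ≤ S)
    (hEF : E.IsSubsystemOf F) (hCC : C ≤ centralizerIn S T)
    (h : ∀ Q, E.IsFullyNormalized Q → E.IsCentric Q → E.IsRadical p Q → ∀ β ∈ E.autGroup Q, (orderOf β).Coprime p →
      ∃ g, IsMap F (Q ⊔ C) g ∧ (∀ x ∈ Q, g x = ofAut β x) ∧ ∀ c ∈ C, g c = c) {P : Subgroup Ω}
    {f : Ω → Ω} (hf : IsMap E P f) :
    ∃ g, IsMap F (P ⊔ C) g ∧ (∀ x ∈ P, g x = f x) ∧ ∀ c ∈ C, g c = c := by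
  have hfinT := finite_of_le hTS
  have hTp := isPGroup_of_le hS hTS
  have hCS : C ≤ S := hCC.trans (centralizerIn_le T)
  let X := kSystem F hCS ⊥
  have hTX : T ≤ kNorm S C ⊥ := by
    rw [kNorm_bot]
    intro t ht
    exact mem_centralizerIn.2 ⟨hTS ht, fun c hc => ((mem_centralizerIn.1 (hCC hc)).2 t ht).symm⟩
  have hspec : MapSpec T (fun A k => IsMap E A k ∧ IsMap X A k) :=
    { congr := by
        rintro A k k' ⟨h1, h2⟩ h
        exact ⟨h1.congr h, h2.congr h⟩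
      le := fun h => h.1.le
      mem := fun h x hx => h.1.mem hx
      mul := fun h x hx y hy => h.1.map_mul hx hy
      inj := fun h x hx y hy => h.1.inj hx hy
      conj := fun hA hg => ⟨isMap_conj hA hg, isMap_conj (hA.trans hTX) (hTX hg)⟩
      comp := by
        rintro A B k l ⟨h1, h2⟩ ⟨h3, h4⟩ hc
        exact ⟨h3.comp h1 hc, h4.comp h2 hc⟩
      inv := by
        rintro A k ⟨h1, h2⟩
        exact ⟨minv A k, fun x hx => h1.minv_apply hx, h1.minv_isMap, h2.minv_isMap⟩ }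
  suffices H : E ≤ hspec.toFS by
    obtain ⟨-, h1⟩ := (hspec.isMap_toFS).1 (le_iff.1 H P f hf)
    obtain ⟨-, -, g, hg, hgf, κ, hκ, hgκ⟩ := isMap_kSystem.1 h1
    refine ⟨g, hg, hgf, fun c hc => ?_⟩
    rw [hgκ c hc, Subgroup.mem_bot.1 hκ, ofAut_one hc]
  refine alperin_coprime hTp hEs fun Q hQn hQc hQr β hβ hco => ?_
  have hQT := hQn.1
  obtain ⟨g, hg, hgβ, hgC⟩ := h Q hQn hQc hQr β hβ hco
  rw [hspec.isMap_toFS]
  refine ⟨isMap_ofAut hQT hβ, isMap_kSystem.2 ⟨hQT.trans hTX, fun x hx => hTX (hQT (ofAut_mem β hx)), g,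
    hg, hgβ, 1, Subgroup.one_mem _, fun c hc => ?_⟩⟩
  rw [ofAut_one hc]
  exact hgC c hc

/-- focal subgroup from generators -/
theorem focal_of_gens [Finite T] [Fact p.Prime] (hT : IsPGroup p T) (hEs : E.IsSaturated p) {M : Subgroup Ω}
    (hM : ⁅T, T⁆ ≤ M)
    (h : ∀ Q, E.IsFullyNormalized Q → E.IsCentric Q → E.IsRadical p Q → ∀ β ∈ E.autGroup Q, (orderOf β).Coprime p →
      ∀ x ∈ Q, x⁻¹ * ofAut β x ∈ M) : E.focalSubgroup ≤ M := by
  have hspec : MapSpec T (fun A k => IsMap E A k ∧ ∀ x ∈ A, x⁻¹ * k x ∈ M) :=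
    { congr := by
        rintro A k k' ⟨h1, h2⟩ h
        exact ⟨h1.congr h, fun x hx => by rw [← h x hx]; exact h2 x hx⟩
      le := fun h => h.1.le
      mem := fun h x hx => h.1.mem hx
      mul := fun h x hx y hy => h.1.map_mul hx hy
      inj := fun h x hx y hy => h.1.inj hx hy
      conj := fun {A g} hA hg => ⟨isMap_conj hA hg, fun x hx => hM (by
        have h1 := Subgroup.commutator_mem_commutator (T.inv_mem (hA hx)) hg
        have e : ⁅x⁻¹, g⁆ = x⁻¹ * (g * x * g⁻¹) := by rw [commutatorElement_def]; group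
        rwa [e] at h1)⟩
      comp := by
        rintro A B k l ⟨h1, h2⟩ ⟨h3, h4⟩ hc
        refine ⟨h3.comp h1 hc, fun x hx => ?_⟩
        have := M.mul_mem (h2 x hx) (h4 _ (hc x hx))
        have e : x⁻¹ * k x * ((k x)⁻¹ * l (k x)) = x⁻¹ * l (k x) := by group
        rwa [e] at this
      inv := by
        rintro A k ⟨h1, h2⟩
        refine ⟨minv A k, fun x hx => h1.minv_apply hx, h1.minv_isMap, fun y hy => ?_⟩
        obtain ⟨x, hx, rfl⟩ := h1.mem_img.1 hy
        rw [h1.minv_apply hx]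
        have := M.inv_mem (h2 x hx)
        have e : (x⁻¹ * k x)⁻¹ = (k x)⁻¹ * x := by group
        rwa [e] at this }
  have hle : E ≤ hspec.toFS := alperin_coprime hT hEs fun Q hQn hQc hQr β hβ hco =>
    hspec.isMap_toFS.2 ⟨isMap_ofAut hQn.1 hβ, h Q hQn hQc hQr β hβ hco⟩
  exact focal_le fun P f hf x hx => (hspec.isMap_toFS.1 (le_iff.1 hle P f hf)).2 x hx

/-- **Strongly closed subgroups meeting `E = O^p(E)` centrally centralize `E`.** -/
theorem sc_le_cenE [Finite S] [Fact p.Prime] (hS : IsPGroup p S) (hEF : E.IsNormalIn F p)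
    (hhyp : E.hyperfocalSubgroup p = T) (hY : F.StronglyClosed Y) (hYT : Y ⊓ T ≤ E.center) : Y ≤ cenE E F p := by
  have hF := (isNormalIn_iff_ext.1 hEF).1.2.1
  have hE := (isNormalIn_iff_ext.1 hEF).1.2.2
  have hEs := (isNormalIn_iff_ext.1 hEF).1.1
  have hTS := hE.2.1.1
  have hfT := finite_of_le hTS
  have hTp := isPGroup_of_le hS hTS
  have hYS := hY.1
  have hZ := Join.isCentral_center E
  have hcom : ∀ y ∈ Y, ∀ x ∈ T, y * x * y⁻¹ * x⁻¹ ∈ Y ⊓ T := by
    intro y hy x hx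
    have h1 := Y.mul_mem hy (sc_conj_mem hY (hTS hx) (Y.inv_mem hy))
    have e : y * (x * y⁻¹ * x⁻¹) = y * x * y⁻¹ * x⁻¹ := by group
    rw [e] at h1
    exact ⟨h1, T.mul_mem (sc_conj_mem hE.2.1 (hYS hy) hx) (T.inv_mem hx)⟩
  have hM : ⁅T, T⁆ ≤ centralizerIn T Y := by
    rw [Subgroup.commutator_le]
    intro s hs t ht
    refine mem_centralizerIn.2 ⟨?_, fun y hy => ?_⟩
    · rw [commutatorElement_def]
      exact T.mul_mem (T.mul_mem (T.mul_mem hs ht) (T.inv_mem hs)) (T.inv_mem ht)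
    · have h1 := hYT (hcom y hy s hs)
      have h2 := hYT (hcom y hy t ht)
      generalize hz : y * s * y⁻¹ * s⁻¹ = z at h1
      generalize hw : y * t * y⁻¹ * t⁻¹ = w at h2
      have hzc : ∀ x ∈ T, Commute x z := fun x hx => E.center_le_centralizer h1 x hx
      have hwc : ∀ x ∈ T, Commute x w := fun x hx => E.center_le_centralizer h2 x hx
      have hzT := hZ.1 h1
      have hwT := hZ.1 h2
      have e1 : y * s * y⁻¹ = z * s := by rw [← hz]; group
      have e2 : y * t * y⁻¹ = w * t := by rw [← hw]; group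
      have e3 : y * ⁅s, t⁆ * y⁻¹ = ⁅y * s * y⁻¹, y * t * y⁻¹⁆ := by
        rw [commutatorElement_def, commutatorElement_def]; group
      have e4 : ⁅z * s, w * t⁆ = ⁅s, t⁆ := by
        rw [commutatorElement_def, commutatorElement_def]
        have c1 : Commute s w := hwc s hs
        have c2 : Commute t z := hzc t ht
        have c3 : Commute (s * t * s⁻¹) z := hzc _ (T.mul_mem (T.mul_mem hs ht) (T.inv_mem hs))
        have c4 : Commute w z := hzc w hwT
        have c5 : Commute (s * t * s⁻¹ * t⁻¹) w := hwc _ (T.mul_mem (T.mul_mem (T.mul_mem hs ht) (T.inv_mem hs))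
          (T.inv_mem ht))
        calc z * s * (w * t) * (z * s)⁻¹ * (w * t)⁻¹ = z * (s * w) * t * s⁻¹ * z⁻¹ * t⁻¹ * w⁻¹ := by group
          _ = z * (w * s) * t * s⁻¹ * z⁻¹ * t⁻¹ * w⁻¹ := by rw [c1.eq]
          _ = z * w * ((s * t * s⁻¹) * z⁻¹) * t⁻¹ * w⁻¹ := by group
          _ = z * w * (z⁻¹ * (s * t * s⁻¹)) * t⁻¹ * w⁻¹ := by rw [c3.inv_right.eq]
          _ = z * w * z⁻¹ * ((s * t * s⁻¹ * t⁻¹) * w⁻¹) := by group
          _ = z * w * z⁻¹ * (w⁻¹ * (s * t * s⁻¹ * t⁻¹)) := by rw [c5.inv_right.eq]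
          _ = z * (w * z⁻¹) * w⁻¹ * (s * t * s⁻¹ * t⁻¹) := by group
          _ = z * (z⁻¹ * w) * w⁻¹ * (s * t * s⁻¹ * t⁻¹) := by rw [c4.inv_right.eq]
          _ = s * t * s⁻¹ * t⁻¹ := by group
      have e5 : y * ⁅s, t⁆ * y⁻¹ = ⁅s, t⁆ := by rw [e3, e1, e2, e4]
      calc y * ⁅s, t⁆ = y * ⁅s, t⁆ * y⁻¹ * y := by group
        _ = ⁅s, t⁆ * y := by rw [e5]
  -- `T` centralizes `Y`
  have hfoc : E.focalSubgroup ≤ centralizerIn T Y := by
    refine focal_of_gens hTp hEs hM fun Q hQn hQc hQr β hβ hco x hx => ?_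
    obtain ⟨g, hg, hgβ, hgY⟩ := ext_fix hS hEF hY hYT hQc hQr hβ hco
    have hQT := hQn.1
    have hβx := ofAut_mem β hx
    refine mem_centralizerIn.2 ⟨T.mul_mem (T.inv_mem (hQT hx)) (hQT hβx), fun y hy => ?_⟩
    have hc := hcom y hy x (hQT hx)
    have hyW := le_sup_right (a := Q) hy
    have hxW := le_sup_left (b := Y) hx
    have h1 : y * ofAut β x * y⁻¹ * (ofAut β x)⁻¹ = y * x * y⁻¹ * x⁻¹ := by
      have h2 : g (y * x * y⁻¹ * x⁻¹) = y * x * y⁻¹ * x⁻¹ := hgY _ hc.1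
      rw [hg.map_mul (Subgroup.mul_mem _ (Subgroup.mul_mem _ hyW hxW) (Subgroup.inv_mem _ hyW))
        (Subgroup.inv_mem _ hxW), hg.map_conj hyW hxW, hg.map_inv hxW, hgβ x hx, hgY y hy] at h2
      exact h2
    have e1 : y * ofAut β x * y⁻¹ = (y * x * y⁻¹ * x⁻¹) * ofAut β x := by rw [← h1]; group
    calc y * (x⁻¹ * ofAut β x) = (y * x * y⁻¹)⁻¹ * (y * ofAut β x * y⁻¹) * y := by group
      _ = (y * x * y⁻¹)⁻¹ * ((y * x * y⁻¹ * x⁻¹) * ofAut β x) * y := by rw [e1]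
      _ = x⁻¹ * ofAut β x * y := by group
  have hTY : T ≤ centralizerIn T Y := by
    conv_lhs => rw [← hhyp]
    exact hyper_le_focal.trans hfoc
  have hYC : Y ≤ centralizerIn S T := fun y hy => mem_centralizerIn.2 ⟨hYS hy, fun t ht =>
    ((mem_centralizerIn.1 (hTY ht)).2 y hy).symm⟩
  refine le_cenE hS hEF hYC fun P f hf => ?_
  exact ext_of_gens hS hEs hTS hE.1 hYC (fun Q _ hQc hQr β hβ hco => ext_fix hS hEF hY hYT hQc hQr hβ hco) hf

end Cfsg.Agent.Fus
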