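import Cfsg.Agent.Fus.CPN3
import Cfsg.Agent.Fus.Trans2
set_option autoImplicit false

/-!
# Hulls of components and normal subsystems (helper85)
-/

namespace Cfsg.Agent.Fus

open Cfsg Cfsg.FusionSystem Cfsg.Agent.H85
open scoped commutatorElement

variable {Ω : Type*} [Group Ω] {S T U W : Subgroup Ω} {F : FusionSystem S} {E : FusionSystem T}
  {C : FusionSystem U} {N : FusionSystem W} {p : ℕ}

theorem Hull.core_le_center [Finite S] [Fact p.Prime] (hS : IsPGroup p S) (h : Hull C F p E) : E.core ≤ E.center := by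
  have hTS := (isNormalIn.sc h.normal).1
  have hfT := finite_of_le hTS
  exact h.core_le hS (comp_core_comm (isPGroup_of_le hS hTS) h.normal.1.1 (h.compE hS))

theorem Hull.center_le_comm [Finite S] [Fact p.Prime] (hS : IsPGroup p S) (h : Hull C F p E) :
    E.center ≤ ⁅T, T⁆ := by
  have hTS := (isNormalIn.sc h.normal).1
  have hfT := finite_of_le hTS
  intro x hx
  have h1 : x ∈ E.focalSubgroup := hyper_le_focal (p := p) (by rw [h.hyper hS]; exact Join.center_le E hx)
  have h2 : x ∈ E.focalSubgroup ⊓ E.center := ⟨h1, hx⟩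
  rw [Bi.focal_inf_center (isPGroup_of_le hS hTS) h.normal.1.1] at h2
  exact h2.1

/-- a strongly closed subgroup commuting with `W`, intersection in the commutator subgroup -/
theorem sc_le_cenE_of_comm [Finite S] [Fact p.Prime] (hS : IsPGroup p S) (hN : N.IsNormalIn F p)
    (hT : F.StronglyClosed T) (hTW : T ≤ centralizerIn S W) (hV : T ⊓ W ≤ ⁅T, T⁆) : T ≤ cenE N F p := by
  obtain ⟨n, hn⟩ := IsPGroup.iff_card.1 hS
  intro x hx
  refine mem_cenE.2 ⟨hTW hx, fun P hP κ hκ => ?_⟩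
  have hTP : T ≤ centralizerIn S P := hTW.trans (centralizerIn_anti hP.1)
  have hTP' : T ≤ P ⊔ centralizerIn S P := hTP.trans le_sup_right
  have hm := hκ.good.isMap
  have hmem : ∀ b ∈ T, ofAut κ b ∈ T := fun b hb => sc_map_mem hT hm (hTP' hb) hb
  have hmod : ∀ b ∈ T, b⁻¹ * ofAut κ b ∈ T ⊓ W := fun b hb =>
    ⟨T.mul_mem (T.inv_mem hb) (hmem b hb), hP.1 (hκ.good.triv b (hTP hb))⟩
  have hcW : ∀ v ∈ T ⊓ W, ∀ b ∈ T, v * b = b * v := fun v hv b hb => (mem_centralizerIn.1 (hTW hb)).2 v hv.2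
  have hcomm : ∀ z ∈ ⁅T, T⁆, z ∈ T ∧ ofAut κ z = z := by
    have hle : ⁅T, T⁆ ≤
        ({ carrier := {z | z ∈ T ∧ ofAut κ z = z}
           one_mem' := ⟨T.one_mem, hm.map_one⟩
           mul_mem' := fun {a b} ha hb => ⟨T.mul_mem ha.1 hb.1, by rw [hm.map_mul (hTP' ha.1) (hTP' hb.1), ha.2, hb.2]⟩
           inv_mem' := fun {a} ha => ⟨T.inv_mem ha.1, by rw [hm.map_inv (hTP' ha.1), ha.2]⟩ } : Subgroup Ω) := by
      rw [Subgroup.commutator_le]
      intro b hb c hc
      refine ⟨?_, ?_⟩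
      · rw [commutatorElement_def]
        exact T.mul_mem (T.mul_mem (T.mul_mem hb hc) (T.inv_mem hb)) (T.inv_mem hc)
      · rw [commutatorElement_def, hm.map_mul (Subgroup.mul_mem _ (Subgroup.mul_mem _ (hTP' hb) (hTP' hc))
          (Subgroup.inv_mem _ (hTP' hb))) (Subgroup.inv_mem _ (hTP' hc)),
          hm.map_mul (Subgroup.mul_mem _ (hTP' hb) (hTP' hc)) (Subgroup.inv_mem _ (hTP' hb)),
          hm.map_mul (hTP' hb) (hTP' hc), hm.map_inv (hTP' hb), hm.map_inv (hTP' hc)]
        obtain ⟨v, hv, hbv⟩ : ∃ v ∈ T ⊓ W, ofAut κ b = b * v := ⟨_, hmod b hb, by group⟩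
        obtain ⟨w, hw, hcw⟩ : ∃ w ∈ T ⊓ W, ofAut κ c = c * w := ⟨_, hmod c hc, by group⟩
        rw [hbv, hcw]
        have c1 := hcW v hv c hc
        have c2 := hcW v hv w hw.1
        have c3 := hcW w hw b hb
        have c4 := hcW v hv b⁻¹ (T.inv_mem hb)
        have c5 := hcW w hw b⁻¹ (T.inv_mem hb)
        calc b * v * (c * w) * (b * v)⁻¹ * (c * w)⁻¹ = b * (v * c) * w * v⁻¹ * b⁻¹ * w⁻¹ * c⁻¹ := by group
          _ = b * c * (v * w) * v⁻¹ * b⁻¹ * w⁻¹ * c⁻¹ := by rw [c1]; group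
          _ = b * c * (w * b⁻¹) * w⁻¹ * c⁻¹ := by rw [c2]; group
          _ = b * c * b⁻¹ * c⁻¹ := by rw [c5]; group
    exact fun z hz => hle hz
  exact coprime_fix (P := P ⊔ centralizerIn S P) (κ := κ) (A := T ⊓ W) (B := T) hTP' inf_le_left
    (fun a ha => (hcomm a (hV ha)).2) hmod (pow_orderOf_eq_one κ)
    (fun a ha => by rw [← hn, pow_card_eq_one_of_mem (hT.1 ha.1)]) (Nat.Coprime.pow_right n hκ.co) x hx

/-- maps of the centralized systems, in a normal subsystem -/
theorem cenE_mono_of_normal [Finite S] [Fact p.Prime] (hS : IsPGroup p S) {M : FusionSystem W}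
    (hME : M.IsNormalIn E p) (hMF : M.IsNormalIn F p) (hEF : E.IsSubsystemOf F) (hTS : T ≤ S) :
    cenE M E p ≤ cenE M F p := by
  have hfT := finite_of_le hTS
  refine le_cenE hS hMF ?_ fun P f hf => ?_
  · exact cenE_le.trans fun x hx => mem_centralizerIn.2 ⟨hTS (mem_centralizerIn.1 hx).1, (mem_centralizerIn.1 hx).2⟩
  · obtain ⟨g, hg, h1, h2⟩ := cenE_extends (isPGroup_of_le hS hTS) hME hf
    exact ⟨g, isSubsystemOf_iff.1 hEF _ _ hg, h1, h2⟩

/-- A component lies in a normal subsystem or its hull commutes with it. -/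
theorem comp_or_commute [Finite S] [Fact p.Prime] (hS : IsPGroup p S) (hF : F.IsSaturated p)
    (hN : N.IsNormalIn F p) (hE : Hull C F p E) :
    C.IsComponentIn N p ∨ (T ≤ cenE N F p ∧ W ≤ cenE E F p) := by
  refine normal_ind (p := p) (fun {S} F => ∀ {W U T : Subgroup Ω} {N : FusionSystem W} {C : FusionSystem U}
    {E : FusionSystem T}, N.IsNormalIn F p → Hull C F p E →
    C.IsComponentIn N p ∨ (T ≤ cenE N F p ∧ W ≤ cenE E F p)) ?_ F hS hF hN hE
  intro S F _ hS hF IH W U T N C E hN hE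
  have hTs := isNormalIn.sc hE.normal
  have hTS := hTs.1
  have hWs := isNormalIn.sc hN
  have hfT := finite_of_le hTS
  have hTp := isPGroup_of_le hS hTS
  by_cases hEF : T = S ∧ ∀ P, E.Hom P = F.Hom P
  · obtain ⟨rfl, h2⟩ := hEF
    have : E = F := fusionSystem_ext h2
    subst this
    obtain ⟨rfl, h3⟩ := eq_self_of_subnormal hE.comp.1 hE.least
    have : C = E := fusionSystem_ext h3
    subst this
    rcases quasisimple_normal hS hE.comp.2 hN with h4 | ⟨rfl, h4⟩
    · right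
      have hcen := Join.isCentral_center C
      have hcm := isCentral_iff_isMap.1 hcen
      have hWc : ∀ w ∈ W, ∀ y ∈ U, y * w = w * y := fun w hw y hy =>
        Subgroup.mem_centralizer_iff.1 (center_le_centralizer C (h4 hw)) y hy
      constructor
      · refine le_cenE hS hN (fun x hx => mem_centralizerIn.2 ⟨hx, fun w hw => (hWc w hw x hx).symm⟩) ?_
        intro P f hf
        have hfC := isSubsystemOf_iff.1 hN.1.2.2.1 _ _ hf
        refine ⟨fun x => x, isMap_id' (sup_le hfC.le le_rfl), fun x hx => ?_, fun _ _ => rfl⟩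
        exact (IsFac.central_fixes hcen hfC hx (h4 (hf.le hx))).symm
      · refine le_cenE hS hE.normal (fun x hx => mem_centralizerIn.2 ⟨hWs.1 hx, hWc x hx⟩) ?_
        intro P f hf
        obtain ⟨g, hg, h5, h6⟩ := hcm.2 P f hf
        exact ⟨g, hg.mono (sup_le_sup_left h4 _), h5, fun c hc => h6 c (h4 hc)⟩
    · left
      have : N = C := fusionSystem_ext h4
      subst this
      exact ⟨IsSubnormalIn.refl N p, hE.comp.2⟩
  · obtain ⟨M, ⟨hMF, hME, hMN⟩, -⟩ := exists_meet hS hE.normal hN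
    obtain ⟨T', E', hE'⟩ := exists_hull hTp hE.normal.1.1 (hE.compE hS)
    rcases IH E hE.normal hEF hME hE' with h1 | ⟨h1, -⟩
    · left
      exact comp_of_normal h1 hMN
    · right
      have h2 : U ≤ cenE M F p := (hE'.le.trans h1).trans (cenE_mono_of_normal hS hME hMF hE.normal.1.2.2.1 hTS)
      obtain ⟨K, hK, -⟩ := exists_cenSub hS hMF
      have h3 : T ≤ cenE M F p := sub_le (hE.least _ K hK h2)
      have h4 : T ≤ centralizerIn S (T ⊓ W) := h3.trans cenE_le
      have hab : IsMulCommutative ↥(T ⊓ W) :=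
        ⟨⟨fun a b => Subtype.ext ((mem_centralizerIn.1 (h4 b.2.1)).2 a a.2)⟩⟩
      have hVn : E.IsNormal (T ⊓ W) := stronglyClosed_abelian_normal hTp hE.normal.1.1
        (sc_of_subsystem hE.normal.1.2.2.1 (sc_inf hTs hWs) inf_le_left) hab
      have hVc : T ⊓ W ≤ E.center := (Join.le_core hVn).trans (hE.core_le_center hS)
      have h5 : W ≤ cenE E F p := sc_le_cenE hS hE.normal (hE.hyper hS) hWs (by rw [inf_comm]; exact hVc)
      refine ⟨sc_le_cenE_of_comm hS hN hTs ?_ (hVc.trans (hE.center_le_comm hS)), h5⟩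
      exact fun x hx => mem_centralizerIn.2 ⟨hTS hx, fun w hw =>
        ((mem_centralizerIn.1 (cenE_le (h5 hw))).2 x hx).symm⟩

end Cfsg.Agent.Fus
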