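import Cfsg.Agent.Fus.Lay8
set_option autoImplicit false

/-!
# The generalized Fitting subsystem is self-centralizing (helper85)
-/

namespace Cfsg.Agent.Fus

open Cfsg Cfsg.FusionSystem Cfsg.Agent.H85

variable {Ω : Type*} [Group Ω] {S T U W : Subgroup Ω} {F : FusionSystem S} {E : FusionSystem T}
  {C : FusionSystem U} {N : FusionSystem W} {D : FusionSystem U} {p : ℕ}

/-- the part of `C_S(D)` in `D` is central -/
theorem cenE_le_center [Finite S] [Fact p.Prime] (hS : IsPGroup p S) (hD : D.IsNormalIn F p)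
    (h : cenE D F p ≤ U) : cenE D F p ≤ D.center := by
  have hUs := isNormalIn.sc hD
  have hfU := finite_of_le hUs.1
  have hUp := isPGroup_of_le hS hUs.1
  have hab : IsMulCommutative ↥(cenE D F p) :=
    ⟨⟨fun a b => Subtype.ext ((mem_centralizerIn.1 (cenE_le b.2)).2 a (h a.2))⟩⟩
  have hn : D.IsNormal (cenE D F p) := stronglyClosed_abelian_normal hUp hD.1.1
    (sc_of_subsystem hD.1.2.2.1 (cenE_stronglyClosed hS hD) h) hab
  exact normal_le_center (F := F) hn fun P f hf => cenE_extends hS hD hf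

/-- the centre is in `C_S(D)` -/
theorem center_le_cenE [Finite S] [Fact p.Prime] (hS : IsPGroup p S) (hD : D.IsNormalIn F p) :
    D.center ≤ centralizerIn S U ∧ (∀ P : Subgroup Ω, D.Hom P ⊆ F.centralizerHom D.center P) ∧
      D.center ≤ cenE D F p := by
  have hUs := isNormalIn.sc hD
  have hfU := finite_of_le hUs.1
  have hc : D.center ≤ centralizerIn S U := fun x hx => mem_centralizerIn.2 ⟨hUs.1 (Join.center_le D hx),
    fun y hy => Subgroup.mem_centralizer_iff.1 (center_le_centralizer D hx) y hy⟩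
  have h1 : ∀ (P : Subgroup Ω) (f : Ω → Ω), IsMap D P f → ∃ g, IsMap F (P ⊔ D.center) g ∧ (∀ x ∈ P, g x = f x) ∧
      ∀ c ∈ D.center, g c = c := by
    intro P f hf
    obtain ⟨g, hg, h1, h2⟩ := (isCentral_iff_isMap.1 (Join.isCentral_center D)).2 P f hf
    exact ⟨g, isSubsystemOf_iff.1 hD.1.2.2.1 _ _ hg, h1, h2⟩
  exact ⟨hc, (subset_centralizerHom_iff hUs.1 hc).2 h1, le_cenE hS hD hc h1⟩

/-- **Self-centralizing property.** -/
theorem genFitting_cenE [Finite S] [Fact p.Prime] (hS : IsPGroup p S) (hF : F.IsSaturated p)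
    (hD : D.IsGeneralizedFittingOf F p) : cenE D F p ≤ U := by
  obtain ⟨T, E, hE, hDc⟩ := hD
  have hcn := genFitting_cnorm hS hF hE hDc
  have hDn := hcn.normal
  have hUs := isNormalIn.sc hDn
  obtain ⟨N, hN, hNc⟩ := exists_cenSub hS hDn
  have hKs := isNormalIn.sc hN
  have hfK := finite_of_le hKs.1
  have hKp := isPGroup_of_le hS hKs.1
  have hUcK : U ≤ centralizerIn S (cenE D F p) := fun x hx => mem_centralizerIn.2 ⟨hUs.1 hx, fun y hy =>
    ((mem_centralizerIn.1 (cenE_le hy)).2 x hx).symm⟩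
  -- `N` is constrained
  have hcon : N.IsConstrained p := by
    rw [constrained_iff_no_component hKp hN.1.1]
    rintro ⟨V, C, hC⟩
    have hCF := comp_of_normal hC hN
    have hVK := subnormal_le hC.1
    have hVS := subnormal_le hCF.1
    have hfV := finite_of_le hVS
    have hVp := isPGroup_of_le hS hVS
    have hCE := hE.2.1 V C hCF
    have hVU : V ≤ U := (sub_le hCE).trans hcn.cp.le_right
    refine not_le_center_of_quasisimple hVp hC.2 ?_
    refine Join.le_center (isCentral_iff_isMap.2 ⟨le_rfl, fun P f hf => ?_⟩)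
    have hfN := isSubsystemOf_iff.1 (subnormal_isSubsystemOf hC.1) _ _ hf
    obtain ⟨-, -, g, hg, hgf, κ, hκ, hgκ⟩ := mem_centralizerHom_iff.1 (hNc P hfN.hom_mem)
    refine ⟨fun x => x, isMap_id' (sup_le hf.le le_rfl), fun x hx => ?_, fun _ _ => rfl⟩
    have h1 := hgf x hx
    have h2 := hgκ x (hVU (hf.le hx))
    rw [Subgroup.mem_bot.1 hκ, ofAut_one (hVU (hf.le hx))] at h2
    have h3 : g x = f x := by rw [h1, ofHom_apply _ hx]; rfl
    exact h2.symm.trans h3
  have h1 := IsFac.centralizerIn_core_le hcon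
  have h2 : N.core ≤ F.core := Join.le_core (core_isNormal hS hF hN.1.2.2)
  have h3 : N.core ≤ U := h2.trans hcn.cp.le_left
  have h4 : cenE D F p ≤ N.core := by
    refine le_trans (fun x hx => mem_centralizerIn.2 ⟨hx, fun y hy => ?_⟩) h1
    exact (mem_centralizerIn.1 (cenE_le hx)).2 y (h3 hy)
  exact h4.trans h3

theorem genFitting_selfCentralizing [Finite S] [Fact p.Prime] (hS : IsPGroup p S) (hF : F.IsSaturated p)
    (hD : D.IsGeneralizedFittingOf F p) :
    (D.center ≤ centralizerIn S U ∧ ∀ P : Subgroup Ω, D.Hom P ⊆ F.centralizerHom D.center P) ∧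
      ∀ Y : Subgroup Ω, Y ≤ centralizerIn S U →
        (∀ P : Subgroup Ω, D.Hom P ⊆ F.centralizerHom Y P) → Y ≤ D.center := by
  have hDn := (genFitting hS hF).2 U D hD
  obtain ⟨h1, h2, -⟩ := center_le_cenE hS hDn
  refine ⟨⟨h1, h2⟩, fun Y hY hYc => ?_⟩
  exact (le_cenE' hS hDn hY hYc).trans (cenE_le_center hS hDn (genFitting_cenE hS hF hD))

end Cfsg.Agent.Fus
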