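import Cfsg.Agent.Fus.WJoin

set_option autoImplicit false

/-!
# Maps extending to `P C_S(T)` trivially modulo `T` (helper35)
-/

namespace Cfsg.Agent.Fus

open Cfsg Cfsg.FusionSystem

variable {Ω : Type*} [Group Ω] {S T : Subgroup Ω} {F : FusionSystem S} {E : FusionSystem T} {p : ℕ}

/-- `f : P → T` extends to a map of `F` on `P C_S(T)` which is trivial modulo `T`. -/
def MM (F : FusionSystem S) (T P : Subgroup Ω) (f : Ω → Ω) : Prop :=
  ∃ g, IsMap F (P ⊔ centralizerIn S T) g ∧ (∀ x ∈ P, g x = f x) ∧ ∀ x ∈ P ⊔ centralizerIn S T, x⁻¹ * g x ∈ T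

theorem MM.congr {P : Subgroup Ω} {f f' : Ω → Ω} (h : MM F T P f) (hff : ∀ x ∈ P, f x = f' x) : MM F T P f' := by
  obtain ⟨g, hg, h1, h2⟩ := h
  exact ⟨g, hg, fun x hx => by rw [h1 x hx, hff x hx], h2⟩

theorem MM.mono {P Q : Subgroup Ω} {f : Ω → Ω} (h : MM F T P f) (hQ : Q ≤ P) : MM F T Q f := by
  obtain ⟨g, hg, h1, h2⟩ := h
  have hle : Q ⊔ centralizerIn S T ≤ P ⊔ centralizerIn S T := sup_le_sup_right hQ _
  exact ⟨g, hg.mono hle, fun x hx => h1 x (hQ hx), fun x hx => h2 x (hle hx)⟩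

theorem MM.isMap {P : Subgroup Ω} {f : Ω → Ω} (h : MM F T P f) : IsMap F P f := by
  obtain ⟨g, hg, h1, -⟩ := h
  exact (hg.mono le_sup_left).congr h1

/-- the elements of `C_S(T)` are moved inside the image of `P` -/
theorem mm_cent {P : Subgroup Ω} {f g : Ω → Ω} (hT : F.StronglyClosed T) (hP : TCen F T P)
    (hg : IsMap F (P ⊔ centralizerIn S T) g) (h1 : ∀ x ∈ P, g x = f x)
    (h2 : ∀ x ∈ P ⊔ centralizerIn S T, x⁻¹ * g x ∈ T) {c : Ω} (hc : c ∈ centralizerIn S T) : c⁻¹ * g c ∈ img P f := by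
  have hf : IsMap F P f := (hg.mono le_sup_left).congr h1
  have hcP : c ∈ P ⊔ centralizerIn S T := le_sup_right (a := P) hc
  refine hP.2 _ hf.isConj (mem_centralizerIn.mpr ⟨h2 c hcP, fun y hy => ?_⟩)
  obtain ⟨x, hx, rfl⟩ := hf.mem_img.mp hy
  have hxT : f x ∈ T := by
    have := sc_map_mem hT hf hx (hP.1 hx)
    exact this
  have hc' := (mem_centralizerIn.mp hc).2
  have h3 : f x * g c = g c * f x := by
    have e : x * c = c * x := hc' x (hP.1 hx)
    have h4 := congrArg g e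
    rwa [hg.map_mul (le_sup_left (a := P) hx) hcP, hg.map_mul hcP (le_sup_left (a := P) hx), h1 x hx] at h4
  have h4 : f x * c = c * f x := hc' _ hxT
  calc f x * (c⁻¹ * g c) = c⁻¹ * (c * f x) * c⁻¹ * g c := by group
    _ = c⁻¹ * (f x * c) * c⁻¹ * g c := by rw [h4]
    _ = c⁻¹ * (f x * g c) := by group
    _ = c⁻¹ * g c * f x := by rw [h3]; group

theorem mm_img {P : Subgroup Ω} {f g : Ω → Ω} (hT : F.StronglyClosed T) (hP : TCen F T P)
    (hg : IsMap F (P ⊔ centralizerIn S T) g) (h1 : ∀ x ∈ P, g x = f x)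
    (h2 : ∀ x ∈ P ⊔ centralizerIn S T, x⁻¹ * g x ∈ T) :
    img (P ⊔ centralizerIn S T) g = img P f ⊔ centralizerIn S T := by
  apply le_antisymm
  · rw [hg.img_le_iff]
    refine hg.forall_sup_mem (fun x hx => ?_) fun c hc => ?_
    · rw [h1 x hx]
      exact le_sup_left (a := img P f) (subset_img hx)
    · have h3 := mm_cent hT hP hg h1 h2 hc
      have e : g c = c * (c⁻¹ * g c) := by group
      rw [e]
      exact Subgroup.mul_mem _ (le_sup_right (a := img P f) hc) (le_sup_left (a := img P f) h3)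
  · have h4 : img P f ≤ img (P ⊔ centralizerIn S T) g := by
      rw [← img_congr h1]
      exact img_mono le_sup_left
    refine sup_le h4 fun c hc => ?_
    have h3 := mm_cent hT hP hg h1 h2 hc
    have e : c = g c * (c⁻¹ * g c)⁻¹ := by group
    rw [e]
    exact Subgroup.mul_mem _ (subset_img (le_sup_right (a := P) hc)) (Subgroup.inv_mem _ (h4 h3))

theorem MM.comp {P : Subgroup Ω} {f f' : Ω → Ω} (hT : F.StronglyClosed T) (hP : TCen F T P) (h : MM F T P f)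
    (h' : MM F T (img P f) f') : MM F T P (fun x => f' (f x)) := by
  obtain ⟨g, hg, h1, h2⟩ := h
  obtain ⟨g', hg', h1', h2'⟩ := h'
  have e := mm_img hT hP hg h1 h2
  have hmem : ∀ x ∈ P ⊔ centralizerIn S T, g x ∈ img P f ⊔ centralizerIn S T := fun x hx => by
    rw [← e]
    exact subset_img hx
  refine ⟨fun x => g' (g x), hg'.comp hg hmem, fun x hx => ?_, fun x hx => ?_⟩
  · show g' (g x) = f' (f x)
    rw [h1 x hx, h1' _ (subset_img hx)]
  · have e2 : x⁻¹ * g' (g x) = (x⁻¹ * g x) * ((g x)⁻¹ * g' (g x)) := by group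
    show x⁻¹ * g' (g x) ∈ T
    rw [e2]
    exact T.mul_mem (h2 x hx) (h2' _ (hmem x hx))

theorem MM.minv {P : Subgroup Ω} {f : Ω → Ω} (hT : F.StronglyClosed T) (hP : TCen F T P) (h : MM F T P f) :
    MM F T (img P f) (minv P f) := by
  have hf := h.isMap
  obtain ⟨g, hg, h1, h2⟩ := h
  have e := mm_img hT hP hg h1 h2
  refine ⟨Cfsg.Agent.Fus.minv (P ⊔ centralizerIn S T) g, ?_, fun y hy => ?_, fun y hy => ?_⟩
  · rw [← e]
    exact hg.minv_isMap
  · obtain ⟨x, hx, rfl⟩ := hf.mem_img.mp hy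
    rw [hf.minv_apply hx, ← h1 x hx, hg.minv_apply (le_sup_left (a := P) hx)]
  · rw [← e] at hy
    obtain ⟨x, hx, rfl⟩ := hg.mem_img.mp hy
    rw [hg.minv_apply hx]
    have e2 : (g x)⁻¹ * x = (x⁻¹ * g x)⁻¹ := by group
    rw [e2]
    exact T.inv_mem (h2 x hx)

theorem mm_conj {P : Subgroup Ω} (hT : F.StronglyClosed T) (hP : P ≤ T) {t : Ω} (ht : t ∈ T) :
    MM F T P (fun x => t * x * t⁻¹) := by
  have hTS := hT.1
  have hle : P ⊔ centralizerIn S T ≤ S := sup_le (hP.trans hTS) (centralizerIn_le T)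
  refine ⟨_, isMap_conj hle (hTS ht), fun _ _ => rfl, fun x hx => ?_⟩
  have h1 := sc_conj_mem hT (S.inv_mem (hle hx)) ht
  have e : x⁻¹ * (t * x * t⁻¹) = x⁻¹ * t * x⁻¹⁻¹ * t⁻¹ := by group
  rw [e]
  exact T.mul_mem h1 (T.inv_mem ht)

theorem extZ_of_mm [Finite S] (hT : F.StronglyClosed T) {α : MulAut T} (h : MM F T T (ofAut α)) : ExtZ F T α := by
  have hTS := hT.1
  obtain ⟨g, hg, h1, h2⟩ := h
  have hfT := finite_of_le hTS
  have hTc : TCen F T T := ⟨le_rfl, fun R hR => by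
    have : R = T := Subgroup.eq_of_le_of_card_ge (isConj_le_sc hT le_rfl hR) (isConj_card_eq hR).ge
    rw [this]
    exact centralizerIn_le T⟩
  have e := mm_img hT hTc hg h1 h2
  rw [img_ofAut] at e
  obtain ⟨β, hβ, hβx⟩ := hg.exists_aut e
  refine ⟨β, hβ, fun x hx => ?_, fun c hc => ?_⟩
  · rw [hβx x (le_sup_left (a := T) hx), h1 x hx]
  · have h3 : ∀ x ∈ T, ofAut β x = ofAut α x := fun x hx => by rw [hβx x (le_sup_left (a := T) hx), h1 x hx]
    rw [inf_centralizer_eq hTS]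
    refine ⟨?_, Subgroup.mul_mem _ (Subgroup.inv_mem _ hc) (ofAut_centralizer hβ hTS h3 hc)⟩
    rw [hβx c (le_sup_right (a := T) hc)]
    exact h2 c (le_sup_right (a := T) hc)

/-! ### The extension step -/

/-- the automorphisms of `X` in `F` acting as elements of `A` on `P` and trivially modulo `P` -/
def actSub (F : FusionSystem S) (X P A : Subgroup Ω) (hPX : P ≤ X) (hA : A ≤ Subgroup.normalizer (P : Set Ω)) :
    Subgroup (MulAut X) where
  carrier := {w | w ∈ F.autGroup X ∧ (∀ x ∈ X, x⁻¹ * ofAut w x ∈ P) ∧ ∃ a ∈ A, ∀ x ∈ P, ofAut w x = a * x * a⁻¹}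
  one_mem' := ⟨Subgroup.one_mem _, fun x hx => by rw [ofAut_one hx, inv_mul_cancel]; exact P.one_mem,
    1, A.one_mem, fun x hx => by rw [ofAut_one (hPX hx)]; group⟩
  mul_mem' := by
    rintro w w' ⟨h1, h2, a, ha, h3⟩ ⟨k1, k2, b, hb, k3⟩
    refine ⟨Subgroup.mul_mem _ h1 k1, fun x hx => ?_, a * b, A.mul_mem ha hb, fun x hx => ?_⟩
    · rw [ofAut_mul _ _ hx]
      have e : x⁻¹ * ofAut w (ofAut w' x) = (x⁻¹ * ofAut w' x) * ((ofAut w' x)⁻¹ * ofAut w (ofAut w' x)) := by group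
      rw [e]
      exact P.mul_mem (k2 x hx) (h2 _ (ofAut_mem w' hx))
    · have hbx : b * x * b⁻¹ ∈ P := (Subgroup.mem_normalizer_iff.mp (hA hb) x).mp hx
      rw [ofAut_mul _ _ (hPX hx), k3 x hx, h3 _ hbx]
      group
  inv_mem' := by
    rintro w ⟨h1, h2, a, ha, h3⟩
    refine ⟨Subgroup.inv_mem _ h1, fun x hx => ?_, a⁻¹, A.inv_mem ha, fun x hx => ?_⟩
    · have h4 := h2 _ (ofAut_mem w⁻¹ hx)
      rw [ofAut_apply_inv w hx] at h4
      have e : x⁻¹ * ofAut w⁻¹ x = ((ofAut w⁻¹ x)⁻¹ * x)⁻¹ := by group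
      rw [e]
      exact P.inv_mem h4
    · have hy : a⁻¹ * x * a⁻¹⁻¹ ∈ P := (Subgroup.mem_normalizer_iff.mp (hA (A.inv_mem ha)) x).mp hx
      have h4 := h3 _ hy
      have e : a * (a⁻¹ * x * a⁻¹⁻¹) * a⁻¹ = x := by group
      rw [e] at h4
      have h5 := congrArg (ofAut w⁻¹) h4
      rw [ofAut_inv_apply w (hPX hy)] at h5
      exact h5.symm

theorem mem_actSub {X P A : Subgroup Ω} {hPX : P ≤ X} {hA : A ≤ Subgroup.normalizer (P : Set Ω)} {w : MulAut X} :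
    w ∈ actSub F X P A hPX hA ↔ w ∈ F.autGroup X ∧ (∀ x ∈ X, x⁻¹ * ofAut w x ∈ P) ∧
      ∃ a ∈ A, ∀ x ∈ P, ofAut w x = a * x * a⁻¹ := Iff.rfl

theorem isPGroup_actSub [Finite S] [Fact p.Prime] (hS : IsPGroup p S) {X P A : Subgroup Ω} (hXS : X ≤ S)
    (hAS : A ≤ S) {hPX : P ≤ X} {hA : A ≤ Subgroup.normalizer (P : Set Ω)} :
    IsPGroup p (actSub F X P A hPX hA) := by
  rintro ⟨w, hw⟩
  obtain ⟨h1, h2, a, ha, h3⟩ := mem_actSub.mp hw
  obtain ⟨k, hk⟩ := hS ⟨a, hAS ha⟩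
  have hk' : a ^ p ^ k = 1 := congrArg Subtype.val hk
  have hpow : ∀ n : ℕ, ∀ x ∈ P, ofAut (w ^ n) x = a ^ n * x * (a ^ n)⁻¹ := by
    intro n
    induction n with
    | zero => intro x hx; rw [pow_zero, pow_zero, ofAut_one (hPX hx)]; group
    | succ n ih =>
      intro x hx
      have h4 : a ^ n * x * (a ^ n)⁻¹ ∈ P :=
        (Subgroup.mem_normalizer_iff.mp (hA (A.pow_mem ha n)) x).mp hx
      rw [pow_succ', pow_succ', ofAut_mul _ _ (hPX hx), ih x hx, h3 _ h4]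
      group
  have hwn : w ^ p ^ k ∈ actSub F X P A hPX hA := Subgroup.pow_mem _ hw _
  obtain ⟨-, h5, -⟩ := mem_actSub.mp hwn
  obtain ⟨j, hj⟩ := pow_eq_one_of_stab hS hXS hPX (κ := w ^ p ^ k)
    (fun x hx => by rw [hpow _ x hx, hk']; group) h5
  refine ⟨k + j, Subtype.ext ?_⟩
  show w ^ p ^ (k + j) = 1
  rw [pow_add, pow_mul, hj]

/-- **Extension step.** -/
theorem extend_step [Finite S] [Fact p.Prime] (hS : IsPGroup p S) (hF : F.IsSaturated p) (hT : F.StronglyClosed T)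
    {P A X : Subgroup Ω} (hP : TCen F T P) (hPX : P ≤ X) (hXS : X ≤ S) (hAT : A ≤ T)
    (hA : A ≤ Subgroup.normalizer (P : Set Ω)) (hAX : ∀ a ∈ A, ∀ x ∈ X, x⁻¹ * (a * x * a⁻¹) ∈ P)
    {δ : MulAut X} (hδ : δ ∈ F.autGroup X) (hδp : (orderOf δ).Coprime p) (hδP : ∀ x ∈ P, ofAut δ x = x) :
    ∃ δ' ∈ F.autGroup (A ⊔ X), (orderOf δ').Coprime p ∧ (∀ x ∈ A, ofAut δ' x = x) ∧
      ∀ x ∈ X, ofAut δ' x = ofAut δ x := by
  have hTS := hT.1
  have hAS := hAT.trans hTS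
  have hfX := finite_of_le hXS
  have hfAX := finite_mulAut (P := X)
  have hδm := isMap_ofAut hXS hδ
  set W := actSub F X P A hPX hA with hW
  have hWp : IsPGroup p W := isPGroup_actSub hS hXS hAS
  have hAn : A ≤ Subgroup.normalizer (X : Set Ω) := by
    have key : ∀ a ∈ A, ∀ x ∈ X, a * x * a⁻¹ ∈ X := by
      intro a ha x hx
      have := X.mul_mem hx (hPX (hAX a ha x hx))
      have e : x * (x⁻¹ * (a * x * a⁻¹)) = a * x * a⁻¹ := by group
      rwa [e] at this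
    intro a ha
    rw [Subgroup.mem_normalizer_iff]
    intro x
    refine ⟨key a ha x, fun h => ?_⟩
    have := key a⁻¹ (A.inv_mem ha) _ h
    have e : a⁻¹ * (a * x * a⁻¹) * a⁻¹⁻¹ = x := by group
    rwa [e] at this
  have hAW : ∀ a (ha : a ∈ A), conjAut a (hAn ha) ∈ W := by
    intro a ha
    refine mem_actSub.mpr ⟨conjAut_mem_autGroup hXS (hAS ha) _, fun x hx => ?_, a, ha, fun x hx => ?_⟩
    · rw [ofAut_conjAut _ _ hx]
      exact hAX a ha x hx
    · rw [ofAut_conjAut _ _ (hPX hx)]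
  -- transport to a fully normalized subgroup
  obtain ⟨X₁, hXX₁, hX₁⟩ := exists_fullyNormalized (F := F) hXS
  obtain ⟨χ₀, hχ₀, hχ₀i⟩ := isConj_iff.mp hXX₁
  have hX₁S := hX₁.1
  have hX₁a := sat_fullyAutomized hS hF hX₁
  have hX₁r := sat_receptive' hS hF hX₁
  obtain ⟨ν, hν, hνW⟩ := IsFullyAutomized.conj_le hX₁a (K := W.map (hχ₀.trans hχ₀i).toMonoidHom) (by
    rintro _ ⟨w, hw, rfl⟩
    exact hχ₀.trans_mem hχ₀i (mem_actSub.mp hw).1) (hWp.map _)
  have hνm := isMap_ofAut hX₁S hν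
  obtain ⟨χ, hχdef⟩ : ∃ χ : Ω → Ω, χ = fun x => ofAut ν (χ₀ x) := ⟨_, rfl⟩
  have hχ : IsMap F X χ := by
    rw [hχdef]
    exact hνm.comp hχ₀ fun x hx => by rw [← hχ₀i]; exact subset_img hx
  have hχi : img X χ = X₁ := by
    rw [hχdef, hχ₀.img_comp, hχ₀i, img_ofAut]
  -- the transported group is induced by `S`
  have hWind : ∀ w ∈ W, hχ.trans hχi w ∈ autInducedBy S X₁ := by
    intro w hw
    have h1 := hνW _ ⟨w, hw, rfl⟩
    have e : hχ.trans hχi w = ν * (hχ₀.trans hχ₀i).toMonoidHom w * ν⁻¹ := by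
      refine ofAut_injective fun y hy => ?_
      rw [← hχi] at hy
      obtain ⟨x, hx, rfl⟩ := hχ.mem_img.mp hy
      have hχ₀x : χ₀ x ∈ X₁ := by rw [← hχ₀i]; exact subset_img hx
      have hχx : χ x ∈ X₁ := by rw [← hχi]; exact subset_img hx
      rw [hχ.ofAut_trans hχi w hx, ofAut_mul _ _ hχx, ofAut_mul _ _ (ofAut_mem _ hχx)]
      have e1 : ofAut ν⁻¹ (χ x) = χ₀ x := by
        rw [hχdef]
        exact ofAut_inv_apply ν hχ₀x
      rw [e1]
      show _ = ofAut ν (ofAut (hχ₀.trans hχ₀i w) (χ₀ x))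
      rw [hχ₀.ofAut_trans hχ₀i w hx, hχdef]
    rw [e]
    exact h1
  -- extension of `χ` to `A ⊔ X`
  have hext : A ⊔ X ≤ FusionSystem.extender S X hχ.hom := by
    refine sup_le (fun a ha => ?_) (le_extender_hom hχ)
    rw [mem_extender_hom]
    obtain ⟨h, hh, hhx⟩ := mem_autInducedBy'.mp (hWind _ (hAW a ha))
    refine ⟨hAS ha, hAn ha, h, hh, fun x hx => ?_⟩
    have hχx : χ x ∈ X₁ := by rw [← hχi]; exact subset_img hx
    rw [← hhx _ hχx, hχ.ofAut_trans hχi _ hx, ofAut_conjAut _ _ hx]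
  obtain ⟨χh, hχh, hχhx⟩ := recep_exists_extend_of_le hX₁r hχ hχi (le_sup_right : X ≤ A ⊔ X)
    fun n hn => (mem_extender_hom hχ).mp (hext hn)
  -- the transported automorphism
  have hδ₁ := hχ.trans_mem hχi hδ
  set δ₁ := hχ.trans hχi δ with hδ₁def
  have hδ₁m := isMap_ofAut hX₁S hδ₁
  have hδ₁p : (orderOf δ₁).Coprime p := by rw [hδ₁def, orderOf_trans]; exact hδp
  have hδ₁P : ∀ x ∈ P, ofAut δ₁ (χ x) = χ x := fun x hx => by
    rw [hχ.ofAut_trans hχi δ (hPX hx), hδP x hx]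
  set W₁ := W.map (hχ.trans hχi).toMonoidHom with hW₁
  -- `δ` normalizes `W`
  have hδW : ∀ w ∈ W, δ * w * δ⁻¹ ∈ W := by
    intro w hw
    obtain ⟨h1, h2, a, ha, h3⟩ := mem_actSub.mp hw
    have hδP' : ∀ x ∈ P, ofAut δ⁻¹ x = x := fun x hx => by
      conv_lhs => rw [← hδP x hx]
      exact ofAut_inv_apply δ (hPX hx)
    refine mem_actSub.mpr ⟨Subgroup.mul_mem _ (Subgroup.mul_mem _ hδ h1) (Subgroup.inv_mem _ hδ), fun x hx => ?_,
      a, ha, fun x hx => ?_⟩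
    · have hy := ofAut_mem δ⁻¹ hx
      have h4 := h2 _ hy
      rw [ofAut_mul _ _ hx, ofAut_mul _ _ hy]
      have h5 := hδP _ h4
      rw [hδm.map_mul (X.inv_mem hy) (ofAut_mem w hy), hδm.map_inv hy, ofAut_apply_inv δ hx] at h5
      rw [h5]
      exact h4
    · have hax : a * x * a⁻¹ ∈ P := (Subgroup.mem_normalizer_iff.mp (hA ha) x).mp hx
      rw [ofAut_mul _ _ (hPX hx), ofAut_mul _ _ (ofAut_mem _ (hPX hx)), hδP' x hx, h3 x hx, hδP _ hax]
  have hδ₁W : ∀ w ∈ W₁, δ₁ * w * δ₁⁻¹ ∈ W₁ := by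
    rintro _ ⟨w, hw, rfl⟩
    refine ⟨δ * w * δ⁻¹, hδW w hw, ?_⟩
    show hχ.trans hχi (δ * w * δ⁻¹) = δ₁ * hχ.trans hχi w * δ₁⁻¹
    rw [map_mul, map_mul, map_inv]
  -- extension of `δ₁`
  set N := kNorm S X₁ W₁ with hN
  have hNmem : ∀ s ∈ N, s ∈ S ∧ ∃ w ∈ W₁, ∀ y ∈ X₁, ofAut w y = s * y * s⁻¹ := by
    rintro s ⟨hs, w, hw, h1⟩
    exact ⟨hs, w, hw, h1⟩
  have hW₁S : ∀ w ∈ W₁, w ∈ autInducedBy S X₁ := by
    rintro _ ⟨w, hw, rfl⟩
    exact hWind w hw
  have hext1 : N ⊔ X₁ ≤ FusionSystem.extender S X₁ hδ₁m.hom := by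
    refine sup_le (fun s hs => ?_) (le_extender_hom hδ₁m)
    rw [mem_extender_hom]
    obtain ⟨hsS, w, hw, h1⟩ := hNmem s hs
    exact inExt_of_conj_mem hsS h1 (hW₁S _ (hδ₁W w hw))
  obtain ⟨d, hd, hdx⟩ := recep_exists_extend_of_le hX₁r hδ₁m (img_ofAut _) (le_sup_right : X₁ ≤ N ⊔ X₁)
    fun s hs => (mem_extender_hom hδ₁m).mp (hext1 hs)
  have hYS : N ⊔ X₁ ≤ S := hd.le
  have hact : ∀ s ∈ N, ∀ w : MulAut X₁, (∀ y ∈ X₁, ofAut w y = s * y * s⁻¹) →
      ∀ y ∈ X₁, ofAut (δ₁ * w * δ₁⁻¹) y = d s * y * (d s)⁻¹ := by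
    intro s hs w h1 y hy
    have hz := ofAut_mem δ₁⁻¹ hy
    rw [ofAut_mul _ _ hy, ofAut_mul _ _ hz, h1 _ hz]
    have hsz : s * ofAut δ₁⁻¹ y * s⁻¹ ∈ X₁ := by
      rw [← h1 _ hz]
      exact ofAut_mem _ hz
    rw [← hdx _ hsz, hd.map_conj (le_sup_left (a := N) hs) (le_sup_right (a := N) hz), hdx _ hz,
      ofAut_apply_inv _ hy]
  have hdN : ∀ s ∈ N, d s ∈ N := by
    intro s hs
    obtain ⟨hsS, w, hw, h1⟩ := hNmem s hs
    exact ⟨hd.mem (le_sup_left (a := N) hs), _, hδ₁W w hw, hact s hs w h1⟩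
  have hdY : ∀ s ∈ N ⊔ X₁, d s ∈ N ⊔ X₁ := hd.forall_sup_mem (fun s hs => le_sup_left (a := N) (hdN s hs))
    fun s hs => by
      rw [hdx s hs]
      exact le_sup_right (a := N) (ofAut_mem _ hs)
  have hfY := finite_of_le hYS
  obtain ⟨b, hb, hbx⟩ := hd.exists_aut (hd.img_eq hdY)
  obtain ⟨k, hk1, hk2⟩ := exists_pow_restrict hYS (le_sup_right : X₁ ≤ N ⊔ X₁) (α := b) (β := δ₁)
    (fun y hy => by rw [hbx y (le_sup_right (a := N) hy), hdx y hy]) hδ₁p
  have hγF := Subgroup.pow_mem _ hb k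
  obtain ⟨γ, hγdef⟩ : ∃ γ, γ = b ^ k := ⟨_, rfl⟩
  rw [← hγdef] at hk1 hk2 hγF
  have hγm := isMap_ofAut hYS hγF
  -- `γ` fixes the images of the elements of `A`
  have hfix : ∀ a ∈ A, ofAut γ (χh a) = χh a := by
    intro a ha
    have haN : χh a ∈ N := by
      refine ⟨hχh.mem (le_sup_left (a := A) ha), _, ⟨_, hAW a ha, rfl⟩, fun y hy => ?_⟩
      rw [← hχi] at hy
      obtain ⟨x, hx, rfl⟩ := hχ.mem_img.mp hy
      show ofAut (hχ.trans hχi (conjAut a (hAn ha))) (χ x) = _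
      rw [hχ.ofAut_trans hχi _ hx, ofAut_conjAut _ _ hx, ← hχhx x hx,
        ← hχh.map_conj (le_sup_left (a := A) ha) (le_sup_right (a := A) hx)]
      have hax : a * x * a⁻¹ ∈ X := (Subgroup.mem_normalizer_iff.mp (hAn ha) x).mp hx
      exact (hχhx _ hax).symm
    have haY : χh a ∈ N ⊔ X₁ := le_sup_left (a := N) haN
    have haT : χh a ∈ T := sc_map_mem hT hχh (le_sup_left (a := A) ha) (hAT ha)
    have hγT : ofAut γ (χh a) ∈ T := sc_map_mem hT hγm haY haT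
    obtain ⟨z, hz⟩ : ∃ z, z = (χh a)⁻¹ * ofAut γ (χh a) := ⟨_, rfl⟩
    have hχP : IsMap F P χ := hχ.mono hPX
    have hzP : z ∈ img P χ := by
      refine hP.2 _ hχP.isConj (mem_centralizerIn.mpr ⟨?_, fun y hy => ?_⟩)
      · rw [hz]
        exact T.mul_mem (T.inv_mem haT) hγT
      · obtain ⟨x, hx, rfl⟩ := hχP.mem_img.mp hy
        have hxX := hPX hx
        have hχx : χ x ∈ X₁ := by rw [← hχi]; exact subset_img hxX
        have hax : a * x * a⁻¹ ∈ P := (Subgroup.mem_normalizer_iff.mp (hA ha) x).mp hx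
        -- `γ (χh a * χ x * (χh a)⁻¹)` computed in two ways
        have e1 : χh a * χ x * (χh a)⁻¹ = χ (a * x * a⁻¹) := by
          rw [← hχhx x hxX, ← hχh.map_conj (le_sup_left (a := A) ha) (le_sup_right (a := A) hxX),
            hχhx _ (hPX hax)]
        have hχax : χ (a * x * a⁻¹) ∈ X₁ := by rw [← hχi]; exact subset_img (hPX hax)
        have e2 : ofAut γ (χh a) * χ x * (ofAut γ (χh a))⁻¹ = χ (a * x * a⁻¹) := by
          have h5 : ofAut γ (χ x) = χ x := by rw [hk2 _ hχx, hδ₁P x hx]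
          have h6 : ofAut γ (χh a * χ x * (χh a)⁻¹) = ofAut γ (χh a) * ofAut γ (χ x) * (ofAut γ (χh a))⁻¹ :=
            hγm.map_conj haY (le_sup_right (a := N) hχx)
          rw [e1, hk2 _ hχax, hδ₁P _ hax, h5] at h6
          exact h6.symm
        rw [← e1] at e2
        rw [hz]
        calc χ x * ((χh a)⁻¹ * ofAut γ (χh a)) = (χh a)⁻¹ * (χh a * χ x * (χh a)⁻¹) * ofAut γ (χh a) := by group
          _ = (χh a)⁻¹ * (ofAut γ (χh a) * χ x * (ofAut γ (χh a))⁻¹) * ofAut γ (χh a) := by rw [e2]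
          _ = (χh a)⁻¹ * ofAut γ (χh a) * χ x := by group
    have hzX₁ : z ∈ X₁ := by
      rw [← hχi]
      exact img_mono hPX hzP
    have hzY : z ∈ N ⊔ X₁ := le_sup_right (a := N) hzX₁
    have hzfix : ofAut γ z = z := by
      obtain ⟨x, hx, rfl⟩ := hχP.mem_img.mp hzP
      rw [hk2 _ hzX₁, hδ₁P x hx]
    have hpow : ∀ n : ℕ, ofAut (γ ^ n) (χh a) = χh a * z ^ n := by
      intro n
      induction n with
      | zero => rw [pow_zero, pow_zero, mul_one, ofAut_one haY]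
      | succ n ih =>
        rw [pow_succ, ofAut_mul _ _ haY]
        have h7 : ofAut γ (χh a) = χh a * z := by rw [hz]; group
        have hγn := isMap_ofAut hYS (Subgroup.pow_mem _ hγF n)
        have hzn : ofAut (γ ^ n) z = z := by
          clear ih
          induction n with
          | zero => rw [pow_zero, ofAut_one hzY]
          | succ n ih2 =>
            rw [pow_succ, ofAut_mul _ _ hzY, hzfix]
            exact ih2 (isMap_ofAut hYS (Subgroup.pow_mem _ hγF n))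
        rw [h7, hγn.map_mul haY hzY, ih, hzn, pow_succ, mul_assoc]
    have h8 := hpow (orderOf γ)
    rw [pow_orderOf_eq_one, ofAut_one haY] at h8
    have h9 : z ^ orderOf γ = 1 := (mul_eq_left.mp h8.symm)
    obtain ⟨j, hj⟩ := hS ⟨z, hX₁S hzX₁⟩
    have hj' : z ^ p ^ j = 1 := congrArg Subtype.val hj
    have hz1 : z = 1 := by
      have h10 := orderOf_dvd_of_pow_eq_one h9
      have h11 := orderOf_dvd_of_pow_eq_one hj'
      have h12 : (orderOf γ).Coprime (p ^ j) := Nat.Coprime.pow_right j hk1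
      exact orderOf_eq_one_iff.mp (Nat.eq_one_of_dvd_coprimes h12 h10 h11)
    rw [hz] at hz1
    exact (inv_mul_eq_one.mp hz1).symm
  -- restriction of `γ` to the image of `A ⊔ X`
  have himgle : img (A ⊔ X) χh ≤ N ⊔ X₁ := by
    rw [hχh.img_le_iff]
    refine hχh.forall_sup_mem (fun a ha => ?_) fun x hx => ?_
    · refine le_sup_left (a := N) ⟨hχh.mem (le_sup_left (a := A) ha), _, ⟨_, hAW a ha, rfl⟩, fun y hy => ?_⟩
      rw [← hχi] at hy
      obtain ⟨x, hx, rfl⟩ := hχ.mem_img.mp hy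
      show ofAut (hχ.trans hχi (conjAut a (hAn ha))) (χ x) = _
      rw [hχ.ofAut_trans hχi _ hx, ofAut_conjAut _ _ hx, ← hχhx x hx,
        ← hχh.map_conj (le_sup_left (a := A) ha) (le_sup_right (a := A) hx)]
      have hax : a * x * a⁻¹ ∈ X := (Subgroup.mem_normalizer_iff.mp (hAn ha) x).mp hx
      exact (hχhx _ hax).symm
    · rw [hχhx x hx]
      refine le_sup_right (a := N) ?_
      rw [← hχi]
      exact subset_img hx
  have hγχ : IsMap F (A ⊔ X) (fun x => ofAut γ (χh x)) :=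
    hγm.comp hχh fun x hx => himgle (subset_img hx)
  have hinv : ∀ x ∈ A ⊔ X, ofAut γ (χh x) ∈ img (A ⊔ X) χh := by
    refine hγχ.forall_sup_mem (fun a ha => ?_) fun x hx => ?_
    · show ofAut γ (χh a) ∈ _
      rw [hfix a ha]
      exact subset_img (le_sup_left (a := A) ha)
    · show ofAut γ (χh x) ∈ _
      have hχx : χ x ∈ X₁ := by rw [← hχi]; exact subset_img hx
      rw [hχhx x hx, hk2 _ hχx, hχ.ofAut_trans hχi δ hx, ← hχhx _ (ofAut_mem δ hx)]
      exact subset_img (le_sup_right (a := A) (ofAut_mem δ hx))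
  have hIS : img (A ⊔ X) χh ≤ S := hχh.img_le
  obtain ⟨β, hβ, hβx, hβo⟩ := exists_restrict_mem hYS himgle hγF fun y hy => by
    obtain ⟨x, hx, rfl⟩ := hχh.mem_img.mp hy
    exact hinv x hx
  -- transport back
  have hback : IsMap F (img (A ⊔ X) χh) (Cfsg.Agent.Fus.minv (A ⊔ X) χh) := hχh.minv_isMap
  refine ⟨hback.trans hχh.img_minv β, hback.trans_mem hχh.img_minv hβ, ?_, fun a ha => ?_, fun x hx => ?_⟩
  · rw [orderOf_trans]
    exact Nat.Coprime.coprime_dvd_left hβo hk1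
  · have haA : a ∈ A ⊔ X := le_sup_left (a := A) ha
    have h1 := hback.ofAut_trans hχh.img_minv β (subset_img haA)
    rw [hχh.minv_apply haA, hβx _ (subset_img haA), hfix a ha, hχh.minv_apply haA] at h1
    exact h1
  · have hxA : x ∈ A ⊔ X := le_sup_right (a := A) hx
    have hχx : χ x ∈ X₁ := by rw [← hχi]; exact subset_img hx
    have h1 := hback.ofAut_trans hχh.img_minv β (subset_img hxA)
    rw [hχh.minv_apply hxA, hβx _ (subset_img hxA), hχhx x hx, hk2 _ hχx, hχ.ofAut_trans hχi δ hx,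
      ← hχhx _ (ofAut_mem δ hx), hχh.minv_apply (le_sup_right (a := A) (ofAut_mem δ hx))] at h1
    exact h1

end Cfsg.Agent.Fus
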