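import Cfsg.Agent.Fus.MLift

set_option autoImplicit false

/-!
# `O^{p'}` of a weakly normal subsystem is normal (helper35)
-/

namespace Cfsg.Agent.Fus

open Cfsg Cfsg.FusionSystem

variable {Ω : Type*} [Group Ω] {S T : Subgroup Ω} {F : FusionSystem S} {E : FusionSystem T} {p : ℕ}

/-- automorphisms of `P C_S(T)` of order prime to `p`, trivial on `P`, extend to `T C_S(T)`, trivially on `T` -/
theorem extend_top [Finite S] [Fact p.Prime] (hS : IsPGroup p S) (hF : F.IsSaturated p) (hT : F.StronglyClosed T)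
    (n : ℕ) : ∀ {P : Subgroup Ω}, Nat.card T - Nat.card P = n → TCen F T P →
    ∀ {δ : MulAut ↥(P ⊔ centralizerIn S T)}, δ ∈ F.autGroup (P ⊔ centralizerIn S T) → (orderOf δ).Coprime p →
    (∀ x ∈ P, ofAut δ x = x) → ∃ δ' ∈ F.autGroup (T ⊔ centralizerIn S T), (∀ x ∈ T, ofAut δ' x = x) ∧
      ∀ x ∈ P ⊔ centralizerIn S T, ofAut δ' x = ofAut δ x := by
  induction n using Nat.strong_induction_on with
  | _ n ih =>
    intro P hn hP δ hδ hδp hδP
    have hTS := hT.1
    have hfT := finite_of_le hTS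
    rcases hP.1.lt_or_eq with hlt | rfl
    · have hlt' := lt_inf_normalizer (isPGroup_of_le hS hTS) hlt
      obtain ⟨A, hAdef⟩ : ∃ A, A = T ⊓ Subgroup.normalizer (P : Set Ω) := ⟨_, rfl⟩
      rw [← hAdef] at hlt'
      have hAT : A ≤ T := by rw [hAdef]; exact inf_le_left
      have hAn : A ≤ Subgroup.normalizer (P : Set Ω) := by rw [hAdef]; exact inf_le_right
      have hPX : P ≤ P ⊔ centralizerIn S T := le_sup_left
      have hXS : P ⊔ centralizerIn S T ≤ S := sup_le (hP.1.trans hTS) (centralizerIn_le T)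
      have hAX : ∀ a ∈ A, ∀ x ∈ P ⊔ centralizerIn S T, x⁻¹ * (a * x * a⁻¹) ∈ P := by
        intro a ha x hx
        have hCn : P ≤ Subgroup.normalizer (centralizerIn S T : Set Ω) := by
          have key : ∀ y ∈ P, ∀ c ∈ centralizerIn S T, y * c * y⁻¹ ∈ centralizerIn S T := by
            intro y hy c hc
            have h1 := (mem_centralizerIn.mp hc).2 y (hP.1 hy)
            rw [h1, mul_inv_cancel_right]
            exact hc
          intro y hy
          rw [Subgroup.mem_normalizer_iff]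
          intro c
          refine ⟨key y hy c, fun h => ?_⟩
          have := key y⁻¹ (P.inv_mem hy) _ h
          have e : y⁻¹ * (y * c * y⁻¹) * y⁻¹⁻¹ = c := by group
          rwa [e] at this
        have hx' : x ∈ centralizerIn S T ⊔ P := by rwa [sup_comm]
        obtain ⟨c, hc, y, hy, rfl⟩ := (Cfsg.Agent.H85.mem_sup_iff_of_normalizes (N := centralizerIn S T)
          (A := P) hCn).mp hx'
        have h1 := (mem_centralizerIn.mp hc).2 a (hAT ha)
        have h2 : a * y * a⁻¹ ∈ P := (Subgroup.mem_normalizer_iff.mp (hAn ha) y).mp hy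
        have e : (c * y)⁻¹ * (a * (c * y) * a⁻¹) = y⁻¹ * (a * y * a⁻¹) := by
          calc (c * y)⁻¹ * (a * (c * y) * a⁻¹) = y⁻¹ * (c⁻¹ * (a * c)) * y * a⁻¹ := by group
            _ = y⁻¹ * (c⁻¹ * (c * a)) * y * a⁻¹ := by rw [h1]
            _ = y⁻¹ * (a * y * a⁻¹) := by group
        rw [e]
        exact P.mul_mem (P.inv_mem hy) h2
      obtain ⟨δ', hδ', hδ'p, h1, h2⟩ := extend_step hS hF hT hP hPX hXS hAT hAn hAX hδ hδp hδP
      have e : A ⊔ (P ⊔ centralizerIn S T) = A ⊔ centralizerIn S T := by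
        rw [← sup_assoc, sup_eq_left.mpr hlt'.le]
      -- transport along the equality
      have key : ∀ Y : Subgroup Ω, Y = A ⊔ centralizerIn S T → ∀ δ' : MulAut Y, δ' ∈ F.autGroup Y →
          (orderOf δ').Coprime p → (∀ x ∈ A, ofAut δ' x = x) →
          (∀ x ∈ P ⊔ centralizerIn S T, ofAut δ' x = ofAut δ x) →
          ∃ δ'' ∈ F.autGroup (A ⊔ centralizerIn S T), (orderOf δ'').Coprime p ∧ (∀ x ∈ A, ofAut δ'' x = x) ∧
            ∀ x ∈ P ⊔ centralizerIn S T, ofAut δ'' x = ofAut δ x := by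
        rintro Y rfl δ' h1 h2 h3 h4
        exact ⟨δ', h1, h2, h3, h4⟩
      obtain ⟨δ₂, hδ₂, hδ₂p, h3, h4⟩ := key _ e δ' hδ' hδ'p h1 h2
      have hAc : TCen F T A := hP.mono hT hlt'.le hAT
      have hcard : Nat.card T - Nat.card A < n := by
        have h5 := card_lt_of_lt hAT hlt'
        have h6 := Subgroup.card_le_of_le hAT
        omega
      obtain ⟨δ₃, hδ₃, h5, h6⟩ := ih _ hcard rfl hAc hδ₂ hδ₂p h3
      refine ⟨δ₃, hδ₃, h5, fun x hx => ?_⟩
      rw [h6 x (sup_le_sup_right hlt'.le _ hx), h4 x hx]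
    · exact ⟨δ, hδ, hδP, fun _ _ => rfl⟩

/-- splitting an element into its `p`-part and `p'`-part -/
theorem exists_pp_split {G : Type*} [Group G] [Finite G] [Fact p.Prime] (x : G) :
    ∃ a b : ℕ, (∃ k, (x ^ a) ^ p ^ k = 1) ∧ (orderOf (x ^ b)).Coprime p ∧ x ^ a * x ^ b = x := by
  have hp : p.Prime := Fact.out
  obtain ⟨k, m, hm, hkm⟩ := Nat.exists_eq_pow_mul_and_not_dvd (n := orderOf x) (orderOf_pos x).ne' p hp.ne_one
  have hcop : (p ^ k).Coprime m := Nat.Coprime.pow_left k ((Nat.Prime.coprime_iff_not_dvd hp).mpr hm)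
  obtain ⟨a, ha0, ha1⟩ := Nat.chineseRemainder hcop 1 0
  obtain ⟨b, hb0, hb1⟩ := Nat.chineseRemainder hcop 0 1
  refine ⟨a, b, ⟨k, ?_⟩, ?_, ?_⟩
  · rw [← pow_mul]
    refine orderOf_dvd_iff_pow_eq_one.mp ?_
    rw [hkm, mul_comm a]
    exact Nat.mul_dvd_mul dvd_rfl ((Nat.modEq_zero_iff_dvd).mp ha1)
  · have h1 : orderOf (x ^ b) ∣ m := by
      refine orderOf_dvd_of_pow_eq_one ?_
      rw [← pow_mul]
      refine orderOf_dvd_iff_pow_eq_one.mp ?_
      rw [hkm]
      exact Nat.mul_dvd_mul ((Nat.modEq_zero_iff_dvd).mp hb0) dvd_rfl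
    exact Nat.Coprime.coprime_dvd_left h1 ((Nat.Prime.coprime_iff_not_dvd hp).mpr hm).symm
  · rw [← pow_add]
    have h1 : a + b ≡ 1 [MOD orderOf x] := by
      rw [hkm, ← Nat.modEq_and_modEq_iff_modEq_mul hcop]
      exact ⟨by simpa using ha0.add hb0, by simpa using ha1.add hb1⟩
    have := (pow_eq_pow_iff_modEq (x := x)).mpr h1
    rwa [pow_one] at this

/-- the case of order prime to `p` -/
theorem mm_top_of_coprime [Finite S] [Fact p.Prime] (hS : IsPGroup p S) (hF : F.IsSaturated p)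
    (hT : F.StronglyClosed T) {P : Subgroup Ω} (hP : TCen F T P) {α : MulAut T} (hα : α ∈ F.autGroup T)
    (hαp : (orderOf α).Coprime p) (h : MM F T P (ofAut α)) : MM F T T (ofAut α) := by
  have hp : p.Prime := Fact.out
  have hTS := hT.1
  have hfT := finite_of_le hTS
  have hTf := isFullyNormalized_of_sc hT
  have hTC : T ⊔ centralizerIn S T ≤ S := sup_le hTS (centralizerIn_le T)
  have hfTC := finite_of_le hTC
  have hfA := finite_mulAut (P := T ⊔ centralizerIn S T)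
  -- the extension of `α` to `T C_S(T)`
  obtain ⟨g, hg, hgx⟩ := recep_exists_extend_centralizer (sat_receptive' hS hF hTf) (isMap_ofAut hTS hα)
    (img_ofAut α)
  have hgT : img T g = T := by rw [img_congr hgx, img_ofAut]
  have hgC : ∀ c ∈ centralizerIn S T, g c ∈ centralizerIn S T := by
    intro c hc
    rw [mem_centralizerIn]
    refine ⟨hg.mem (le_sup_right (a := T) hc), fun y hy => ?_⟩
    rw [← hgT] at hy
    obtain ⟨x, hx, rfl⟩ := (hg.mono le_sup_left).mem_img.mp hy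
    have h1 := congrArg g ((mem_centralizerIn.mp hc).2 x hx)
    rwa [hg.map_mul (le_sup_left (a := T) hx) (le_sup_right (a := T) hc),
      hg.map_mul (le_sup_right (a := T) hc) (le_sup_left (a := T) hx)] at h1
  have himg : img (T ⊔ centralizerIn S T) g = T ⊔ centralizerIn S T := by
    refine hg.img_eq (hg.forall_sup_mem (fun x hx => ?_) fun c hc => le_sup_right (a := T) (hgC c hc))
    rw [hgx x hx]
    exact le_sup_left (a := T) (ofAut_mem α hx)
  obtain ⟨b, hb, hbx⟩ := hg.exists_aut himg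
  obtain ⟨k, hk1, hk2⟩ := exists_pow_restrict hTC (le_sup_left : T ≤ T ⊔ centralizerIn S T) (α := b) (β := α)
    (fun y hy => by rw [hbx y (le_sup_left (a := T) hy), hgx y hy]) hαp
  obtain ⟨A, hAdef⟩ : ∃ A, A = b ^ k := ⟨_, rfl⟩
  have hA := Subgroup.pow_mem _ hb k
  rw [← hAdef] at hk1 hk2 hA
  have hAm := isMap_ofAut hTC hA
  have hAi := Subgroup.inv_mem _ hA
  have hAim := isMap_ofAut hTC hAi
  -- `A⁻¹` on `T`
  have hAiT : ∀ x ∈ T, ofAut A⁻¹ x = ofAut α⁻¹ x := fun x hx => by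
    have h1 := hk2 _ (ofAut_mem α⁻¹ hx)
    rw [ofAut_apply_inv α hx] at h1
    have h2 := ofAut_inv_apply A (le_sup_left (a := T) (ofAut_mem α⁻¹ hx) : ofAut α⁻¹ x ∈ T ⊔ centralizerIn S T)
    rw [h1] at h2
    exact h2
  -- the map `δ₀ = A⁻¹ φ` on `P C_S(T)`
  obtain ⟨φ, hφ, hφ1, hφ2⟩ := h
  have hPT := hP.1
  have hXTC : P ⊔ centralizerIn S T ≤ T ⊔ centralizerIn S T := sup_le_sup_right hPT _
  have hφimg := mm_img hT hP hφ hφ1 hφ2
  have hφmem : ∀ x ∈ P ⊔ centralizerIn S T, φ x ∈ T ⊔ centralizerIn S T := by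
    intro x hx
    have h1 : φ x ∈ img P (ofAut α) ⊔ centralizerIn S T := by
      rw [← hφimg]
      exact subset_img hx
    exact sup_le_sup_right (img_le_of_le α hPT) _ h1
  have hδm : IsMap F (P ⊔ centralizerIn S T) (fun x => ofAut A⁻¹ (φ x)) := hAim.comp hφ hφmem
  have hXS : P ⊔ centralizerIn S T ≤ S := hXTC.trans hTC
  have hfX := finite_of_le hXS
  have hfAX := finite_mulAut (P := P ⊔ centralizerIn S T)
  have hδP : ∀ x ∈ P, ofAut A⁻¹ (φ x) = x := fun x hx => by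
    rw [hφ1 x hx, hAiT _ (ofAut_mem α (hPT hx)), ofAut_inv_apply α (hPT hx)]
  have hcentInv : ∀ c ∈ centralizerIn S T, ofAut A⁻¹ c ∈ centralizerIn S T := fun c hc =>
    ofAut_centralizer hAi hTS hAiT hc
  have hδimg : ∀ x ∈ P ⊔ centralizerIn S T, ofAut A⁻¹ (φ x) ∈ P ⊔ centralizerIn S T := by
    refine hδm.forall_sup_mem (fun x hx => ?_) fun c hc => ?_
    · show ofAut A⁻¹ (φ x) ∈ _
      rw [hδP x hx]
      exact le_sup_left (a := P) hx
    · show ofAut A⁻¹ (φ c) ∈ _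
      obtain ⟨w, hw⟩ : ∃ w, w = c⁻¹ * φ c := ⟨_, rfl⟩
      have hwI : w ∈ img P (ofAut α) := by rw [hw]; exact mm_cent hT hP hφ hφ1 hφ2 hc
      have hcw : φ c = c * w := by rw [hw]; group
      obtain ⟨x, hx, rfl⟩ := (mem_img_ofAut α hPT).mp hwI
      have hxT : ofAut α x ∈ T := ofAut_mem α (hPT hx)
      rw [hcw, hAim.map_mul (le_sup_right (a := T) hc) (le_sup_left (a := T) hxT), hAiT _ hxT,
        ofAut_inv_apply α (hPT hx)]
      exact Subgroup.mul_mem _ (le_sup_right (a := P) (hcentInv c hc)) (le_sup_left (a := P) hx)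
  obtain ⟨δ, hδ, hδx⟩ := hδm.exists_aut (hδm.img_eq hδimg)
  -- action modulo `T`
  have hT' : ∀ y ∈ T ⊔ centralizerIn S T, ∀ t ∈ T, y * t * y⁻¹ ∈ T := fun y hy t ht => sc_conj_mem hT (hTC hy) ht
  have hmod : ∀ n : ℕ, ∀ x ∈ P ⊔ centralizerIn S T, (ofAut (A⁻¹ ^ n) x)⁻¹ * ofAut (δ ^ n) x ∈ T := by
    intro n
    induction n with
    | zero =>
      intro x hx
      rw [pow_zero, pow_zero, ofAut_one hx, ofAut_one (hXTC hx), inv_mul_cancel]
      exact T.one_mem
    | succ n ih =>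
      intro x hx
      have hx' := hXTC hx
      have hdx := ofAut_mem δ hx
      rw [pow_succ, pow_succ, ofAut_mul _ _ hx, ofAut_mul _ _ hx']
      have hAn := isMap_ofAut hTC (Subgroup.pow_mem _ hAi n)
      -- `δ x = A⁻¹ x * u` with `u ∈ T`
      obtain ⟨u, hu⟩ : ∃ u, u = (ofAut A⁻¹ x)⁻¹ * ofAut δ x := ⟨_, rfl⟩
      have huT : u ∈ T := by
        rw [hu, hδx x hx]
        have h1 := hφ2 x hx
        have h2 : ofAut A⁻¹ (x⁻¹ * φ x) ∈ T := by
          rw [hAiT _ h1]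
          exact ofAut_mem _ h1
        rwa [hAim.map_mul (Subgroup.inv_mem _ hx') (hφmem x hx), hAim.map_inv hx'] at h2
      have hδu : ofAut δ x = ofAut A⁻¹ x * u := by rw [hu]; group
      have h3 := ih _ hdx
      have h4 : ofAut (A⁻¹ ^ n) (ofAut δ x) = ofAut (A⁻¹ ^ n) (ofAut A⁻¹ x) * ofAut (A⁻¹ ^ n) u := by
        rw [hδu, hAn.map_mul (ofAut_mem _ hx') (le_sup_left (a := T) huT)]
      have h5 : ofAut (A⁻¹ ^ n) u ∈ T := sc_map_mem hT hAn (le_sup_left (a := T) huT) huT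
      have e : (ofAut (A⁻¹ ^ n) (ofAut A⁻¹ x))⁻¹ * ofAut (δ ^ n) (ofAut δ x) =
          ofAut (A⁻¹ ^ n) u * ((ofAut (A⁻¹ ^ n) (ofAut δ x))⁻¹ * ofAut (δ ^ n) (ofAut δ x)) := by
        rw [h4]
        group
      rw [e]
      exact T.mul_mem h5 h3
  -- the power of order prime to `p`
  obtain ⟨a, m, hm, ham⟩ := Nat.exists_eq_pow_mul_and_not_dvd (n := orderOf δ) (orderOf_pos δ).ne' p hp.ne_one
  have hcop : (p ^ a).Coprime (orderOf A) := Nat.Coprime.pow_left a hk1.symm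
  obtain ⟨j, hj0, hj1⟩ := Nat.chineseRemainder hcop 0 1
  have hδj := Subgroup.pow_mem _ hδ j
  have hδjp : (orderOf (δ ^ j)).Coprime p := by
    have h1 : orderOf (δ ^ j) ∣ m := by
      refine orderOf_dvd_of_pow_eq_one ?_
      rw [← pow_mul]
      refine orderOf_dvd_iff_pow_eq_one.mp ?_
      rw [ham]
      exact Nat.mul_dvd_mul ((Nat.modEq_zero_iff_dvd).mp hj0) dvd_rfl
    exact Nat.Coprime.coprime_dvd_left h1 ((Nat.Prime.coprime_iff_not_dvd hp).mpr hm).symm
  have hAj : A⁻¹ ^ j = A⁻¹ := by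
    have h1 : j ≡ 1 [MOD orderOf A⁻¹] := by rwa [orderOf_inv]
    have := (pow_eq_pow_iff_modEq (x := A⁻¹)).mpr h1
    rwa [pow_one] at this
  have hδjP : ∀ x ∈ P, ofAut (δ ^ j) x = x := by
    intro x hx
    have hxX : x ∈ P ⊔ centralizerIn S T := le_sup_left (a := P) hx
    have h1 : ofAut δ x = x := by rw [hδx x hxX, hδP x hx]
    have : ∀ n : ℕ, ofAut (δ ^ n) x = x := by
      intro n
      induction n with
      | zero => rw [pow_zero, ofAut_one hxX]
      | succ n ih => rw [pow_succ, ofAut_mul _ _ hxX, h1, ih]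
    exact this j
  obtain ⟨δ', hδ', h1, h2⟩ := extend_top hS hF hT _ rfl hP hδj hδjp hδjP
  have hδ'm := isMap_ofAut hTC hδ'
  -- the new extension of `α`
  refine ⟨fun x => ofAut A (ofAut δ' x), hAm.comp hδ'm fun x hx => ofAut_mem _ hx, fun x hx => ?_, ?_⟩
  · show ofAut A (ofAut δ' x) = ofAut α x
    rw [h1 x hx, hk2 x hx]
  · -- the condition modulo `T`
    have hcond : ∀ c ∈ centralizerIn S T, c⁻¹ * ofAut A (ofAut δ' c) ∈ T := by
      intro c hc
      have hcX : c ∈ P ⊔ centralizerIn S T := le_sup_right (a := P) hc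
      have hcT : c ∈ T ⊔ centralizerIn S T := hXTC hcX
      have h3 := hmod j c hcX
      rw [hAj, ← h2 c hcX] at h3
      have h4 : ofAut A ((ofAut A⁻¹ c)⁻¹ * ofAut δ' c) ∈ T := by
        rw [hk2 _ h3]
        exact ofAut_mem _ h3
      rwa [hAm.map_mul (Subgroup.inv_mem _ (ofAut_mem _ hcT)) (ofAut_mem _ hcT), hAm.map_inv (ofAut_mem _ hcT),
        ofAut_apply_inv A hcT] at h4
    have hTcond : ∀ t ∈ T, t⁻¹ * ofAut A (ofAut δ' t) ∈ T := by
      intro t ht
      rw [h1 t ht, hk2 t ht]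
      exact T.mul_mem (T.inv_mem ht) (ofAut_mem α ht)
    intro x hx
    have hCn : T ≤ Subgroup.normalizer (centralizerIn S T : Set Ω) := by
      have key : ∀ y ∈ T, ∀ c ∈ centralizerIn S T, y * c * y⁻¹ ∈ centralizerIn S T := by
        intro y hy c hc
        rw [(mem_centralizerIn.mp hc).2 y hy, mul_inv_cancel_right]
        exact hc
      intro y hy
      rw [Subgroup.mem_normalizer_iff]
      intro c
      refine ⟨key y hy c, fun h => ?_⟩
      have := key y⁻¹ (T.inv_mem hy) _ h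
      have e : y⁻¹ * (y * c * y⁻¹) * y⁻¹⁻¹ = c := by group
      rwa [e] at this
    have hx' : x ∈ centralizerIn S T ⊔ T := by rwa [sup_comm]
    obtain ⟨c, hc, t, ht, rfl⟩ := (Cfsg.Agent.H85.mem_sup_iff_of_normalizes (N := centralizerIn S T)
      (A := T) hCn).mp hx'
    have hcT : c ∈ T ⊔ centralizerIn S T := le_sup_right (a := T) hc
    have htT : t ∈ T ⊔ centralizerIn S T := le_sup_left (a := T) ht
    show (c * t)⁻¹ * ofAut A (ofAut δ' (c * t)) ∈ T
    rw [hδ'm.map_mul hcT htT, hAm.map_mul (ofAut_mem _ hcT) (ofAut_mem _ htT)]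
    have e : (c * t)⁻¹ * (ofAut A (ofAut δ' c) * ofAut A (ofAut δ' t)) =
        t⁻¹ * (c⁻¹ * ofAut A (ofAut δ' c)) * t * (t⁻¹ * ofAut A (ofAut δ' t)) := by group
    rw [e]
    exact T.mul_mem (T.mul_mem (T.mul_mem (T.inv_mem ht) (hcond c hc)) ht) (hTcond t ht)

/-- the extension property at `T` from the one at a smaller subgroup -/
theorem mm_top [Finite S] [Fact p.Prime] (hS : IsPGroup p S) (hF : F.IsSaturated p)
    (hE : E.IsSaturated p) (hEi : E.IsInvariantIn F) {P : Subgroup Ω} (hP : TCen F T P) {α : MulAut T}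
    (hα : α ∈ E.autGroup T) (h : MM F T P (ofAut α)) : MM F T T (ofAut α) := by
  have hT := hEi.2.1
  have hTS := hT.1
  have hfT := finite_of_le hTS
  have hfA := finite_mulAut (P := T)
  have hTp := isPGroup_of_le hS hTS
  obtain ⟨a, b, ⟨k, hk⟩, hb, hab⟩ := exists_pp_split (p := p) α
  -- the `p`-part is inner
  obtain ⟨m, hm, hmI⟩ := exists_pow_inner hTp hE (Subgroup.pow_mem _ hα a)
  have hinner : α ^ a ∈ autInducedBy T T := by
    obtain ⟨n, hn0, hn1⟩ := Nat.chineseRemainder (Nat.Coprime.pow_right k hm) 0 1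
    have h1 : (α ^ a) ^ n = α ^ a := by
      have h3 : n ≡ 1 [MOD orderOf (α ^ a)] := hn1.of_dvd (orderOf_dvd_of_pow_eq_one hk)
      have := (pow_eq_pow_iff_modEq (x := α ^ a)).mpr h3
      rwa [pow_one] at this
    rw [← h1]
    obtain ⟨j, rfl⟩ := (Nat.modEq_zero_iff_dvd).mp hn0
    rw [pow_mul]
    exact Subgroup.pow_mem _ hmI j
  obtain ⟨t, ht, htx⟩ := mem_autInducedBy'.mp hinner
  have hPT := hP.1
  have hαb : α ^ b ∈ E.autGroup T := Subgroup.pow_mem _ hα b
  have hαF := autGroup_sub hEi.1 hTS le_rfl hα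
  -- the `p'`-part on `P`
  have h1 : MM F T P (ofAut (α ^ b)) := by
    have h2 : MM F T (img P (ofAut α)) (fun x => t⁻¹ * x * t⁻¹⁻¹) :=
      mm_conj hT (img_le_of_le α hPT) (T.inv_mem ht)
    refine (h.comp hT hP h2).congr fun x hx => ?_
    have hxT := hPT hx
    have e1 : ofAut α x = t * ofAut (α ^ b) x * t⁻¹ := by
      conv_lhs => rw [← hab]
      rw [ofAut_mul _ _ hxT, htx _ (ofAut_mem _ hxT)]
    show t⁻¹ * ofAut α x * t⁻¹⁻¹ = _
    rw [e1]
    group
  have h3 := mm_top_of_coprime hS hF hT hP (autGroup_sub hEi.1 hTS le_rfl hαb) hb h1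
  have hTc : TCen F T T := (hP.mono hT hPT le_rfl)
  have h4 : MM F T (img T (ofAut (α ^ b))) (fun x => t * x * t⁻¹) := mm_conj hT (img_le_of_le _ le_rfl) ht
  refine (h3.comp hT hTc h4).congr fun x hx => ?_
  show t * ofAut (α ^ b) x * t⁻¹ = _
  conv_rhs => rw [← hab]
  rw [ofAut_mul _ _ hx, htx _ (ofAut_mem _ hx)]

/-- the `p`-automorphisms of `E` have the extension property -/
theorem mm_of_pel [Finite S] [Fact p.Prime] (hS : IsPGroup p S) (hF : F.IsSaturated p)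
    (hE : E.IsSaturated p) (hEi : E.IsInvariantIn F) {P : Subgroup Ω} (hP : TCen F T P) {β : MulAut P}
    (hβ : β ∈ E.autGroup P) {k : ℕ} (hk : β ^ p ^ k = 1) : MM F T P (ofAut β) := by
  have hT := hEi.2.1
  have hTS := hT.1
  have hfT := finite_of_le hTS
  have hTp := isPGroup_of_le hS hTS
  have hPT := hP.1
  have hES := strongInv_of_invariant hEi
  obtain ⟨P₀, hPP₀, hP₀⟩ := exists_fullyNormalized (F := F) (hPT.trans hTS)
  obtain ⟨g₀, hg₀, hg₀i⟩ := isConj_iff.mp hPP₀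
  have hP₀T := isConj_le_sc hT hPT hPP₀
  have hβ₀ : hg₀.trans hg₀i β ∈ E.autGroup P₀ := by
    subst hg₀i
    exact inv_transport hES hPT hg₀ hβ hP₀T
  have hk' : (hg₀.trans hg₀i β) ^ p ^ k = 1 := by rw [← map_pow, hk, map_one]
  have hEn := fullyNormalized_sub hS hF hT hEi.1 hP₀ hP₀T
  obtain ⟨ν, hν, hνβ⟩ := IsFullyAutomized.conj_le (sat_fullyAutomized hTp hE hEn)
    (K := Subgroup.zpowers (hg₀.trans hg₀i β)) (by rw [Subgroup.zpowers_le]; exact hβ₀) (isPGroup_zpowers_of_pow hk')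
  obtain ⟨t, ht, htx⟩ := mem_autInducedBy'.mp (hνβ _ (Subgroup.mem_zpowers _))
  have hνF : ν ∈ F.autGroup P₀ := autGroup_sub hEi.1 hTS hP₀T hν
  have hνm := isMap_ofAut hP₀.1 hνF
  have hg₀mem : ∀ x ∈ P, g₀ x ∈ P₀ := fun x hx => by rw [← hg₀i]; exact subset_img hx
  have hg : IsMap F P (fun x => ofAut ν (g₀ x)) := hνm.comp hg₀ hg₀mem
  obtain ⟨g, hgdef⟩ : ∃ g : Ω → Ω, g = fun x => ofAut ν (g₀ x) := ⟨_, rfl⟩
  rw [← hgdef] at hg
  have hgi : img P g = P₀ := by rw [hgdef, hg₀.img_comp, hg₀i, img_ofAut]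
  have hgβ : ∀ x ∈ P, g (ofAut β x) = t * g x * t⁻¹ := by
    intro x hx
    have hgx : g x ∈ P₀ := by rw [← hgi]; exact subset_img hx
    rw [← htx _ hgx, ofAut_mul _ _ hgx, ofAut_mul _ _ (ofAut_mem _ hgx)]
    have e : ofAut ν⁻¹ (g x) = g₀ x := by
      rw [hgdef]
      exact ofAut_inv_apply ν (hg₀mem x hx)
    rw [e, hg₀.ofAut_trans hg₀i β hx, hgdef]
  obtain ⟨gh, hgh, hghx⟩ := recep_exists_extend_centralizer (sat_receptive' hS hF hP₀) hg hgi
  have hXle : P ⊔ centralizerIn S T ≤ P ⊔ centralizerIn S P := by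
    refine sup_le_sup_left (fun c hc => ?_) _
    exact mem_centralizerIn.mpr ⟨hc.1, fun y hy => (mem_centralizerIn.mp hc).2 y (hPT hy)⟩
  have hG := hgh.mono hXle
  have htn : t ∈ Subgroup.normalizer (P₀ : Set Ω) := by
    refine Subgroup.mem_normalizer_iff.mpr ?_
    exact Subgroup.mem_normalizer_iff.mp (mem_normalizer_of_ofAut htx)
  -- `c_t` moves the elements of the image inside `P₀`
  have hmove : ∀ x ∈ P ⊔ centralizerIn S T, (gh x)⁻¹ * (t * gh x * t⁻¹) ∈ P₀ := by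
    intro x hx
    have hCn : P ≤ Subgroup.normalizer (centralizerIn S T : Set Ω) := by
      have key : ∀ y ∈ P, ∀ c ∈ centralizerIn S T, y * c * y⁻¹ ∈ centralizerIn S T := by
        intro y hy c hc
        rw [(mem_centralizerIn.mp hc).2 y (hPT hy), mul_inv_cancel_right]
        exact hc
      intro y hy
      rw [Subgroup.mem_normalizer_iff]
      intro c
      refine ⟨key y hy c, fun h => ?_⟩
      have := key y⁻¹ (P.inv_mem hy) _ h
      have e : y⁻¹ * (y * c * y⁻¹) * y⁻¹⁻¹ = c := by group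
      rwa [e] at this
    have hx' : x ∈ centralizerIn S T ⊔ P := by rwa [sup_comm]
    obtain ⟨c, hc, y, hy, rfl⟩ := (Cfsg.Agent.H85.mem_sup_iff_of_normalizes (N := centralizerIn S T)
      (A := P) hCn).mp hx'
    have hcX : c ∈ P ⊔ centralizerIn S T := le_sup_right (a := P) hc
    have hyX : y ∈ P ⊔ centralizerIn S T := le_sup_left (a := P) hy
    -- the part of `c`
    have h1 : (gh c)⁻¹ * (t * gh c * t⁻¹) ∈ P₀ := by
      have hghS := hG.mem hcX
      have h2 : (gh c)⁻¹ * (t * gh c * t⁻¹) ∈ T := by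
        have := sc_conj_mem hT (S.inv_mem hghS) ht
        have e : (gh c)⁻¹ * (t * gh c * t⁻¹) = (gh c)⁻¹ * t * (gh c)⁻¹⁻¹ * t⁻¹ := by group
        rw [e]
        exact T.mul_mem this (T.inv_mem ht)
      refine hP.2 P₀ hPP₀ (mem_centralizerIn.mpr ⟨h2, fun z hz => ?_⟩)
      have hcomm : ∀ z ∈ P₀, z * gh c = gh c * z := by
        intro z hz
        rw [← hgi] at hz
        obtain ⟨x, hx, rfl⟩ := hg.mem_img.mp hz
        have h3 := congrArg gh ((mem_centralizerIn.mp hc).2 x (hPT hx))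
        rwa [hG.map_mul (le_sup_left (a := P) hx) hcX, hG.map_mul hcX (le_sup_left (a := P) hx), hghx x hx] at h3
      have hz' : t⁻¹ * z * t⁻¹⁻¹ ∈ P₀ :=
        (Subgroup.mem_normalizer_iff.mp ((Subgroup.normalizer _).inv_mem htn) z).mp hz
      have h4 := hcomm _ hz'
      have h5 := hcomm z hz
      have h6 : z * (t * gh c * t⁻¹) = (t * gh c * t⁻¹) * z := by
        calc z * (t * gh c * t⁻¹) = t * (t⁻¹ * z * t⁻¹⁻¹ * gh c) * t⁻¹ := by group
          _ = t * (gh c * (t⁻¹ * z * t⁻¹⁻¹)) * t⁻¹ := by rw [h4]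
          _ = (t * gh c * t⁻¹) * z := by group
      calc z * ((gh c)⁻¹ * (t * gh c * t⁻¹)) = (gh c)⁻¹ * (gh c * z) * (gh c)⁻¹ * (t * gh c * t⁻¹) := by group
        _ = (gh c)⁻¹ * (z * gh c) * (gh c)⁻¹ * (t * gh c * t⁻¹) := by rw [h5]
        _ = (gh c)⁻¹ * (z * (t * gh c * t⁻¹)) := by group
        _ = (gh c)⁻¹ * (t * gh c * t⁻¹) * z := by rw [h6]; group
    have hgy : gh y ∈ P₀ := by rw [hghx y hy, ← hgi]; exact subset_img hy
    have h2 : t * gh y * t⁻¹ ∈ P₀ := (Subgroup.mem_normalizer_iff.mp htn _).mp hgy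
    rw [hG.map_mul hcX hyX]
    have e : (gh c * gh y)⁻¹ * (t * (gh c * gh y) * t⁻¹) =
        (gh y)⁻¹ * ((gh c)⁻¹ * (t * gh c * t⁻¹)) * (t * gh y * t⁻¹) := by group
    rw [e]
    exact P₀.mul_mem (P₀.mul_mem (P₀.inv_mem hgy) h1) h2
  have hP₀img : P₀ ≤ img (P ⊔ centralizerIn S T) gh := by
    rw [← hgi, ← img_congr hghx]
    exact img_mono le_sup_left
  have hct : ∀ x ∈ P ⊔ centralizerIn S T, t * gh x * t⁻¹ ∈ img (P ⊔ centralizerIn S T) gh := by
    intro x hx
    have e : t * gh x * t⁻¹ = gh x * ((gh x)⁻¹ * (t * gh x * t⁻¹)) := by group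
    rw [e]
    exact Subgroup.mul_mem _ (subset_img hx) (hP₀img (hmove x hx))
  have hm2 : IsMap F (P ⊔ centralizerIn S T) (fun x => t * gh x * t⁻¹) := by
    have h3 : IsMap F (img (P ⊔ centralizerIn S T) gh) (fun x => t * x * t⁻¹) := isMap_conj hG.img_le (hTS ht)
    exact h3.comp hG fun x hx => subset_img hx
  refine ⟨fun x => Cfsg.Agent.Fus.minv (P ⊔ centralizerIn S T) gh (t * gh x * t⁻¹),
    hG.minv_isMap.comp hm2 hct, fun x hx => ?_, fun x hx => ?_⟩
  · show Cfsg.Agent.Fus.minv (P ⊔ centralizerIn S T) gh (t * gh x * t⁻¹) = ofAut β x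
    rw [hghx x hx, ← hgβ x hx, ← hghx _ (ofAut_mem β hx), hG.minv_apply (le_sup_left (a := P) (ofAut_mem β hx))]
  · have h3 := hmove x hx
    rw [← hgi] at h3
    obtain ⟨y, hy, hyx⟩ := hg.mem_img.mp h3
    have hyX : y ∈ P ⊔ centralizerIn S T := le_sup_left (a := P) hy
    have e : t * gh x * t⁻¹ = gh (x * y) := by
      rw [hG.map_mul hx hyX, hghx y hy, hyx]
      group
    show x⁻¹ * Cfsg.Agent.Fus.minv (P ⊔ centralizerIn S T) gh (t * gh x * t⁻¹) ∈ T
    rw [e, hG.minv_apply (Subgroup.mul_mem _ hx hyX), inv_mul_cancel_left]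
    exact hPT hy

end Cfsg.Agent.Fus
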