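import Cfsg.Agent.Fus.Burn
set_option autoImplicit false
set_option maxHeartbeats 400000

/-!
# A universal model for finite `G`-sets, marks (helper88)
-/

namespace Cfsg.Agent.Fus.Burn

open Pointwise

universe u v w

variable {G : Type u} [Group G]

theorem ncard_fix_orb [Finite G] {X : Type v} (ρ : G →* Equiv.Perm X) (x : X) :
    (fixS ρ (orb ρ x) (stab ρ x)).ncard = (stab ρ x).relIndex (Subgroup.normalizer (stab ρ x : Set G)) := by
  set Δ := stab ρ x with hΔ
  set N := Subgroup.normalizer (Δ : Set G) with hN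
  have h1 : fixS ρ (orb ρ x) Δ = orb (ρ.comp N.subtype) x := by
    ext y
    constructor
    · rintro ⟨⟨g, rfl⟩, hfix⟩
      have hle : ∀ h ∈ Δ, g⁻¹ * h * g ∈ Δ := by
        intro h hh
        have := hfix h hh
        rw [← mem_stab, stab_apply] at this
        exact this
      have hgN : g⁻¹ ∈ N := by
        rw [hN, Subgroup.mem_normalizer_iff]
        have hinj : Function.Injective (fun h : Δ => (⟨g⁻¹ * h * g, hle h h.2⟩ : Δ)) := by
          intro a b hab
          have := congrArg Subtype.val hab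
          exact Subtype.ext (mul_left_cancel (mul_right_cancel this))
        intro h
        constructor
        · intro hh
          rw [inv_inv]
          exact hle h hh
        · intro hh
          rw [inv_inv] at hh
          obtain ⟨⟨k, hk⟩, hkh⟩ := (Finite.injective_iff_surjective.mp hinj) ⟨_, hh⟩
          have := congrArg Subtype.val hkh
          have h2 : k = h := mul_left_cancel (mul_right_cancel this)
          rwa [← h2]
      exact ⟨⟨g, by simpa using N.inv_mem hgN⟩, rfl⟩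
    · rintro ⟨⟨g, hg⟩, rfl⟩
      refine ⟨⟨g, rfl⟩, fun h hh => ?_⟩
      rw [← mem_stab]
      show h ∈ stab ρ (ρ g x)
      rw [stab_apply]
      have h2 := (Subgroup.mem_normalizer_iff.mp (N.inv_mem hg) h).mp hh
      rwa [inv_inv] at h2
  rw [h1, ncard_orb]
  have h2 : stab (ρ.comp N.subtype) x = Δ.subgroupOf N := by
    ext g; rfl
  rw [h2]
  rfl

/-- `H` and `K` are conjugate. -/
def Cj (H K : Subgroup G) : Prop := ∃ g : G, ∀ x, x ∈ K ↔ g⁻¹ * x * g ∈ H

theorem Cj.refl (H : Subgroup G) : Cj H H := ⟨1, fun x => by simp⟩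

theorem Cj.symm {H K : Subgroup G} (h : Cj H K) : Cj K H := by
  obtain ⟨g, hg⟩ := h
  refine ⟨g⁻¹, fun x => ?_⟩
  rw [hg, inv_inv]
  have e : g⁻¹ * (g * x * g⁻¹) * g = x := by group
  rw [e]

theorem Cj.trans {H K L : Subgroup G} (h : Cj H K) (h' : Cj K L) : Cj H L := by
  obtain ⟨g, hg⟩ := h
  obtain ⟨k, hk⟩ := h'
  refine ⟨k * g, fun x => ?_⟩
  rw [hk, hg]
  have e : g⁻¹ * (k⁻¹ * x * k) * g = (k * g)⁻¹ * x * (k * g) := by group
  rw [e]

theorem cj_eq_map {H K : Subgroup G} {g : G} (h : ∀ x, x ∈ K ↔ g⁻¹ * x * g ∈ H) :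
    K = H.map (MulAut.conj g).toMonoidHom := by
  ext x
  rw [h]
  constructor
  · intro hx
    exact ⟨_, hx, by simp [mul_assoc]⟩
  · rintro ⟨y, hy, rfl⟩
    simpa [mul_assoc] using hy

theorem Cj.card_eq {H K : Subgroup G} (h : Cj H K) : Nat.card K = Nat.card H := by
  obtain ⟨g, hg⟩ := h
  rw [cj_eq_map hg]
  exact Subgroup.card_map_of_injective (MulAut.conj g).injective

/-- The number of fixed points of `H` on the cosets of `K`. -/
noncomputable def amk (H K : Subgroup G) : ℕ :=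
  {C : Set G | (∃ g : G, C = g • (K : Set G)) ∧ ∀ h ∈ H, h • C = C}.ncard

/-- left translation of sets -/
def tr (G : Type u) [Group G] : G →* Equiv.Perm (Set G) := MulAction.toPermHom G (Set G)

theorem tr_apply (g : G) (C : Set G) : tr G g C = g • C := rfl

theorem stab_coset (K : Subgroup G) (g : G) {x : G} :
    x ∈ stab (tr G) (g • (K : Set G)) ↔ g⁻¹ * x * g ∈ K := by
  rw [mem_stab, tr_apply, smul_smul]
  constructor
  · intro h
    have h1 : (x * g) ∈ (x * g) • (K : Set G) := ⟨1, K.one_mem, by simp⟩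
    rw [h, Set.mem_smul_set_iff_inv_smul_mem] at h1
    simpa [mul_assoc] using h1
  · intro h
    ext y
    rw [Set.mem_smul_set_iff_inv_smul_mem, Set.mem_smul_set_iff_inv_smul_mem]
    simp only [smul_eq_mul, SetLike.mem_coe, mul_inv_rev]
    have e : g⁻¹ * x⁻¹ * y = (g⁻¹ * x * g)⁻¹ * (g⁻¹ * y) := by group
    rw [e]
    exact K.mul_mem_cancel_left (K.inv_mem h)

theorem amk_set (H K : Subgroup G) :
    {C : Set G | (∃ g : G, C = g • (K : Set G)) ∧ ∀ h ∈ H, h • C = C} = fixS (tr G) (orb (tr G) (K : Set G)) H := by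
  ext C
  constructor
  · rintro ⟨⟨g, rfl⟩, h⟩; exact ⟨⟨g, rfl⟩, h⟩
  · rintro ⟨⟨g, rfl⟩, h⟩; exact ⟨⟨g, rfl⟩, h⟩

theorem le_conj_of_amk_pos [Finite G] {H K : Subgroup G} (h : amk H K ≠ 0) :
    ∃ g : G, ∀ x ∈ H, g⁻¹ * x * g ∈ K := by
  have h1 : {C : Set G | (∃ g : G, C = g • (K : Set G)) ∧ ∀ h ∈ H, h • C = C}.Nonempty := by
    by_contra hne
    rw [Set.not_nonempty_iff_eq_empty] at hne
    apply h
    unfold amk
    rw [hne, Set.ncard_empty]
  obtain ⟨C, ⟨g, rfl⟩, hC⟩ := h1
  refine ⟨g, fun x hx => ?_⟩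
  rw [← stab_coset]
  exact hC x hx

theorem amk_eq_zero [Finite G] {H K : Subgroup G} (hcard : Nat.card K ≤ Nat.card H) (h : ¬ Cj K H) :
    amk H K = 0 := by
  by_contra hne
  obtain ⟨g, hg⟩ := le_conj_of_amk_pos hne
  apply h
  refine ⟨g, ?_⟩
  have h1 : H ≤ K.map (MulAut.conj g).toMonoidHom := by
    intro x hx
    exact ⟨_, hg x hx, by simp [mul_assoc]⟩
  have h2 : H = K.map (MulAut.conj g).toMonoidHom := by
    refine Subgroup.eq_of_le_of_card_ge h1 ?_
    rwa [Subgroup.card_map_of_injective (MulAut.conj g).injective]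
  intro x
  constructor
  · exact hg x
  · intro hx
    rw [h2]
    exact ⟨_, hx, by simp [mul_assoc]⟩

theorem amk_eq_of_cj [Finite G] {H K : Subgroup G} (h : Cj K H) :
    amk H K = H.relIndex (Subgroup.normalizer (H : Set G)) := by
  obtain ⟨g, hg⟩ := h
  unfold amk
  rw [amk_set]
  have h1 : stab (tr G) (g • (K : Set G)) = H := by
    ext x
    rw [stab_coset, hg]
  have h2 : orb (tr G) (K : Set G) = orb (tr G) (g • (K : Set G)) := by
    ext C
    constructor
    · rintro ⟨k, rfl⟩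
      refine ⟨k * g⁻¹, ?_⟩
      rw [tr_apply, tr_apply, smul_smul, inv_mul_cancel_right]
    · rintro ⟨k, rfl⟩
      refine ⟨k * g, ?_⟩
      rw [tr_apply, tr_apply, smul_smul]
  rw [h2]
  have h3 := ncard_fix_orb (tr G) (g • (K : Set G))
  rwa [h1] at h3

theorem amk_bot [Finite G] (K : Subgroup G) : amk ⊥ K = K.index := by
  unfold amk
  rw [amk_set]
  have h1 : fixS (tr G) (orb (tr G) (K : Set G)) ⊥ = orb (tr G) (K : Set G) := by
    ext C
    constructor
    · rintro ⟨h, -⟩; exact h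
    · intro h
      refine ⟨h, fun x hx => ?_⟩
      rw [Subgroup.mem_bot.mp hx, map_one]
      rfl
  rw [h1, ncard_orb]
  congr 1
  ext x
  have := stab_coset K 1 (x := x)
  simpa using this

/-- The action of `G` on the universal set. -/
def uact (G : Type u) [Group G] : G →* Equiv.Perm (Subgroup G × ℕ × Set G) where
  toFun g := (Equiv.refl _).prodCongr ((Equiv.refl _).prodCongr (tr G g))
  map_one' := by
    rw [map_one]; rfl
  map_mul' a b := by
    rw [map_mul]; rfl

theorem uact_apply (g : G) (z : Subgroup G × ℕ × Set G) : uact G g z = (z.1, z.2.1, g • z.2.2) := rfl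

/-- The `G`-set with `c K` orbits of type `G / K`. -/
def carr (c : Subgroup G → ℕ) : Set (Subgroup G × ℕ × Set G) :=
  {z | z.2.1 < c z.1 ∧ ∃ g : G, z.2.2 = g • (z.1 : Set G)}

theorem carr_inv (c : Subgroup G → ℕ) : Inv (uact G) (carr c) := by
  rintro g z ⟨h1, k, h2⟩
  refine ⟨h1, g * k, ?_⟩
  rw [uact_apply]
  show g • z.2.2 = (g * k) • (z.1 : Set G)
  rw [h2, smul_smul]

theorem stab_uact (g : G) (K : Subgroup G) (i : ℕ) {x : G} :
    x ∈ stab (uact G) (K, i, g • (K : Set G)) ↔ g⁻¹ * x * g ∈ K := by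
  rw [← stab_coset]
  constructor
  · intro h
    exact congrArg (fun z : Subgroup G × ℕ × Set G => z.2.2) h
  · intro h
    have h' : x • g • (K : Set G) = g • (K : Set G) := h
    show (K, i, x • g • (K : Set G)) = _
    rw [h']

theorem exists_cj_of_mem_carr {c : Subgroup G → ℕ} {z : Subgroup G × ℕ × Set G} (hz : z ∈ carr c) :
    c z.1 ≠ 0 ∧ Cj z.1 (stab (uact G) z) := by
  obtain ⟨K, i, C⟩ := z
  obtain ⟨h1, g, h2⟩ := hz
  simp only at h1 h2
  subst h2
  exact ⟨by simp only; omega, g, fun x => stab_uact g K i⟩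

open Classical in
/-- The marks. -/
noncomputable def mark [Finite G] (c : Subgroup G → ℕ) (H : Subgroup G) : ℕ :=
  let _ : Fintype (Subgroup G) := Fintype.ofFinite _
  ∑ K, c K * amk H K

theorem finite_carr [Finite G] (c : Subgroup G → ℕ) : (carr c).Finite := by
  have h1 : (carr c) ⊆ ⋃ K : Subgroup G, ({K} : Set (Subgroup G)) ×ˢ (Set.Iio (c K) ×ˢ (Set.univ : Set (Set G))) := by
    rintro ⟨K, i, C⟩ ⟨h1, -⟩
    rw [Set.mem_iUnion]
    exact ⟨K, ⟨rfl, h1, trivial⟩⟩
  refine Set.Finite.subset ?_ h1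
  refine Set.finite_iUnion fun K => ?_
  exact (Set.finite_singleton K).prod ((Set.finite_Iio _).prod (Set.toFinite _))

theorem ncard_fixS_carr [Finite G] (c : Subgroup G → ℕ) (H : Subgroup G) :
    (fixS (uact G) (carr c) H).ncard = mark c H := by
  classical
  let _ : Fintype (Subgroup G) := Fintype.ofFinite _
  let T : Subgroup G → Set (Set G) := fun K => {C : Set G | (∃ g : G, C = g • (K : Set G)) ∧ ∀ h ∈ H, h • C = C}
  let e : (Σ K : Subgroup G, Fin (c K) × T K) ≃ fixS (uact G) (carr c) H :=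
    { toFun := fun z => ⟨(z.1, (z.2.1 : ℕ), (z.2.2 : Set G)), ⟨z.2.1.2, z.2.2.2.1⟩, fun h hh => by
        rw [uact_apply]
        simp only
        rw [z.2.2.2.2 h hh]⟩
      invFun := fun z => ⟨z.1.1, ⟨z.1.2.1, z.2.1.1⟩, ⟨z.1.2.2, z.2.1.2, fun h hh =>
        congrArg (fun z : Subgroup G × ℕ × Set G => z.2.2) (z.2.2 h hh)⟩⟩
      left_inv := fun z => rfl
      right_inv := fun z => rfl }
  rw [← Nat.card_coe_set_eq, ← Nat.card_congr e, Nat.card_sigma]
  unfold mark
  refine Finset.sum_congr rfl fun K _ => ?_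
  rw [Nat.card_prod, Nat.card_fin, Nat.card_coe_set_eq]
  rfl

theorem mark_add [Finite G] (c d : Subgroup G → ℕ) (H : Subgroup G) :
    mark (fun K => c K + d K) H = mark c H + mark d H := by
  unfold mark
  simp only [add_mul, Finset.sum_add_distrib]

theorem mark_smul [Finite G] (n : ℕ) (c : Subgroup G → ℕ) (H : Subgroup G) :
    mark (fun K => n * c K) H = n * mark c H := by
  unfold mark
  simp only [mul_assoc, Finset.mul_sum]

theorem ncard_fixS_congr {X : Type v} {ρ : G →* Equiv.Perm X} {A : Set X} (hA : Inv ρ A) {H K : Subgroup G}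
    (h : Cj H K) : (fixS ρ A H).ncard = (fixS ρ A K).ncard := by
  obtain ⟨g, hg⟩ := h
  refine ncard_eq_of_bijOn (e := ρ g) ⟨?_, (ρ g).injective.injOn, ?_⟩
  · rintro x ⟨hx, hxH⟩
    refine ⟨hA g x hx, fun k hk => ?_⟩
    rw [← mem_stab, stab_apply]
    exact hxH _ ((hg k).mp hk)
  · rintro y ⟨hy, hyK⟩
    refine ⟨ρ g⁻¹ y, ⟨hA _ y hy, fun h hh => ?_⟩, ?_⟩
    · rw [← mem_stab, stab_apply, inv_inv]
      refine hyK _ ((hg _).mpr ?_)
      have e : g⁻¹ * (g * h * g⁻¹) * g = h := by group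
      rwa [e]
    · rw [← Equiv.Perm.mul_apply, ← map_mul, mul_inv_cancel, map_one]
      rfl

theorem mark_congr [Finite G] (c : Subgroup G → ℕ) {H K : Subgroup G} (h : Cj H K) : mark c H = mark c K := by
  rw [← ncard_fixS_carr, ← ncard_fixS_carr]
  exact ncard_fixS_congr (carr_inv c) h

theorem amk_congr {H H' : Subgroup G} (K : Subgroup G) (h : Cj H H') : amk H K = amk H' K := by
  unfold amk
  rw [amk_set, amk_set]
  exact ncard_fixS_congr (orb_inv _ _) h

/-- The weight `|N(H) : H|`. -/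
noncomputable def wt (H : Subgroup G) : ℕ := H.relIndex (Subgroup.normalizer (H : Set G))

theorem wt_congr [Finite G] {H K : Subgroup G} (h : Cj H K) : wt H = wt K := by
  unfold wt
  rw [← amk_eq_of_cj (Cj.refl H), ← amk_eq_of_cj h, amk_congr H h]

/-- The step: correcting the marks at the subgroups of order `k` in the family `𝒯`. -/
theorem exists_correct [Finite G] (𝒯 : Set (Subgroup G)) (h𝒯 : ∀ H K, Cj H K → H ∈ 𝒯 → K ∈ 𝒯) (k : ℕ)
    (c : Subgroup G → ℕ) (M : Subgroup G → ℕ)
    (hMc : ∀ H ∈ 𝒯, Nat.card H = k → ∀ K, Cj H K → M H = M K)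
    (hMle : ∀ H ∈ 𝒯, Nat.card H = k → mark c H ≤ M H)
    (hMmod : ∀ H ∈ 𝒯, Nat.card H = k → mark c H ≡ M H [MOD wt H]) :
    ∃ δ : Subgroup G → ℕ, (∀ K, δ K ≠ 0 → K ∈ 𝒯 ∧ Nat.card K = k) ∧
      (∀ H ∈ 𝒯, Nat.card H = k → mark (fun K => c K + δ K) H = M H) ∧
      (∀ H : Subgroup G, k < Nat.card H → mark (fun K => c K + δ K) H = mark c H) ∧
      ∀ H ∈ 𝒯, Nat.card H = k → mark c H < M H → ∃ K, Cj K H ∧ δ K ≠ 0 := by
  classical
  let _ : Fintype (Subgroup G) := Fintype.ofFinite _
  let stp : Setoid (Subgroup G) := ⟨Cj, Cj.refl, Cj.symm, Cj.trans⟩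
  let rep : Subgroup G → Subgroup G := fun H => (Quotient.mk stp H).out
  have hrep : ∀ H, Cj (rep H) H := fun H => Quotient.mk_out (s := stp) H
  have hrep_eq : ∀ H K, Cj H K → rep H = rep K := fun H K h => by
    show (Quotient.mk stp H).out = (Quotient.mk stp K).out
    rw [Quotient.sound (s := stp) h]
  let δ : Subgroup G → ℕ := fun K =>
    if K ∈ 𝒯 ∧ Nat.card K = k ∧ rep K = K then (M K - mark c K) / wt K else 0
  have hδ : ∀ K, δ K ≠ 0 → K ∈ 𝒯 ∧ Nat.card K = k ∧ rep K = K := by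
    intro K hK
    by_contra hne
    exact hK (if_neg hne)
  have hmark : ∀ H ∈ 𝒯, Nat.card H = k → mark δ H = M H - mark c H := by
    intro H hH hk
    have hrH : rep H ∈ 𝒯 := h𝒯 _ _ (hrep H).symm hH
    have hrk : Nat.card (rep H) = k := by rw [← hk, (hrep H).symm.card_eq]
    have hrr : rep (rep H) = rep H := hrep_eq _ _ (hrep H)
    have hval : δ (rep H) = (M H - mark c H) / wt H := by
      show (if _ then _ else _) = _
      rw [if_pos ⟨hrH, hrk, hrr⟩, mark_congr c (hrep H), wt_congr (hrep H), ← hMc H hH hk _ (hrep H).symm]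
    unfold mark
    rw [Finset.sum_eq_single (rep H)]
    · rw [hval, amk_eq_of_cj (hrep H)]
      show (M H - mark c H) / wt H * wt H = _
      refine Nat.div_mul_cancel ?_
      exact (Nat.modEq_iff_dvd' (hMle H hH hk)).mp (hMmod H hH hk)
    · intro K _ hKne
      by_cases hδK : δ K = 0
      · rw [hδK, zero_mul]
      · obtain ⟨h1, h2, h3⟩ := hδ K hδK
        rw [amk_eq_zero (by rw [h2, hk]), mul_zero]
        intro hc
        apply hKne
        rw [← h3]
        exact hrep_eq _ _ hc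
    · intro h
      exact absurd (Finset.mem_univ _) h
  refine ⟨δ, fun K hK => ⟨(hδ K hK).1, (hδ K hK).2.1⟩, ?_, ?_, ?_⟩
  · intro H hH hk
    rw [mark_add, hmark H hH hk]
    have := hMle H hH hk
    omega
  · intro H hk
    rw [mark_add]
    have : mark δ H = 0 := by
      unfold mark
      refine Finset.sum_eq_zero fun K _ => ?_
      by_cases hδK : δ K = 0
      · rw [hδK, zero_mul]
      · obtain ⟨h1, h2, h3⟩ := hδ K hδK
        rw [amk_eq_zero (by rw [h2]; exact hk.le), mul_zero]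
        intro hc
        have := hc.card_eq
        omega
    omega
  · intro H hH hk hlt
    by_contra hne
    push Not at hne
    have : mark δ H = 0 := by
      unfold mark
      refine Finset.sum_eq_zero fun K _ => ?_
      by_cases hc : Cj K H
      · rw [hne K hc, zero_mul]
      · by_cases hδK : δ K = 0
        · rw [hδK, zero_mul]
        · obtain ⟨h1, h2, h3⟩ := hδ K hδK
          rw [amk_eq_zero (by rw [h2, hk]) hc, mul_zero]
    rw [hmark H hH hk] at this
    omega

end Cfsg.Agent.Fus.Burn
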