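import Cfsg.Agent.MaxClass.Basic
set_option autoImplicit false

/-!
# Small terms of the upper central series of a p-group of maximal class (helper86)
-/

namespace Cfsg.Agent.MaxClass

open Subgroup Group
open scoped commutatorElement

theorem lcs_succ_top {G : Type*} [Group G] (k : ℕ) : (⊤ : Subgroup G).lowerCentralSeries (k + 1) =
    ⁅(⊤ : Subgroup G).lowerCentralSeries k, (⊤ : Subgroup G)⁆ := rfl

variable {G : Type*} [Group G] [Finite G] {p : ℕ} [hp : Fact p.Prime] {n : ℕ}

/-- a normal subgroup `N` with `[N,G] ≤ Z(G)`-type condition of order `≥ p^3` is impossible -/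
theorem card_center (hG : Nat.card G = p ^ n) (hn : 3 ≤ n) (hcl : nilpotencyClass G = n - 1) :
    Nat.card (center G) = p := by
  have hP : IsPGroup p G := IsPGroup.of_card hG
  have hnil : IsNilpotent G := hP.isNilpotent
  have hlast : (⊤ : Subgroup G).lowerCentralSeries (n - 2) ≠ ⊥ := by
    intro h
    have := Subgroup.lowerCentralSeries_eq_bot_iff_nilpotencyClass_le.1 h
    omega
  have hnt : Nontrivial G := by
    rw [← Finite.one_lt_card_iff_nontrivial, hG]
    exact Nat.one_lt_pow (by omega) hp.out.one_lt
  obtain ⟨k, hk⟩ := (hP.to_subgroup (center G)).exists_card_eq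
  have hk1 : k ≠ 0 := by
    rintro rfl
    have h1 := hP.center_nontrivial
    rw [← Finite.one_lt_card_iff_nontrivial, hk] at h1
    simp at h1
  have hidx : p ^ k * (center G).index = p ^ n := by rw [← hk, ← hG]; exact card_mul_index _
  have hkn : k ≤ n := (Nat.pow_dvd_pow_iff_le_right hp.out.one_lt).1 (Dvd.intro _ hidx)
  have hidx' : (center G).index = p ^ (n - k) := by
    have h2 : p ^ k * (center G).index = p ^ k * p ^ (n - k) := by
      rw [hidx, ← pow_add]; congr 1; omega
    exact Nat.eq_of_mul_eq_mul_left (pow_pos hp.out.pos k) h2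
  by_cases h2 : 2 ≤ n - k
  · have h3 := normal_eq_lcs_of_maxClass hG hcl (center G) (n - k) h2 hidx'
    have h4 : (⊤ : Subgroup G).lowerCentralSeries (n - k - 1 + 1) = ⊥ := by
      rw [lcs_succ_top, ← h3, eq_bot_iff, commutator_le]
      intro x hx y _
      rw [mem_bot, commutatorElement_eq_one_iff_mul_comm]
      exact (mem_center_iff.1 hx y).symm
    have h5 : ¬ n - k - 1 + 1 ≤ n - 2 := by
      intro h6
      apply hlast
      rw [eq_bot_iff, ← h4]
      exact Subgroup.lowerCentralSeries_antitone _ h6
    have : k = 1 := by omega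
    rw [hk, this, pow_one]
  · exfalso
    have h3 : IsCyclic (G ⧸ center G) := by
      have h4 : Nat.card (G ⧸ center G) = p ^ (n - k) := hidx'
      rcases Nat.lt_or_ge (n - k) 1 with h5 | h5
      · have h6 : Nat.card (G ⧸ center G) = 1 := by rw [h4, show n - k = 0 by omega, pow_zero]
        have : Subsingleton (G ⧸ center G) := (Nat.card_eq_one_iff_unique.1 h6).1
        exact isCyclic_of_subsingleton
      · have h6 : Nat.card (G ⧸ center G) = p := by rw [h4, show n - k = 1 by omega, pow_one]
        exact isCyclic_of_prime_card h6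
    have hc : ∀ a b : G, a * b = b * a := fun a b =>
      commutative_of_cyclic_center_quotient (QuotientGroup.mk' (center G)) (by rw [QuotientGroup.ker_mk']) a b
    apply hlast
    have h7 : (⊤ : Subgroup G).lowerCentralSeries 1 = ⊥ := by
      rw [lcs_succ_top, eq_bot_iff, commutator_le]
      intro x _ y _
      rw [mem_bot, commutatorElement_eq_one_iff_mul_comm]
      exact hc x y
    rw [eq_bot_iff, ← h7]
    exact Subgroup.lowerCentralSeries_antitone _ (by omega)

theorem card_ucs_two (hG : Nat.card G = p ^ n) (hn : 4 ≤ n) (hcl : nilpotencyClass G = n - 1) :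
    Nat.card (Subgroup.upperCentralSeries G 2) = p ^ 2 := by
  have hP : IsPGroup p G := IsPGroup.of_card hG
  have hnil : IsNilpotent G := hP.isNilpotent
  have hlast : (⊤ : Subgroup G).lowerCentralSeries (n - 2) ≠ ⊥ := by
    intro h
    have := Subgroup.lowerCentralSeries_eq_bot_iff_nilpotencyClass_le.1 h
    omega
  have hZ := card_center hG (by omega) hcl
  have hZ1 : Subgroup.upperCentralSeries G 1 = center G := Subgroup.upperCentralSeries_one G
  have hmem : ∀ x : G, x ∈ Subgroup.upperCentralSeries G 2 ↔ ∀ y : G, ⁅x, y⁆ ∈ center G := by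
    intro x
    rw [← hZ1]
    exact Subgroup.mem_upperCentralSeries_succ_iff
  set U := Subgroup.upperCentralSeries G 2 with hU
  obtain ⟨k, hk⟩ := (hP.to_subgroup U).exists_card_eq
  have hle : center G ≤ U := by
    intro x hx
    rw [hmem]
    intro y
    have : ⁅x, y⁆ = 1 := by
      rw [commutatorElement_eq_one_iff_mul_comm]; exact (mem_center_iff.1 hx y).symm
    rw [this]; exact one_mem _
  have hidx : p ^ k * U.index = p ^ n := by rw [← hk, ← hG]; exact card_mul_index _
  have hkn : k ≤ n := (Nat.pow_dvd_pow_iff_le_right hp.out.one_lt).1 (Dvd.intro _ hidx)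
  have hidx' : U.index = p ^ (n - k) := by
    have h2 : p ^ k * U.index = p ^ k * p ^ (n - k) := by
      rw [hidx, ← pow_add]; congr 1; omega
    exact Nat.eq_of_mul_eq_mul_left (pow_pos hp.out.pos k) h2
  -- lower bound
  have hlow : (⊤ : Subgroup G).lowerCentralSeries (n - 3) ≤ U := by
    intro x hx
    rw [hmem]
    intro y
    rw [mem_center_iff]
    intro z
    have h1 : ⁅x, y⁆ ∈ (⊤ : Subgroup G).lowerCentralSeries (n - 3 + 1) := by
      rw [lcs_succ_top]; exact commutator_mem_commutator hx (mem_top _)
    have h2 : ⁅⁅x, y⁆, z⁆ ∈ (⊤ : Subgroup G).lowerCentralSeries (n - 3 + 1 + 1) := by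
      rw [lcs_succ_top (n - 3 + 1)]; exact commutator_mem_commutator h1 (mem_top _)
    rw [show n - 3 + 1 + 1 = n - 1 by omega, lcs_eq_bot_of_card (by omega) hG, mem_bot,
      commutatorElement_eq_one_iff_mul_comm] at h2
    exact h2.symm
  have hk2 : 2 ≤ k := by
    have h1 := index_lcs_of_maxClass hG hcl (n - 3) (by omega) (by omega)
    have h2 := Subgroup.index_dvd_of_le hlow
    rw [hidx', h1] at h2
    have h3 := (Nat.pow_dvd_pow_iff_le_right hp.out.one_lt).1 h2
    omega
  by_cases h2 : 2 ≤ n - k
  · have h3 := normal_eq_lcs_of_maxClass hG hcl U (n - k) h2 hidx'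
    have h4 : (⊤ : Subgroup G).lowerCentralSeries (n - k - 1 + 1) ≤ center G := by
      rw [lcs_succ_top, ← h3, commutator_le]
      intro x hx y _
      exact (hmem x).1 hx y
    have h5 : (⊤ : Subgroup G).lowerCentralSeries (n - k - 1 + 1 + 1) = ⊥ := by
      rw [lcs_succ_top, eq_bot_iff, commutator_le]
      intro x hx y _
      rw [mem_bot, commutatorElement_eq_one_iff_mul_comm]
      exact (mem_center_iff.1 (h4 hx) y).symm
    have h6 : ¬ n - k - 1 + 1 + 1 ≤ n - 2 := by
      intro h7
      apply hlast
      rw [eq_bot_iff, ← h5]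
      exact Subgroup.lowerCentralSeries_antitone _ h7
    have : k = 2 := by omega
    rw [hk, this]
  · exfalso
    -- `G/Z(G)` has centre of index at most `p`
    have hcyc : IsCyclic (G ⧸ U) := by
      have h4 : Nat.card (G ⧸ U) = p ^ (n - k) := hidx'
      rcases Nat.lt_or_ge (n - k) 1 with h5 | h5
      · have h6 : Nat.card (G ⧸ U) = 1 := by rw [h4, show n - k = 0 by omega, pow_zero]
        have : Subsingleton (G ⧸ U) := (Nat.card_eq_one_iff_unique.1 h6).1
        exact isCyclic_of_subsingleton
      · have h6 : Nat.card (G ⧸ U) = p := by rw [h4, show n - k = 1 by omega, pow_one]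
        exact isCyclic_of_prime_card h6
    have h7 : ∀ a b : G, ⁅a, b⁆ ∈ center G := by
      intro a b
      have hker : (QuotientGroup.map (center G) U (MonoidHom.id G) hle).ker ≤ center (G ⧸ center G) := by
        intro x hx
        obtain ⟨x, rfl⟩ := QuotientGroup.mk_surjective x
        have hx' : x ∈ U := (QuotientGroup.eq_one_iff x).1 hx
        rw [mem_center_iff]
        intro y
        obtain ⟨y, rfl⟩ := QuotientGroup.mk_surjective y
        have h8 := (hmem x).1 hx' y
        have h9 : (QuotientGroup.mk ⁅x, y⁆ : G ⧸ center G) = 1 := (QuotientGroup.eq_one_iff _).2 h8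
        have h10 : ⁅(QuotientGroup.mk x : G ⧸ center G), (QuotientGroup.mk y : G ⧸ center G)⁆ = 1 := h9
        rw [commutatorElement_eq_one_iff_mul_comm] at h10
        exact h10.symm
      have h8 := commutative_of_cyclic_center_quotient _ hker (QuotientGroup.mk a) (QuotientGroup.mk b)
      rw [← QuotientGroup.eq_one_iff]
      have h10 : ⁅(QuotientGroup.mk a : G ⧸ center G), (QuotientGroup.mk b : G ⧸ center G)⁆ = 1 :=
        commutatorElement_eq_one_iff_mul_comm.2 h8
      exact h10
    have h8 : (⊤ : Subgroup G).lowerCentralSeries 2 = ⊥ := by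
      rw [lcs_succ_top, eq_bot_iff, commutator_le]
      intro x hx y _
      have h9 : (⊤ : Subgroup G).lowerCentralSeries 1 ≤ center G := by
        rw [lcs_succ_top, commutator_le]
        intro a _ b _
        exact h7 a b
      rw [mem_bot, commutatorElement_eq_one_iff_mul_comm]
      exact (mem_center_iff.1 (h9 hx) y).symm
    apply hlast
    rw [eq_bot_iff, ← h8]
    exact Subgroup.lowerCentralSeries_antitone _ (by omega)

/-- the class of `S` from the lower central series computed in the ambient group -/
theorem class_of_lcs {Ω : Type*} [Group Ω] {S : Subgroup Ω} [Finite S] (hn : Nat.card S = p ^ n) (h2 : 2 ≤ n)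
    (hmax : Subgroup.lowerCentralSeries S (n - 2) ≠ ⊥) : nilpotencyClass S = n - 1 := by
  have hP : IsPGroup p S := IsPGroup.of_card hn
  have hnil : IsNilpotent S := hP.isNilpotent
  have h1 := class_le_of_card h2 hn
  by_contra hne
  apply hmax
  have h3 : (⊤ : Subgroup S).lowerCentralSeries (n - 2) = ⊥ :=
    Subgroup.lowerCentralSeries_eq_bot_iff_nilpotencyClass_le.2 (by omega)
  rw [← Subgroup.top_subtype_lowerCentralSeries, h3, Subgroup.map_bot]

end Cfsg.Agent.MaxClass
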