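import Cfsg.Agent.Fus.MaxCls
import Cfsg.Agent.Fus.AbelianEss
import Cfsg.Agent.Fus.ExIdx
import Cfsg.Agent.H70.PolySeq
set_option autoImplicit false

/-!
# Essential subgroups and maximal class (helper86)
-/

namespace Cfsg.Agent.MaxClass

open Subgroup Group Cfsg.Agent.FusSE
open scoped commutatorElement

variable {G : Type*} [Group G] {p : ℕ}

/-- the two-step centralizer `C_G(γ₂/γ₄)` -/
def twoStep (G : Type*) [Group G] : Subgroup G where
  carrier := {x | ∀ y ∈ (⊤ : Subgroup G).lowerCentralSeries 1, ⁅x, y⁆ ∈ (⊤ : Subgroup G).lowerCentralSeries 3}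
  one_mem' := fun y _ => by rw [commutatorElement_one_left]; exact Subgroup.one_mem _
  mul_mem' := by
    intro a b ha hb y hy
    have h1 : ⁅a * b, y⁆ = a * ⁅b, y⁆ * a⁻¹ * ⁅a, y⁆ := by simp only [commutatorElement_def]; group
    rw [h1]
    have hn : ((⊤ : Subgroup G).lowerCentralSeries 3).Normal := inferInstance
    exact Subgroup.mul_mem _ (hn.conj_mem _ (hb y hy) a) (ha y hy)
  inv_mem' := by
    intro a ha y hy
    have h1 : ⁅a⁻¹, y⁆ = a⁻¹ * ⁅a, y⁆⁻¹ * a := by simp only [commutatorElement_def]; group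
    rw [h1]
    have hn : ((⊤ : Subgroup G).lowerCentralSeries 3).Normal := inferInstance
    have h2 := hn.conj_mem _ (Subgroup.inv_mem _ (ha y hy)) a⁻¹
    rwa [inv_inv] at h2

theorem mem_twoStep {x : G} : x ∈ twoStep G ↔ ∀ y ∈ (⊤ : Subgroup G).lowerCentralSeries 1,
    ⁅x, y⁆ ∈ (⊤ : Subgroup G).lowerCentralSeries 3 := Iff.rfl

theorem lcs_inv (α : MulAut G) (k : ℕ) {x : G} (hx : x ∈ (⊤ : Subgroup G).lowerCentralSeries k) :
    α x ∈ (⊤ : Subgroup G).lowerCentralSeries k := by
  have h := Subgroup.map_lowerCentralSeries (S := (⊤ : Subgroup G)) (α : G →* G) k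
  have h2 : (⊤ : Subgroup G).map (α : G →* G) = ⊤ := Subgroup.map_top_of_surjective _ α.surjective
  rw [h2] at h
  rw [← h]
  exact ⟨x, hx, rfl⟩

theorem twoStep_inv (α : MulAut G) {x : G} (hx : x ∈ twoStep G) : α x ∈ twoStep G := by
  intro y hy
  have h1 : α⁻¹ y ∈ (⊤ : Subgroup G).lowerCentralSeries 1 := lcs_inv α⁻¹ 1 hy
  have h2 := lcs_inv α 3 (hx _ h1)
  rw [map_commutatorElement, MulAut.apply_inv_self] at h2
  exact h2

variable [Finite G] [hp : Fact p.Prime] {n : ℕ}

theorem index_twoStep (hG : Nat.card G = p ^ n) (hn : 4 ≤ n) (hcl : nilpotencyClass G = n - 1) :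
    (twoStep G).index = p := by
  have hpp := hp.out
  set L := fun k => (⊤ : Subgroup G).lowerCentralSeries k with hL
  have hidx : ∀ k, 1 ≤ k → k ≤ n - 1 → (L k).index = p ^ (k + 1) := fun k h1 h2 =>
    index_lcs_of_maxClass hG hcl k h1 h2
  have hnorm : ∀ k, (L k).Normal := fun k => inferInstance
  have hanti : ∀ k, L (k + 1) ≤ L k := fun k => Subgroup.lowerCentralSeries_antitone _ (Nat.le_succ k)
  have hlt : L 2 < L 1 := by
    refine lt_of_le_of_ne (hanti 1) fun h => ?_
    have h1 := hidx 1 le_rfl (by omega)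
    have h2 := hidx 2 (by norm_num) (by omega)
    rw [h, h1] at h2
    exact absurd (Nat.pow_right_injective hpp.two_le h2) (by norm_num)
  obtain ⟨y₀, hy₀, hy₀'⟩ := SetLike.exists_of_lt hlt
  have hc2 : ∀ x : G, ∀ y ∈ L 1, ⁅x, y⁆ ∈ L 2 := by
    intro x y hy
    rw [← commutatorElement_inv]
    exact Subgroup.inv_mem _ (Subgroup.commutator_mem_commutator hy (Subgroup.mem_top x))
  have hc3 : ∀ x : G, ∀ y ∈ L 2, ⁅x, y⁆ ∈ L 3 := by
    intro x y hy
    rw [← commutatorElement_inv]
    exact Subgroup.inv_mem _ (Subgroup.commutator_mem_commutator hy (Subgroup.mem_top x))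
  have hcen : ∀ y ∈ L 2, ∀ q : G ⧸ L 3, q * (y : G ⧸ L 3) = y * q := by
    intro y hy q
    obtain ⟨x, rfl⟩ := QuotientGroup.mk_surjective q
    have h1 : ((⁅x, y⁆ : G) : G ⧸ L 3) = 1 := (QuotientGroup.eq_one_iff _).2 (hc3 x y hy)
    have h2 : x * y = ⁅x, y⁆ * (y * x) := by rw [commutatorElement_def]; group
    calc (x : G ⧸ L 3) * y = ((x * y : G) : G ⧸ L 3) := rfl
      _ = ((⁅x, y⁆ : G) : G ⧸ L 3) * ((y * x : G) : G ⧸ L 3) := by rw [h2]; rfl
      _ = (y : G ⧸ L 3) * x := by rw [h1, one_mul]; rfl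
  let f : G →* G ⧸ L 3 := MonoidHom.mk' (fun x => QuotientGroup.mk ⁅x, y₀⁆) (by
    intro a b
    have h1 : ⁅a * b, y₀⁆ = a * ⁅b, y₀⁆ * a⁻¹ * ⁅a, y₀⁆ := by simp only [commutatorElement_def]; group
    show ((⁅a * b, y₀⁆ : G) : G ⧸ L 3) = ((⁅a, y₀⁆ : G) : G ⧸ L 3) * ((⁅b, y₀⁆ : G) : G ⧸ L 3)
    rw [h1]
    show (a : G ⧸ L 3) * ((⁅b, y₀⁆ : G) : G ⧸ L 3) * (a : G ⧸ L 3)⁻¹ * ((⁅a, y₀⁆ : G) : G ⧸ L 3) = _
    rw [hcen _ (hc2 b y₀ hy₀), mul_inv_cancel_right, hcen _ (hc2 a y₀ hy₀)])
  have hker : f.ker = twoStep G := by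
    ext x
    rw [MonoidHom.mem_ker]
    have hfx : f x = ((⁅x, y₀⁆ : G) : G ⧸ L 3) := rfl
    rw [hfx, QuotientGroup.eq_one_iff, mem_twoStep]
    constructor
    · intro hx
      -- the elements commuting with `x` modulo `L 3`
      let D : Subgroup G := (Subgroup.centralizer ({(x : G ⧸ L 3)} : Set (G ⧸ L 3))).comap (QuotientGroup.mk' (L 3))
      have hD : ∀ y : G, y ∈ D ↔ ⁅x, y⁆ ∈ L 3 := by
        intro y
        rw [Subgroup.mem_comap, Subgroup.mem_centralizer_singleton_iff, ← QuotientGroup.eq_one_iff]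
        show (y : G ⧸ L 3) * x = x * y ↔ (x : G ⧸ L 3) * y * (x : G ⧸ L 3)⁻¹ * (y : G ⧸ L 3)⁻¹ = 1
        rw [mul_inv_eq_one, mul_inv_eq_iff_eq_mul]
        exact eq_comm
      have hL2 : L 2 ≤ D := fun y hy => (hD y).2 (hc3 x y hy)
      have hlt2 : L 2 < D ⊓ L 1 := lt_of_le_of_ne (le_inf hL2 (hanti 1)) fun h =>
        hy₀' (h ▸ ⟨(hD y₀).2 hx, hy₀⟩)
      have h1 := Subgroup.relIndex_mul_relIndex (L 2) (D ⊓ L 1) (L 1) hlt2.le inf_le_right
      have h2 : (L 2).relIndex (L 1) = p := by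
        have h3 := Subgroup.relIndex_mul_index (hanti 1)
        rw [hidx 1 le_rfl (by omega), hidx 2 (by norm_num) (by omega)] at h3
        have h4 : (L 2).relIndex (L 1) * p ^ 2 = p * p ^ 2 := by rw [h3]; ring
        exact Nat.eq_of_mul_eq_mul_right (pow_pos hpp.pos 2) h4
      rw [h2] at h1
      have h3 : (D ⊓ L 1).relIndex (L 1) = 1 := by
        rcases (Nat.dvd_prime hpp).1 (Dvd.intro _ h1) with h | h
        · exact absurd (Subgroup.relIndex_eq_one.1 h) hlt2.not_ge
        · rw [h] at h1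
          exact Nat.eq_of_mul_eq_mul_left hpp.pos (by rw [h1, mul_one])
      intro y hy
      exact (hD y).1 (Subgroup.relIndex_eq_one.1 h3 hy).1
    · intro hx
      exact hx y₀ hy₀
  have hrange : f.range ≤ (L 2).map (QuotientGroup.mk' (L 3)) := by
    rintro _ ⟨x, rfl⟩
    exact ⟨_, hc2 x y₀ hy₀, rfl⟩
  have hcardr : Nat.card ((L 2).map (QuotientGroup.mk' (L 3))) = p := by
    have h1 : (QuotientGroup.mk' (L 3)).ker.relIndex (L 2) = Nat.card ((L 2).map (QuotientGroup.mk' (L 3))) :=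
      Subgroup.relIndex_ker _ _
    rw [QuotientGroup.ker_mk'] at h1
    rw [← h1]
    have h3 := Subgroup.relIndex_mul_index (hanti 2)
    rw [hidx 2 (by norm_num) (by omega), hidx 3 (by norm_num) (by omega)] at h3
    have h4 : (L 3).relIndex (L 2) * p ^ 3 = p * p ^ 3 := by
      have h5 : p ^ (2 + 1) = p ^ 3 := rfl
      have h6 : p ^ (3 + 1) = p * p ^ 3 := by ring
      rw [← h5, ← h6]
      exact h3
    exact Nat.eq_of_mul_eq_mul_right (pow_pos hpp.pos 3) h4
  rw [← hker, Subgroup.index_ker]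
  have h1 := Subgroup.card_dvd_of_le hrange
  rw [hcardr] at h1
  rcases (Nat.dvd_prime hpp).1 h1 with h | h
  · exfalso
    have h2 : f.range = ⊥ := Subgroup.card_eq_one.1 h
    have h3 : twoStep G = ⊤ := by rw [← hker, MonoidHom.ker_eq_top_iff, ← MonoidHom.range_eq_bot_iff]; exact h2
    have h4 : L 2 ≤ L 3 := by
      show (⊤ : Subgroup G).lowerCentralSeries (1 + 1) ≤ _
      rw [lcs_succ_top, Subgroup.commutator_le]
      intro y hy x _
      rw [← commutatorElement_inv]
      exact Subgroup.inv_mem _ (mem_twoStep.1 (h3 ▸ Subgroup.mem_top x) y hy)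
    have h5 := le_antisymm h4 (hanti 2)
    have h6 := hidx 2 (by norm_num) (by omega)
    rw [h5, hidx 3 (by norm_num) (by omega)] at h6
    exact absurd (Nat.pow_right_injective hpp.two_le h6) (by norm_num)
  · exact h

theorem lcs_one_le_twoStep : (⊤ : Subgroup G).lowerCentralSeries 1 ≤ twoStep G := by
  intro x hx y hy
  exact H70.lcs_comm (G := G) 2 2 (Subgroup.commutator_mem_commutator hx hy)

/-- A group of automorphisms of a group of maximal class with a strongly `p`-embedded outer part fixes no maximal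
subgroup. -/
theorem no_max_ess (hG : Nat.card G = p ^ n) (hn : 2 ≤ n) (hcl : nilpotencyClass G = n - 1)
    {A : Subgroup (MulAut G)} (h : SEOut p A) {R : Subgroup G} (hR1 : (⊤ : Subgroup G).lowerCentralSeries 1 ≤ R)
    (hR : R.index = p) (hinv : ∀ α ∈ A, ∀ x ∈ R, α x ∈ R) : False := by
  have hpp := hp.out
  have hP : IsPGroup p G := IsPGroup.of_card hG
  have : Group.IsNilpotent G := hP.isNilpotent
  set L := fun k => (⊤ : Subgroup G).lowerCentralSeries k with hL
  have hidx : ∀ k, 1 ≤ k → k ≤ n - 1 → (L k).index = p ^ (k + 1) := fun k h1 h2 =>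
    index_lcs_of_maxClass hG hcl k h1 h2
  have hbot : L (n - 1) = ⊥ := by
    apply Subgroup.card_eq_one.1
    have h1 := Subgroup.card_mul_index (L (n - 1))
    rw [hidx (n - 1) (by omega) le_rfl, hG, show n - 1 + 1 = n by omega] at h1
    exact Nat.eq_of_mul_eq_mul_right (pow_pos hpp.pos n) (by rw [h1, one_mul])
  have hRn : R.Normal := by
    constructor
    intro x hx g
    have h1 : ⁅g, x⁆ ∈ R := hR1 (Subgroup.commutator_mem_commutator (Subgroup.mem_top g) (Subgroup.mem_top x))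
    have h2 := R.mul_mem h1 hx
    rwa [commutatorElement_def, inv_mul_cancel_right] at h2
  set c : ℕ → Subgroup G := fun i => if n ≤ i then ⊤ else if i + 1 = n then R else L (n - 1 - i) with hc
  have c1 : ∀ i, n ≤ i → c i = ⊤ := fun i hi => by simp [hc, hi]
  have c2 : c (n - 1) = R := by
    have h1 : ¬ n ≤ n - 1 := by omega
    have h2 : n - 1 + 1 = n := by omega
    simp [hc, h1, h2]
  have c3 : ∀ i, i + 1 < n → c i = L (n - 1 - i) := fun i hi => by
    have h1 : ¬ n ≤ i := by omega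
    have h2 : ¬ i + 1 = n := by omega
    simp [hc, h1, h2]
  have hmono : Monotone c := by
    apply monotone_nat_of_le_succ
    intro i
    rcases Nat.lt_or_ge (i + 1) n with hi | hi
    · rw [c3 i hi]
      rcases Nat.lt_or_ge (i + 2) n with hi2 | hi2
      · rw [c3 (i + 1) hi2]
        exact Subgroup.lowerCentralSeries_antitone _ (by omega)
      · have : i + 1 = n - 1 := by omega
        rw [this, c2]
        have : n - 1 - i = 1 := by omega
        rw [this]
        exact hR1
    · rw [c1 (i + 1) hi]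
      exact le_top
  have hnorm : ∀ i, (c i).Normal := by
    intro i
    rcases Nat.lt_or_ge (i + 1) n with hi | hi
    · rw [c3 i hi]; exact inferInstance
    · rcases Nat.lt_or_ge i n with hi2 | hi2
      · have : i = n - 1 := by omega
        rw [this, c2]; exact hRn
      · rw [c1 i hi2]; exact inferInstance
  refine h.no_chain_relIndex hP (n := n) (c := c) ?_ (c1 n le_rfl) hmono (fun i _ => (hnorm i).subgroupOf _) ?_ ?_
  · rw [c3 0 (by omega), Nat.sub_zero]; exact hbot
  · intro i hi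
    rcases Nat.lt_or_ge (i + 1) n with hi1 | hi1
    · have hle : c i ≤ c (i + 1) := hmono (Nat.le_succ i)
      have e := Subgroup.relIndex_mul_index hle
      have hi3 : (c i).index = p ^ (n - i) := by
        rw [c3 i hi1, hidx _ (by omega) (by omega), show n - 1 - i + 1 = n - i by omega]
      rcases Nat.lt_or_ge (i + 2) n with hi2 | hi2
      · have hi4 : (c (i + 1)).index = p ^ (n - i - 1) := by
          rw [c3 (i + 1) hi2, hidx _ (by omega) (by omega), show n - 1 - (i + 1) + 1 = n - i - 1 by omega]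
        rw [hi3, hi4, show n - i = (n - i - 1) + 1 by omega, pow_succ] at e
        have e2 : (c i).relIndex (c (i + 1)) * p ^ (n - i - 1) = p * p ^ (n - i - 1) := by
          rw [show n - i - 1 + 1 - 1 = n - i - 1 by omega] at e
          rw [e]; ring
        exact (Nat.eq_of_mul_eq_mul_right (pow_pos hpp.pos _) e2).le
      · have hi4 : i + 1 = n - 1 := by omega
        rw [hi3, hi4, c2, hR, show n - i = 2 by omega, pow_two] at e
        rw [hi4, c2]
        exact (Nat.eq_of_mul_eq_mul_right hpp.pos e).le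
    · have hi2 : i = n - 1 := by omega
      rw [c1 (i + 1) hi1, Subgroup.relIndex_top_right, hi2, c2, hR]
  · intro α hα i x hx
    rcases Nat.lt_or_ge (i + 1) n with hi | hi
    · rw [c3 i hi] at hx ⊢
      exact lcs_inv α _ hx
    · rcases Nat.lt_or_ge i n with hi2 | hi2
      · have : i = n - 1 := by omega
        rw [this, c2] at hx ⊢
        exact hinv α hα x hx
      · rw [c1 i hi2]; trivial

/-- Essential subgroups of maximal class have order at most `p^3`. -/
theorem ess_card_le (hG : Nat.card G = p ^ n) (hn : 2 ≤ n) (hcl : nilpotencyClass G = n - 1)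
    {A : Subgroup (MulAut G)} (h : SEOut p A) : n ≤ 3 := by
  by_contra hcon
  exact no_max_ess hG hn hcl h lcs_one_le_twoStep (index_twoStep hG (by omega) hcl) fun α _ x hx => twoStep_inv α hx

end Cfsg.Agent.MaxClass
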