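import Cfsg.Agent.Fus.MaxSyl2
import Cfsg.Agent.H72.MC11
import Cfsg.Agent.MaxClass.TwoGroups
set_option autoImplicit false

/-!
# Uniform elements generate a group of maximal class (helper86)
-/

namespace Cfsg.Agent.MaxClass

open Subgroup Group Cfsg.Agent.FusSE Cfsg.Agent.Fus Cfsg
open scoped commutatorElement Pointwise

theorem top_of_outside {X : Type*} [Group X] {M C : Subgroup X} (hC : C ≠ ⊤) (h : ∀ s, s ∉ C → s ∈ M) : M = ⊤ := by
  obtain ⟨y, hy⟩ : ∃ y, y ∉ C := by
    by_contra hcon
    push Not at hcon
    exact hC ((Subgroup.eq_top_iff' C).2 hcon)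
  rw [Subgroup.eq_top_iff']
  intro x
  by_cases hx : x ∈ C
  · have h1 : x * y ∉ C := fun h2 => hy ((C.mul_mem_cancel_left hx).1 h2)
    exact (M.mul_mem_cancel_right (h y hy)).1 (h _ h1)
  · exact h x hx

theorem top_of_outside_two {X : Type*} [Group X] [Finite X] {p : ℕ} [hp : Fact p.Prime] (hp2 : p ≠ 2)
    (hX : IsPGroup p X) {M A B : Subgroup X} (hA : A.index = p) (hB : B.index = p)
    (h : ∀ s, s ∉ A → s ∉ B → s ∈ M) : M = ⊤ := by
  classical
  have hpp := hp.out
  have hp3 : 3 ≤ p := by have := hpp.two_le; omega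
  by_contra hM
  have hcM : p * Nat.card M ≤ Nat.card X := by
    obtain ⟨k, hk⟩ := hX.exists_card_eq
    have h1 := Subgroup.card_mul_index M
    have h2 : M.index ∣ p ^ k := by rw [← hk]; exact Dvd.intro_left _ h1
    obtain ⟨j, hj, hj2⟩ := (Nat.dvd_prime_pow hpp).1 h2
    have hj0 : j ≠ 0 := by
      rintro rfl
      rw [pow_zero] at hj2
      exact hM (Subgroup.index_eq_one.1 hj2)
    have h3 : p ≤ M.index := by
      rw [hj2]
      calc p = p ^ 1 := (pow_one p).symm
        _ ≤ p ^ j := Nat.pow_le_pow_right hpp.pos (by omega)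
    calc p * Nat.card M = Nat.card M * p := mul_comm _ _
      _ ≤ Nat.card M * M.index := Nat.mul_le_mul_left _ h3
      _ = Nat.card X := h1
  have hcA : Nat.card A * p = Nat.card X := by rw [← hA]; exact Subgroup.card_mul_index A
  have hcB : Nat.card B * p = Nat.card X := by rw [← hB]; exact Subgroup.card_mul_index B
  have hcover : (Set.univ : Set X) ⊆ insert 1 (((M : Set X) \ {1}) ∪ (((A : Set X) \ {1}) ∪ ((B : Set X) \ {1}))) := by
    intro x _
    by_cases hx : x = 1
    · exact Or.inl hx
    · right
      by_cases hxA : x ∈ A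
      · exact Or.inr (Or.inl ⟨hxA, hx⟩)
      · by_cases hxB : x ∈ B
        · exact Or.inr (Or.inr ⟨hxB, hx⟩)
        · exact Or.inl ⟨h x hxA hxB, hx⟩
  have h1 := Set.ncard_le_ncard hcover (Set.toFinite _)
  rw [Set.ncard_univ] at h1
  have h2 : ∀ K : Subgroup X, ((K : Set X) \ {1}).ncard = Nat.card K - 1 := by
    intro K
    rw [Set.ncard_sdiff_singleton_of_mem K.one_mem]
    rfl
  have h3 := Set.ncard_insert_le (1 : X) (((M : Set X) \ {1}) ∪ (((A : Set X) \ {1}) ∪ ((B : Set X) \ {1})))
  have h4 := Set.ncard_union_le ((M : Set X) \ {1}) (((A : Set X) \ {1}) ∪ ((B : Set X) \ {1}))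
  have h5 := Set.ncard_union_le ((A : Set X) \ {1}) ((B : Set X) \ {1})
  rw [h2] at h4
  rw [h2, h2] at h5
  have c1 : 0 < Nat.card M := Nat.card_pos
  have c2 : 0 < Nat.card A := Nat.card_pos
  have c3 : 0 < Nat.card B := Nat.card_pos
  have d1 : 3 * Nat.card M ≤ Nat.card X := (Nat.mul_le_mul_right _ hp3).trans hcM
  have d2 : 3 * Nat.card A ≤ Nat.card X := by rw [← hcA, mul_comm]; exact Nat.mul_le_mul_left _ hp3
  have d3 : 3 * Nat.card B ≤ Nat.card X := by rw [← hcB, mul_comm]; exact Nat.mul_le_mul_left _ hp3
  omega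

variable {X : Type*} [Group X] [Finite X] {p : ℕ} [hp : Fact p.Prime] {n : ℕ}

theorem sq_le_centralizer (hn : Nat.card X = p ^ n) (h3 : 3 ≤ n) (s : X) :
    p ^ 2 ≤ Nat.card (Subgroup.centralizer ({s} : Set X)) := by
  have hpp := hp.out
  have hX : IsPGroup p X := IsPGroup.of_card hn
  by_cases hs : s ∈ center X
  · have h1 : Subgroup.centralizer ({s} : Set X) = ⊤ := by
      rw [Subgroup.eq_top_iff']
      intro x
      rw [Subgroup.mem_centralizer_singleton_iff]
      exact Subgroup.mem_center_iff.1 hs x
    rw [h1, Subgroup.card_top, hn]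
    exact Nat.pow_le_pow_right hpp.pos (by omega)
  · have hle : center X ≤ Subgroup.centralizer ({s} : Set X) := by
      intro x hx
      rw [Subgroup.mem_centralizer_singleton_iff]
      exact (Subgroup.mem_center_iff.1 hx s).symm
    have hlt : center X < Subgroup.centralizer ({s} : Set X) := lt_of_le_of_ne hle fun h => hs (by
      rw [h, Subgroup.mem_centralizer_singleton_iff])
    have hnt : Nontrivial X := by
      rw [← Finite.one_lt_card_iff_nontrivial, hn]
      exact Nat.one_lt_pow (by omega) hpp.one_lt
    have hcn := hX.center_nontrivial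
    obtain ⟨j, hj⟩ := (hX.to_subgroup (center X)).exists_card_eq
    obtain ⟨k, hk⟩ := (hX.to_subgroup (Subgroup.centralizer ({s} : Set X))).exists_card_eq
    have h1 : Nat.card (center X) < Nat.card (Subgroup.centralizer ({s} : Set X)) := by
      refine lt_of_le_of_ne (Subgroup.card_le_of_le hle) fun h => ?_
      exact hlt.ne (Subgroup.eq_of_le_of_card_ge hle h.ge)
    have h2 : 1 < Nat.card (center X) := Finite.one_lt_card_iff_nontrivial.2 hcn
    rw [hj] at h1 h2
    rw [hk] at h1 ⊢
    have h4 := (Nat.pow_lt_pow_iff_right hpp.one_lt).1 h1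
    have h5 : j ≠ 0 := by rintro rfl; simp at h2
    exact Nat.pow_le_pow_right hpp.pos (by omega)

theorem unif_gen (hn : Nat.card X = p ^ n) (h3 : 3 ≤ n) (hcl : nilpotencyClass X = n - 1) (M : Subgroup X)
    (h : ∀ s : X, Nat.card (Subgroup.centralizer ({s} : Set X)) = p ^ 2 → s ∈ M) : M = ⊤ := by
  have hpp := hp.out
  have hX : IsPGroup p X := IsPGroup.of_card hn
  have hge := fun s : X => sq_le_centralizer hn h3 s
  rcases Nat.lt_or_ge n 4 with hn4 | hn4
  · -- `n = 3`
    have e : n = 3 := by omega
    subst e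
    have hz := card_center hn le_rfl hcl
    refine top_of_outside (C := center X) ?_ fun s hs => h s ?_
    · intro h1
      rw [h1, Subgroup.card_top, hn] at hz
      have h2 : p ^ 1 < p ^ 3 := Nat.pow_lt_pow_right hpp.one_lt (by norm_num)
      rw [pow_one] at h2
      omega
    · have h1 := Subgroup.card_mul_index (Subgroup.centralizer ({s} : Set X))
      obtain ⟨k, hk⟩ := (hX.to_subgroup (Subgroup.centralizer ({s} : Set X))).exists_card_eq
      have h2 : k ≤ 2 := by
        by_contra hcon
        apply hs
        have h4 : Subgroup.centralizer ({s} : Set X) = ⊤ := by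
          apply Subgroup.eq_top_of_le_card
          rw [hn, hk]
          exact Nat.pow_le_pow_right hpp.pos (by omega)
        rw [Subgroup.mem_center_iff]
        intro x
        have h5 : x ∈ Subgroup.centralizer ({s} : Set X) := by rw [h4]; trivial
        rwa [Subgroup.mem_centralizer_singleton_iff] at h5
      refine le_antisymm ?_ (hge s)
      rw [hk]; exact Nat.pow_le_pow_right hpp.pos h2
  · rcases eq_or_ne p 2 with rfl | hp2
    · -- `p = 2`
      obtain ⟨C, hC, hCi⟩ := Cfsg.Agent.MaxClass.exists_cyclic_index_two_of_taussky n (by omega) X hn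
        (Cfsg.Agent.MaxClass.index_commutator_of_maxClass (p := 2) (by omega) hn hcl)
      refine top_of_outside (C := C) ?_ fun s hs => h s (le_antisymm ?_ (hge s))
      · intro h1
        rw [h1, Subgroup.index_top] at hCi
        omega
      · have hz := card_center hn h3 hcl
        have h1 : C ⊓ Subgroup.centralizer ({s} : Set X) ≤ center X := by
          rintro x ⟨hx, hxs⟩
          have hxs' : x ∈ Subgroup.centralizer ({s} : Set X) := hxs
          rw [Subgroup.mem_centralizer_singleton_iff] at hxs'
          have h2 : C ≤ Subgroup.centralizer ({x} : Set X) := by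
            intro y hy
            rw [Subgroup.mem_centralizer_singleton_iff]
            have := (IsCyclic.isMulCommutative (α := C)).is_comm.comm ⟨y, hy⟩ ⟨x, hx⟩
            exact congrArg Subtype.val this
          have h4 : C < Subgroup.centralizer ({x} : Set X) := lt_of_le_of_ne h2 fun h5 => hs (by
            rw [h5, Subgroup.mem_centralizer_singleton_iff]; exact hxs'.symm)
          have h5 := Subgroup.relIndex_mul_index h2
          rw [hCi] at h5
          have h6 : (Subgroup.centralizer ({x} : Set X)).index = 1 := by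
            rcases (Nat.dvd_prime Nat.prime_two).1 (Dvd.intro _ h5) with h | h
            · exact absurd (Subgroup.relIndex_eq_one.1 h) h4.not_ge
            · rw [h] at h5; omega
          have h7 := Subgroup.index_eq_one.1 h6
          rw [Subgroup.mem_center_iff]
          intro y
          have h8 : y ∈ Subgroup.centralizer ({x} : Set X) := by rw [h7]; trivial
          rwa [Subgroup.mem_centralizer_singleton_iff] at h8
        have h2 : Nat.card (C ⊓ Subgroup.centralizer ({s} : Set X) : Subgroup X) ≤ 2 := by
          rw [← hz]; exact Subgroup.card_le_of_le h1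
        have h4 : Nat.card (C ⊓ Subgroup.centralizer ({s} : Set X) : Subgroup X) *
            (C ⊓ Subgroup.centralizer ({s} : Set X)).relIndex (Subgroup.centralizer ({s} : Set X)) =
            Nat.card (Subgroup.centralizer ({s} : Set X)) := by
          rw [← Subgroup.relIndex_bot_left, ← Subgroup.relIndex_bot_left]
          exact Subgroup.relIndex_mul_relIndex _ _ _ bot_le inf_le_right
        have h5 : (C ⊓ Subgroup.centralizer ({s} : Set X)).relIndex (Subgroup.centralizer ({s} : Set X)) ≤ 2 := by
          rw [Subgroup.inf_relIndex_right, ← hCi, ← Subgroup.relIndex_top_right]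
          exact Subgroup.relIndex_le_of_le_right le_top (by rw [Subgroup.relIndex_top_right, hCi]; norm_num)
        rw [← h4]
        exact (Nat.mul_le_mul h2 h5).trans (by norm_num)
    · obtain ⟨A, B, hA, hB, hAB⟩ := (Cfsg.Agent.H72.MC.max_of_nilpotencyClass (by omega) hn hcl).exists_two_subgroups
        hp2 hn4
      exact top_of_outside_two hp2 hX hA hB fun s h1 h2 => h s (le_antisymm (hAB s h1 h2) (hge s))

theorem unif_iff {Ω : Type*} [Group Ω] {S : Subgroup Ω} {q : ℕ} (s : S) :
    Unif q S (s : Ω) ↔ Nat.card (Subgroup.centralizer ({s} : Set S)) = q ^ 2 := by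
  have h1 : Nat.card (Subgroup.centralizer ({s} : Set S)) =
      Nat.card (S ⊓ Subgroup.centralizer ({(s : Ω)} : Set Ω) : Subgroup Ω) := by
    have h2 : (Subgroup.centralizer ({s} : Set S)).map S.subtype =
        S ⊓ Subgroup.centralizer ({(s : Ω)} : Set Ω) := by
      ext x
      constructor
      · rintro ⟨y, hy, rfl⟩
        refine ⟨y.2, ?_⟩
        show (y : Ω) ∈ Subgroup.centralizer ({(s : Ω)} : Set Ω)
        have hy' : y ∈ Subgroup.centralizer ({s} : Set S) := hy
        rw [Subgroup.mem_centralizer_singleton_iff] at hy' ⊢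
        exact congrArg Subtype.val hy'
      · rintro ⟨hx, hx2⟩
        have hx3 : x ∈ Subgroup.centralizer ({(s : Ω)} : Set Ω) := hx2
        rw [Subgroup.mem_centralizer_singleton_iff] at hx3
        refine ⟨⟨x, hx⟩, ?_, rfl⟩
        rw [SetLike.mem_coe, Subgroup.mem_centralizer_singleton_iff]
        exact Subtype.ext hx3
    rw [← h2]
    exact (Subgroup.card_map_of_injective S.subtype_injective).symm
  unfold Unif
  rw [h1]
  exact ⟨fun h => h.2, fun h => ⟨s.2, h⟩⟩

end Cfsg.Agent.MaxClass
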