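import Cfsg.Agent.Fus.PSol3
set_option autoImplicit false
set_option linter.all false

/-!
# Fusion systems with `p`-solvable models, III (helper86)
-/

namespace Cfsg.Agent.Fus

open Cfsg Cfsg.FusionSystem Cfsg.Agent.H85 Subgroup
open scoped commutatorElement

universe u

variable {Ω : Type u} [Group Ω] {S T : Subgroup Ω} {F : FusionSystem S} {E : FusionSystem T} {p : ℕ}

/-- If a finite group has a normal `p`-solvable subgroup with `p`- or `p'`-quotient -/
theorem isPSolvable_of_sub {A : Type u} [Group A] [Finite A] [hp : Fact p.Prime] (N : Subgroup A) [hN : N.Normal]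
    (hNs : IsPSolvable p N) (hq : (∃ m, N.index = p ^ m) ∨ N.index.Coprime p) : IsPSolvable p A := by
  refine PSol.isPSolvable_ext _ N rfl hNs ?_
  rcases hq with ⟨m, hm⟩ | hq
  · exact PSol.isPSolvable_of_pgroup (m := m) (by rw [← hm]; rfl)
  · exact PSol.isPSolvable_of_coprime hq

/-- a system with a `p`-residual of `p`-solvable type -/
theorem PS.of_ppower [Finite S] [Fact p.Prime] (hS : IsPGroup p S) (hF : F.IsSaturated p)
    (D : FusionSystem (F.hyperfocalSubgroup p)) (hD : F.IsPResidual p D) (h : PS D p) : PS F p := by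
  have hTsc := hyper_stronglyClosed hS hF
  have hTS := hTsc.1
  have hfT : Finite (F.hyperfocalSubgroup p) := finite_of_le hTS
  have hTp := isPGroup_of_le hS hTS
  have hn : D.IsNormalIn F p := isNormalIn_of_ppower hS hF hTS (fun s hs x hx => sc_conj_mem hTsc hs hx) le_rfl
    hD.1 hD.2
  have hRn : F.IsNormal D.core := isNormal_core_of_invariant hS hF hn.1.2.2
  have hRT : D.core ≤ F.hyperfocalSubgroup p := Join.core_le D
  refine PS.of_crit hS hF hRn (isNormal_centralizerIn_of_hyper hS hF hRn hRT (core_centric_of_constrained h.1)) ?_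
  have hfR : Finite D.core := finite_of_le hRT
  have hfA := finite_mulAut (P := D.core)
  have hDA : IsPSolvable p (D.autGroup D.core) := h.autGroup hTp (Join.isNormal_core D)
  have hle := hD.2.2.2 D.core hRT
  refine isPSolvable_of_sub (pResidual p (F.autGroup D.core)) ?_ (Or.inl ?_)
  · let f : pResidual p (F.autGroup D.core) →* D.autGroup D.core :=
      ((F.autGroup D.core).subtype.comp (pResidual p (F.autGroup D.core)).subtype).codRestrict _
        (fun x => hle ⟨x, x.2, rfl⟩)
    refine H76.isPSolvable_of_injective f ?_ hDA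
    intro a b hab
    have h1 : ((a : F.autGroup D.core) : MulAut D.core) = ((b : F.autGroup D.core) : MulAut D.core) :=
      congrArg (fun w : D.autGroup D.core => (w : MulAut D.core)) hab
    exact Subtype.ext (Subtype.ext h1)
  · have h1 := Cfsg.Agent.Transfer.isPGroup_quotient_of_pResidual_le (p := p)
      (N := pResidual p (F.autGroup D.core)) le_rfl
    exact IsPGroup.iff_card.1 h1

/-- the subgroup generated by the elements of `p`-power order -/
def pClos (p : ℕ) (A : Type*) [Group A] : Subgroup A := Subgroup.closure {α : A | ∃ k : ℕ, orderOf α = p ^ k}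

instance pClos_char (p : ℕ) (A : Type*) [Group A] : (pClos p A).Characteristic := by
  rw [characteristic_iff_map_le]
  intro φ
  unfold pClos
  rw [MonoidHom.map_closure, closure_le]
  rintro _ ⟨x, ⟨k, hk⟩, rfl⟩
  exact subset_closure ⟨k, by rw [← hk]; exact MulEquiv.orderOf_eq φ x⟩

theorem mem_pClos {A : Type*} [Group A] {x : A} {k : ℕ} (hx : x ^ p ^ k = 1) [hp : Fact p.Prime] : x ∈ pClos p A := by
  obtain ⟨j, -, hj⟩ := (Nat.dvd_prime_pow hp.out).1 (orderOf_dvd_of_pow_eq_one hx)
  exact subset_closure ⟨j, hj⟩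

theorem sylow_le_pClos {A : Type*} [Group A] [hp : Fact p.Prime] {P : Subgroup A} (hP : IsPGroup p P) :
    P ≤ pClos p A := by
  intro x hx
  obtain ⟨k, hk⟩ := hP ⟨x, hx⟩
  exact mem_pClos (congrArg Subtype.val hk)

theorem coprime_index_of_sylow_le {A : Type*} [Group A] [Finite A] [hp : Fact p.Prime] (P : Sylow p A) {N : Subgroup A}
    (h : (P : Subgroup A) ≤ N) : N.index.Coprime p := by
  have h1 : N.index ∣ (P : Subgroup A).index := Subgroup.index_dvd_of_le h
  have h2 : ¬ p ∣ (P : Subgroup A).index := P.not_dvd_index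
  exact (hp.out.coprime_iff_not_dvd.2 fun h3 => h2 (h3.trans h1)).symm

theorem pClos_index (p : ℕ) (A : Type*) [Group A] [Finite A] [hp : Fact p.Prime] : (pClos p A).index.Coprime p := by
  obtain ⟨P⟩ : Nonempty (Sylow p A) := inferInstance
  exact coprime_index_of_sylow_le P (sylow_le_pClos P.isPGroup')

/-- a system with a `p'`-residual of `p`-solvable type -/
theorem PS.of_pprime [Finite S] [Fact p.Prime] (hS : IsPGroup p S) (hF : F.IsSaturated p)
    (h : PS (pPrimeRes F p) p) : PS F p := by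
  set E := pPrimeRes F p with hE
  have hinv : E.IsInvariantIn F := isInvariantIn_of_topInv pPrimeRes_le pPrimeRes_topInv
    fun _ _ hf => pPrimeRes_dec hS hF hf
  have hRn : F.IsNormal E.core := isNormal_core_of_invariant hS hF hinv
  have hRS : E.core ≤ S := Join.core_le E
  have hCR := core_centric_of_constrained h.1
  have hC : F.IsNormal (centralizerIn S E.core) := by
    refine IsNormal.char hRn hCR ?_
    have h1 : (centralizerIn S E.core).subgroupOf E.core = Subgroup.center E.core := by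
      ext x
      rw [Subgroup.mem_subgroupOf, mem_centralizerIn, Subgroup.mem_center_iff]
      constructor
      · rintro ⟨-, hx⟩ g
        exact Subtype.ext (hx g g.2)
      · intro hx
        exact ⟨hRS x.2, fun y hy => congrArg Subtype.val (hx ⟨y, hy⟩)⟩
    rw [h1]
    infer_instance
  refine PS.of_crit hS hF hRn hC ?_
  have hfR : Finite E.core := finite_of_le hRS
  have hfA := finite_mulAut (P := E.core)
  have hEA : IsPSolvable p (E.autGroup E.core) := h.autGroup hS (Join.isNormal_core E)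
  have hle : (pClos p (F.autGroup E.core)).map (F.autGroup E.core).subtype ≤ E.autGroup E.core :=
    (pPrimeRes_index hS hF).2 E.core hRS
  refine isPSolvable_of_sub (pClos p (F.autGroup E.core)) ?_ (Or.inr (pClos_index p _))
  let f : pClos p (F.autGroup E.core) →* E.autGroup E.core :=
    ((F.autGroup E.core).subtype.comp (pClos p (F.autGroup E.core)).subtype).codRestrict _
      (fun x => hle ⟨x, x.2, rfl⟩)
  refine H76.isPSolvable_of_injective f ?_ hEA
  intro a b hab
  have h1 : ((a : F.autGroup E.core) : MulAut E.core) = ((b : F.autGroup E.core) : MulAut E.core) :=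
    congrArg (fun w : E.autGroup E.core => (w : MulAut E.core)) hab
  exact Subtype.ext (Subtype.ext h1)

section Real

variable {G : Type*} [Group G] {ι : S →* G}

theorem rel_pow {P : Subgroup Ω} (hP : P ≤ S) {α : MulAut P} {g : G}
    (h : ∀ x ∈ P, jj ι (ofAut α x) = g * jj ι x * g⁻¹) (n : ℕ) :
    ∀ x ∈ P, jj ι (ofAut (α ^ n) x) = g ^ n * jj ι x * (g ^ n)⁻¹ := by
  induction n with
  | zero => intro x hx; rw [pow_zero, pow_zero, ofAut_one hx]; group
  | succ n ih =>
    intro x hx
    rw [ofAut_pow_succ α n hx, h _ (ofAut_mem _ hx), ih x hx, pow_succ']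
    group

theorem exists_rel (hr : F.IsRealizedBy ι) {P : Subgroup Ω} (hP : P ≤ S) {α : MulAut P} (hα : α ∈ F.autGroup P) :
    ∃ g : G, ∀ x ∈ P, jj ι (ofAut α x) = g * jj ι x * g⁻¹ := by
  rw [mem_autGroup_iff hP, isMap_realized hr] at hα
  exact hα.2.2

theorem exists_rel_coprime [Finite G] [hp : Fact p.Prime] (hr : F.IsRealizedBy ι) {P : Subgroup Ω} (hP : P ≤ S)
    {α : MulAut P} (hα : α ∈ F.autGroup P) (hco : (orderOf α).Coprime p) :
    ∃ g : G, (orderOf g).Coprime p ∧ ∀ x ∈ P, jj ι (ofAut α x) = g * jj ι x * g⁻¹ := by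
  obtain ⟨g, hg⟩ := exists_rel hr hP hα
  obtain ⟨a, b, hab, ⟨k, hk⟩, hb⟩ := Cfsg.Agent.Transfer.exists_pow_decomp p g (orderOf_pos g).ne'
  refine ⟨g ^ b, hb, ?_⟩
  -- `α ^ a = 1`
  have h1 : (α ^ a) ^ p ^ k = 1 := by
    refine ofAut_injective fun x hx => ?_
    apply jj_inj hr.1 (hP (ofAut_mem _ hx)) (hP (ofAut_mem _ hx))
    rw [← pow_mul, rel_pow hP hg _ x hx, ofAut_one hx, pow_mul, ← hk, pow_orderOf_eq_one]
    group
  have h2 : α ^ a = 1 := by
    have h3 := orderOf_dvd_of_pow_eq_one h1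
    have h4 : (orderOf (α ^ a)).Coprime p := Nat.Coprime.coprime_dvd_left (orderOf_pow_dvd _) hco
    exact orderOf_eq_one_iff.1 (Nat.Coprime.eq_one_of_dvd (h4.pow_right _) h3)
  intro x hx
  have h3 := rel_pow hP hg a x hx
  have h4 := rel_pow hP hg b x hx
  have h5 : α ^ b = α := by
    refine ofAut_injective fun y hy => ?_
    apply jj_inj hr.1 (hP (ofAut_mem _ hy)) (hP (ofAut_mem _ hy))
    have h6 := rel_pow hP hg (a + b) y hy
    rw [pow_add, h2, one_mul, pow_add, ← hab] at h6
    rw [h6, hg y hy]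
  rw [h5] at h4
  exact h4

theorem exists_rel_ppow [Finite G] [hp : Fact p.Prime] (hr : F.IsRealizedBy ι) {P : Subgroup Ω} (hP : P ≤ S)
    {α : MulAut P} (hα : α ∈ F.autGroup P) {m : ℕ} (hm : α ^ p ^ m = 1) :
    ∃ g : G, (∃ k, orderOf g = p ^ k) ∧ ∀ x ∈ P, jj ι (ofAut α x) = g * jj ι x * g⁻¹ := by
  obtain ⟨g, hg⟩ := exists_rel hr hP hα
  obtain ⟨a, b, hab, ⟨k, hk⟩, hb⟩ := Cfsg.Agent.Transfer.exists_pow_decomp p g (orderOf_pos g).ne'
  refine ⟨g ^ a, ⟨k, hk⟩, ?_⟩
  -- `α ^ b = 1`
  have h1 : (α ^ b) ^ orderOf (g ^ b) = 1 := by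
    refine ofAut_injective fun x hx => ?_
    apply jj_inj hr.1 (hP (ofAut_mem _ hx)) (hP (ofAut_mem _ hx))
    rw [← pow_mul, rel_pow hP hg _ x hx, ofAut_one hx, pow_mul, pow_orderOf_eq_one]
    group
  have h2 : α ^ b = 1 := by
    have h3 := orderOf_dvd_of_pow_eq_one h1
    have h4 : orderOf (α ^ b) ∣ p ^ m := (orderOf_pow_dvd _).trans (orderOf_dvd_of_pow_eq_one hm)
    exact orderOf_eq_one_iff.1 (Nat.Coprime.eq_one_of_dvd
      ((Nat.Coprime.coprime_dvd_left h3 hb).pow_right _) h4)
  intro x hx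
  have h4 := rel_pow hP hg a x hx
  have h5 : α ^ a = α := by
    refine ofAut_injective fun y hy => ?_
    apply jj_inj hr.1 (hP (ofAut_mem _ hy)) (hP (ofAut_mem _ hy))
    have h6 := rel_pow hP hg (a + b) y hy
    rw [pow_add, h2, mul_one, pow_add, ← hab] at h6
    rw [h6, hg y hy]
  rw [h5] at h4
  exact h4

/-- the hyperfocal subgroup lies in the `p`-residual of a realizing group -/
theorem jj_hyper_mem [Finite G] [hp : Fact p.Prime] (hr : F.IsRealizedBy ι) {x : Ω}
    (hx : x ∈ F.hyperfocalSubgroup p) : jj ι x ∈ pResidual p G := by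
  have hN : (pResidual p G).Normal := inferInstance
  have h1 : F.hyperfocalSubgroup p ≤ ((pResidual p G).comap ι).map S.subtype := by
    refine hyper_le fun P hP α hα y hy => ?_
    obtain ⟨g, hg, hgr⟩ := exists_rel_coprime hr hP α.2 (by rw [Subgroup.orderOf_coe]; exact hα)
    have hyS : y⁻¹ * ofAut (α : MulAut P) y ∈ S := S.mul_mem (S.inv_mem (hP hy)) (hP (ofAut_mem _ hy))
    refine ⟨⟨_, hyS⟩, ?_, rfl⟩
    show ι ⟨_, hyS⟩ ∈ pResidual p G
    rw [← jj_apply hyS, jj_mul (S.inv_mem (hP hy)) (hP (ofAut_mem _ hy)), jj_inv (hP hy), hgr y hy]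
    have h2 : g ∈ pResidual p G := Cfsg.Agent.Transfer.mem_pResidual_of_coprime hg
    have h3 : (jj ι y)⁻¹ * (g * jj ι y * g⁻¹) = ((jj ι y)⁻¹ * g * (jj ι y)⁻¹⁻¹) * g⁻¹ := by group
    rw [h3]
    exact (pResidual p G).mul_mem (hN.conj_mem _ h2 _) ((pResidual p G).inv_mem h2)
  obtain ⟨y, hy, rfl⟩ := h1 hx
  show jj ι (y : Ω) ∈ _
  rw [jj_coe]
  exact hy

end Real

end Cfsg.Agent.Fus
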