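import Cfsg.Agent.Fus.NE2
import Cfsg.Agent.Fus.Theta2
import Cfsg.Agent.Fus.MLift3
import Cfsg.Agent.Fus.PSol4

set_option autoImplicit false

/-!
# The two kinds of steps towards the normal envelope (helper85)
-/

namespace Cfsg.Agent.Fus

open Cfsg Cfsg.FusionSystem

variable {Ω : Type*} [Group Ω] {S T S₁ S₂ : Subgroup Ω} {F : FusionSystem S} {E : FusionSystem T} {p : ℕ}
  {F₁ : FusionSystem S₁} {F₂ : FusionSystem S₂}

theorem autInv_mul {α β : MulAut S} {G : FusionSystem S} (hα : AutInv α G) (hβ : AutInv β G) : AutInv (α * β) G := by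
  intro P f hf
  have hP := hf.le
  have h1 := hα _ _ (hβ P f hf)
  have e : img (img P (ofAut β)) (ofAut α) = img P (ofAut (α * β)) := by
    have h2 : IsMap (univSys S) P (ofAut β) := (isMap_ofAut_univ β).mono hP
    rw [← h2.img_comp]
    exact img_congr fun x hx => (ofAut_mul _ _ (hP hx)).symm
  rw [e] at h1
  refine h1.congr fun y hy => ?_
  obtain ⟨x, hx, rfl⟩ := (mem_img_ofAut (α * β) hP).mp hy
  have hx' : x ∈ S := hP hx
  have hfx : f x ∈ S := hf.mem hx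
  rw [cjf_apply (α * β) hP f hx, ofAut_mul _ _ hfx, ofAut_mul _ _ hx',
    cjf_apply α (img_le_of_le β hP) _ ((mem_img_ofAut β hP).mpr ⟨x, hx, rfl⟩), cjf_apply β hP f hx]

/-- transitivity of invariance -/
theorem invariant_trans [Finite S] (h1 : F₁.IsInvariantIn F) (h2 : F₂.IsInvariantIn F₁)
    (hS₂ : F.StronglyClosed S₂)
    (hinv : ∀ γ ∈ F.autGroup S₁, ∀ β : MulAut S₂, (∀ x ∈ S₂, ofAut β x = ofAut γ x) → AutInv β F₂) :
    F₂.IsInvariantIn F := by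
  have h21 : S₂ ≤ S₁ := h2.2.1.1
  have h10 : S₁ ≤ S := h1.2.1.1
  -- restrictions of automorphisms of `S₁`
  have hres : ∀ γ ∈ F.autGroup S₁, ∃ β ∈ F.autGroup S₂, ∀ x ∈ S₂, ofAut β x = ofAut γ x := by
    intro γ hγ
    have h3 : IsMap F S₂ (ofAut γ) := (isMap_ofAut h10 hγ).mono h21
    exact h3.exists_aut (sc_img_eq hS₂ h3 le_rfl)
  have hinv2 : ∀ δ ∈ F₁.autGroup S₂, AutInv δ F₂ := fun δ hδ =>
    autInv_of_strongInv h21 (strongInv_of_invariant h2) hδ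
  have hle : F₂.IsSubsystemOf F := isSubsystemOf_trans h2.1 h1.1
  refine isInvariantIn_of_tInv hle hS₂ (fun α hα => ?_) fun P f hP hf => ?_
  · obtain ⟨γ, hγ, f₁, hf₁, he⟩ := dec_of_invariant h1 h21 (isMap_ofAut hS₂.1 hα)
    obtain ⟨β, hβ, hβx⟩ := hres γ hγ
    have hfi : Finite S₁ := finite_of_le h10
    have himg : img S₂ f₁ = S₂ := sc_img_eq h2.2.1 hf₁ le_rfl
    obtain ⟨δ, hδ, hδx⟩ := hf₁.exists_aut himg
    have e : α = β * δ := by
      refine ofAut_injective fun x hx => ?_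
      rw [ofAut_mul _ _ hx, hβx _ (ofAut_mem _ hx), hδx x hx, he x hx]
    rw [e]
    exact autInv_mul (hinv γ hγ β hβx) (hinv2 δ hδ)
  · obtain ⟨γ, hγ, f₁, hf₁, he⟩ := dec_of_invariant h1 (hP.trans h21) hf
    obtain ⟨δ, hδ, f₂, hf₂, he'⟩ := dec_of_invariant h2 hP hf₁
    obtain ⟨β, hβ, hβx⟩ := hres γ hγ
    refine ⟨β * δ, Subgroup.mul_mem _ hβ ?_, f₂, hf₂, fun x hx => ?_⟩
    · exact (mem_autGroup_iff hS₂.1).mpr (isSubsystemOf_iff.mp h1.1 _ _ (isMap_ofAut h21 hδ))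
    · have hm : f₂ x ∈ S₂ := hf₂.mem hx
      rw [he x hx, he' x hx, ofAut_mul _ _ hm, hβx _ (ofAut_mem _ hm)]

/-- the situation of the induction -/
structure NEHyp (F : FusionSystem S) (F₁ : FusionSystem S₁) (E : FusionSystem T) (p : ℕ) : Prop where
  hS : IsPGroup p S
  h1 : F₁.IsNormalIn F p
  hE : E.IsNormalIn F p
  hE1 : E.IsNormalIn F₁ p
  hC : centralizerIn S T ≤ S₁

/-- normality over a subgroup containing `C_S(T)`, `T ≤ S₂` -/
theorem isNormalIn_of_centric (hF₂ : F₂.IsSaturated p) (hF : F.IsSaturated p) (h : F₂.IsInvariantIn F)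
    (hC : centralizerIn S S₂ ≤ S₂) : F₂.IsNormalIn F p := by
  have hS₂ : S₂ ≤ S := h.2.1.1
  refine isNormalIn_iff.2 ⟨⟨hF₂, hF, h⟩, fun α hα => ?_⟩
  have e : S₂ ⊔ centralizerIn S S₂ = S₂ := sup_eq_left.2 hC
  have key : ∀ (X : Subgroup Ω) (_ : X = S₂), ∃ β ∈ F.autGroup X, (∀ x ∈ S₂, ofAut β x = ofAut α x) ∧
      ∀ c ∈ centralizerIn S S₂, c⁻¹ * ofAut β c ∈ S₂ ⊓ Subgroup.centralizer (S₂ : Set Ω) := by
    rintro X rfl
    refine ⟨α, (mem_autGroup_iff hS₂).2 (isSubsystemOf_iff.1 h.1 _ _ (isMap_ofAut le_rfl hα)), fun _ _ => rfl,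
      fun c hc => ?_⟩
    have hcz : c ∈ X ⊓ Subgroup.centralizer (X : Set Ω) := ⟨hC hc, hc.2⟩
    exact Subgroup.mul_mem _ (Subgroup.inv_mem _ hcz) (ofAut_mem_center hcz)
  exact key _ e

namespace NEHyp

variable (H : NEHyp F F₁ E p)
include H

theorem hT1 : F₁.StronglyClosed T := H.hE1.1.2.2.2.1
theorem hT : F.StronglyClosed T := H.hE.1.2.2.2.1
theorem le1 : S₁ ≤ S := H.h1.1.2.2.2.1.1
theorem hle : F₁.IsSubsystemOf F := H.h1.1.2.2.1

theorem cent_eq : centralizerIn S₁ T = centralizerIn S T :=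
  le_antisymm (fun _ hx => ⟨H.le1 hx.1, hx.2⟩) fun _ hx => ⟨H.hC hx, hx.2⟩

/-- `Aut_{F₁}(T)` is normalized by `Aut_F(T)` -/
theorem conj_mem {α ν : MulAut T} (hα : α ∈ F.autGroup T) (hν : ν ∈ F₁.autGroup T) :
    α * ν * α⁻¹ ∈ F₁.autGroup T := by
  have hT := H.hT1
  obtain ⟨h, hh, hhx⟩ := strongInv_of_invariant H.h1.1.2.2 T T (ofAut ν) (ofAut α) le_rfl hT.1 (isMap_ofAut hT.1 hν)
    (fun x hx => ofAut_mem _ hx) (isMap_ofAut H.hT.1 hα)
  rw [img_ofAut] at hh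
  rw [mem_autGroup_iff hT.1]
  refine hh.congr fun x hx => ?_
  have h2 := hhx (ofAut α⁻¹ x) (ofAut_mem _ hx)
  rw [ofAut_apply_inv α hx] at h2
  rw [h2, ofAut_mul _ _ hx, ofAut_mul _ _ (ofAut_mem _ hx)]

end NEHyp

end Cfsg.Agent.Fus
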