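import Cfsg.Agent.Fus.NE3

set_option autoImplicit false

/-!
# The step of `p`-power index (helper85)
-/

namespace Cfsg.Agent.Fus

open Cfsg Cfsg.FusionSystem

variable {Ω : Type*} [Group Ω] {S T S₁ S₂ : Subgroup Ω} {F : FusionSystem S} {E : FusionSystem T} {p : ℕ}
  {F₁ : FusionSystem S₁} {F₂ : FusionSystem S₂}

/-- the extension condition passes to subsystems containing the `p'`-elements -/
theorem extZ_sub [Finite S] [Fact p.Prime] (hS : IsPGroup p S) (hE : E.IsNormalIn F p) (hTS₂ : T ≤ S₂)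
    (hS₂ : S₂ ≤ S) (hC : centralizerIn S T ≤ S₂)
    (hcop : ∀ P ≤ S₂, ∀ α ∈ F.autGroup P, (orderOf α).Coprime p → IsMap F₂ P (ofAut α)) :
    ∀ α ∈ E.autGroup T, ExtZ F₂ T α := by
  have hT := hE.1.2.2.2.1
  have hTS := hT.1
  have hfS₂ : Finite S₂ := finite_of_le hS₂
  have hfT : Finite T := finite_of_le hTS
  have hpT : IsPGroup p T := isPGroup_of_le hS hTS
  have hCe : centralizerIn S₂ T = centralizerIn S T :=
    le_antisymm (fun _ hx => ⟨hS₂ hx.1, hx.2⟩) fun _ hx => ⟨hC hx, hx.2⟩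
  have h1 : E.autGroup T ≤ extZ F₂ hTS₂ := by
    refine autGroup_le_of_coprime hpT hE.1.1 (fun α t ht h => extZ_conj ht hTS₂ h) fun α hα hαp => ?_
    obtain ⟨b, hb, hb1, hb2⟩ := (isNormalIn_iff.1 hE).2 α hα
    have hTC : T ⊔ centralizerIn S T ≤ S := sup_le hTS (centralizerIn_le T)
    have hTC₂ : T ⊔ centralizerIn S T ≤ S₂ := sup_le hTS₂ hC
    have hfTC := finite_of_le hTC
    obtain ⟨k, hk1, hk2⟩ := exists_pow_restrict hTC (le_sup_left : T ≤ T ⊔ centralizerIn S T) (α := b) (β := α)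
      (fun x hx => (hb1 x hx).symm) hαp
    have hbk := Subgroup.pow_mem _ hb k
    have hz : ∀ n : ℕ, ∀ c ∈ centralizerIn S T, c⁻¹ * ofAut (b ^ n) c ∈ T ⊓ Subgroup.centralizer (T : Set Ω) := by
      intro n
      induction n with
      | zero =>
        intro c hc
        rw [pow_zero, ofAut_one (le_sup_right (a := T) hc), inv_mul_cancel]
        exact Subgroup.one_mem _
      | succ n ih =>
        intro c hc
        have hc' : c ∈ T ⊔ centralizerIn S T := le_sup_right (a := T) hc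
        obtain ⟨z, hz⟩ : ∃ z, z = c⁻¹ * ofAut (b ^ n) c := ⟨_, rfl⟩
        have hzc : ofAut (b ^ n) c = c * z := by rw [hz]; group
        have hzT : z ∈ T ⊓ Subgroup.centralizer (T : Set Ω) := by rw [hz]; exact ih c hc
        have hzT' : z ∈ T ⊔ centralizerIn S T := le_sup_left (a := T) hzT.1
        rw [pow_succ', ofAut_mul _ _ hc', hzc, ofAut_map_mul _ hc' hzT', hb1 z hzT.1, ← mul_assoc]
        exact Subgroup.mul_mem _ (hb2 c hc) (ofAut_mem_center hzT)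
    rw [mem_extZ]
    unfold ExtZ
    rw [hCe]
    exact ⟨b ^ k, (mem_autGroup_iff hTC₂).2 (hcop _ hTC₂ _ hbk hk1), hk2, hz k⟩
  exact fun α hα => h1 hα

/-- the Sylow `p`-subgroups of a normal subgroup of `Aut_F(T)` -/
theorem sylow_of_normal [Finite S] [Fact p.Prime] (hS : IsPGroup p S) (hF : F.IsSaturated p) (hT : F.StronglyClosed T)
    {N : Subgroup (MulAut T)} (hNF : N ≤ F.autGroup T) (hNn : ∀ α ∈ F.autGroup T, ∀ ν ∈ N, α * ν * α⁻¹ ∈ N) :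
    ∃ R : Sylow p N, ∀ r : N, r ∈ (R : Subgroup N) → (r : MulAut T) ∈ autInducedBy S T := by
  have hfT : Finite T := finite_of_le hT.1
  have hfA := finite_mulAut (P := T)
  have hfa := sat_fullyAutomized hS hF (isFullyNormalized_of_sc hT)
  have hXp : IsPGroup p ((autInducedBy S T).subgroupOf N) :=
    (isPGroup_autInducedBy hS T).comap_of_injective _ (Subgroup.subtype_injective _)
  obtain ⟨R, hR⟩ := hXp.exists_le_sylow
  refine ⟨R, ?_⟩
  obtain ⟨R₁, hR₁⟩ : ∃ R₁ : Subgroup (MulAut T), R₁ = (R : Subgroup N).map N.subtype := ⟨_, rfl⟩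
  have hR₁N : R₁ ≤ N := by rw [hR₁]; exact Subgroup.map_subtype_le _
  have hR₁p : IsPGroup p R₁ := by rw [hR₁]; exact R.2.map _
  have hle : autInducedBy S T ⊓ N ≤ R₁ := by
    intro x hx
    rw [hR₁]
    exact ⟨⟨x, hx.2⟩, hR (Subgroup.mem_subgroupOf.mpr hx.1), rfl⟩
  obtain ⟨a, ha, h1⟩ := Cfsg.Agent.Fus.IsFullyAutomized.conj_le hfa (hR₁N.trans hNF) hR₁p
  have h2 : R₁.map (MulAut.conj a).toMonoidHom ≤ autInducedBy S T ⊓ N := by
    rintro _ ⟨x, hx, rfl⟩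
    exact ⟨h1 x hx, hNn a ha x (hR₁N hx)⟩
  have h3 : Nat.card R₁ ≤ Nat.card ↥(autInducedBy S T ⊓ N) := by
    have h4 : Nat.card ↥(R₁.map (MulAut.conj a).toMonoidHom) = Nat.card R₁ :=
      Subgroup.card_map_of_injective (MulAut.conj a).injective
    rw [← h4]
    exact Subgroup.card_le_of_le h2
  have h5 : autInducedBy S T ⊓ N = R₁ := Subgroup.eq_of_le_of_card_ge hle h3
  intro r hr
  have h6 : (r : MulAut T) ∈ R₁ := by rw [hR₁]; exact ⟨r, hr, rfl⟩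
  rw [← h5] at h6
  exact h6.1

/-- elements of a normal subsystem of `p`-power index: containing a subsystem over `T` -/
theorem isSubsystemOf_of_coprime [Finite T] [Fact p.Prime] (hpT : IsPGroup p T) (hE : E.IsSaturated p)
    (hTS₂ : T ≤ S₂) (hcop : ∀ P ≤ T, ∀ α ∈ E.autGroup P, (orderOf α).Coprime p → IsMap F₂ P (ofAut α)) :
    E.IsSubsystemOf F₂ := by
  have hle : E ≤ resSys F₂ hTS₂ := by
    refine alperin_coprime hpT hE fun P hPn _ _ α hα hαp => ?_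
    rw [isMap_resSys]
    exact ⟨hcop P hPn.1 α hα hαp, hPn.1, fun x hx => hPn.1 (ofAut_mem _ hx)⟩
  rw [isSubsystemOf_iff]
  intro P f hf
  exact (isMap_resSys.mp (le_iff.mp hle P f hf)).1

theorem autInv_of_ppower [Finite S₁] [Fact p.Prime] (hpS : IsPGroup p S₁) (h21 : S₂ ≤ S₁) (hF₂ : F₂.IsSaturated p)
    (hle : F₂.IsSubsystemOf F₁)
    (hcop : ∀ P ≤ S₂, ∀ α ∈ F₁.autGroup P, (orderOf α).Coprime p → IsMap F₂ P (ofAut α))
    {γ : MulAut S₁} (hγ : AutInv γ F₁) {β : MulAut S₂} (hβ : ∀ x ∈ S₂, ofAut β x = ofAut γ x) : AutInv β F₂ := by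
  have hfS₂ : Finite S₂ := finite_of_le h21
  refine autInv_of_le (alperin_coprime (isPGroup_of_le hpS h21) hF₂ fun P hPn _ _ α hα hαp => ?_)
  have hP := hPn.1
  rw [isMap_conjSys', inv_inv]
  refine ⟨(isMap_ofAut hP hα).univ, ?_⟩
  have hαF₁ : IsMap F₁ P (ofAut α) := isSubsystemOf_iff.1 hle _ _ (isMap_ofAut hP hα)
  have h1 := hγ P (ofAut α) hαF₁
  have eimg : img P (ofAut γ) = img P (ofAut β) := img_congr fun x hx => (hβ x (hP hx)).symm
  rw [eimg] at h1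
  have h2 : IsMap F₁ (img P (ofAut β)) (cjf β (ofAut α)) := by
    refine h1.congr fun y hy => ?_
    obtain ⟨x, hx, rfl⟩ := (mem_img_ofAut β hP).mp hy
    rw [cjf_apply β hP _ hx, hβ x (hP hx), cjf_apply γ (hP.trans h21) _ hx, hβ _ (hP (ofAut_mem _ hx))]
  have h3 : img (img P (ofAut β)) (cjf β (ofAut α)) = img P (ofAut β) := by
    ext z
    rw [h2.mem_img, mem_img_ofAut β hP]
    constructor
    · rintro ⟨y, hy, rfl⟩
      obtain ⟨x, hx, rfl⟩ := (mem_img_ofAut β hP).mp hy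
      exact ⟨ofAut α x, ofAut_mem _ hx, (cjf_apply β hP _ hx).symm⟩
    · rintro ⟨x, hx, rfl⟩
      refine ⟨ofAut β (ofAut α⁻¹ x), (mem_img_ofAut β hP).mpr ⟨_, ofAut_mem _ hx, rfl⟩, ?_⟩
      rw [cjf_apply β hP _ (ofAut_mem _ hx), ofAut_apply_inv α hx]
  obtain ⟨α', hα', hαx'⟩ := h2.exists_aut h3
  have hQ : img P (ofAut β) ≤ S₂ := img_le_of_le β hP
  have h4 : ∀ x ∈ P, ofAut α' (ofAut β x) = ofAut β (ofAut α x) := fun x hx => by
    rw [hαx' _ ((mem_img_ofAut β hP).mpr ⟨x, hx, rfl⟩), cjf_apply β hP _ hx]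
  have h5 : α' ^ orderOf α = 1 :=
    tr_pow_eq_one ((isMap_ofAut_univ β).mono hP) rfl h4 (pow_orderOf_eq_one α)
  have h6 : (orderOf α').Coprime p := hαp.coprime_dvd_left (orderOf_dvd_of_pow_eq_one h5)
  exact (hcop _ hQ α' hα' h6).congr hαx'

theorem NEHyp.p_step [Finite S] [Fact p.Prime] (H : NEHyp F F₁ E p) {N : Subgroup (MulAut T)}
    (hNn : ∀ α ∈ F.autGroup T, ∀ ν ∈ N, α * ν * α⁻¹ ∈ N) (hNE : E.autGroup T ≤ N) (hN1 : N ≤ F₁.autGroup T)
    (hNp : ∀ α ∈ F₁.autGroup T, ∃ k : ℕ, α ^ p ^ k ∈ N) :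
    ∃ (S₂ : Subgroup Ω) (F₂ : FusionSystem S₂), NEHyp F F₂ E p ∧ F₂.autGroup T = N ∧ EqLim p F₁ F₂ := by
  have hfS₁ : Finite S₁ := finite_of_le H.le1
  have hS1 : IsPGroup p S₁ := isPGroup_of_le H.hS H.le1
  have hfT : Finite T := finite_of_le H.hT.1
  have hpT : IsPGroup p T := isPGroup_of_le H.hS H.hT.1
  have hfA := finite_mulAut (P := T)
  have hA : F₁.autGroup T ≤ F.autGroup T := fun α hα =>
    (mem_autGroup_iff H.hT.1).2 (isSubsystemOf_iff.1 H.hle _ _ (isMap_ofAut H.hT1.1 hα))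
  have hNn1 : ∀ α ∈ F₁.autGroup T, ∀ ν ∈ N, α * ν * α⁻¹ ∈ N := fun α hα => hNn α (hA hα)
  have hF1 : F₁.IsSaturated p := H.h1.1.1
  have hy := hyper_le_tS hS1 H.hE1 hNn1 hNE hNp
  obtain ⟨F₂, k1, k2, k3⟩ := exists_ppower (Nat.card S₁) rfl hS1 hF1 (T := tS S₁ N) tS_le hy
  have hidx : F₂.HasPPowerIndexIn F₁ p := hasPPowerIndexIn_iff.2 ⟨k2, hy, k3⟩
  have hTS₂ : T ≤ tS S₁ N := le_tS H.hT1 hNE
  have hC1 : centralizerIn S₁ T ≤ tS S₁ N := centralizerIn_le_tS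
  have hC₂ : centralizerIn S T ≤ tS S₁ N := by rw [← H.cent_eq]; exact hC1
  have hfS₂ : Finite (tS S₁ N) := finite_of_le (tS_le.trans H.le1)
  have hpS₂ : IsPGroup p (tS S₁ N) := isPGroup_of_le H.hS (tS_le.trans H.le1)
  have hEF₂ : E.IsSubsystemOf F₂ := isSubsystemOf_of_coprime hpT H.hE.1.1 hTS₂ fun P hP α hα hαp =>
    k3 P (hP.trans hTS₂) α ((mem_autGroup_iff (hP.trans H.hT1.1)).2
      (isSubsystemOf_iff.1 H.hE1.1.2.2.1 _ _ (isMap_ofAut hP hα))) hαp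
  have hF₂F : F₂.IsSubsystemOf F := isSubsystemOf_trans k2 H.hle
  have hEinv : E.IsInvariantIn F₂ := invariant_restrict H.hS hF₂F k1 (tS_le.trans H.le1) H.hE.1.2.2 hEF₂ hTS₂
  have hEn : E.IsNormalIn F₂ p :=
    isNormalIn_iff.2 ⟨⟨H.hE.1.1, k1, hEinv⟩, extZ_sub hS1 H.hE1 hTS₂ tS_le hC1 k3⟩
  have hsc1 := tS_stronglyClosed hS1 H.hE1 hNn1 hNE
  have hn21 : F₂.IsNormalIn F₁ p :=
    isNormalIn_of_ppower hS1 hF1 tS_le (fun s hs x hx => sc_conj_mem hsc1 hs hx) hy k1 hidx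
  have hsc : F.StronglyClosed (tS S₁ N) := by
    refine stronglyClosed_iff_isMap.mpr ⟨tS_le.trans H.le1, fun P f hf x hxP hx => ?_⟩
    have h3 := tS_stronglyClosed H.hS H.hE hNn hNE
    have h4 : f x ∈ tS S N := sc_map_mem h3 hf hxP ⟨H.le1 hx.1, hx.2⟩
    exact ⟨sc_map_mem H.h1.1.2.2.2.1 hf hxP hx.1, h4.2⟩
  have hinv : F₂.IsInvariantIn F := invariant_trans H.h1.1.2.2 hn21.1.2.2 hsc fun γ hγ β hβ =>
    autInv_of_ppower hS1 tS_le k1 k2 k3
      (autInv_of_strongInv H.le1 (strongInv_of_invariant H.h1.1.2.2) hγ) hβ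
  have hcc : centralizerIn S (tS S₁ N) ≤ tS S₁ N := fun x hx => hC₂ ⟨hx.1, fun y hy => hx.2 y (hTS₂ hy)⟩
  refine ⟨tS S₁ N, F₂, ⟨H.hS, isNormalIn_of_centric k1 H.hE.1.2.1 hinv hcc, H.hE, hEn, hC₂⟩,
    le_antisymm ?_ ?_, eqLim_of_ppower hS1 tS_le hF1 k1 hidx⟩
  · obtain ⟨-, R, hR⟩ := sat_fullyAutomized hpS₂ k1 (isFullyNormalized_of_sc hEn.1.2.2.2.1)
    refine le_of_coprime_sylow (p := p) (fun b hb hbp => ?_) R fun r hr => ?_
    · have hb1 : b ∈ F₁.autGroup T :=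
        (mem_autGroup_iff H.hT1.1).2 (isSubsystemOf_iff.1 k2 _ _ (isMap_ofAut hTS₂ hb))
      obtain ⟨k, hk⟩ := hNp b hb1
      obtain ⟨m, hm⟩ := exists_pow_eq_self_of_coprime (x := b) (n := p ^ k) (hbp.symm.pow_left k)
      rw [← hm]
      exact Subgroup.pow_mem _ hk m
    · rw [hR, Subgroup.mem_subgroupOf] at hr
      obtain ⟨s, hs, hsx⟩ := mem_autInducedBy'.mp hr
      obtain ⟨-, ν, hν, hνx⟩ := hs
      have : (r : MulAut T) = ν := ofAut_injective fun x hx => by rw [hsx x hx, hνx x hx]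
      rw [this]
      exact hν
  · obtain ⟨R, hR⟩ := sylow_of_normal hS1 hF1 H.hT1 hN1 hNn1
    refine le_of_coprime_sylow (p := p) (fun b hb hbp => ?_) R fun r hr => ?_
    · exact (mem_autGroup_iff hTS₂).2 (k3 T hTS₂ b (hN1 hb) hbp)
    · obtain ⟨s, hs, hsx⟩ := mem_autInducedBy'.mp (hR r hr)
      exact autInducedBy_le_autGroup hTS₂ (mem_autInducedBy'.mpr ⟨s, ⟨hs, r, r.2, hsx⟩, hsx⟩)

end Cfsg.Agent.Fus
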