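import Cfsg.Agent.Fus.NE4

set_option autoImplicit false

/-!
# The step of index prime to `p` (helper85)
-/

namespace Cfsg.Agent.Fus

open Cfsg Cfsg.FusionSystem

variable {Ω : Type*} [Group Ω] {S T S₁ S₂ : Subgroup Ω} {F : FusionSystem S} {E : FusionSystem T} {p : ℕ}
  {F₁ : FusionSystem S₁} {F₂ : FusionSystem S₂}

theorem NEHyp.tfam_iff (H : NEHyp F F₁ E p) {P : Subgroup Ω} :
    TFam F₁ T P ↔ TCen F S₁ P ∧ TCen F T (P ⊓ T) := by
  unfold TFam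
  rw [← tcen_iff_of_invariant H.h1.1.2.2, tcen_iff_of_invariant H.hE1.1.2.2, ← tcen_iff_of_invariant H.hE.1.2.2]

theorem NEHyp.tfam_img (H : NEHyp F F₁ E p) {P : Subgroup Ω} (hP : P ≤ S₁) {γ : MulAut S₁}
    (hγ : γ ∈ F.autGroup S₁) : TFam F₁ T (img P (ofAut γ)) ↔ TFam F₁ T P := by
  have h1 : IsMap F P (ofAut γ) := (isMap_ofAut H.le1 hγ).mono hP
  have h2 : IsMap F (P ⊓ T) (ofAut γ) := h1.mono inf_le_left
  have h3 := img_inf_sc H.hT h1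
  rw [H.tfam_iff, H.tfam_iff, ← h3]
  exact ⟨fun h => ⟨h.1.conj H.h1.1.2.2.2.1 (isConj_symm h1.isConj), h.2.conj H.hT (isConj_symm h2.isConj)⟩,
    fun h => ⟨h.1.conj H.h1.1.2.2.2.1 h1.isConj, h.2.conj H.hT h2.isConj⟩⟩

theorem NEHyp.pp_step [Finite S] [Fact p.Prime] (H : NEHyp F F₁ E p) {N : Subgroup (MulAut T)}
    (hNn : ∀ α ∈ F.autGroup T, ∀ ν ∈ N, α * ν * α⁻¹ ∈ N) (hNE : E.autGroup T ≤ N) (hN1 : N ≤ F₁.autGroup T)
    (hNp : ∀ α ∈ F₁.autGroup T, ∀ k : ℕ, α ^ p ^ k = 1 → α ∈ N) :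
    ∃ F₂ : FusionSystem S₁, NEHyp F F₂ E p ∧ F₂.autGroup T = N ∧ EqLim p F₁ F₂ := by
  have hfS₁ : Finite S₁ := finite_of_le H.le1
  have hS1 : IsPGroup p S₁ := isPGroup_of_le H.hS H.le1
  have hfT : Finite T := finite_of_le H.hT.1
  have hpT : IsPGroup p T := isPGroup_of_le H.hS H.hT.1
  have hfA := finite_mulAut (P := T)
  have hT1 := H.hT1
  have hA : F₁.autGroup T ≤ F.autGroup T := fun α hα =>
    (mem_autGroup_iff H.hT.1).2 (isSubsystemOf_iff.1 H.hle _ _ (isMap_ofAut hT1.1 hα))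
  have hNn1 : ∀ α ∈ F₁.autGroup T, ∀ ν ∈ N, α * ν * α⁻¹ ∈ N := fun α hα => hNn α (hA hα)
  have hF1 : F₁.IsSaturated p := H.h1.1.1
  have hnor : (N.subgroupOf (F₁.autGroup T)).Normal :=
    ⟨fun ν hν α => Subgroup.mem_subgroupOf.2 (hNn1 α α.2 ν (Subgroup.mem_subgroupOf.1 hν))⟩
  obtain ⟨χ, hχ⟩ : ∃ χ : ↥(F₁.autGroup T) →* (↥(F₁.autGroup T) ⧸ N.subgroupOf (F₁.autGroup T)),
      ∀ a, χ a = 1 ↔ (a : MulAut T) ∈ N :=
    ⟨QuotientGroup.mk' _, fun a => by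
      rw [QuotientGroup.mk'_apply, QuotientGroup.eq_one_iff, Subgroup.mem_subgroupOf]⟩
  have hcop : (Nat.card (↥(F₁.autGroup T) ⧸ N.subgroupOf (F₁.autGroup T))).Coprime p := by
    obtain ⟨R⟩ : Nonempty (Sylow p ↥(F₁.autGroup T)) := inferInstance
    have h1 : (R : Subgroup ↥(F₁.autGroup T)) ≤ N.subgroupOf (F₁.autGroup T) := by
      intro r hr
      obtain ⟨k, hk⟩ := R.2 ⟨r, hr⟩
      refine Subgroup.mem_subgroupOf.2 (hNp r r.2 k ?_)
      have := congrArg (fun x : (R : Subgroup ↥(F₁.autGroup T)) => ((x : ↥(F₁.autGroup T)) : MulAut T)) hk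
      simpa using this
    exact coprime_index_of_sylow_le R h1
  have K : ThHyp F₁ E p χ := ⟨hS1, hF1, H.hE.1.1, H.hE1.1.2.2, hcop, fun α hα => (hχ α).2 (hNE hα)⟩
  have hTS : T ≤ S₁ := hT1.1
  have hF₂F₁ : K.sub ≤ F₁ := K.sub_le
  have hF₂F₁' : K.sub.IsSubsystemOf F₁ := isSubsystemOf_iff.2 (le_iff.1 hF₂F₁)
  have hF₂F : K.sub.IsSubsystemOf F := isSubsystemOf_trans hF₂F₁' H.hle
  have hEF₂ : E.IsSubsystemOf K.sub := K.sub_contains
  have hEinv : E.IsInvariantIn K.sub :=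
    invariant_restrict H.hS hF₂F K.sub_saturated H.le1 H.hE.1.2.2 hEF₂ hTS
  have hTT : TCen F₁ T T := by
    have := K.tfam_self.2
    rwa [inf_eq_right.mpr hTS] at this
  -- the extension condition
  have hext : ∀ α ∈ E.autGroup T, ExtZ K.sub T α := by
    intro α hα
    obtain ⟨b, hb, hb1, hb2⟩ := (isNormalIn_iff.1 H.hE1).2 α hα
    refine ⟨b, ?_, hb1, hb2⟩
    have hTC : T ⊔ centralizerIn S₁ T ≤ S₁ := sup_le hTS (centralizerIn_le T)
    rw [mem_autGroup_iff hTC]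
    have hfc := (sat_receptive' hS1 hF1 (isFullyNormalized_of_sc hT1))
    have hcen : F₁.IsCentric (T ⊔ centralizerIn S₁ T) := fc_sup_centric (recep_fullyCentralized hfc)
    have e : (T ⊔ centralizerIn S₁ T) ⊓ T = T := inf_eq_right.2 le_sup_left
    refine isMap_genK ⟨hcen, by rw [e]; exact hTT⟩ (K.isMap_thSys.2 ⟨isMap_ofAut hTC hb, fun _ => ?_⟩)
    rw [e]
    exact (th_of_isMap (isMap_ofAut le_rfl hα)).congr fun x hx => (hb1 x hx).symm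
  have hEn : E.IsNormalIn K.sub p := isNormalIn_iff.2 ⟨⟨H.hE.1.1, K.sub_saturated, hEinv⟩, hext⟩
  -- invariance under `Aut_F(S₁)`
  have hinvE : ∀ a ∈ F.autGroup T, AutInv a E := fun a ha =>
    autInv_of_strongInv H.hT.1 (strongInv_of_invariant H.hE.1.2.2) ha
  have hinv1 : ∀ γ ∈ F.autGroup S₁, AutInv γ (K.thSys) := by
    intro γ hγ P f hf
    obtain ⟨h1, h2⟩ := K.isMap_thSys.mp hf
    have hP := h1.le
    have hγP : IsMap F P (ofAut γ) := (isMap_ofAut H.le1 hγ).mono hP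
    have hγT : IsMap F T (ofAut γ) := (isMap_ofAut H.le1 hγ).mono hTS
    obtain ⟨a, ha, hax⟩ := hγT.exists_aut (sc_img_eq H.hT hγT le_rfl)
    refine K.isMap_thSys.mpr
      ⟨autInv_of_strongInv H.le1 (strongInv_of_invariant H.h1.1.2.2) hγ P f h1, fun hP' => ?_⟩
    obtain ⟨β, e, he, h3, h4⟩ := h2 ((H.tfam_img hP hγ).1 hP')
    have hβN : (β : MulAut T) ∈ N := (hχ β).1 h4
    have hβ' : a * (β : MulAut T) * a⁻¹ ∈ N := hNn a ha _ hβN
    have eimg : img (P ⊓ T) (ofAut a) = img P (ofAut γ) ⊓ T := by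
      rw [← img_inf_sc H.hT hγP]
      exact img_congr fun x hx => hax x hx.2
    refine ⟨⟨a * (β : MulAut T) * a⁻¹, hN1 hβ'⟩, cjf a e, ?_, fun y hy => ?_, (hχ _).2 hβ'⟩
    · rw [← eimg]
      exact hinvE a ha _ _ he
    · rw [← eimg] at hy
      obtain ⟨x, hx, rfl⟩ := (mem_img_ofAut a inf_le_right).mp hy
      have hex : e x ∈ T := he.mem hx
      have hfx : f x ∈ T := by rw [h3 x hx]; exact ofAut_mem _ hex
      show _ = ofAut (a * (β : MulAut T) * a⁻¹) _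
      rw [cjf_apply a inf_le_right e hx, ofAut_mul _ _ (ofAut_mem _ hex), ofAut_mul _ _ (ofAut_mem _ (ofAut_mem _ hex)),
        ofAut_inv_apply _ hex, ← h3 x hx, hax x hx.2, cjf_apply γ hP f hx.1, hax _ hfx]
  have hinv2 : ∀ γ ∈ F.autGroup S₁, AutInv γ K.sub := fun γ hγ =>
    autInv_genK (fun P hP => (H.tfam_img hP.1.1 hγ).2 hP) (hinv1 γ hγ)
  have hinv : K.sub.IsInvariantIn F := invariant_trans H.h1.1.2.2 K.sub_normal.1.2.2 H.h1.1.2.2.2.1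
    fun γ hγ β hβ => by
      rw [ofAut_injective hβ]
      exact hinv2 γ hγ
  have hcc : centralizerIn S S₁ ≤ S₁ := fun x hx => H.hC ⟨hx.1, fun y hy => hx.2 y (hTS hy)⟩
  have hle1 : K.sub.autGroup T ≤ N := by
    intro α hα
    have h1 := K.sub_deg (isMap_ofAut hTS hα)
    rw [inf_idem] at h1
    obtain ⟨β, e, he, h3, h4⟩ := h1
    obtain ⟨ε, hε, hεx⟩ := he.exists_aut (img_eq_self_of_top he)
    have : α = (β : MulAut T) * ε := ofAut_injective fun x hx => by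
      rw [ofAut_mul _ _ hx, hεx x hx, h3 x hx]
    rw [this]
    exact N.mul_mem ((hχ β).1 h4) (hNE hε)
  refine ⟨K.sub, ⟨H.hS, isNormalIn_of_centric K.sub_saturated H.hE.1.2.1 hinv hcc, H.hE, hEn, H.hC⟩,
    le_antisymm hle1 ?_, eqLim_of_pprime _ rfl hS1 hF1 K.sub_saturated K.sub_index⟩
  intro ν hν
  have hν1 := hN1 hν
  obtain ⟨a, ha, f₀, hf₀, h1⟩ := K.sub_dec (isMap_ofAut hTS hν1)
  obtain ⟨φ₀, hφ₀, hφx⟩ := hf₀.exists_aut (sc_img_eq hEn.1.2.2.2.1 hf₀ le_rfl)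
  obtain ⟨b, hbx⟩ := K.exists_res ha
  have e : (b : MulAut T) = ν * φ₀⁻¹ := by
    rw [eq_mul_inv_iff_mul_eq]
    refine ofAut_injective fun x hx => ?_
    rw [ofAut_mul _ _ hx, hφx x hx, h1 x hx, hbx _ (by rw [← hφx x hx]; exact ofAut_mem _ hx)]
  have hbN : (b : MulAut T) ∈ N := by
    rw [e]
    exact N.mul_mem hν (N.inv_mem (hle1 hφ₀))
  have ha2 : a ∈ K.sub.autGroup S₁ := K.sub_aut.2 ⟨ha, b, (hχ b).2 hbN, hbx⟩
  rw [mem_autGroup_iff hTS]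
  exact ((isMap_ofAut le_rfl ha2).comp hf₀ fun x hx => hf₀.mem hx).congr fun x hx => (h1 x hx).symm

end Cfsg.Agent.Fus
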