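import Cfsg.Agent.Fus.NE5

set_option autoImplicit false

/-!
# The normal envelope (helper85)
-/

namespace Cfsg.Agent.Fus

open Cfsg Cfsg.FusionSystem

universe u

variable {Ω : Type u} [Group Ω] {S T S₁ S₂ : Subgroup Ω} {F : FusionSystem S} {E : FusionSystem T} {p : ℕ}
  {F₁ : FusionSystem S₁} {F₂ : FusionSystem S₂}

theorem normal_refl (hF : F.IsSaturated p) : F.IsNormalIn F p :=
  isNormalIn_of_topInv hF hF (le_iff.2 fun _ _ h => h) (fun _ hα => autInv_self hα) fun P f hf =>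
    ⟨1, Subgroup.one_mem _, f, hf, fun x hx => (ofAut_one (hf.mem hx)).symm⟩

theorem lim_le {L : FusionSystem T} (h : L.IsResidualLimitOf F p) : L.IsSubsystemOf F := by
  induction h with
  | stable F p h1 h2 => exact isSubsystemOf_iff.2 fun _ _ h => h
  | step F p D D' h1 h2 h3 ih => exact isSubsystemOf_trans ih (isSubsystemOf_trans h2.2.1.1 h1.2.1)

/-- the subgroup over which the envelope lives -/
theorem NEHyp.eq_of_aut [Finite S] [Fact p.Prime] (H : NEHyp F F₁ E p) (h : F₁.autGroup T = E.autGroup T) :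
    S₁ = T ⊔ centralizerIn S T := by
  have hfT : Finite T := finite_of_le H.hT.1
  have hpT : IsPGroup p T := isPGroup_of_le H.hS H.hT.1
  have hpS₁ : IsPGroup p S₁ := isPGroup_of_le H.hS H.le1
  refine le_antisymm (fun s hs => ?_) (sup_le H.hT1.1 H.hC)
  have h1 := sat_fullyAutomized hpT H.hE.1.1 (isFullyNormalized_self (F := E))
  have h2 : autInducedBy S₁ T ≤ autInducedBy T T :=
    Cfsg.Agent.Fus.IsFullyAutomized.le_of_isPGroup h1 (h ▸ autInducedBy_le_autGroup H.hT1.1)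
      (isPGroup_autInducedBy hpS₁ T) (autInducedBy_mono H.hT1.1)
  obtain ⟨t, ht, htx⟩ := mem_autInducedBy'.1 (h2 (conjAut_mem hs (sc_le_normalizer H.hT1 hs)))
  have hc : t⁻¹ * s ∈ centralizerIn S T := by
    rw [mem_centralizerIn]
    refine ⟨S.mul_mem (S.inv_mem (H.hT.1 ht)) (H.le1 hs), fun x hx => ?_⟩
    have h3 := htx x hx
    rw [ofAut_conjAut _ _ hx] at h3
    calc x * (t⁻¹ * s) = t⁻¹ * (t * x * t⁻¹) * s := by group
      _ = t⁻¹ * (s * x * s⁻¹) * s := by rw [h3]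
      _ = t⁻¹ * s * x := by group
  have e : s = t * (t⁻¹ * s) := by group
  rw [e]
  exact Subgroup.mul_mem _ (le_sup_left (a := T) ht) (le_sup_right (a := T) hc)

/-- **The normal envelope.** -/
theorem exists_envelope [Finite S] [Fact p.Prime] (hS : IsPGroup p S) (hE : E.IsNormalIn F p)
    [hn : ((E.autGroup T).subgroupOf (F.autGroup T)).Normal]
    (hsolv : IsPSolvable p (↥(F.autGroup T) ⧸ (E.autGroup T).subgroupOf (F.autGroup T))) :
    ∃ F₀ : FusionSystem (T ⊔ centralizerIn S T), NEHyp F F₀ E p ∧ F₀.autGroup T = E.autGroup T ∧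
      EqLim p F F₀ := by
  have hT := hE.1.2.2.2.1
  have hF := hE.1.2.1
  have hEA : E.autGroup T ≤ F.autGroup T := fun α hα =>
    (mem_autGroup_iff hT.1).2 (isSubsystemOf_iff.1 hE.1.2.2.1 _ _ (isMap_ofAut le_rfl hα))
  obtain ⟨n, K, hK0, hKn, hmono, hKnor, hstep⟩ := hsolv
  obtain ⟨π, hπ⟩ : ∃ π : ↥(F.autGroup T) →* (↥(F.autGroup T) ⧸ (E.autGroup T).subgroupOf (F.autGroup T)),
      ∀ a, π a = 1 ↔ (a : MulAut T) ∈ E.autGroup T :=
    ⟨QuotientGroup.mk' _, fun a => by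
      rw [QuotientGroup.mk'_apply, QuotientGroup.eq_one_iff, Subgroup.mem_subgroupOf]⟩
  obtain ⟨N, hN⟩ : ∃ N : Fin (n + 1) → Subgroup (MulAut T),
      ∀ i, N i = ((K i).comap π).map (F.autGroup T).subtype := ⟨_, fun _ => rfl⟩
  have hNmem : ∀ i (α : F.autGroup T), (α : MulAut T) ∈ N i ↔ π α ∈ K i := by
    intro i α
    rw [hN]
    constructor
    · rintro ⟨a, ha, hae⟩
      have : a = α := Subtype.ext hae
      rw [← this]
      exact ha
    · intro h
      exact ⟨α, h, rfl⟩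
  have hNle : ∀ i, N i ≤ F.autGroup T := by
    intro i
    rw [hN]
    rintro _ ⟨a, -, rfl⟩
    exact a.2
  have hNn : ∀ i, ∀ α ∈ F.autGroup T, ∀ ν ∈ N i, α * ν * α⁻¹ ∈ N i := by
    intro i α hα ν hν
    have h1 := (hNmem i ⟨ν, hNle i hν⟩).1 hν
    have h2 := (hKnor i).conj_mem _ h1 (π ⟨α, hα⟩)
    rw [← map_mul, ← map_inv, ← map_mul] at h2
    exact (hNmem i (⟨α, hα⟩ * ⟨ν, hNle i hν⟩ * ⟨α, hα⟩⁻¹)).2 h2
  have hNE : ∀ i, E.autGroup T ≤ N i := by
    intro i ε hε
    refine (hNmem i ⟨ε, hEA hε⟩).2 ?_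
    rw [(hπ _).2 hε]
    exact Subgroup.one_mem _
  have hNmono : ∀ i j, i ≤ j → N i ≤ N j := by
    intro i j hij α hα
    exact (hNmem j ⟨α, hNle i hα⟩).2 (hmono hij ((hNmem i ⟨α, hNle i hα⟩).1 hα))
  have key : ∀ i : Fin (n + 1), ∃ (S₁ : Subgroup Ω) (F₁ : FusionSystem S₁), NEHyp F F₁ E p ∧
      F₁.autGroup T = N i ∧ EqLim p F F₁ := by
    intro i
    induction i using Fin.reverseInduction with
    | last =>
      refine ⟨S, F, ⟨hS, normal_refl hF, hE, hE, centralizerIn_le T⟩, ?_, EqLim.refl hS hF⟩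
      refine le_antisymm (fun α hα => ?_) (hNle _)
      refine (hNmem _ ⟨α, hα⟩).2 ?_
      rw [hKn]
      trivial
    | cast i ih =>
      obtain ⟨S₁, F₁, H, h1, h2⟩ := ih
      have hfS₁ : Finite S₁ := finite_of_le H.le1
      have hpS₁ : IsPGroup p S₁ := isPGroup_of_le hS H.le1
      have hN1 : N i.castSucc ≤ F₁.autGroup T := by
        rw [h1]
        exact hNmono _ _ (Fin.castSucc_lt_succ).le
      have hnor : ((K i.castSucc).subgroupOf (K i.succ)).Normal := by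
        have := hKnor i.castSucc
        infer_instance
      rcases hstep i with ⟨m, hm⟩ | hco
      · have hp : ∀ α ∈ F₁.autGroup T, ∃ k : ℕ, α ^ p ^ k ∈ N i.castSucc := by
          intro α hα
          rw [h1] at hα
          refine ⟨m, ?_⟩
          have h5 := (hNmem _ ⟨α, hNle _ hα⟩).1 hα
          have h6 := Subgroup.pow_index_mem ((K i.castSucc).subgroupOf (K i.succ)) ⟨_, h5⟩
          have h7 : ((K i.castSucc).subgroupOf (K i.succ)).index = p ^ m := hm
          rw [h7, Subgroup.mem_subgroupOf] at h6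
          have h8 : π (⟨α, hNle _ hα⟩ ^ p ^ m) ∈ K i.castSucc := by
            rw [map_pow]
            exact h6
          exact (hNmem _ _).2 h8
        obtain ⟨S₂, F₂, H₂, h3, h4⟩ := H.p_step (hNn i.castSucc) (hNE _) hN1 hp
        exact ⟨S₂, F₂, H₂, h3, h2.trans hpS₁ H.h1.1.1 h4⟩
      · have hp : ∀ α ∈ F₁.autGroup T, ∀ k : ℕ, α ^ p ^ k = 1 → α ∈ N i.castSucc := by
          intro α hα k hk
          rw [h1] at hα
          have h5 := (hNmem _ ⟨α, hNle _ hα⟩).1 hα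
          refine (hNmem _ ⟨α, hNle _ hα⟩).2 ?_
          have h6 : (⟨π ⟨α, hNle _ hα⟩, h5⟩ : K i.succ) ∈ (K i.castSucc).subgroupOf (K i.succ) := by
            refine PSol.mem_of_coprime_index _ ?_
            have h7 : (⟨π ⟨α, hNle _ hα⟩, h5⟩ : K i.succ) ^ p ^ k = 1 := by
              refine Subtype.ext ?_
              show (π ⟨α, hNle _ hα⟩) ^ p ^ k = 1
              rw [← map_pow]
              have h8 : (⟨α, hNle _ hα⟩ : F.autGroup T) ^ p ^ k = 1 := Subtype.ext hk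
              rw [h8, map_one]
            obtain ⟨j, -, hj⟩ := (Nat.dvd_prime_pow Fact.out).mp (orderOf_dvd_of_pow_eq_one h7)
            rw [hj]
            exact Nat.Coprime.pow_left j hco.symm
          exact Subgroup.mem_subgroupOf.1 h6
        obtain ⟨F₂, H₂, h3, h4⟩ := H.pp_step (hNn i.castSucc) (hNE _) hN1 hp
        exact ⟨S₁, F₂, H₂, h3, h2.trans hpS₁ H.h1.1.1 h4⟩
  obtain ⟨S₀, F₀, H, h1, h2⟩ := key 0
  have h3 : F₀.autGroup T = E.autGroup T := by
    rw [h1]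
    refine le_antisymm (fun α hα => ?_) (hNE 0)
    have h4 := (hNmem 0 ⟨α, hNle _ hα⟩).1 hα
    rw [hK0, Subgroup.mem_bot] at h4
    exact (hπ _).1 h4
  obtain rfl := H.eq_of_aut h3
  exact ⟨F₀, H, h3, h2⟩

end Cfsg.Agent.Fus
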