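import Cfsg.Agent.Fus.NE6

set_option autoImplicit false

/-!
# The envelope when `C_S(E) ≤ T` (helper85)
-/

namespace Cfsg.Agent.Fus

open Cfsg Cfsg.FusionSystem

universe u

variable {Ω : Type u} [Group Ω] {S T S₁ S₂ : Subgroup Ω} {F : FusionSystem S} {E : FusionSystem T} {p : ℕ}
  {F₁ : FusionSystem S₁} {F₂ : FusionSystem S₂}

theorem cenE_le_of [Finite S] [Fact p.Prime] (hS : IsPGroup p S) (hE : E.IsNormalIn F p)
    (hCE : ∀ Y : Subgroup Ω, Y ≤ centralizerIn S T →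
      (∀ C : FusionSystem (centralizerIn S Y), F.IsCentralizerSystem Y C → E.IsSubsystemOf C) → Y ≤ T) :
    cenE E F p ≤ T :=
  hCE _ cenE_le fun C hC P => by
    rw [hC P]
    exact cenE_subset_centralizerHom hS hE P

/-- pointwise form of `foc(C_F(T)) ≤ C_S(E)` -/
theorem foc_cenE [Finite S] [Fact p.Prime] (hS : IsPGroup p S) (hE : E.IsNormalIn F p) {A : Subgroup Ω}
    (hA : A ≤ centralizerIn S T) {g : Ω → Ω} (hg : IsMap F (A ⊔ T) g) (hgT : ∀ x ∈ T, g x = x) :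
    ∀ c ∈ A, c⁻¹ * g c ∈ cenE E F p := by
  intro c hc
  obtain ⟨D, hD⟩ := exists_isCentralizerSystem F hE.1.2.2.2.1.1
  have h1 : IsMap D A g := by
    rw [isMap_centralizerSystem hD]
    refine ⟨hA, fun x hx => ?_, g, hg, fun _ _ => rfl, hgT⟩
    refine mem_centralizerIn.2 ⟨hg.mem (le_sup_left (a := A) hx), fun y hy => ?_⟩
    have h2 := congrArg g ((mem_centralizerIn.1 (hA hx)).2 y hy)
    rwa [hg.map_mul (le_sup_right (a := A) hy) (le_sup_left (a := A) hx),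
      hg.map_mul (le_sup_left (a := A) hx) (le_sup_right (a := A) hy), hgT y hy] at h2
  exact focal_le_cenE hS hE hD (mem_focal_of_isMap h1 hc)

/-- maps of `F` acting on `T` as an element of `Aut_E(T)` move `C_S(T)` by elements of `T C_S(E)` -/
theorem move_of_aut [Finite S] [Fact p.Prime] (hS : IsPGroup p S) (hE : E.IsNormalIn F p) {A : Subgroup Ω}
    (hA : A ≤ centralizerIn S T) {γ : Ω → Ω} (hγ : IsMap F (A ⊔ T) γ) {α : MulAut T} (hα : α ∈ E.autGroup T)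
    (hαx : ∀ x ∈ T, ofAut α x = γ x) (hCT : cenE E F p ≤ T) : ∀ c ∈ A, c⁻¹ * γ c ∈ T := by
  intro c hc
  have hT := hE.1.2.2.2.1
  obtain ⟨b, hb, hb1, hb2⟩ := (isNormalIn_iff.1 hE).2 α hα
  have hTC : T ⊔ centralizerIn S T ≤ S := sup_le hT.1 (centralizerIn_le T)
  have hbm := isMap_ofAut hTC hb
  have hbim := isMap_ofAut hTC (Subgroup.inv_mem _ hb)
  have hAT : A ⊔ T ≤ T ⊔ centralizerIn S T := sup_le (hA.trans le_sup_right) le_sup_left
  -- the image of `γ` lies in `T C_S(T)`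
  have hγC : ∀ x ∈ A, γ x ∈ centralizerIn S T := by
    intro x hx
    refine mem_centralizerIn.2 ⟨hγ.mem (le_sup_left (a := A) hx), fun y hy => ?_⟩
    have h3 : γ (ofAut α⁻¹ y) = y := by rw [← hαx _ (ofAut_mem _ hy), ofAut_apply_inv α hy]
    have h2 := congrArg γ ((mem_centralizerIn.1 (hA hx)).2 _ (ofAut_mem α⁻¹ hy))
    rwa [hγ.map_mul (le_sup_right (a := A) (ofAut_mem _ hy)) (le_sup_left (a := A) hx),
      hγ.map_mul (le_sup_left (a := A) hx) (le_sup_right (a := A) (ofAut_mem _ hy)), h3] at h2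
  have hγT : ∀ x ∈ T, γ x ∈ T := fun x hx => by rw [← hαx x hx]; exact ofAut_mem _ hx
  have hδ : IsMap F (A ⊔ T) (fun x => ofAut b⁻¹ (γ x)) :=
    hbim.comp hγ (hγ.forall_sup_mem (fun x hx => le_sup_right (a := T) (hγC x hx))
      fun x hx => le_sup_left (a := T) (hγT x hx))
  have hδT : ∀ x ∈ T, ofAut b⁻¹ (γ x) = x := by
    intro x hx
    rw [← hαx x hx, ← hb1 x hx, ofAut_inv_apply b (le_sup_left (a := T) hx)]
  obtain ⟨z, hz⟩ : ∃ z, z = c⁻¹ * ofAut b⁻¹ (γ c) := ⟨_, rfl⟩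
  have hzT : z ∈ T := by
    rw [hz]
    exact hCT (foc_cenE hS hE hA hδ hδT c hc)
  have hcC : c ∈ T ⊔ centralizerIn S T := le_sup_right (a := T) (hA hc)
  have hcz : ofAut b⁻¹ (γ c) = c * z := by rw [hz]; group
  have h4 : γ c = ofAut b c * ofAut b z := by
    rw [← ofAut_map_mul b hcC (le_sup_left (a := T) hzT), ← hcz,
      ofAut_apply_inv b (le_sup_right (a := T) (hγC c hc))]
  rw [h4, ← mul_assoc]
  refine T.mul_mem (hb2 c (hA hc)).1 ?_
  rw [hb1 z hzT]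
  exact ofAut_mem _ hzT

/-- elements of `T C_S(T)` -/
theorem exists_mul_of_mem_TC {y : Ω} (hy : y ∈ T ⊔ centralizerIn S T) : ∃ t ∈ T, ∃ c ∈ centralizerIn S T, y = t * c := by
  have hcomm : ∀ t ∈ T, ∀ c ∈ centralizerIn S T, c * t = t * c := fun t ht c hc =>
    ((mem_centralizerIn.1 hc).2 t ht).symm
  obtain ⟨K, hK⟩ : ∃ K : Subgroup Ω, ∀ y, y ∈ K ↔ ∃ t ∈ T, ∃ c ∈ centralizerIn S T, y = t * c := by
    refine ⟨{ carrier := {y | ∃ t ∈ T, ∃ c ∈ centralizerIn S T, y = t * c}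
              one_mem' := ⟨1, T.one_mem, 1, Subgroup.one_mem _, (mul_one 1).symm⟩
              mul_mem' := ?_
              inv_mem' := ?_ }, fun y => Iff.rfl⟩
    · rintro _ _ ⟨t, ht, c, hc, rfl⟩ ⟨t', ht', c', hc', rfl⟩
      refine ⟨t * t', T.mul_mem ht ht', c * c', Subgroup.mul_mem _ hc hc', ?_⟩
      calc t * c * (t' * c') = t * (c * t') * c' := by group
        _ = t * (t' * c) * c' := by rw [hcomm t' ht' c hc]
        _ = t * t' * (c * c') := by group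
    · rintro _ ⟨t, ht, c, hc, rfl⟩
      refine ⟨t⁻¹, T.inv_mem ht, c⁻¹, Subgroup.inv_mem _ hc, ?_⟩
      rw [← hcomm t ht c hc]
      group
  have hle : T ⊔ centralizerIn S T ≤ K := sup_le (fun t ht => (hK t).2 ⟨t, ht, 1, Subgroup.one_mem _, (mul_one t).symm⟩)
    fun c hc => (hK c).2 ⟨1, T.one_mem, c, hc, (one_mul c).symm⟩
  exact (hK y).1 (hle hy)

/-- all maps of the envelope are trivial modulo `T` when `C_S(E) ≤ T` -/
theorem NEHyp.mod_T [Finite S] [Fact p.Prime] (H : NEHyp F F₁ E p) (h : F₁.autGroup T = E.autGroup T)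
    (hCT : cenE E F p ≤ T) {P : Subgroup Ω} {f : Ω → Ω} (hf : IsMap F₁ P f) : ∀ x ∈ P, f x * x⁻¹ ∈ T := by
  have hfS₁ : Finite S₁ := finite_of_le H.le1
  have hS1 : IsPGroup p S₁ := isPGroup_of_le H.hS H.le1
  obtain ⟨φ, γ, hφ, hγ, hfe⟩ := es_factor hS1 H.hE1 hf
  have hγT : IsMap F₁ T γ := hγ.mono le_sup_right
  obtain ⟨α, hα, hαx⟩ := hγT.exists_aut (sc_img_eq H.hT1 hγT le_rfl)
  rw [h] at hα
  have hγF := isSubsystemOf_iff.1 H.hle _ _ hγ
  have hS₁e := H.eq_of_aut h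
  -- elements of `P T`
  have key : ∀ y ∈ P ⊔ T, γ y * y⁻¹ ∈ T := by
    intro y hy
    have hyS : y ∈ T ⊔ centralizerIn S T := hS₁e ▸ (hγ.le hy)
    obtain ⟨t, ht, c, hc, rfl⟩ := exists_mul_of_mem_TC hyS
    have htP : t ∈ P ⊔ T := le_sup_right (a := P) ht
    have hcP : c ∈ P ⊔ T := by
      have := Subgroup.mul_mem _ (Subgroup.inv_mem _ htP) hy
      rwa [inv_mul_cancel_left] at this
    have h1 : c⁻¹ * γ c ∈ T := by
      refine move_of_aut H.hS H.hE (A := (P ⊔ T) ⊓ centralizerIn S T) inf_le_right ?_ hα hαx hCT c ⟨hcP, hc⟩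
      exact hγF.mono (sup_le inf_le_left le_sup_right)
    have h2 : γ c * c⁻¹ ∈ T := by
      have := sc_conj_mem H.hT hc.1 h1
      have e : c * (c⁻¹ * γ c) * c⁻¹ = γ c * c⁻¹ := by group
      rwa [e] at this
    rw [hγ.map_mul htP hcP]
    have e : γ t * γ c * (t * c)⁻¹ = γ t * (γ c * c⁻¹) * t⁻¹ := by group
    rw [e]
    exact T.mul_mem (T.mul_mem (by rw [← hαx t ht]; exact ofAut_mem _ ht) h2) (T.inv_mem ht)
  intro x hx
  have hyP : φ x ∈ P ⊔ T := by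
    have e : φ x = φ x * x⁻¹ * x := by group
    rw [e]
    exact Subgroup.mul_mem _ (le_sup_right (a := P) (hφ.mod x hx)) (le_sup_left (a := P) hx)
  have e : f x * x⁻¹ = (γ (φ x) * (φ x)⁻¹) * (φ x * x⁻¹) := by rw [hfe x hx]; group
  rw [e]
  exact T.mul_mem (key _ hyP) (hφ.mod x hx)

/-- `E` has `p`-power index in the envelope when `C_S(E) ≤ T` -/
theorem NEHyp.ppower [Finite S] [Fact p.Prime] (H : NEHyp F F₁ E p) (h : F₁.autGroup T = E.autGroup T)
    (hCT : cenE E F p ≤ T) : E.HasPPowerIndexIn F₁ p := by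
  refine hasPPowerIndexIn_iff.2 ⟨H.hE1.1.2.2.1, hyper_le fun P hP α _ x hx => ?_, fun P hP α hα _ => ?_⟩
  · have h1 := H.mod_T h hCT (isMap_ofAut hP α.2) x hx
    have h2 := sc_conj_mem H.hT1 (S₁.inv_mem (hP hx)) h1
    have e : x⁻¹ * (ofAut (α : MulAut P) x * x⁻¹) * x⁻¹⁻¹ = x⁻¹ * ofAut (α : MulAut P) x := by group
    rwa [e] at h2
  · obtain ⟨a, ha, e, he, h1⟩ := dec_of_invariant H.hE1.1.2.2 hP (isMap_ofAut (hP.trans H.hT1.1) hα)
    rw [h] at ha
    exact ((isMap_ofAut le_rfl ha).comp he fun x hx => he.mem hx).congr fun x hx => (h1 x hx).symm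

end Cfsg.Agent.Fus
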