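import Cfsg.Agent.Fus.NE7
import Cfsg.Agent.Fus.NF1
import Cfsg.Agent.H87.FusGlau

set_option autoImplicit false

/-!
# `C_S(E) ≤ T` implies `C_S(T) ≤ T` for `p` odd (helper85)
-/

namespace Cfsg.Agent.Fus

open Cfsg Cfsg.FusionSystem

universe u

variable {Ω : Type u} [Group Ω] {S T S₁ S₂ : Subgroup Ω} {F : FusionSystem S} {E : FusionSystem T} {p : ℕ}
  {F₁ : FusionSystem S₁} {F₂ : FusionSystem S₂}

/-- systems with `foc(D) ≤ T`: an element of `Z(R)` can be corrected by an element of `T` so as to be central in `N_D(J)` for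
a characteristic subgroup `J ≥ Z(R)`. -/
theorem exists_central_coset {R : Subgroup Ω} [Finite R] [Fact p.Prime] (hR : IsPGroup p R) {D : FusionSystem R}
    (hD : D.IsSaturated p) (hfoc : ∀ (P : Subgroup Ω) (f : Ω → Ω), IsMap D P f → ∀ x ∈ P, x⁻¹ * f x ∈ T)
    {J : Subgroup Ω} (hJR : J ≤ R) (hJn : R ≤ Subgroup.normalizer (J : Set Ω)) {c : Ω} (hcJ : c ∈ J)
    (hc : ∀ r ∈ R, r * c = c * r) {N : FusionSystem (normalizerIn R J)} (hN : D.IsNormalizerSystem J N) :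
    ∃ m ∈ T, c * m ∈ N.center := by
  have hfJ : Finite J := finite_of_le hJR
  have hpJ : IsPGroup p J := isPGroup_of_le hR hJR
  have hJfn : D.IsFullyNormalized J := by
    refine ⟨hJR, fun Q _ => ?_⟩
    have e : normalizerIn R J = R := inf_eq_left.2 hJn
    rw [e]
    exact Subgroup.card_le_of_le (normalizerIn_le Q)
  obtain ⟨-, P, hP⟩ := sat_fullyAutomized hR hD hJfn
  have hcz : (⟨c, hcJ⟩ : J) ∈ Subgroup.center J :=
    Subgroup.mem_center_iff.2 fun g => Subtype.ext (hc g (hJR g.2))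
  obtain ⟨m, hm, hmz, hmA⟩ := exists_fixed_coset hpJ (D.autGroup J) hcz (T.subgroupOf J) (fun a ha => by
      rw [Subgroup.mem_subgroupOf]
      have h1 := hfoc J (ofAut a) (isMap_ofAut hJR ha) c hcJ
      rw [ofAut_apply a hcJ] at h1
      exact h1) P (fun r hr => by
      rw [hP, Subgroup.mem_subgroupOf] at hr
      obtain ⟨s, hs, hsx⟩ := mem_autInducedBy'.1 hr
      refine Subtype.ext ?_
      have h1 := hsx c hcJ
      rw [ofAut_apply _ hcJ, hc s hs, mul_inv_cancel_right] at h1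
      exact h1)
  refine ⟨(m : Ω), hm, ?_⟩
  obtain ⟨z, hz⟩ : ∃ z : Ω, z = c * m := ⟨_, rfl⟩
  have hzJ : z ∈ J := by rw [hz]; exact J.mul_mem hcJ m.2
  have hzA : ∀ a ∈ D.autGroup J, ofAut a z = z := by
    intro a ha
    rw [ofAut_apply a hzJ]
    have h1 := congrArg Subtype.val (hmA a ha)
    have h2 : (⟨z, hzJ⟩ : J) = ⟨c, hcJ⟩ * m := Subtype.ext hz
    rw [h2]
    exact h1.trans hz.symm
  rw [← hz]
  have hzN : z ∈ normalizerIn R J := le_normalizerIn hJR hzJ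
  have hcen : N.IsCentral (Subgroup.zpowers z) := by
    refine isCentral_iff_isMap.2 ⟨Subgroup.zpowers_le.2 hzN, fun Q f hf => ?_⟩
    obtain ⟨h1, h2, g, hg, hgx, hgJ⟩ := (isMap_normSys hN).1 hf
    have hgN : IsMap N (Q ⊔ J) g := by
      rw [isMap_normSys_of_le hN le_sup_right]
      exact ⟨sup_le h1 (le_normalizerIn hJR), hg, hgJ⟩
    refine ⟨g, hgN.mono (sup_le_sup_left (Subgroup.zpowers_le.2 hzJ) Q), hgx, ?_⟩
    have hgJm : IsMap D J g := hg.mono le_sup_right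
    obtain ⟨a, ha, hax⟩ := hgJm.exists_aut hgJ
    have hgz : g z = z := by rw [← hax z hzJ, hzA a ha]
    rintro x hx
    obtain ⟨n, rfl⟩ := Subgroup.mem_zpowers_iff.1 hx
    rw [hgJm.map_zpow hzJ, hgz]
  exact (le_sSup (show Subgroup.zpowers z ∈ {Q : Subgroup Ω | N.IsCentral Q} from hcen)) (Subgroup.mem_zpowers z)

theorem exists_mul_of_comm {G : Type*} [Group G] {T C : Subgroup G} (hcomm : ∀ t ∈ T, ∀ c ∈ C, c * t = t * c) {y : G}
    (hy : y ∈ T ⊔ C) : ∃ t ∈ T, ∃ c ∈ C, y = t * c := by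
  obtain ⟨K, hK⟩ : ∃ K : Subgroup G, ∀ y, y ∈ K ↔ ∃ t ∈ T, ∃ c ∈ C, y = t * c := by
    refine ⟨{ carrier := {y | ∃ t ∈ T, ∃ c ∈ C, y = t * c}
              one_mem' := ⟨1, T.one_mem, 1, Subgroup.one_mem _, (mul_one 1).symm⟩
              mul_mem' := ?_
              inv_mem' := ?_ }, fun y => Iff.rfl⟩
    · rintro _ _ ⟨t, ht, c, hc, rfl⟩ ⟨t', ht', c', hc', rfl⟩
      refine ⟨t * t', T.mul_mem ht ht', c * c', Subgroup.mul_mem _ hc hc', ?_⟩
      calc t * c * (t' * c') = t * (c * t') * c' := by group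
        _ = t * (t' * c) * c' := by rw [hcomm t' ht' c hc]
        _ = t * t' * (c * c') := by group
    · rintro _ ⟨t, ht, c, hc, rfl⟩
      refine ⟨t⁻¹, T.inv_mem ht, c⁻¹, Subgroup.inv_mem _ hc, ?_⟩
      rw [← hcomm t ht c hc]
      group
  have hle : T ⊔ C ≤ K := sup_le (fun t ht => (hK t).2 ⟨t, ht, 1, Subgroup.one_mem _, (mul_one t).symm⟩)
    fun c hc => (hK c).2 ⟨1, T.one_mem, c, hc, (one_mul c).symm⟩
  exact (hK y).1 (hle hy)

/-- **`C_S(E) ≤ T` implies `C_S(T) ≤ T` for `p` odd.** -/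
theorem centralizer_le_of_odd [Finite S] [Fact p.Prime] (hS : IsPGroup p S) (hE : E.IsNormalIn F p)
    (hCT : cenE E F p ≤ T) (hp2 : p ≠ 2) : centralizerIn S T ≤ T := by
  intro c hc
  have hT := hE.1.2.2.2.1
  have hi : E.IsInvariantIn F := hE.1.2.2
  have hcS : c ∈ S := hc.1
  have hcT : ∀ t ∈ T, t * c = c * t := (mem_centralizerIn.1 hc).2
  obtain ⟨R, hRe⟩ : ∃ R : Subgroup Ω, R = T ⊔ Subgroup.zpowers c := ⟨_, rfl⟩
  have hTR : T ≤ R := by rw [hRe]; exact le_sup_left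
  have hcR : c ∈ R := by rw [hRe]; exact le_sup_right (a := T) (Subgroup.mem_zpowers c)
  have hRS : R ≤ S := by rw [hRe]; exact sup_le hT.1 (Subgroup.zpowers_le.2 hcS)
  have hfR : Finite R := finite_of_le hRS
  have hpR : IsPGroup p R := isPGroup_of_le hS hRS
  have hfT : Finite T := finite_of_le hT.1
  have hpT : IsPGroup p T := isPGroup_of_le hS hT.1
  -- `c` is central in `R`
  have hRc : R ≤ Subgroup.centralizer {c} := by
    rw [hRe]
    refine sup_le (fun t ht => ?_) (Subgroup.zpowers_le.2 ?_)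
    · rw [Subgroup.mem_centralizer_singleton_iff]
      exact hcT t ht
    · rw [Subgroup.mem_centralizer_singleton_iff]
  have hcc : ∀ r ∈ R, r * c = c * r := fun r hr => Subgroup.mem_centralizer_singleton_iff.1 (hRc hr)
  -- the system over `R`
  have hsat := esSys_saturated hS hE
  have hy := esSys_hyper_le (p := p) hS hi
  obtain ⟨D, k1, k2, k3⟩ := exists_ppower (Nat.card S) rfl hS hsat (T := R) hRS (hy.trans hTR)
  have hesF : (esSys E F p hT).IsSubsystemOf F := isSubsystemOf_iff.2 (le_iff.1 esSys_leF)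
  have hDF : D.IsSubsystemOf F := isSubsystemOf_trans k2 hesF
  have hEs := (esSys_ppower hS hE).1
  have hED : E.IsSubsystemOf D := isSubsystemOf_of_coprime hpT hE.1.1 hTR fun P hP α hα hαp =>
    k3 P (hP.trans hTR) α ((mem_autGroup_iff (hP.trans hT.1)).2
      (isSubsystemOf_iff.1 hEs _ _ (isMap_ofAut hP hα))) hαp
  -- `foc(D) ≤ T`
  have hfocT : D.focalSubgroup ≤ T := by
    rw [focal_eq hpR k1]
    refine sup_le ((hyper_mono_sys k2 hRS).trans hy) ?_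
    rw [Subgroup.commutator_le]
    have key : ∀ g₁ ∈ R, ∃ t ∈ T, ∃ z ∈ Subgroup.zpowers c, g₁ = t * z := by
      intro g₁ hg₁
      rw [hRe] at hg₁
      refine exists_mul_of_comm (fun t ht z hz => ?_) hg₁
      obtain ⟨n, rfl⟩ := Subgroup.mem_zpowers_iff.1 hz
      exact (((show Commute t c from hcT t ht).zpow_right n).eq).symm
    intro g₁ hg₁ g₂ hg₂
    obtain ⟨t₁, ht₁, z₁, hz₁, rfl⟩ := key g₁ hg₁
    obtain ⟨t₂, ht₂, z₂, hz₂, rfl⟩ := key g₂ hg₂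
    have hz : ∀ z ∈ Subgroup.zpowers c, ∀ r ∈ R, Commute r z := by
      intro z hz r hr
      obtain ⟨n, rfl⟩ := Subgroup.mem_zpowers_iff.1 hz
      exact (show Commute r c from hcc r hr).zpow_right n
    have e1 := hz z₁ hz₁
    have e2 := hz z₂ hz₂
    have hzR : Subgroup.zpowers c ≤ R := Subgroup.zpowers_le.2 hcR
    rw [commutatorElement_def]
    have e3 : t₁ * z₁ * (t₂ * z₂) * (t₁ * z₁)⁻¹ * (t₂ * z₂)⁻¹ = t₁ * t₂ * t₁⁻¹ * t₂⁻¹ := by
      have h1 := (e1 t₂ (hTR ht₂)).eq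
      have h2 := (e2 t₁ (hTR ht₁)).eq
      have h3 := (e2 z₁ (hzR hz₁)).eq
      calc t₁ * z₁ * (t₂ * z₂) * (t₁ * z₁)⁻¹ * (t₂ * z₂)⁻¹
          = t₁ * (z₁ * t₂) * z₂ * z₁⁻¹ * t₁⁻¹ * z₂⁻¹ * t₂⁻¹ := by group
        _ = t₁ * t₂ * (z₁ * z₂) * z₁⁻¹ * t₁⁻¹ * z₂⁻¹ * t₂⁻¹ := by rw [← h1]; group
        _ = t₁ * t₂ * (z₂ * t₁⁻¹) * z₂⁻¹ * t₂⁻¹ := by rw [h3]; group
        _ = t₁ * t₂ * (t₁⁻¹ * z₂) * z₂⁻¹ * t₂⁻¹ := by rw [(e2 t₁⁻¹ (R.inv_mem (hTR ht₁))).eq]
        _ = _ := by group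
    rw [e3]
    exact T.mul_mem (T.mul_mem (T.mul_mem ht₁ ht₂) (T.inv_mem ht₁)) (T.inv_mem ht₂)
  have hfoc : ∀ (P : Subgroup Ω) (f : Ω → Ω), IsMap D P f → ∀ x ∈ P, x⁻¹ * f x ∈ T :=
    fun P f hf x hx => hfocT (mem_focal_of_isMap hf hx)
  -- the Thompson subgroup
  have hJR : thompsonSubgroupAOf R ≤ R := Subgroup.map_subtype_le _
  have hJn : R ≤ Subgroup.normalizer ((thompsonSubgroupAOf R : Subgroup Ω) : Set Ω) := fun s hs =>
    Cfsg.Agent.ZJ.normalizer_le_normalizer_rel Cfsg.Agent.ZJ.isNat_thompsonA R (Subgroup.le_normalizer hs)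
  have hcJ : c ∈ thompsonSubgroupAOf R := by
    have h1 : (⟨c, hcR⟩ : R) ∈ Subgroup.center R := Subgroup.mem_center_iff.2 fun g => Subtype.ext (hcc g g.2)
    exact ⟨⟨c, hcR⟩, H87.center_le_thompsonA h1, rfl⟩
  obtain ⟨N, hN⟩ := exists_isNormalizerSystem D hJR
  obtain ⟨m, hmT, hz⟩ := exists_central_coset hpR k1 hfoc hJR hJn hcJ hcc hN
  rw [H87.center_thompson_eq hpR k1 hN (Or.inl hp2)] at hz
  -- `E` centralizes `c m`
  have hcen := isCentral_iff_isMap.1 (Join.isCentral_center D)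
  have hY : Subgroup.zpowers (c * m) ≤ cenE E F p := by
    have hYD : Subgroup.zpowers (c * m) ≤ D.center := Subgroup.zpowers_le.2 hz
    refine le_cenE hS hE ?_ fun P f hf => ?_
    · refine Subgroup.zpowers_le.2 (mem_centralizerIn.2 ⟨S.mul_mem hcS (hT.1 hmT), fun x hx => ?_⟩)
      obtain ⟨g, -, hgf, hgz⟩ := hcen.2 R _ (isMap_conj le_rfl (hTR hx))
      have h1 : g (c * m) = x * (c * m) * x⁻¹ := hgf _ (hcen.1 hz)
      rw [hgz _ hz] at h1
      exact (eq_mul_inv_iff_mul_eq.mp h1).symm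
    · obtain ⟨g, hg, hgf, hgz⟩ := hcen.2 P f (isSubsystemOf_iff.1 hED _ _ hf)
      exact ⟨g, isSubsystemOf_iff.1 hDF _ _ (hg.mono (sup_le_sup_left hYD P)), hgf, fun x hx => hgz x (hYD hx)⟩
  have h2 : c * m ∈ T := hCT (hY (Subgroup.mem_zpowers _))
  have e : c = c * m * m⁻¹ := by group
  rw [e]
  exact T.mul_mem h2 (T.inv_mem hmT)

end Cfsg.Agent.Fus
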