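import Cfsg.Agent.Fus.PSolvModel
import Cfsg.Agent.Transfer.NPC
set_option autoImplicit false
set_option linter.all false

/-!
# `p`-solvable groups: extensions (helper86)
-/

namespace Cfsg.Agent.Fus.PSol

open Cfsg Subgroup

universe u

theorem isPSolvable_of_pchain {G : Type*} [Group G] {p : ℕ} {N : Subgroup G} [hN : N.Normal]
    (hc : H69.PChain p N) (h : IsPSolvable p (G ⧸ N)) : IsPSolvable p G := by
  obtain ⟨n, H, h0, hn, hmono, hnorm, hfac⟩ := h
  have hs : Function.Surjective (QuotientGroup.mk' N) := QuotientGroup.mk'_surjective N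
  have h1 : ∀ i : Fin (n + 1), H69.PChain p ((H i).comap (QuotientGroup.mk' N)) := by
    intro i
    induction i using Fin.induction with
    | zero =>
      rw [h0]
      have h2 : (⊥ : Subgroup (G ⧸ N)).comap (QuotientGroup.mk' N) = N := by
        rw [MonoidHom.comap_bot, QuotientGroup.ker_mk']
      rw [h2]
      exact hc
    | succ i ih =>
      haveI := hnorm i.succ
      refine ih.step (Subgroup.comap_mono (hmono (Fin.castSucc_lt_succ).le)) inferInstance ?_
      have h2 : ((H i.castSucc).comap (QuotientGroup.mk' N)).relIndex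
          ((H i.succ).comap (QuotientGroup.mk' N)) = (H i.castSucc).relIndex (H i.succ) := by
        rw [Subgroup.relIndex_comap, Subgroup.map_comap_eq_self_of_surjective hs]
      rw [h2]
      exact hfac i
  have h2 := h1 (Fin.last n)
  rw [hn, Subgroup.comap_top] at h2
  exact h2

/-- a nontrivial `p`-solvable group has a nontrivial `p`-core or `p'`-core -/
theorem core_ne_bot {N : Type*} [Group N] [Finite N] [Nontrivial N] {p : ℕ} [hp : Fact p.Prime]
    (h : IsPSolvable p N) : pCore p N ≠ ⊥ ∨ pPrimeCore p N ≠ ⊥ := by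
  obtain ⟨n, H, h0, hn, hmono, hnorm, hfac⟩ := h
  by_contra hcon
  push Not at hcon
  obtain ⟨h1, h2⟩ := hcon
  have key : ∀ i : Fin (n + 1), H i = ⊥ := by
    intro i
    induction i using Fin.induction with
    | zero => exact h0
    | succ i ih =>
      rcases hfac i with ⟨m, hm⟩ | hm
      · rw [ih, Subgroup.relIndex_bot_left] at hm
        have h3 : H i.succ ≤ pCore p N := Cfsg.Agent.Fus.le_pCore (hnorm _) (IsPGroup.of_card hm)
        rw [h1] at h3
        exact le_bot_iff.1 h3
      · rw [ih, Subgroup.relIndex_bot_left] at hm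
        have h3 : H i.succ ≤ pPrimeCore p N := Solv.le_pPrimeCore (hnorm _) hm
        rw [h2] at h3
        exact le_bot_iff.1 h3
  have h3 := key (Fin.last n)
  rw [hn] at h3
  exact top_ne_bot h3

theorem isPSolvable_ext {p : ℕ} [hp : Fact p.Prime] (n : ℕ) : ∀ {G : Type u} [Group G] [Finite G]
    (N : Subgroup G) [N.Normal], Nat.card N = n → IsPSolvable p N → IsPSolvable p (G ⧸ N) → IsPSolvable p G := by
  induction n using Nat.strong_induction_on with
  | _ n ih =>
    intro G _ _ N hN hc h1 h2
    by_cases hb : N = ⊥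
    · refine isPSolvable_of_pchain (N := N) ?_ h2
      rw [hb]; exact H69.PChain.bot p
    have hnt : Nontrivial N := (Subgroup.nontrivial_iff_ne_bot N).2 hb
    -- a characteristic subgroup
    obtain ⟨V, hV, hVb, hVc⟩ : ∃ V : Subgroup N, V.Characteristic ∧ V ≠ ⊥ ∧
        ((∃ m, Nat.card V = p ^ m) ∨ (Nat.card V).Coprime p) := by
      rcases core_ne_bot h1 with h | h
      · exact ⟨pCore p N, inferInstance, h, Or.inl (IsPGroup.iff_card.1 (Solv.pCore_isPGroup p))⟩
      · exact ⟨pPrimeCore p N, inferInstance, h, Or.inr (Solv.pPrimeCore_card_coprime p)⟩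
    have hVn : (V.map N.subtype).Normal := inferInstance
    have hVcard : Nat.card (V.map N.subtype) = Nat.card V :=
      Subgroup.card_map_of_injective N.subtype_injective
    have hVN : V.map N.subtype ≤ N := Subgroup.map_subtype_le V
    refine isPSolvable_of_normal (V.map N.subtype) (by rw [hVcard]; exact hVc) ?_
    set W := V.map N.subtype with hW
    have hNn : (N.map (QuotientGroup.mk' W)).Normal := hN.map _ (QuotientGroup.mk'_surjective W)
    have hlt : Nat.card (N.map (QuotientGroup.mk' W)) < n := by
      have h3 := Subgroup.relIndex_ker N (QuotientGroup.mk' W)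
      rw [QuotientGroup.ker_mk'] at h3
      have h4 := Subgroup.relIndex_mul_relIndex ⊥ W N bot_le hVN
      rw [Subgroup.relIndex_bot_left, Subgroup.relIndex_bot_left, hc, h3, hVcard] at h4
      have h5 : 1 < Nat.card V := by
        rw [Finite.one_lt_card_iff_nontrivial, Subgroup.nontrivial_iff_ne_bot]
        exact hVb
      have h6 : 0 < Nat.card (N.map (QuotientGroup.mk' W)) := Nat.card_pos
      rw [← h4]
      exact lt_mul_of_one_lt_left h6 h5
    refine ih _ hlt (N.map (QuotientGroup.mk' W)) rfl ?_ ?_
    · exact H76.isPSolvable_of_surjective ((QuotientGroup.mk' W).subgroupMap N)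
        ((QuotientGroup.mk' W).subgroupMap_surjective N) h1
    · let e := QuotientGroup.quotientQuotientEquivQuotient W N hVN
      exact H76.isPSolvable_of_injective e.toMonoidHom e.injective h2

theorem isPSolvable_of_coprime {G : Type*} [Group G] {p : ℕ} (h : (Nat.card G).Coprime p) : IsPSolvable p G := by
  refine (H69.PChain.bot p).step (M := ⊤) bot_le inferInstance (Or.inr ?_)
  rwa [Subgroup.relIndex_bot_left, Subgroup.card_top]

theorem isPSolvable_of_pgroup {G : Type*} [Group G] {p m : ℕ} (h : Nat.card G = p ^ m) : IsPSolvable p G := by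
  refine (H69.PChain.bot p).step (M := ⊤) bot_le inferInstance (Or.inl ⟨m, ?_⟩)
  rwa [Subgroup.relIndex_bot_left, Subgroup.card_top]

/-- the order of an element modulo a normal subgroup of coprime index -/
theorem mem_of_coprime_index {G : Type*} [Group G] (N : Subgroup G) [N.Normal] {g : G}
    (h : (orderOf g).Coprime N.index) : g ∈ N := by
  have h1 : orderOf (QuotientGroup.mk g : G ⧸ N) ∣ orderOf g := orderOf_map_dvd (QuotientGroup.mk' N) g
  have h2 : orderOf (QuotientGroup.mk g : G ⧸ N) ∣ N.index := by
    rw [Subgroup.index_eq_card]; exact orderOf_dvd_natCard _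
  have h3 := Nat.eq_one_of_dvd_coprimes h h1 h2
  rwa [orderOf_eq_one_iff, QuotientGroup.eq_one_iff] at h3

/-- a `p`-solvable group equal to its `p`-residual and generated by `p`-elements is trivial -/
theorem subsingleton_of_residuals {G : Type*} [Group G] {p : ℕ} [hp : Fact p.Prime] (h : IsPSolvable p G)
    (h1 : pResidual p G = ⊤) {M : Subgroup G} (hM : M = ⊤)
    (hM' : M ≤ Subgroup.closure {g : G | ∃ k, orderOf g = p ^ k}) : Subsingleton G := by
  obtain ⟨n, H, h0, hn, hmono, hnorm, hfac⟩ := h
  have key : ∀ i : Fin (n + 1), H i = ⊤ := by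
    intro i
    induction i using Fin.reverseInduction with
    | last => exact hn
    | cast i ih =>
      have hN := hnorm i.castSucc
      rcases hfac i with ⟨m, hm⟩ | hm
      · rw [ih, Subgroup.relIndex_top_right] at hm
        rw [eq_top_iff, ← h1]
        refine (Subgroup.closure_le _).2 fun g hg => mem_of_coprime_index _ ?_
        rw [hm]
        exact Nat.Coprime.pow_right _ hg
      · rw [ih, Subgroup.relIndex_top_right] at hm
        rw [eq_top_iff, ← hM]
        refine hM'.trans ((Subgroup.closure_le _).2 ?_)
        rintro g ⟨k, hk⟩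
        refine mem_of_coprime_index _ ?_
        rw [hk]
        exact (Nat.Coprime.pow_right _ hm).symm
  have h3 := key 0
  rw [h0] at h3
  exact (Subgroup.subsingleton_iff).1 (subsingleton_of_bot_eq_top h3)

end Cfsg.Agent.Fus.PSol
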