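import Cfsg.Agent.Fus.PSol1
import Cfsg.Agent.Fus.Constrained
import Cfsg.Agent.Fus.Invar
import Cfsg.Agent.Fus.ModelNorm
set_option autoImplicit false
set_option linter.all false

/-!
# Fusion systems with `p`-solvable models (helper86)
-/

namespace Cfsg.Agent.Fus

open Cfsg Cfsg.FusionSystem Cfsg.Agent.H85 Subgroup
open scoped commutatorElement

universe u

section

variable {Ω : Type*} [Group Ω] {S T : Subgroup Ω} {F : FusionSystem S} {E : FusionSystem T} {p : ℕ}

/-- a subgroup all of whose characteristic subgroups are strongly closed is normal -/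
theorem isNormal_of_char [Finite S] [Fact p.Prime] (hS : IsPGroup p S) (hF : F.IsSaturated p) {Q : Subgroup Ω}
    (hQS : Q ≤ S) (h : ∀ A : Subgroup Ω, A ≤ Q → (A.subgroupOf Q).Characteristic → F.StronglyClosed A) :
    F.IsNormal Q := by
  have hfinQ := finite_of_le hQS
  have hQp := isPGroup_of_le hS hQS
  have hnil : Group.IsNilpotent Q := hQp.isNilpotent
  have hQsc : F.StronglyClosed Q := h Q le_rfl (by rw [Subgroup.subgroupOf_self]; infer_instance)
  refine isNormal_of_series hS hF (Group.nilpotencyClass Q)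
    (fun i => (Subgroup.upperCentralSeries Q i).map Q.subtype) ?_ ?_ ?_ ?_ hQsc
  · simp
  · simp only [Subgroup.upperCentralSeries_nilpotencyClass]
    rw [← MonoidHom.range_eq_map, Subgroup.range_subtype]
  · intro i j hij
    exact (Subgroup.map_mono (Subgroup.upperCentralSeries_mono Q hij))
  · intro i hi
    have hchar : ((Subgroup.upperCentralSeries Q (i + 1)).map Q.subtype).subgroupOf Q =
        Subgroup.upperCentralSeries Q (i + 1) := by
      rw [Subgroup.subgroupOf, Subgroup.comap_map_eq_self_of_injective Q.subtype_injective]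
    refine ⟨h _ (Subgroup.map_subtype_le _) ?_, ?_⟩
    · rw [hchar]; infer_instance
    · rw [Subgroup.commutator_le]
      rintro x hxQ y ⟨y', hy', rfl⟩
      have hc : ⁅x, (y' : Ω)⁆ = (((⟨x, hxQ⟩ : Q) * y' * (⟨x, hxQ⟩ : Q)⁻¹ * y'⁻¹ : Q) : Ω) := rfl
      refine ⟨(⟨x, hxQ⟩ : Q) * y' * (⟨x, hxQ⟩ : Q)⁻¹ * y'⁻¹, ?_, hc.symm⟩
      have h1 := (Subgroup.mem_upperCentralSeries_succ_iff (G := Q)).1 hy' ⟨x, hxQ⟩
      have h2 := (Subgroup.upperCentralSeries Q i).inv_mem h1
      rw [commutatorElement_inv] at h2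
      exact h2

/-- the intersection of a normal subgroup with a strongly closed one is normal -/
theorem isNormal_inf_sc [Finite S] {Q : Subgroup Ω} (hT : F.StronglyClosed T) (hQ : F.IsNormal Q) :
    F.IsNormal (T ⊓ Q) := by
  have hsc := sc_inf hT (sc_of_isNormal hQ)
  rw [isNormal_iff_isMap]
  refine ⟨inf_le_left.trans hT.1, fun P f hf => ?_⟩
  obtain ⟨g, hg, hgf, -⟩ := (isNormal_iff_isMap.1 hQ).2 P f hf
  have hg' := hg.mono (sup_le_sup_left (inf_le_right : T ⊓ Q ≤ Q) P)
  exact ⟨g, hg', hgf, sc_img_eq hsc hg' le_sup_right⟩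

/-- In a saturated subsystem over a strongly closed subgroup `T` of a constrained system with normal centric
subgroup `Q`, the subgroups `T ∩ Q` and `C_T(T ∩ Q)` are normal. -/
theorem sub_normals [Finite S] [Fact p.Prime] (hS : IsPGroup p S) {Q : Subgroup Ω} (hQ : F.IsNormal Q)
    (hQc : F.IsCentric Q) (hT : F.StronglyClosed T) (hE : E.IsSubsystemOf F) (hEs : E.IsSaturated p) :
    E.IsNormal (T ⊓ Q) ∧ E.IsNormal (centralizerIn T (T ⊓ Q)) := by
  have hfinT := finite_of_le hT.1
  have hTp := isPGroup_of_le hS hT.1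
  have hfinQ := finite_of_le hQ.1
  have hQp := isPGroup_of_le hS hQ.1
  have hQsc := sc_of_isNormal hQ
  have hCQ : centralizerIn S Q ≤ Q := hQc.2 Q (isConj_refl hQ.1)
  set R := T ⊓ Q with hR
  have hRF : F.IsNormal R := isNormal_inf_sc hT hQ
  have hRsc : E.StronglyClosed R := sc_of_subsystem hE (sc_inf hT hQsc) inf_le_left
  -- `R` is normal in `E`
  have hRn : E.IsNormal R := isNormal_of_char hTp hEs inf_le_left fun A hA hAc =>
    sc_of_subsystem hE (sc_of_isNormal (IsNormal.char hRF hA hAc)) (hA.trans inf_le_left)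
  refine ⟨hRn, ?_⟩
  -- `D = C_T(R)` is normal in `E`
  set D := centralizerIn T R with hD
  have hDsc : E.StronglyClosed D := sc_centralizerIn hRn
  set R₁ := T ⊓ centralizerIn S Q with hR₁
  have hR₁sc : E.StronglyClosed R₁ := sc_of_subsystem hE (sc_inf hT (sc_centralizerIn hQ)) inf_le_left
  have hR₁R : R₁ ≤ R := inf_le_inf_left _ hCQ
  have hTS := hT.1
  have hTn := sc_le_normalizer hT
  have hQn := sc_le_normalizer hQsc
  have hcomm : ∀ x ∈ D, ∀ q ∈ Q, x * q * x⁻¹ * q⁻¹ ∈ R ∧ ∀ r ∈ R, r * (x * q * x⁻¹ * q⁻¹) = (x * q * x⁻¹ * q⁻¹) * r := by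
    intro x hx q hq
    obtain ⟨hxT, hxR⟩ := mem_centralizerIn.1 hx
    have hqS := hQ.1 hq
    refine ⟨⟨?_, ?_⟩, fun r hr => ?_⟩
    · have e : x * q * x⁻¹ * q⁻¹ = x * (q * x⁻¹ * q⁻¹) := by group
      rw [e]
      exact T.mul_mem hxT ((Subgroup.mem_normalizer_iff.1 (hTn hqS) _).1 (T.inv_mem hxT))
    · exact Q.mul_mem ((Subgroup.mem_normalizer_iff.1 (hQn (hTS hxT)) _).1 hq) (Q.inv_mem hq)
    · -- `r` commutes with `x` and with `q x⁻¹ q⁻¹`
      have h1 := hxR r hr
      have hr' : q⁻¹ * r * q ∈ R := by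
        have hRn' : q⁻¹ ∈ Subgroup.normalizer (R : Set Ω) := by
          have := sc_le_normalizer (sc_inf hT hQsc) (S.inv_mem hqS)
          exact this
        have := (Subgroup.mem_normalizer_iff.1 hRn' r).1 hr
        simpa using this
      have h2 := hxR _ hr'
      have h3 : r * (q * x⁻¹ * q⁻¹) = (q * x⁻¹ * q⁻¹) * r := by
        have h4 : x⁻¹ * (q⁻¹ * r * q) = (q⁻¹ * r * q) * x⁻¹ := by
          calc x⁻¹ * (q⁻¹ * r * q) = x⁻¹ * ((q⁻¹ * r * q) * x) * x⁻¹ := by group
            _ = x⁻¹ * (x * (q⁻¹ * r * q)) * x⁻¹ := by rw [h2]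
            _ = _ := by group
        calc r * (q * x⁻¹ * q⁻¹) = q * ((q⁻¹ * r * q) * x⁻¹) * q⁻¹ := by group
          _ = q * (x⁻¹ * (q⁻¹ * r * q)) * q⁻¹ := by rw [h4]
          _ = _ := by group
      calc r * (x * q * x⁻¹ * q⁻¹) = (r * x) * (q * x⁻¹ * q⁻¹) := by group
        _ = x * (r * (q * x⁻¹ * q⁻¹)) := by rw [h1]; group
        _ = x * ((q * x⁻¹ * q⁻¹) * r) := by rw [h3]
        _ = _ := by group
  refine isNormal_of_series hTp hEs 2 (fun i => if i = 0 then ⊥ else if i = 1 then R₁ else D) (by simp)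
    (by simp) ?_ ?_ hDsc
  · intro i j hij
    simp only
    have hR₁D : R₁ ≤ D := by
      intro x hx
      rw [mem_centralizerIn]
      exact ⟨hx.1, fun y hy => (mem_centralizerIn.1 hx.2).2 y hy.2⟩
    split_ifs <;> first | exact le_rfl | exact bot_le | exact hR₁D | omega
  · intro i hi
    interval_cases i
    · refine ⟨by simpa using hR₁sc, ?_⟩
      simp only [zero_add, one_ne_zero, if_false, if_true]
      rw [Subgroup.commutator_le]
      intro x hx y hy
      rw [Subgroup.mem_bot, commutatorElement_eq_one_iff_mul_comm]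
      exact ((mem_centralizerIn.1 hx).2 y (hR₁R hy)).symm
    · refine ⟨by simpa using hDsc, ?_⟩
      simp only [Nat.reduceAdd, OfNat.ofNat_ne_zero, OfNat.ofNat_ne_one, if_false, one_ne_zero, if_true]
      rw [Subgroup.commutator_le]
      intro x hx y hy
      obtain ⟨hxT, hxR⟩ := mem_centralizerIn.1 hx
      obtain ⟨hyT, hyR⟩ := mem_centralizerIn.1 hy
      have hxy : ⁅x, y⁆ ∈ T := by
        rw [commutatorElement_def]
        exact T.mul_mem (T.mul_mem (T.mul_mem hxT hyT) (T.inv_mem hxT)) (T.inv_mem hyT)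
      have key : ∀ q ∈ Q, x * y * q * (x * y)⁻¹ = y * x * q * (y * x)⁻¹ := by
        intro q hq
        obtain ⟨ha, ha'⟩ := hcomm x hx q hq
        obtain ⟨hb, hb'⟩ := hcomm y hy q hq
        have hxq : x * q * x⁻¹ = (x * q * x⁻¹ * q⁻¹) * q := by group
        have hyq : y * q * y⁻¹ = (y * q * y⁻¹ * q⁻¹) * q := by group
        generalize x * q * x⁻¹ * q⁻¹ = a at ha ha' hxq
        generalize y * q * y⁻¹ * q⁻¹ = b at hb hb' hyq
        have hxb : x * b * x⁻¹ = b := by rw [← hxR b hb]; group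
        have hya : y * a * y⁻¹ = a := by rw [← hyR a ha]; group
        have h1 : x * y * q * (x * y)⁻¹ = b * (a * q) := by
          calc x * y * q * (x * y)⁻¹ = x * (y * q * y⁻¹) * x⁻¹ := by group
            _ = (x * b * x⁻¹) * (x * q * x⁻¹) := by rw [hyq]; group
            _ = _ := by rw [hxb, hxq]
        have h2 : y * x * q * (y * x)⁻¹ = a * (b * q) := by
          calc y * x * q * (y * x)⁻¹ = y * (x * q * x⁻¹) * y⁻¹ := by group
            _ = (y * a * y⁻¹) * (y * q * y⁻¹) := by rw [hxq]; group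
            _ = _ := by rw [hya, hyq]
        rw [h1, h2, ← mul_assoc, ← mul_assoc, ha' b hb]
      refine ⟨hxy, mem_centralizerIn.2 ⟨hTS hxy, fun q hq => ?_⟩⟩
      have hyx : (y * x)⁻¹ ∈ Subgroup.normalizer (Q : Set Ω) :=
        hQn (S.inv_mem (S.mul_mem (hTS hyT) (hTS hxT)))
      have h5 := (Subgroup.mem_normalizer_iff.1 hyx q).1 hq
      have h6 := key _ h5
      have h7 : ⁅x, y⁆ * q * ⁅x, y⁆⁻¹ = q := by
        calc ⁅x, y⁆ * q * ⁅x, y⁆⁻¹ = x * y * ((y * x)⁻¹ * q * (y * x)⁻¹⁻¹) * (x * y)⁻¹ := by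
              rw [commutatorElement_def]; group
          _ = y * x * ((y * x)⁻¹ * q * (y * x)⁻¹⁻¹) * (y * x)⁻¹ := h6
          _ = q := by group
      calc q * ⁅x, y⁆ = (⁅x, y⁆ * q * ⁅x, y⁆⁻¹) * ⁅x, y⁆ := by rw [h7]
        _ = _ := by group

/-- A characteristic subgroup is preserved by maps. -/
theorem char_mem_of_map {A R : Subgroup Ω} (hAR : A ≤ R) (hA : (A.subgroupOf R).Characteristic) {g : Ω → Ω}
    (hg : IsMap F R g) (himg : img R g = R) {x : Ω} (hx : x ∈ A) : g x ∈ A := by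
  have h1 := Subgroup.characteristic_iff_map_eq.mp hA (hg.aut himg)
  have h2 : hg.aut himg ⟨x, hAR hx⟩ ∈ A.subgroupOf R := by
    rw [← h1]; exact ⟨⟨x, hAR hx⟩, hx, rfl⟩
  exact h2

/-- The core of an invariant subsystem is stable under `Aut_F(T)`. -/
theorem img_core_of_strongInv [Finite T] (hSI : StrongInv E F) (hTS : T ≤ S) {α : MulAut T} (hα : α ∈ F.autGroup T) :
    img E.core (ofAut α) = E.core := by
  have hR := Join.isNormal_core E
  set R := E.core with hRdef
  have hRT : R ≤ T := hR.1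
  have hαm : IsMap F T (ofAut α) := isMap_ofAut hTS hα
  have hβm : IsMap F T (ofAut α⁻¹) := isMap_ofAut hTS ((F.autGroup T).inv_mem hα)
  have hαR : IsMap F R (ofAut α) := hαm.mono hRT
  have hn : E.IsNormal (img R (ofAut α)) := by
    rw [isNormal_iff_isMap]
    refine ⟨?_, fun P f hf => ?_⟩
    · intro y hy
      obtain ⟨x, hx, rfl⟩ := hαR.mem_img.1 hy
      exact ofAut_mem _ (hRT hx)
    · have hPT := hf.le
      obtain ⟨h, hh, hhx⟩ := hSI P T f (ofAut α⁻¹) hPT le_rfl hf (fun x hx => hf.mem hx) hβm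
      obtain ⟨k, hk, hkh, hkR⟩ := (isNormal_iff_isMap.1 hR).2 _ h hh
      obtain ⟨m, hm, hmx⟩ := hSI _ T k (ofAut α) hk.le le_rfl hk (fun x hx => hk.mem hx) hαm
      have hβP : IsMap F P (ofAut α⁻¹) := hβm.mono hPT
      have hle1 : P ≤ img (img P (ofAut α⁻¹) ⊔ R) (ofAut α) := by
        intro x hx
        refine (hαm.mono hk.le).mem_img.2 ⟨ofAut α⁻¹ x, (le_sup_left : img P _ ≤ _) (subset_img hx), ?_⟩
        exact ofAut_apply_inv α (hPT hx)
      have hle2 : img R (ofAut α) ≤ img (img P (ofAut α⁻¹) ⊔ R) (ofAut α) := by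
        intro y hy
        obtain ⟨x, hx, rfl⟩ := hαR.mem_img.1 hy
        exact subset_img ((le_sup_right : R ≤ _) hx)
      refine ⟨m, hm.mono (sup_le hle1 hle2), fun x hx => ?_, ?_⟩
      · have h1 := hmx (ofAut α⁻¹ x) ((le_sup_left : img P _ ≤ _) (subset_img hx))
        rw [ofAut_apply_inv α (hPT hx), hkh _ (subset_img hx), hhx x hx, ofAut_apply_inv α (hf.mem hx)] at h1
        exact h1
      · ext y
        rw [(hm.mono hle2).mem_img]
        constructor
        · rintro ⟨z, hz, rfl⟩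
          obtain ⟨x, hx, rfl⟩ := hαR.mem_img.1 hz
          rw [hmx x ((le_sup_right : R ≤ _) hx)]
          refine subset_img ?_
          rw [← hkR]
          exact subset_img hx
        · intro hy
          obtain ⟨x, hx, rfl⟩ := hαR.mem_img.1 hy
          rw [← hkR] at hx
          obtain ⟨z, hz, rfl⟩ := (hk.mono le_sup_right).mem_img.1 hx
          exact ⟨ofAut α z, subset_img hz, hmx z ((le_sup_right : R ≤ _) hz)⟩
  have hle := Join.le_core hn
  have : Finite R := finite_of_le hRT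
  exact Subgroup.eq_of_le_of_card_ge hle (by rw [hαR.card_img])

/-- The core of an invariant saturated subsystem is normal. -/
theorem isNormal_core_of_invariant [Finite S] [Fact p.Prime] (hS : IsPGroup p S) (hF : F.IsSaturated p)
    (h : E.IsInvariantIn F) : F.IsNormal E.core := by
  have hTS : T ≤ S := h.2.1.1
  have : Finite T := finite_of_le hTS
  have hR := Join.isNormal_core E
  have hRT : E.core ≤ T := hR.1
  refine isNormal_of_char hS hF (hRT.trans hTS) fun A hA hAc => ?_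
  have hAE : E.StronglyClosed A := sc_of_isNormal (IsNormal.char hR hA hAc)
  rw [stronglyClosed_iff]
  refine ⟨hA.trans (hRT.trans hTS), fun P f hf hP x hx => ?_⟩
  obtain ⟨α, hα, f₀, hf₀, h1⟩ := dec_of_invariant h (hP.trans (hA.trans hRT)) hf
  rw [h1 x hx]
  have h2 : f₀ x ∈ A := (stronglyClosed_iff.1 hAE).2 P f₀ hf₀ hP x hx
  exact char_mem_of_map hA hAc ((isMap_ofAut hTS hα).mono hRT)
    (img_core_of_strongInv (strongInv_of_invariant h) hTS hα) h2

end

end Cfsg.Agent.Fus
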