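import Cfsg.Agent.Fus.PSol2
import Cfsg.Agent.Fus.PExt2
import Cfsg.Agent.Fus.PPow6
import Cfsg.Agent.Fus.PPowGroup
import Cfsg.Agent.Fus.ExtZ
import Cfsg.Agent.Fus.Theta2
import Cfsg.Agent.Fus.Iso3
import Cfsg.Agent.Fus.HyperSC
set_option autoImplicit false
set_option linter.all false

/-!
# Fusion systems with `p`-solvable models, II (helper86)
-/

namespace Cfsg.Agent.Fus

open Cfsg Cfsg.FusionSystem Cfsg.Agent.H85 Subgroup
open scoped commutatorElement

universe u

section Onto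

variable {Ω : Type*} [Group Ω] {S T : Subgroup Ω} {F : FusionSystem S} {E : FusionSystem T} {p : ℕ}
  {G : Type*} [Group G] {ι : S →* G}

theorem exists_onto [Finite S] (hS : IsPGroup p S) (hM : F.IsModel p G ι) {R : Subgroup Ω} (hR : F.IsNormal R) :
    ∃ π : G →* F.autGroup R, Function.Surjective π ∧ ∀ g, g ∈ π.ker ↔ ∀ x ∈ R, jj ι x * g = g * jj ι x := by
  have hr := hM.2.1
  have hRS := hR.1
  obtain ⟨π, hπ⟩ := exists_actHom hr.1 hRS (fun g q hq => imj_normal hS hM hR g hq)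
  have hmem : ∀ g, π g ∈ F.autGroup R := by
    intro g
    rw [mem_autGroup_iff hRS, isMap_realized hr]
    exact ⟨hRS, fun q hq => hRS (ofAut_mem _ hq), g, fun q hq => hπ _ hq⟩
  refine ⟨π.codRestrict _ hmem, ?_, ?_⟩
  · rintro ⟨α, hα⟩
    have hα' := hα
    rw [mem_autGroup_iff hRS, isMap_realized hr] at hα'
    obtain ⟨-, -, g, hg⟩ := hα'
    refine ⟨g, Subtype.ext ?_⟩
    show π g = α
    refine ofAut_injective fun q hq => ?_
    apply jj_inj hr.1 (hRS (ofAut_mem _ hq)) (hRS (ofAut_mem _ hq))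
    rw [hπ _ hq, hg q hq]
  · intro g
    have h0 : g ∈ (π.codRestrict _ hmem).ker ↔ π g = 1 := by
      rw [MonoidHom.mem_ker]
      exact ⟨fun h => congrArg Subtype.val h, fun h => Subtype.ext h⟩
    rw [h0]
    constructor
    · intro h x hx
      have h4 := hπ g hx
      rw [h, ofAut_one hx] at h4
      conv_lhs => rw [h4]
      group
    · intro h
      refine ofAut_injective fun q hq => ?_
      apply jj_inj hr.1 (hRS (ofAut_mem _ hq)) (hRS (ofAut_mem _ hq))
      rw [hπ _ hq, ofAut_one hq, ← h q hq]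
      group

/-- the centralizer in a model of a normal subgroup -/
theorem model_pchain [Finite S] [Fact p.Prime] (hS : IsPGroup p S) (hM : F.IsModel p G ι) {R : Subgroup Ω}
    (hR : F.IsNormal R) (hC : F.IsNormal (centralizerIn S R)) (K : Subgroup G) (hK : K.Normal)
    (hKm : ∀ g, g ∈ K ↔ ∀ x ∈ R, jj ι x * g = g * jj ι x) : H69.PChain p K := by
  have := hM.1
  have hr := hM.2.1
  obtain ⟨P, hP⟩ := hM.2.2.1
  have hCS := hC.1
  have hCn : (imj ι (centralizerIn S R)).Normal := by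
    refine ⟨fun y hy g => ?_⟩
    obtain ⟨x, hx, rfl⟩ := (mem_imj hCS).1 hy
    obtain ⟨y', hy', h1⟩ := imj_normal hS hM hC g hx
    exact (mem_imj hCS).2 ⟨y', hy', h1⟩
  have hle : imj ι (centralizerIn S R) = (P : Subgroup G) ⊓ K := by
    ext y
    rw [mem_imj hCS, Subgroup.mem_inf, hKm, hP]
    constructor
    · rintro ⟨x, hx, rfl⟩
      obtain ⟨hxS, hxR⟩ := mem_centralizerIn.1 hx
      refine ⟨⟨⟨x, hxS⟩, (jj_apply hxS).symm⟩, fun r hr' => ?_⟩
      rw [← jj_mul (hR.1 hr') hxS, ← jj_mul hxS (hR.1 hr'), hxR r hr']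
    · rintro ⟨⟨s, rfl⟩, h⟩
      refine ⟨s, mem_centralizerIn.2 ⟨s.2, fun r hr' => ?_⟩, jj_coe s⟩
      have h1 := h r hr'
      rw [← jj_coe s, ← jj_mul (hR.1 hr') s.2, ← jj_mul s.2 (hR.1 hr')] at h1
      exact jj_inj hr.1 (S.mul_mem (hR.1 hr') s.2) (S.mul_mem s.2 (hR.1 hr')) h1
  have hsyl := sylIn_inf_normal P K hK
  rw [← hle] at hsyl
  refine ((H69.PChain.bot p).step (M := imj ι (centralizerIn S R)) bot_le hCn (Or.inl ?_)).step hsyl.1 hK
    (Or.inr ?_)
  · rw [Subgroup.relIndex_bot_left]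
    exact IsPGroup.iff_card.1 hsyl.2.1
  · exact ((Fact.out : p.Prime).coprime_iff_not_dvd.2 hsyl.2.2).symm

end Onto

section PSdef

variable {Ω : Type u} [Group Ω] {S T : Subgroup Ω} {F : FusionSystem S} {E : FusionSystem T} {p : ℕ}

/-- constrained with `p`-solvable models -/
def PS (F : FusionSystem S) (p : ℕ) : Prop :=
  F.IsConstrained p ∧ ∀ (G : Type u) [Group G] (ι : S →* G), F.IsModel p G ι → IsPSolvable p G

theorem PS.of_crit [Finite S] [Fact p.Prime] (hS : IsPGroup p S) (hF : F.IsSaturated p) {R : Subgroup Ω}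
    (hR : F.IsNormal R) (hC : F.IsNormal (centralizerIn S R)) (hA : IsPSolvable p (F.autGroup R)) : PS F p := by
  have hCR := Join.isNormal_sup hC hR
  refine ⟨⟨hF, _, hCR, isCentric_of_isNormal hCR ?_⟩, ?_⟩
  · intro x hx
    obtain ⟨hxT, hxc⟩ := mem_centralizerIn.1 hx
    exact Subgroup.mem_sup_left (mem_centralizerIn.2 ⟨hxT, fun y hy => hxc y (Subgroup.mem_sup_right hy)⟩)
  · intro G _ ι hM
    have := hM.1
    obtain ⟨π, hπ, hker⟩ := exists_onto hS hM hR
    refine PSol.isPSolvable_of_pchain (N := π.ker) (model_pchain hS hM hR hC π.ker inferInstance hker) ?_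
    let e : G ⧸ π.ker ≃* F.autGroup R := QuotientGroup.quotientKerEquivOfSurjective π hπ
    exact H76.isPSolvable_of_injective e.toMonoidHom e.injective hA

/-- `Aut_F(R)` is `p`-solvable for every normal `R`. -/
theorem PS.autGroup [Finite S] [Fact p.Prime] (hS : IsPGroup p S) (h : PS F p) {R : Subgroup Ω}
    (hR : F.IsNormal R) : IsPSolvable p (F.autGroup R) := by
  obtain ⟨G, hG, ι, hM⟩ := exists_model hS h.1
  obtain ⟨π, hπ, -⟩ := exists_onto hS hM hR
  exact H76.isPSolvable_of_surjective π hπ (h.2 G ι hM)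

theorem PS.sub [Finite S] [Fact p.Prime] (hS : IsPGroup p S) (h : PS F p) (hT : F.StronglyClosed T)
    (hE : E.IsSubsystemOf F) (hEs : E.IsSaturated p) : PS E p := by
  have hfT := finite_of_le hT.1
  have hTp := isPGroup_of_le hS hT.1
  obtain ⟨hFs, Q, hQ, hQc⟩ := h.1
  obtain ⟨h1, h2⟩ := sub_normals hS hQ hQc hT hE hEs
  have h3 := h.autGroup hS (isNormal_inf_sc hT hQ)
  refine PS.of_crit hTp hEs h1 h2 ?_
  have hle : E.autGroup (T ⊓ Q) ≤ F.autGroup (T ⊓ Q) := by
    intro α hα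
    rw [mem_autGroup_iff (inf_le_left.trans hT.1)]
    exact isSubsystemOf_iff.1 hE _ _ (isMap_ofAut inf_le_left hα)
  exact H76.isPSolvable_of_injective (Subgroup.inclusion hle) (Subgroup.inclusion_injective hle) h3

theorem core_centric_of_constrained [Finite S] (hF : F.IsConstrained p) : centralizerIn S F.core ≤ F.core := by
  obtain ⟨-, Q, hQ, hQc⟩ := hF
  have hQR : Q ≤ F.core := Join.le_core hQ
  have hCQ : centralizerIn S Q ≤ Q := hQc.2 Q (isConj_refl hQ.1)
  refine le_trans ?_ (hCQ.trans hQR)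
  intro x hx
  obtain ⟨hxT, hxc⟩ := mem_centralizerIn.1 hx
  exact mem_centralizerIn.2 ⟨hxT, fun y hy => hxc y (hQR hy)⟩

/-- the automorphisms of `P` in `F` which are trivial on `R` -/
def fixAut (F : FusionSystem S) (R P : Subgroup Ω) : Subgroup (MulAut P) where
  carrier := {α | α ∈ F.autGroup P ∧ ∀ x ∈ R, x ∈ P → ofAut α x = x}
  one_mem' := ⟨one_mem _, fun x _ hx => ofAut_one hx⟩
  mul_mem' := by
    rintro a b ⟨ha, ha'⟩ ⟨hb, hb'⟩
    refine ⟨mul_mem ha hb, fun x hx hxP => ?_⟩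
    rw [ofAut_mul _ _ hxP, hb' x hx hxP, ha' x hx hxP]
  inv_mem' := by
    rintro a ⟨ha, ha'⟩
    refine ⟨(F.autGroup P).inv_mem ha, fun x hx hxP => ?_⟩
    have h1 := ofAut_inv_apply a hxP
    rwa [ha' x hx hxP] at h1

theorem mem_fixAut {R P : Subgroup Ω} {α : MulAut P} :
    α ∈ fixAut F R P ↔ α ∈ F.autGroup P ∧ ∀ x ∈ R, x ∈ P → ofAut α x = x := Iff.rfl

/-- if `R` is normal, contained in `T = hyp(F)`, and `C_T(R) ≤ R`, then `C_S(R)` is normal -/
theorem isNormal_centralizerIn_of_hyper [Finite S] [Fact p.Prime] (hS : IsPGroup p S) (hF : F.IsSaturated p)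
    {R : Subgroup Ω} (hR : F.IsNormal R) (hRT : R ≤ F.hyperfocalSubgroup p)
    (hCT : centralizerIn (F.hyperfocalSubgroup p) R ≤ R) : F.IsNormal (centralizerIn S R) := by
  have hp : p.Prime := Fact.out
  have hRsc := sc_of_isNormal hR
  have hCsc := sc_centralizerIn hR
  have hTsc := hyper_stronglyClosed hS hF
  have hTS := hTsc.1
  set T := F.hyperfocalSubgroup p with hT
  -- `fixAut` is a `p`-group
  have hfix : ∀ P : Subgroup Ω, R ≤ P → P ≤ S → IsPGroup p (fixAut F R P) := by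
    intro P hRP hPS
    have hfP : Finite P := finite_of_le hPS
    have hfA := finite_mulAut (P := P)
    have key : ∀ κ ∈ fixAut F R P, (orderOf κ).Coprime p → κ = 1 := by
      rintro κ ⟨hκ, hκR⟩ hco
      have hκm := isMap_ofAut hPS hκ
      have hmod : ∀ x ∈ P, ofAut κ x * x⁻¹ ∈ P ⊓ T := by
        intro x hx
        refine ⟨P.mul_mem (ofAut_mem _ hx) (P.inv_mem hx), ?_⟩
        have h1 := mem_hyper_of_coprime hPS hκ hco hx
        have h2 := sc_conj_mem hTsc (hPS hx) h1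
        have e : x * (x⁻¹ * ofAut κ x) * x⁻¹ = ofAut κ x * x⁻¹ := by group
        rwa [e] at h2
      have hmod2 : ∀ y ∈ P ⊓ T, ofAut κ y * y⁻¹ ∈ R := by
        rintro y ⟨hy, hyT⟩
        apply hCT
        rw [mem_centralizerIn]
        refine ⟨T.mul_mem (sc_map_mem hTsc hκm hy hyT) (T.inv_mem hyT), fun r hr => ?_⟩
        have hyr : y⁻¹ * r * y ∈ R := by
          have := sc_conj_mem hRsc (S.inv_mem (hPS hy)) hr
          rwa [inv_inv] at this
        have h1 := hκR _ hyr (hRP hyr)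
        rw [ofAut_map_mul κ (P.mul_mem (P.inv_mem hy) (hRP hr)) hy, ofAut_map_mul κ (P.inv_mem hy) (hRP hr),
          ofAut_map_inv' κ hy, hκR r hr (hRP hr)] at h1
        calc r * (ofAut κ y * y⁻¹) = ofAut κ y * ((ofAut κ y)⁻¹ * r * ofAut κ y) * y⁻¹ := by group
          _ = ofAut κ y * (y⁻¹ * r * y) * y⁻¹ := by rw [h1]
          _ = ofAut κ y * y⁻¹ * r := by group
      have hpT : P ⊓ T ≤ P := inf_le_left
      have hN : ∀ x ∈ R, x ^ Nat.card S = 1 := fun x hx => pow_card_eq_one_of_mem (hR.1 hx)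
      have hN' : ∀ x ∈ P ⊓ T, x ^ Nat.card S = 1 := fun x hx => pow_card_eq_one_of_mem (hPS hx.1)
      have s1 := stab_step hRP hpT (fun x hx => hκR x hx (hRP hx)) hmod2 hN
      have s2 := stab_pow hpT (le_refl P) (fun x hx => ⟨ofAut_mem _ hx.1, sc_map_mem hTsc hκm hx.1 hx.2⟩) hmod
        (Nat.card S)
      have s3 := stab_step hpT (le_refl P) s1 s2 hN'
      have h1 : (κ ^ Nat.card S) ^ Nat.card S = 1 := ofAut_injective fun x hx => by
        rw [s3 x hx, ofAut_one hx]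
      obtain ⟨n, hn⟩ := IsPGroup.iff_card.1 hS
      rw [hn, ← pow_mul, ← pow_add] at h1
      have h2 := orderOf_dvd_of_pow_eq_one h1
      exact orderOf_eq_one_iff.1 (Nat.Coprime.eq_one_of_dvd (hco.pow_right _) h2)
    refine isPGroup_of_exists_pow fun κ hκ => ?_
    obtain ⟨a, b, hab, ⟨k, hk⟩, hb⟩ := Cfsg.Agent.Transfer.exists_pow_decomp p κ (orderOf_pos κ).ne'
    have h1 := key (κ ^ b) ((fixAut F R P).pow_mem hκ b) hb
    refine ⟨k, ?_⟩
    rw [h1, mul_one] at hab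
    rw [hab, ← hk, pow_orderOf_eq_one]
  rw [isNormal_iff_isMap]
  refine ⟨centralizerIn_le R, fun P f hf => ?_⟩
  obtain ⟨g, hg, hgf, hgR⟩ := (isNormal_iff_isMap.1 hR).2 P f hf
  obtain ⟨k, hk, hkg⟩ := exists_extend_family hS hF hCsc (C := fun P => R ≤ P)
    (fun P P' h h' _ => h.trans h')
    (fun P Q h hc => by
      obtain ⟨f, hf, rfl⟩ := isConj_iff.1 hc
      have h1 := sc_img_eq hRsc hf h
      rw [← h1]
      exact img_mono h)
    (fixAut F R) (fun P _ _ α hα => hα.1)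
    (fun {P Q f} hf himg hRP κ hκ => by
      refine ⟨hf.trans_mem himg hκ.1, fun y hy hyQ => ?_⟩
      rw [← himg, hf.mem_img] at hyQ
      obtain ⟨x, hx, rfl⟩ := hyQ
      rw [hf.ofAut_trans himg κ hx, hκ.2 x ((sc_map_mem_iff hRsc hf hx).1 hy) hx])
    (fun P hRP hPS r hr hn => by
      refine ⟨conjAut_mem_autGroup hPS (centralizerIn_le R hr) hn, fun x hx hxP => ?_⟩
      rw [ofAut_conjAut r hn hxP, ← (mem_centralizerIn.1 hr).2 x hx, mul_inv_cancel_right])
    hfix (P := P ⊔ R) (f := g) le_sup_right hg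
  have hle : P ⊔ centralizerIn S R ≤ P ⊔ R ⊔ centralizerIn S R := sup_le_sup_right le_sup_left _
  refine ⟨k, hk.mono hle, fun x hx => ?_, sc_img_eq hCsc hk le_sup_right⟩
  rw [hkg x (le_sup_left (a := P) hx), hgf x hx]

end PSdef

end Cfsg.Agent.Fus
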