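import Cfsg.Agent.Fus.PSol4
set_option autoImplicit false
set_option linter.all false

/-!
# Fusion systems with `p`-solvable models, IV (helper86)
-/

namespace Cfsg.Agent.Fus

open Cfsg Cfsg.FusionSystem Cfsg.Agent.H85 Subgroup
open scoped commutatorElement

universe u

section Pull

variable {Ω : Type*} [Group Ω] {S : Subgroup Ω} {F : FusionSystem S} {p : ℕ} {G : Type*} [Group G] {ι : S →* G}

/-- pulling back the fusion system of a subgroup along an injective homomorphism -/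
theorem exists_pull [Finite S] [Finite G] [Fact p.Prime] (hι : Function.Injective ι) (M : Subgroup G)
    (hsyl : SylIn p ι.range M) : ∃ E' : FusionSystem S, E'.IsSaturated p ∧ ∀ (P : Subgroup Ω) (f : Ω → Ω),
      IsMap E' P f ↔ P ≤ S ∧ (∀ x ∈ P, f x ∈ S) ∧ ∃ g ∈ M, ∀ x ∈ P, jj ι (f x) = g * jj ι x * g⁻¹ := by
  have hE1 := fsos_saturated (hTH := hsyl.1) hsyl
  obtain ⟨i, hi⟩ : ∃ i, i = SIso.ofHom ι hι := ⟨_, rfl⟩
  have him : i.symm.im ι.range = S := i.symm.im_self
  obtain ⟨E', hE'⟩ : ∃ E' : FusionSystem S, Tr i.symm (fusionSystemOfSubgroup M ι.range hsyl.1) E' := by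
    have h1 := exists_tr i.symm (fusionSystemOfSubgroup M ι.range hsyl.1) le_rfl
    rw [him] at h1
    exact h1
  have hθ : ∀ x ∈ S, i.θ x = jj ι x := by
    intro x hx
    rw [hi, SIso.ofHom_θ, jj_apply hx]
    exact ext_apply ι hx
  refine ⟨E', hE'.isSaturated hE1, fun P f => ?_⟩
  constructor
  · intro hf
    have hPS := hf.le
    refine ⟨hPS, fun x hx => hf.mem hx, ?_⟩
    obtain ⟨-, -, g, hg, hgr⟩ := isMap_fsos.1 ((hE'.symm.isMap_iff P f hPS fun x hx => hf.mem hx).1 hf)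
    refine ⟨g, hg, fun x hx => ?_⟩
    have h1 := hgr (i.θ x) ((i.θ_mem_im (hPS hx)).2 hx)
    have h2 : i.symm.symm.tr f (i.θ x) = i.θ (f x) := i.tr_θ (hPS hx)
    rw [h2, hθ _ (hf.mem hx), hθ _ (hPS hx)] at h1
    exact h1
  · rintro ⟨hPS, hfS, g, hg, hgr⟩
    refine (hE'.symm.isMap_iff P f hPS hfS).2 (isMap_fsos.2 ⟨i.im_le P, ?_, g, hg, ?_⟩)
    · intro y hy
      obtain ⟨x, hx, rfl⟩ := (i.mem_im_iff_exists hPS).1 hy
      have h2 : i.symm.symm.tr f (i.θ x) = i.θ (f x) := i.tr_θ (hPS hx)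
      rw [h2]
      exact i.θ_mem (hfS x hx)
    · intro y hy
      obtain ⟨x, hx, rfl⟩ := (i.mem_im_iff_exists hPS).1 hy
      have h2 : i.symm.symm.tr f (i.θ x) = i.θ (f x) := i.tr_θ (hPS hx)
      rw [h2, hθ _ (hfS x hx), hθ _ (hPS hx)]
      exact hgr x hx

end Pull

variable {Ω : Type u} [Group Ω] {S T : Subgroup Ω} {F : FusionSystem S} {E : FusionSystem T} {p : ℕ}

theorem eq_bot_of_residuals [Finite S] [hp : Fact p.Prime] (hS : IsPGroup p S) (hF : F.IsSaturated p) (h : PS F p)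
    (h1 : F.hyperfocalSubgroup p = S)
    (h2 : ∀ E' : FusionSystem S, E'.IsSaturated p → E'.HasPrimeToPIndexIn F p → F ≤ E') : S = ⊥ := by
  obtain ⟨G, hG, ι, hM⟩ := exists_model hS h.1
  have := hM.1
  have hr := hM.2.1
  obtain ⟨P, hP⟩ := hM.2.2.1
  have hsol := h.2 G ι hM
  -- the `p`-residual
  have hle : (P : Subgroup G) ≤ pResidual p G := by
    rw [hP]
    rintro _ ⟨s, rfl⟩
    rw [← jj_coe s]
    exact jj_hyper_mem hr (by rw [h1]; exact s.2)
  have hres : pResidual p G = ⊤ := by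
    have h3 := coprime_index_of_sylow_le P hle
    obtain ⟨m, hm⟩ := IsPGroup.iff_card.1 (Cfsg.Agent.Transfer.isPGroup_quotient_of_pResidual_le (p := p)
      (N := pResidual p G) le_rfl)
    have hm' : (pResidual p G).index = p ^ m := hm
    rw [← Subgroup.index_eq_one]
    rw [hm'] at h3 ⊢
    exact Nat.Coprime.eq_one_of_dvd (h3.pow_right m) dvd_rfl
  -- the subgroup generated by the `p`-elements
  have hPM : (P : Subgroup G) ≤ pClos p G := sylow_le_pClos P.isPGroup'
  have hsyl : SylIn p ι.range (pClos p G) := by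
    rw [← hP]
    refine ⟨hPM, P.isPGroup', fun h3 => P.not_dvd_index (h3.trans ?_)⟩
    exact Dvd.intro _ (Subgroup.relIndex_mul_index hPM)
  obtain ⟨E', hE's, hE'm⟩ := exists_pull (p := p) hr.1 (pClos p G) hsyl
  have hE'F : E' ≤ F := by
    rw [le_iff]
    intro Q f hf
    obtain ⟨a, b, g, -, hg⟩ := (hE'm Q f).1 hf
    exact (isMap_realized hr).2 ⟨a, b, g, hg⟩
  have hidx : E'.HasPrimeToPIndexIn F p := by
    rw [hasPrimeToPIndexIn_iff]
    refine ⟨hE'F, fun Q hQ α hα k hk => ?_⟩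
    obtain ⟨g, ⟨j, hj⟩, hg⟩ := exists_rel_ppow hr hQ hα hk
    rw [mem_autGroup_iff hQ, hE'm]
    exact ⟨hQ, fun x hx => hQ (ofAut_mem _ hx), g, subset_closure ⟨j, hj⟩, hg⟩
  have hFE := h2 E' hE's hidx
  have hMtop : pClos p G = ⊤ := by
    rw [Subgroup.eq_top_iff']
    intro g
    have hex : ∀ x ∈ coreOf p ι, ∃ y ∈ coreOf p ι, jj ι y = g * jj ι x * g⁻¹ := fun x hx =>
      pCore_exists hM (pCore_conj_mem (mem_coreOf.mp hx).2 g)
    choose! a ha haj using hex
    have haM : IsMap F (coreOf p ι) a :=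
      (isMap_realized hr).mpr ⟨coreOf_le, fun x hx => coreOf_le (ha x hx), g, haj⟩
    obtain ⟨-, -, m, hm, hmj⟩ := (hE'm _ _).1 (le_iff.1 hFE _ _ haM)
    obtain ⟨s, hs, hsg⟩ := mem_coreOf_of_centralizes hM (c := m⁻¹ * g) (fun x hx => by
      have h4 : m * jj ι x * m⁻¹ = g * jj ι x * g⁻¹ := by rw [← haj x hx, ← hmj x hx]
      calc jj ι x * (m⁻¹ * g) = m⁻¹ * (m * jj ι x * m⁻¹) * g := by group
        _ = m⁻¹ * (g * jj ι x * g⁻¹) * g := by rw [h4]
        _ = m⁻¹ * g * jj ι x := by group)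
    have h5 : m⁻¹ * g ∈ pClos p G := by
      apply hPM
      rw [hP, ← hsg]
      exact ⟨⟨s, coreOf_le hs⟩, (jj_apply _).symm⟩
    have h6 := (pClos p G).mul_mem hm h5
    rwa [mul_inv_cancel_left] at h6
  have hsub : Subsingleton G := PSol.subsingleton_of_residuals hsol hres hMtop le_rfl
  rw [eq_bot_iff]
  intro s hs
  have h7 : ι ⟨s, hs⟩ = ι 1 := Subsingleton.elim _ _
  have h8 := hr.1 h7
  rw [Subgroup.mem_bot]
  exact congrArg Subtype.val h8

theorem ps_bot [Finite S] [hp : Fact p.Prime] (hS : IsPGroup p S) (hF : F.IsSaturated p) (hb : S = ⊥) : PS F p := by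
  have h1 := Join.isNormal_bot F
  have h2 : centralizerIn S (⊥ : Subgroup Ω) = ⊥ := by
    rw [eq_bot_iff, ← hb]; exact centralizerIn_le _
  refine PS.of_crit hS hF h1 (by rw [h2]; exact h1) ?_
  have hs : Subsingleton (MulAut (⊥ : Subgroup Ω)) := by
    refine ⟨fun α β => ?_⟩
    ext x
    exact congrArg Subtype.val (Subsingleton.elim (α x) (β x))
  have hs' : Subsingleton (F.autGroup (⊥ : Subgroup Ω)) := inferInstance
  exact PSol.isPSolvable_of_coprime (by rw [Nat.card_eq_one_iff_unique.2 ⟨inferInstance, inferInstance⟩]; exact Nat.coprime_one_left _)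

theorem ps_of_series (h : F.HasTerminatingResidualSeries p) : Fact p.Prime → Finite S → IsPGroup p S →
    F.IsSaturated p → PS F p := by
  induction h with
  | trivial F p hb =>
    intro hp hfin hS hF
    exact ps_bot hS hF hb
  | step F E p D hE hD _ ih =>
    intro hp hfin hS hF
    have hEs := hE.1
    have hTsc := hyper_stronglyClosed hS hEs
    have h1 : PS D p := ih hp (finite_of_le hTsc.1) (isPGroup_of_le hS hTsc.1) hD.1
    have h2 : PS E p := PS.of_ppower hS hEs D hD h1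
    rw [isPPrimeResidual_iff hS hF] at hE
    rw [hE] at h2
    exact PS.of_pprime hS hF h2

theorem series_of_ps [hp : Fact p.Prime] (n : ℕ) : ∀ {S : Subgroup Ω} {F : FusionSystem S} [Finite S],
    Nat.card S = n → IsPGroup p S → F.IsSaturated p → PS F p → F.HasTerminatingResidualSeries p := by
  induction n using Nat.strong_induction_on with
  | _ n ih =>
    intro S F hfin hn hS hF h
    set E := pPrimeRes F p with hE
    have hEs : E.IsSaturated p := pPrimeRes_saturated hS hF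
    have hEr := isPPrimeResidual_pPrimeRes hS hF
    have hPE : PS E p := h.sub hS (stronglyClosed_self F) pPrimeRes_le hEs
    have hTsc := hyper_stronglyClosed hS hEs
    have hfT : Finite (E.hyperfocalSubgroup p) := finite_of_le hTsc.1
    obtain ⟨D, hDs, hDle, hDco⟩ := exists_ppower (Nat.card S) rfl hS hEs hTsc.1 le_rfl
    have hDres : E.IsPResidual p D := ⟨hDs, hasPPowerIndexIn_iff.2 ⟨hDle, le_rfl, hDco⟩⟩
    have hPD : PS D p := hPE.sub hS hTsc hDle hDs
    by_cases hT : E.hyperfocalSubgroup p = S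
    · refine HasTerminatingResidualSeries.trivial F p (eq_bot_of_residuals hS hEs hPE hT fun E' hE' hi => ?_)
      refine pPrimeRes_min hS hF hE' ?_
      rw [hasPrimeToPIndexIn_iff] at hi ⊢
      have hi2 := hasPrimeToPIndexIn_iff.1 (pPrimeRes_index hS hF)
      exact ⟨fusLe_trans hi.1 hi2.1, fun P hP α hα k hk => hi.2 P hP α (hi2.2 P hP α hα k hk) k hk⟩
    · refine HasTerminatingResidualSeries.step F E p D hEr hDres ?_
      refine ih (Nat.card (E.hyperfocalSubgroup p)) ?_ rfl (isPGroup_of_le hS hTsc.1) hDs hPD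
      rw [← hn]
      exact lt_of_le_of_ne (Subgroup.card_le_of_le hTsc.1) fun h3 =>
        hT (Subgroup.eq_of_le_of_card_ge hTsc.1 h3.ge)

end Cfsg.Agent.Fus
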