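import Cfsg.Agent.H69.PChain
import Cfsg.Agent.H76.PSolvable
import Cfsg.Agent.Fus.ModelUnique
import Cfsg.Agent.Fus.MinRealizer
import Cfsg.Agent.Fus.Join
set_option autoImplicit false
set_option linter.all false

/-!
# `p`-solvable models of constrained fusion systems (helper86)
-/

namespace Cfsg.Agent.Fus

open Cfsg Subgroup

/-- Extension of a `p`- or `p'`-group by a `p`-solvable group. -/
theorem isPSolvable_of_normal {G : Type*} [Group G] {p : ℕ} (N : Subgroup G) [hN : N.Normal]
    (hc : (∃ m, Nat.card N = p ^ m) ∨ (Nat.card N).Coprime p) (h : IsPSolvable p (G ⧸ N)) : IsPSolvable p G := by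
  obtain ⟨n, H, h0, hn, hmono, hnorm, hfac⟩ := h
  have hs : Function.Surjective (QuotientGroup.mk' N) := QuotientGroup.mk'_surjective N
  have h1 : ∀ i : Fin (n + 1), H69.PChain p ((H i).comap (QuotientGroup.mk' N)) := by
    intro i
    induction i using Fin.induction with
    | zero =>
      rw [h0]
      have h2 : (⊥ : Subgroup (G ⧸ N)).comap (QuotientGroup.mk' N) = N := by
        rw [MonoidHom.comap_bot, QuotientGroup.ker_mk']
      rw [h2]
      refine (H69.PChain.bot p).step bot_le hN ?_
      rwa [Subgroup.relIndex_bot_left]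
    | succ i ih =>
      haveI := hnorm i.succ
      refine ih.step (Subgroup.comap_mono (hmono (Fin.castSucc_lt_succ).le)) inferInstance ?_
      have h2 : ((H i.castSucc).comap (QuotientGroup.mk' N)).relIndex
          ((H i.succ).comap (QuotientGroup.mk' N)) = (H i.castSucc).relIndex (H i.succ) := by
        rw [Subgroup.relIndex_comap, Subgroup.map_comap_eq_self_of_surjective hs]
      rw [h2]
      exact hfac i
  have h2 := h1 (Fin.last n)
  rw [hn, Subgroup.comap_top] at h2
  exact h2

variable {Ω : Type*} [Group Ω] {S : Subgroup Ω} {F : FusionSystem S} {p : ℕ} {G : Type*} [Group G] {ι : S →* G}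

theorem coreOf_eq_core [Finite S] (hS : IsPGroup p S) (hM : F.IsModel p G ι) : coreOf p ι = F.core :=
  le_antisymm (Join.le_core (coreOf_normal hM)) (le_coreOf_of_normal hM hS (Join.isNormal_core F))

/-- A model of a constrained fusion system is `p`-solvable iff `Aut_F(O_p(F))` is. -/
theorem model_isPSolvable_iff [Finite S] [Fact p.Prime] (hS : IsPGroup p S) (hM : F.IsModel p G ι) :
    IsPSolvable p G ↔ IsPSolvable p ↥(F.autGroup F.core) := by
  have := hM.1
  have hr := hM.2.1
  obtain ⟨Q, hQ⟩ : ∃ Q, Q = F.core := ⟨_, rfl⟩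
  rw [← hQ]
  rw [← coreOf_eq_core hS hM] at hQ
  have hQS : Q ≤ S := by rw [hQ]; exact coreOf_le
  obtain ⟨π, hπ⟩ := exists_actHom hr.1 hQS (fun g q hq => by
    rw [hQ] at hq ⊢
    exact pCore_exists hM (pCore_conj_mem (mem_coreOf.mp hq).2 g))
  have hker : π.ker ≤ pCore p G := by
    intro c hc
    rw [MonoidHom.mem_ker] at hc
    have h3 : ∀ x ∈ Q, jj ι x * c = c * jj ι x := by
      intro x hx
      have h4 := hπ c hx
      rw [hc, ofAut_one hx] at h4
      conv_lhs => rw [h4]
      group
    obtain ⟨s, hs, rfl⟩ := mem_coreOf_of_centralizes hM (c := c) (fun x hx => h3 x (hQ ▸ hx))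
    exact (mem_coreOf.1 hs).2
  have hmem : ∀ g, π g ∈ F.autGroup Q := by
    intro g
    rw [mem_autGroup_iff hQS, isMap_realized hr]
    exact ⟨hQS, fun q hq => hQS (ofAut_mem _ hq), g, fun q hq => hπ _ hq⟩
  let π' : G →* F.autGroup Q := π.codRestrict _ hmem
  have hsurj : Function.Surjective π' := by
    rintro ⟨α, hα⟩
    have hα' := hα
    rw [mem_autGroup_iff hQS, isMap_realized hr] at hα'
    obtain ⟨-, -, g, hg⟩ := hα'
    refine ⟨g, Subtype.ext ?_⟩
    show π g = α
    refine ofAut_injective fun q hq => ?_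
    apply jj_inj hr.1 (hQS (ofAut_mem _ hq)) (hQS (ofAut_mem _ hq))
    rw [hπ _ hq, hg q hq]
  have hker' : π'.ker = π.ker := by
    ext x
    rw [MonoidHom.mem_ker, MonoidHom.mem_ker]
    exact ⟨fun h => congrArg Subtype.val h, fun h => Subtype.ext h⟩
  constructor
  · exact H76.isPSolvable_of_surjective π' hsurj
  · intro h
    refine isPSolvable_of_normal π'.ker (Or.inl ?_) ?_
    · rw [hker']
      exact IsPGroup.iff_card.1 ((Solv.pCore_isPGroup p).to_le hker)
    · let e : G ⧸ π'.ker ≃* F.autGroup Q := QuotientGroup.quotientKerEquivOfSurjective π' hsurj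
      exact H76.isPSolvable_of_injective e.toMonoidHom e.injective h

end Cfsg.Agent.Fus
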