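import Cfsg.Agent.Fus.PSp4Mat
import Cfsg.Agent.S5112

set_option autoImplicit false
set_option linter.style.haveILetI false
set_option linter.unusedSectionVars false

/-!
# The 2-fusion system of `PSp(4, q)`: final part (helper35)
-/

namespace Cfsg.Agent.Fus.PSp4

open Matrix

def q8P (x y c : QuaternionGroup 2) : Prop := x * x = QuaternionGroup.a 2 → y * y = QuaternionGroup.a 2 →
          y * x = x * y * QuaternionGroup.a 2 → c * c = QuaternionGroup.a 2 → (c = x ∨ c = x * QuaternionGroup.a 2 ∨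
          c = y ∨ c = y * QuaternionGroup.a 2 ∨ c = x * y ∨ c = x * y * QuaternionGroup.a 2)

instance (x y c : QuaternionGroup 2) : Decidable (q8P x y c) := by unfold q8P; infer_instance

theorem q8key : ∀ x y c : QuaternionGroup 2, q8P x y c := by decide +kernel

variable {F : Type*} [Field F]

/-- elements of square `-1` in `SL₂` are conjugate -/
theorem conj_J2 [Finite F] (h2 : (2 : F) ≠ 0) (a : SpecialLinearGroup (Fin 2) F) (ha : a.1 * a.1 = -1) :
    ∃ g : SpecialLinearGroup (Fin 2) F, a.1 * g.1 = g.1 * J2 := by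
  have htr := trace_zero a.2 ha
  set x := a.1 0 0 with hx
  set y := a.1 0 1 with hy
  set z := a.1 1 0 with hz
  have hw : a.1 1 1 = - x := by linear_combination htr
  have e00 := congrFun (congrFun ha 0) 0
  simp [Matrix.mul_apply, Fin.sum_univ_two] at e00
  rw [← hx, ← hy, ← hz] at e00
  -- find a vector
  obtain ⟨s, t, hst⟩ : ∃ s t : F, z * s ^ 2 - 2 * x * s * t - y * t ^ 2 = 1 := by
    by_cases hz0 : z = 0
    · have hx0 : x ≠ 0 := by
        intro h; rw [h, hz0] at e00; simp at e00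
      refine ⟨-(1 + y) / (2 * x), 1, ?_⟩
      rw [hz0]; field_simp; ring
    · obtain ⟨r, t, hrt⟩ := Witt.exists_sq_add_sq_eq (1 : F) 1 z one_ne_zero one_ne_zero
      refine ⟨(r + x * t) / z, t, ?_⟩
      have : z * (z * ((r + x * t) / z) ^ 2 - 2 * x * ((r + x * t) / z) * t - y * t ^ 2) = z * 1 := by
        field_simp
        linear_combination hrt - t ^ 2 * e00
      exact mul_left_cancel₀ hz0 this
  have hdet : (!![s, x * s + y * t; t, z * s - x * t] : Matrix (Fin 2) (Fin 2) F).det = 1 := by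
    rw [det_fin_two_of]
    linear_combination hst
  refine ⟨⟨!![s, x * s + y * t; t, z * s - x * t], hdet⟩, ?_⟩
  show a.1 * !![s, x * s + y * t; t, z * s - x * t] = !![s, x * s + y * t; t, z * s - x * t] * J2
  have ham : a.1 = !![x, y; z, -x] := by
    ext i j; fin_cases i <;> fin_cases j
    · exact hx.symm
    · exact hy.symm
    · exact hz.symm
    · exact hw
  rw [ham]
  ext i j; fin_cases i <;> fin_cases j <;> simp [J2, Matrix.mul_apply, Fin.sum_univ_two]
  · linear_combination s * e00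
  · ring
  · linear_combination t * e00

theorem conj4 [Finite F] (h2 : (2 : F) ≠ 0) (a b : SpecialLinearGroup (Fin 2) F) (ha : a.1 * a.1 = -1) (hb : b.1 * b.1 = -1) :
    ∃ g : SpecialLinearGroup (Fin 2) F, g * a * g⁻¹ = b := by
  obtain ⟨g, hg⟩ := conj_J2 h2 a ha
  obtain ⟨k, hk⟩ := conj_J2 h2 b hb
  have hJ : (J2 : Matrix (Fin 2) (Fin 2) F).det = 1 := by simp [J2]
  set w : SpecialLinearGroup (Fin 2) F := ⟨J2, hJ⟩ with hw
  have h1 : a * g = g * w := Subtype.ext hg
  have h3 : b * k = k * w := Subtype.ext hk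
  refine ⟨k * g⁻¹, ?_⟩
  have h4 : w = g⁻¹ * a * g := by rw [mul_assoc, h1, inv_mul_cancel_left]
  have h5 : b = k * w * k⁻¹ := by rw [← h3, mul_inv_cancel_right]
  rw [h5, h4]
  group

/-- centralizer of a quaternion pair -/
theorem cent_pair {i j a : Matrix (Fin 2) (Fin 2) F} (h2 : (2 : F) ≠ 0) (hid : i.det = 1) (hjd : j.det = 1) (had : a.det = 1)
    (hi : i * i = -1) (hj : j * j = -1) (hij : j * i = - (i * j)) (hai : a * i = i * a) (haj : a * j = j * a) :
    a = 1 ∨ a = -1 := by
  have hti := trace_zero hid hi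
  have htj := trace_zero hjd hj
  -- the traceless part of `a` anticommutes and commutes
  have hd := had
  have hi' : i 1 1 = - i 0 0 := by linear_combination hti
  have hj' : j 1 1 = - j 0 0 := by linear_combination htj
  have i00 := congrFun (congrFun hi 0) 0
  have j00 := congrFun (congrFun hj 0) 0
  have ij00 := congrFun (congrFun hij 0) 0
  have ai00 := congrFun (congrFun hai 0) 0
  have ai01 := congrFun (congrFun hai 0) 1
  have ai10 := congrFun (congrFun hai 1) 0
  have aj00 := congrFun (congrFun haj 0) 0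
  have aj01 := congrFun (congrFun haj 0) 1
  have aj10 := congrFun (congrFun haj 1) 0
  simp [Matrix.mul_apply, Fin.sum_univ_two] at i00 j00 ij00 ai00 ai01 ai10 aj00 aj01 aj10
  rw [hi'] at ai01 ai10
  rw [hj'] at aj01 aj10
  rw [det_fin_two] at had hid hjd
  rw [hi'] at hid
  rw [hj'] at hjd
  set p := i 0 0
  set q := i 0 1
  set r := i 1 0
  set p' := j 0 0
  set q' := j 0 1
  set r' := j 1 0
  set x := a 0 0
  set y := a 0 1
  set z := a 1 0
  set w := a 1 1
  -- relations
  have c1 : y * r = q * z := by linear_combination ai00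
  have c1' : y * r' = q' * z := by linear_combination aj00
  have c2 : (x - w) * q = 2 * p * y := by linear_combination ai01
  have c2' : (x - w) * q' = 2 * p' * y := by linear_combination aj01
  have c3 : (x - w) * r = 2 * p * z := by linear_combination -ai10
  have c3' : (x - w) * r' = 2 * p' * z := by linear_combination -aj10
  have a1 : 2 * p * p' + q * r' + r * q' = 0 := by linear_combination ij00
  have a2 : p ^ 2 + q * r = -1 := by linear_combination -hid
  have a3 : p' ^ 2 + q' * r' = -1 := by linear_combination -hjd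
  have hy : y = 0 := by
    by_contra hy
    -- `(p', q', r')` and `(p, q, r)` are proportional
    have k1 : y * (2 * p) = (x - w) * q := by linear_combination -c2
    have k2 : y * (2 * p') = (x - w) * q' := by linear_combination -c2'
    have k3 : 4 * y ^ 2 * (2 * p * p' + q * r' + r * q') = 2 * q * q' * ((x - w) ^ 2 + 4 * y * z) := by
      linear_combination (2 * y * (2 * p')) * k1 + 2 * (x - w) * q * k2 + 4 * y * q * c1' + 4 * y * q' * c1
    have k4 : 4 * y ^ 2 * (p ^ 2 + q * r) = q ^ 2 * ((x - w) ^ 2 + 4 * y * z) := by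
      linear_combination (y * (2 * p) + (x - w) * q) * k1 + 4 * y * q * c1
    have k5 : 4 * y ^ 2 * (p' ^ 2 + q' * r') = q' ^ 2 * ((x - w) ^ 2 + 4 * y * z) := by
      linear_combination (y * (2 * p') + (x - w) * q') * k2 + 4 * y * q' * c1'
    rw [a1] at k3
    rw [a2] at k4
    rw [a3] at k5
    have hne : (x - w) ^ 2 + 4 * y * z ≠ 0 := by
      intro h0
      rw [h0, mul_zero] at k4
      have : (4 : F) * y ^ 2 = 0 := by linear_combination -k4
      have h4 : (4 : F) ≠ 0 := by
        have : (4 : F) = 2 * 2 := by norm_num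
        rw [this]; exact mul_ne_zero h2 h2
      exact hy (pow_eq_zero_iff two_ne_zero |>.1 ((mul_eq_zero.1 this).resolve_left h4))
    have hqq : q * q' = 0 := by
      have : (2 * (q * q')) * ((x - w) ^ 2 + 4 * y * z) = 0 := by linear_combination -k3
      have := (mul_eq_zero.1 this).resolve_right hne
      exact (mul_eq_zero.1 this).resolve_left h2
    have h4y : (4 : F) * y ^ 2 ≠ 0 := by
      have h4 : (4 : F) ≠ 0 := by
        have : (4 : F) = 2 * 2 := by norm_num
        rw [this]; exact mul_ne_zero h2 h2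
      exact mul_ne_zero h4 (pow_ne_zero 2 hy)
    rcases mul_eq_zero.1 hqq with h0 | h0
    · rw [h0] at k4
      exact h4y (by linear_combination -k4)
    · rw [h0] at k5
      exact h4y (by linear_combination -k5)
  have hz : z = 0 := by
    by_contra hz
    rw [hy] at c1 c1' c2 c2'
    have q0 : q = 0 := by
      have : q * z = 0 := by linear_combination -c1
      exact (mul_eq_zero.1 this).resolve_right hz
    have q0' : q' = 0 := by
      have : q' * z = 0 := by linear_combination -c1'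
      exact (mul_eq_zero.1 this).resolve_right hz
    rw [q0, q0'] at a1
    rw [q0] at a2
    rw [q0'] at a3
    have hpp : p * p' = 0 := by
      have : 2 * (p * p') = 0 := by linear_combination a1
      exact (mul_eq_zero.1 this).resolve_left h2
    rcases mul_eq_zero.1 hpp with h0 | h0
    · rw [h0] at a2; simp at a2
    · rw [h0] at a3; simp at a3
  have hxw : x = w := by
    by_contra hxw
    have hne : x - w ≠ 0 := sub_ne_zero.2 hxw
    rw [hy] at c2 c2'
    rw [hz] at c3 c3'
    have q0 : q = 0 := (mul_eq_zero.1 (by linear_combination c2 : (x - w) * q = 0)).resolve_left hne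
    have q0' : q' = 0 := (mul_eq_zero.1 (by linear_combination c2' : (x - w) * q' = 0)).resolve_left hne
    rw [q0, q0'] at a1
    rw [q0] at a2
    rw [q0'] at a3
    have hpp : p * p' = 0 := by
      have : 2 * (p * p') = 0 := by linear_combination a1
      exact (mul_eq_zero.1 this).resolve_left h2
    rcases mul_eq_zero.1 hpp with h0 | h0
    · rw [h0] at a2; simp at a2
    · rw [h0] at a3; simp at a3
  rw [hy, hz, ← hxw] at had
  have hx1 : (x - 1) * (x + 1) = 0 := by linear_combination had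
  rcases mul_eq_zero.1 hx1 with h1 | h1
  · left
    ext i j; fin_cases i <;> fin_cases j <;> simp
    · exact sub_eq_zero.1 h1
    · exact hy
    · exact hz
    · show w = 1
      rw [← hxw]; exact sub_eq_zero.1 h1
  · right
    ext i j; fin_cases i <;> fin_cases j <;> simp
    · exact eq_neg_of_add_eq_zero_left h1
    · exact hy
    · exact hz
    · show w = -1
      rw [← hxw]; exact eq_neg_of_add_eq_zero_left h1

/-- block structure of elements commuting with `diag (1, -1)` -/
theorem comm_D (h2 : (2 : F) ≠ 0) {x : Matrix (Fin 2 ⊕ Fin 2) (Fin 2 ⊕ Fin 2) F} (hx : x ∈ symplecticGroup (Fin 2) F)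
    (hc : x * T 1 D2 = T 1 D2 * x) : ∃ p : SpecialLinearGroup (Fin 2) F × SpecialLinearGroup (Fin 2) F, x = io p.1.1 p.2.1 := by
  rw [← fromBlocks_toBlocks x] at hx hc ⊢
  set A := x.toBlocks₁₁
  set B := x.toBlocks₁₂
  set C := x.toBlocks₂₁
  set D := x.toBlocks₂₂
  have hT : T (1 : Matrix (Fin 2) (Fin 2) F) D2 = fromBlocks D2 0 0 D2 := by
    unfold T; simp
  rw [hT, fromBlocks_multiply, fromBlocks_multiply, fromBlocks_inj] at hc
  simp only [mul_zero, zero_mul, add_zero, zero_add] at hc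
  obtain ⟨hA, hB, hC, hD⟩ := hc
  have key : ∀ M : Matrix (Fin 2) (Fin 2) F, M * D2 = D2 * M → M 0 1 = 0 ∧ M 1 0 = 0 := by
    intro M hM
    have h01 := congrFun (congrFun hM 0) 1
    have h10 := congrFun (congrFun hM 1) 0
    simp [D2, Matrix.mul_apply, Fin.sum_univ_two] at h01 h10
    constructor
    · have : 2 * M 0 1 = 0 := by linear_combination -h01
      exact (mul_eq_zero.1 this).resolve_left h2
    · have : 2 * M 1 0 = 0 := by linear_combination h10
      exact (mul_eq_zero.1 this).resolve_left h2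
  obtain ⟨A1, A2⟩ := key A hA
  obtain ⟨B1, B2⟩ := key B hB
  obtain ⟨C1, C2⟩ := key C hC
  obtain ⟨D1, D2'⟩ := key D hD
  set a : Matrix (Fin 2) (Fin 2) F := !![A 0 0, B 0 0; C 0 0, D 0 0] with ha
  set b : Matrix (Fin 2) (Fin 2) F := !![A 1 1, B 1 1; C 1 1, D 1 1] with hb
  have hio : fromBlocks A B C D = io a b := by
    rw [← io_00 a b 0 0, fromBlocks_inj]
    refine ⟨?_, ?_, ?_, ?_⟩ <;> ext i j <;> fin_cases i <;> fin_cases j <;>
      simp [ha, hb, E1, E2, A1, A2, B1, B2, C1, C2, D1, D2']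
  rw [hio] at hx ⊢
  have hdet : a.det = 1 ∧ b.det = 1 := by
    rw [SymplecticGroup.mem_iff] at hx
    have h1 : J (Fin 2) F = io J2 J2 := by rw [io_diag, T_J]
    have h3 : (io a b)ᵀ = io aᵀ bᵀ := by
      unfold io
      rw [transpose_add, T_transpose, T_transpose, E1_t, E2_t]
    rw [h1, h3, io_mul, io_mul, J2_conj, J2_conj] at hx
    obtain ⟨e1, e2⟩ := io_inj hx
    constructor
    · have := congrFun (congrFun e1 1) 0
      simpa [J2] using this
    · have := congrFun (congrFun e2 1) 0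
      simpa [J2] using this
  exact ⟨(⟨a, hdet.1⟩, ⟨b, hdet.2⟩), rfl⟩

/-! ### Sylow 2-subgroups of `SL₂` -/

section Sylow

variable [Fintype F]

/-- data of a Sylow 2-subgroup -/
theorem sylow_facts (h2 : (2 : F) ≠ 0) (hodd : Odd (Fintype.card F)) (P : Sylow 2 (SpecialLinearGroup (Fin 2) F)) :
    (∀ c ∈ (P : Subgroup _), ∃ i ∈ (P : Subgroup (SpecialLinearGroup (Fin 2) F)), ∃ j ∈ (P : Subgroup _),
      i * i = -1 ∧ j * j = -1 ∧ c = i * j) ∧
    (∃ i ∈ (P : Subgroup (SpecialLinearGroup (Fin 2) F)), ∃ j ∈ (P : Subgroup _), i * i = -1 ∧ j * j = -1 ∧ j * i = i * j * (-1)) ∧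
    (IsPGroup 2 (MulAut (P : Subgroup (SpecialLinearGroup (Fin 2) F))) ∨
      (∀ i ∈ (P : Subgroup (SpecialLinearGroup (Fin 2) F)), ∀ j ∈ (P : Subgroup _), i * i = -1 → j * j = -1 → j * i = i * j * (-1) →
        ∀ c ∈ (P : Subgroup _), c * c = -1 → c = i ∨ c = i * (-1) ∨ c = j ∨ c = j * (-1) ∨ c = i * j ∨ c = i * j * (-1))) := by
  obtain ⟨k, hk, -, -, ⟨e⟩⟩ := H81.sylow_two_sl2 hodd P
  have hne : (-1 : SpecialLinearGroup (Fin 2) F) ≠ 1 := by
    intro h
    have h1 := congrFun (congrFun (congrArg Subtype.val h) 0) 0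
    have h3 : (-1 : F) = 1 := by simpa using h1
    apply h2
    linear_combination -h3
  haveI : NeZero (2 ^ k) := ⟨by positivity⟩
  set n := 2 ^ k with hn
  have hn2 : ((2 * n : ℕ) : ZMod (2 * n)) = 0 := ZMod.natCast_self _
  have hn2' : (n : ZMod (2 * n)) + n = 0 := by
    have : (n : ZMod (2 * n)) + n = ((2 * n : ℕ) : ZMod (2 * n)) := by push_cast; ring
    rw [this, hn2]
  -- the central involution
  have han : QuaternionGroup.a (n : ZMod (2 * n)) ≠ 1 := by
    intro h
    have h1 : (n : ZMod (2 * n)) = 0 := QuaternionGroup.a.inj h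
    have h3 := (ZMod.natCast_eq_zero_iff n (2 * n)).1 h1
    have h4 : 0 < n := Nat.pos_of_ne_zero (NeZero.ne n)
    have := Nat.le_of_dvd h4 h3
    omega
  have hεP : ∃ z : (P : Subgroup (SpecialLinearGroup (Fin 2) F)), (z : SpecialLinearGroup (Fin 2) F) = -1 ∧ e z = QuaternionGroup.a (n : ZMod (2 * n)) := by
    refine ⟨e.symm (QuaternionGroup.a n), ?_, e.apply_symm_apply _⟩
    have h1 : (e.symm (QuaternionGroup.a n) : SpecialLinearGroup (Fin 2) F) * (e.symm (QuaternionGroup.a n) : SpecialLinearGroup (Fin 2) F) = 1 := by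
      rw [← Subgroup.coe_mul, ← map_mul, QuaternionGroup.a_mul_a, hn2']
      have : (QuaternionGroup.a 0 : QuaternionGroup n) = 1 := rfl
      rw [this, map_one]; rfl
    rcases H81.sl2_invol h2 _ h1 with h3 | h3
    · exfalso
      apply han
      have h4 : e.symm (QuaternionGroup.a n) = 1 := Subtype.ext h3
      rw [← e.apply_symm_apply (QuaternionGroup.a (n : ZMod (2 * n))), h4, map_one]
    · apply Subtype.ext
      rw [h3]; rfl
  obtain ⟨z, hz, hez⟩ := hεP
  have hsq : ∀ x : (P : Subgroup (SpecialLinearGroup (Fin 2) F)), (x : SpecialLinearGroup (Fin 2) F) * x = -1 ↔ e x * e x = QuaternionGroup.a (n : ZMod (2 * n)) := by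
    intro x
    rw [← hz, ← hez, ← map_mul, EmbeddingLike.apply_eq_iff_eq, ← Subgroup.coe_mul, Subtype.ext_iff]
  -- half
  obtain ⟨l, hl⟩ : ∃ l : ZMod (2 * n), l + l = n := by
    refine ⟨((2 ^ (k - 1) : ℕ) : ZMod (2 * n)), ?_⟩
    rw [← Nat.cast_add]
    congr 1
    rw [hn, ← two_mul, ← pow_succ', Nat.sub_add_cancel hk]
  have sq_xa : ∀ t : ZMod (2 * n), (QuaternionGroup.xa t : QuaternionGroup n) * QuaternionGroup.xa t = QuaternionGroup.a n := by
    intro t; rw [QuaternionGroup.xa_mul_xa]; simp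
  have sq_l : (QuaternionGroup.a l : QuaternionGroup n) * QuaternionGroup.a l = QuaternionGroup.a n := by
    rw [QuaternionGroup.a_mul_a, hl]
  have mk : ∀ x y w : QuaternionGroup n, x * x = QuaternionGroup.a n → y * y = QuaternionGroup.a n → w = x * y →
      ∃ i ∈ (P : Subgroup (SpecialLinearGroup (Fin 2) F)), ∃ j ∈ (P : Subgroup _), i * i = -1 ∧ j * j = -1 ∧ ((e.symm w : (P : Subgroup (SpecialLinearGroup (Fin 2) F))) : SpecialLinearGroup (Fin 2) F) = i * j := by
    intro x y w hx hy hw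
    refine ⟨e.symm x, (e.symm x).2, e.symm y, (e.symm y).2, ?_, ?_, ?_⟩
    · rw [hsq, e.apply_symm_apply]; exact hx
    · rw [hsq, e.apply_symm_apply]; exact hy
    · rw [hw, map_mul]; rfl
  refine ⟨?_, ?_, ?_⟩
  · intro c hc
    have h1 : (c : SpecialLinearGroup (Fin 2) F) = (e.symm (e ⟨c, hc⟩) : (P : Subgroup (SpecialLinearGroup (Fin 2) F))) := by
      rw [e.symm_apply_apply]
    rcases h3 : e ⟨c, hc⟩ with t | t
    · obtain ⟨i, hi, j, hj, hii, hjj, hw⟩ := mk (QuaternionGroup.xa 0) (QuaternionGroup.xa (t - n)) (QuaternionGroup.a t)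
        (sq_xa _) (sq_xa _) (by rw [QuaternionGroup.xa_mul_xa]; congr 1; ring)
      refine ⟨i, hi, j, hj, hii, hjj, ?_⟩
      rw [h1, h3, hw]
    · obtain ⟨i, hi, j, hj, hii, hjj, hw⟩ := mk (QuaternionGroup.a l) (QuaternionGroup.xa (t + l)) (QuaternionGroup.xa t)
        sq_l (sq_xa _) (by rw [QuaternionGroup.a_mul_xa]; congr 1; ring)
      refine ⟨i, hi, j, hj, hii, hjj, ?_⟩
      rw [h1, h3, hw]
  · refine ⟨e.symm (QuaternionGroup.a l), (e.symm _).2, e.symm (QuaternionGroup.xa 0), (e.symm _).2, ?_, ?_, ?_⟩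
    · rw [hsq, e.apply_symm_apply]; exact sq_l
    · rw [hsq, e.apply_symm_apply]; exact sq_xa 0
    · rw [← hz, ← Subgroup.coe_mul, ← Subgroup.coe_mul, ← Subgroup.coe_mul]
      congr 1
      apply e.injective
      rw [map_mul, map_mul, map_mul, e.apply_symm_apply, e.apply_symm_apply, hez,
        QuaternionGroup.xa_mul_a, QuaternionGroup.a_mul_xa, QuaternionGroup.xa_mul_a]
      congr 1
      rw [← hl]; ring
  · rcases Nat.lt_or_ge 1 k with hk1 | hk1
    · left
      exact (S5112.isPGroup_mulAut_quaternion k hk1).of_equiv (MulAut.congr e.symm)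
    · right
      have hk2 : k = 1 := by omega
      subst hk2
      have key : ∀ x y c : QuaternionGroup (2 ^ 1), x * x = QuaternionGroup.a 2 → y * y = QuaternionGroup.a 2 →
          y * x = x * y * QuaternionGroup.a 2 → c * c = QuaternionGroup.a 2 → c = x ∨ c = x * QuaternionGroup.a 2 ∨
          c = y ∨ c = y * QuaternionGroup.a 2 ∨ c = x * y ∨ c = x * y * QuaternionGroup.a 2 := q8key
      have hn3 : ((n : ℕ) : ZMod (2 * n)) = 2 := rfl
      intro i hi j hj hii hjj hij c hc hcc
      have e1 := (hsq ⟨i, hi⟩).1 hii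
      have e2 := (hsq ⟨j, hj⟩).1 hjj
      have e3 := (hsq ⟨c, hc⟩).1 hcc
      have e4 : e ⟨j, hj⟩ * e ⟨i, hi⟩ = e ⟨i, hi⟩ * e ⟨j, hj⟩ * QuaternionGroup.a n := by
        rw [← hez, ← map_mul, ← map_mul, ← map_mul]
        congr 1
        apply Subtype.ext
        show j * i = i * j * z
        rw [hz]; exact hij
      have back : ∀ x : (P : Subgroup (SpecialLinearGroup (Fin 2) F)), e ⟨c, hc⟩ = e x → c = x := by
        intro x hx
        exact congrArg Subtype.val (e.injective hx)
      have backz : ∀ x : (P : Subgroup (SpecialLinearGroup (Fin 2) F)), e ⟨c, hc⟩ = e x * QuaternionGroup.a n → c = x * (-1) := by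
        intro x hx
        rw [← hez, ← map_mul] at hx
        rw [back _ hx, Subgroup.coe_mul, hz]
      rcases key _ _ _ e1 e2 e4 e3 with h | h | h | h | h | h
      · exact Or.inl (back _ h)
      · exact Or.inr (Or.inl (backz _ h))
      · exact Or.inr (Or.inr (Or.inl (back _ h)))
      · exact Or.inr (Or.inr (Or.inr (Or.inl (backz _ h))))
      · refine Or.inr (Or.inr (Or.inr (Or.inr (Or.inl ?_))))
        rw [← map_mul] at h
        exact back _ h
      · refine Or.inr (Or.inr (Or.inr (Or.inr (Or.inr ?_))))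
        rw [← map_mul] at h
        exact backz _ h

end Sylow

/-! ### The data for `Sp(4, q)` -/

section Data

variable [Fintype F]

theorem neg_mem4 : (-1 : Matrix (Fin 2 ⊕ Fin 2) (Fin 2 ⊕ Fin 2) F) ∈ symplecticGroup (Fin 2) F := by
  have h := SymplecticGroup.neg_mem (one_mem (symplecticGroup (Fin 2) F))
  exact h

/-- `-1` -/
def mm : symplecticGroup (Fin 2) F := ⟨-1, neg_mem4⟩

open Classical in
/-- the elements `u i` -/
noncomputable def uu (h2 : (2 : F) ≠ 0) (i : SpecialLinearGroup (Fin 2) F) : symplecticGroup (Fin 2) F :=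
  if hi : i.1 * i.1 = -1 then ⟨um i.1, um_mem h2 i.2 hi⟩ else 1

theorem uu_coe (h2 : (2 : F) ≠ 0) {i : SpecialLinearGroup (Fin 2) F} (hi : i.1 * i.1 = -1) :
    ((uu h2 i : symplecticGroup (Fin 2) F) : Matrix (Fin 2 ⊕ Fin 2) (Fin 2 ⊕ Fin 2) F) = um i.1 := by
  unfold uu
  rw [dif_pos hi]

theorem val_sq {i : SpecialLinearGroup (Fin 2) F} (hi : i * i = -1) : i.1 * i.1 = -1 := congrArg Subtype.val hi

theorem val_anti {i j : SpecialLinearGroup (Fin 2) F} (hij : j * i = i * j * (-1)) : j.1 * i.1 = - (i.1 * j.1) := by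
  have h1 : j.1 * i.1 = i.1 * j.1 * (-1 : Matrix (Fin 2) (Fin 2) F) := congrArg Subtype.val hij
  rw [h1]; simp

theorem iot_one_neg : ((iot (1, -1) : symplecticGroup (Fin 2) F) : Matrix (Fin 2 ⊕ Fin 2) (Fin 2 ⊕ Fin 2) F) = T 1 D2 := by
  rw [iot_coe, ← io_neg]; rfl

theorem mul_coe (x y : symplecticGroup (Fin 2) F) : ((x * y : symplecticGroup (Fin 2) F) : Matrix (Fin 2 ⊕ Fin 2) (Fin 2 ⊕ Fin 2) F) = x.1 * y.1 := rfl

theorem mem_center4 (x : symplecticGroup (Fin 2) F) : x ∈ Subgroup.center (symplecticGroup (Fin 2) F) ↔ x = 1 ∨ x = mm := by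
  rw [ClassSp.mem_center_iff]
  constructor
  · rintro ⟨a, ha, h⟩
    have hx : x.1 = a • (1 : Matrix (Fin 2 ⊕ Fin 2) (Fin 2 ⊕ Fin 2) F) := by
      apply Matrix.toLin'.injective
      ext v i
      simp only [Matrix.toLin'_apply, LinearMap.coe_comp, Function.comp_apply]
      rw [show x.1 *ᵥ _ = a • _ from h _, smul_mulVec, one_mulVec]
    have ha' : (a - 1) * (a + 1) = 0 := by linear_combination ha
    rcases mul_eq_zero.1 ha' with h1 | h1
    · left
      apply Subtype.ext
      rw [hx, sub_eq_zero.1 h1, one_smul]; rfl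
    · right
      apply Subtype.ext
      rw [hx, eq_neg_of_add_eq_zero_left h1, neg_one_smul]; rfl
  · rintro (rfl | rfl)
    · exact ⟨1, by ring, fun v => by rw [one_smul]; exact one_mulVec v⟩
    · refine ⟨-1, by ring, fun v => ?_⟩
      rw [neg_one_smul]
      show (-1 : Matrix (Fin 2 ⊕ Fin 2) (Fin 2 ⊕ Fin 2) F) *ᵥ v = -v
      rw [neg_mulVec, one_mulVec]

theorem pi_one_iff (x : symplecticGroup (Fin 2) F) :
    (QuotientGroup.mk' (Subgroup.center (symplecticGroup (Fin 2) F))) x = 1 ↔ x = 1 ∨ x = mm := by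
  rw [QuotientGroup.mk'_apply, QuotientGroup.eq_one_iff, mem_center4]

theorem mm_mul (x : symplecticGroup (Fin 2) F) : ((x * mm : symplecticGroup (Fin 2) F) : Matrix (Fin 2 ⊕ Fin 2) (Fin 2 ⊕ Fin 2) F) = - x.1 := by
  rw [mul_coe]
  show x.1 * (-1) = _
  simp

/-- `N_L(P) = P` for large `P`; `2`-elements normalizing `P` -/
theorem two_elt {L : Type*} [Group L] [Finite L] (P : Sylow 2 L) {a : L} (ha : ∀ c ∈ (P : Subgroup L), a * c * a⁻¹ ∈ (P : Subgroup L))
    {k : ℕ} (hk : a ^ 2 ^ k ∈ (P : Subgroup L)) : a ∈ (P : Subgroup L) := by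
  haveI : Fact (Nat.Prime 2) := ⟨Nat.prime_two⟩
  have han : a ∈ Subgroup.normalizer ((P : Subgroup L) : Set L) := mem_normalizer_of ha
  have hp : IsPGroup 2 (Subgroup.zpowers a) := by
    obtain ⟨l, hl⟩ := P.2 ⟨_, hk⟩
    have h1 : a ^ 2 ^ (k + l) = 1 := by
      rw [pow_add, pow_mul]; exact congrArg Subtype.val hl
    rintro ⟨_, m, rfl⟩
    refine ⟨k + l, Subtype.ext ?_⟩
    show (a ^ m) ^ 2 ^ (k + l) = 1
    rw [← zpow_natCast, ← _root_.zpow_mul, mul_comm, _root_.zpow_mul, zpow_natCast, h1, _root_.one_zpow]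
  have h1 := IsPGroup.inf_normalizer_sylow hp P
  have h2 : a ∈ Subgroup.zpowers a ⊓ Subgroup.normalizer ((P : Subgroup L) : Set L) := ⟨Subgroup.mem_zpowers a, han⟩
  have h3 : a ∈ Subgroup.zpowers a ⊓ (P : Subgroup L) := by rw [← h1]; exact h2
  exact h3.2

theorem neg_one_mul_comm (a : SpecialLinearGroup (Fin 2) F) : a * (-1) = (-1) * a := by
  apply Subtype.ext
  show a.1 * (-1 : Matrix (Fin 2) (Fin 2) F) = (-1 : Matrix (Fin 2) (Fin 2) F) * a.1
  simp

theorem sl_ne (h2 : (2 : F) ≠ 0) : (-1 : SpecialLinearGroup (Fin 2) F) ≠ 1 := by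
  intro h
  have h1 := congrFun (congrFun (congrArg Subtype.val h) 0) 0
  have h3 : (-1 : F) = 1 := by simpa using h1
  apply h2
  linear_combination -h3

theorem neg_one_sq : (-1 : SpecialLinearGroup (Fin 2) F) * (-1) = 1 := by
  apply Subtype.ext
  show (-1 : Matrix (Fin 2) (Fin 2) F) * (-1 : Matrix (Fin 2) (Fin 2) F) = 1
  simp

theorem cl_sl (h2 : (2 : F) ≠ 0) (i j a : SpecialLinearGroup (Fin 2) F) (hi : i * i = -1) (hj : j * j = -1)
    (hij : j * i = i * j * (-1)) (hai : a * i = i * a) (haj : a * j = j * a) : a = 1 ∨ a = -1 := by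
  rcases cent_pair h2 i.2 j.2 a.2 (val_sq hi) (val_sq hj) (val_anti hij) (congrArg Subtype.val hai) (congrArg Subtype.val haj) with h | h
  · exact Or.inl (Subtype.ext h)
  · exact Or.inr (Subtype.ext h)

/-- the data -/
theorem data (h2 : (2 : F) ≠ 0) (hodd : Odd (Fintype.card F)) (P : Sylow 2 (SpecialLinearGroup (Fin 2) F)) :
    Dt (QuotientGroup.mk' (Subgroup.center (symplecticGroup (Fin 2) F))) iot ta mm (-1) (uu h2)
      (P : Subgroup (SpecialLinearGroup (Fin 2) F)) := by
  obtain ⟨f1, f2, f3⟩ := sylow_facts h2 hodd P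
  have h4 : ∀ i : SpecialLinearGroup (Fin 2) F, i * i = -1 → uu h2 i * ta = iot (1, -1) * uu h2 i := by
    intro i hi
    apply Subtype.ext
    rw [mul_coe, mul_coe, uu_coe h2 (val_sq hi), ta_coe, um_ta]
    rfl
  refine
    { surj := QuotientGroup.mk'_surjective _
      ker := pi_one_iff
      inj := iot_inj
      ieps := ?_
      t2 := ta_sq
      tc := ta_iot
      tn := ta_ne
      ec := neg_one_mul_comm
      e2 := neg_one_sq
      e1 := sl_ne h2
      cj := fun a b ha hb => conj4 h2 a b (val_sq ha) (val_sq hb)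
      cl := cl_sl h2
      cent := ?_
      cz := ?_
      u2 := ?_
      ut := h4
      ue := ?_
      uj := ?_
      uu := ?_
      pg := f1
      pe := f2
      pn := ?_
      p2 := fun a ha haa => two_elt P ha (k := 1) (by rw [pow_one, pow_two]; exact haa) }
  · apply Subtype.ext
    rw [iot_coe]
    show io (-1) (-1) = -1
    rw [io_diag, T_neg, T_one]
  · intro x hx
    have h1 : x * iot (1, -1) = iot (1, -1) * x ∨ x * iot (1, -1) = iot (1, -1) * x * mm := by
      rw [← map_mul, ← map_mul] at hx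
      have h3 : (QuotientGroup.mk' (Subgroup.center (symplecticGroup (Fin 2) F))) ((iot (1, -1) * x)⁻¹ * (x * iot (1, -1))) = 1 := by
        rw [map_mul, map_inv, hx, inv_mul_cancel]
      rcases (pi_one_iff _).1 h3 with h5 | h5
      · left; exact (inv_mul_eq_one.1 h5).symm
      · right; rw [← h5]; group
    rcases h1 with h1 | h1
    · have h3 := congrArg Subtype.val h1
      rw [mul_coe, mul_coe, iot_one_neg] at h3
      obtain ⟨p, hp⟩ := comm_D h2 x.2 h3
      exact ⟨p, Or.inl (Subtype.ext hp)⟩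
    · have h3 := congrArg Subtype.val h1
      rw [mm_mul, mul_coe, mul_coe, iot_one_neg] at h3
      have h5 : (x.1 * T 1 W2) * T 1 D2 = T 1 D2 * (x.1 * T 1 W2) := by
        have hWD : T (1 : Matrix (Fin 2) (Fin 2) F) W2 * T 1 D2 = - (T 1 D2 * T 1 W2) := by
          rw [T_mul, T_mul, ← T_neg, mul_one]
          have : (W2 : Matrix (Fin 2) (Fin 2) F) * D2 = (-1 : F) • (D2 * W2) := by
            ext i j; fin_cases i <;> fin_cases j <;> simp [W2, D2, Matrix.mul_apply, Fin.sum_univ_two]
          rw [this, T_smul, neg_one_smul]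
        rw [mul_assoc, hWD, mul_neg, ← mul_assoc, h3, neg_mul, neg_neg, mul_assoc]
      obtain ⟨p, hp⟩ := comm_D h2 (x * ta).2 (by rw [mul_coe, ta_coe]; exact h5)
      refine ⟨p, Or.inr ?_⟩
      have h6 : x * ta = iot p := Subtype.ext hp
      rw [← h6, mul_assoc, ta_sq, mul_one]
  · obtain ⟨i, -, -, -, hi, -⟩ := f2
    refine ⟨(uu h2 i)⁻¹, ?_⟩
    rw [inv_inv, mul_assoc, ← h4 i hi, inv_mul_cancel_left]
  · intro i hi
    apply Subtype.ext
    rw [mul_coe, uu_coe h2 (val_sq hi), um_sq h2 (val_sq hi)]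
    rfl
  · intro i hi
    apply Subtype.ext
    rw [mul_coe, mul_coe, uu_coe h2 (val_sq hi), ta_coe, ← um_io]
    rfl
  · intro i j hi hj hij
    apply Subtype.ext
    rw [mul_coe, mul_coe, uu_coe h2 (val_sq hi), iot_coe, iot_coe, um_j (val_sq hi) (val_anti hij)]
    rfl
  · intro i j hi hj hij
    have vi := val_sq hi
    have vj := val_sq hj
    have vij := val_anti hij
    have hdet : ((2 : F)⁻¹ • ((1 + i.1) * (1 + j.1))).det = 1 := by
      rw [det_smul, det_mul, det_one_add i.2 vi, det_one_add j.2 vj, Fintype.card_fin]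
      field_simp
    refine ⟨⟨_, hdet⟩, ?_, ?_, ?_⟩
    · apply Subtype.ext
      rw [mul_coe, uu_coe h2 vi, uu_coe h2 vj, um_um h2]
      rfl
    · apply Subtype.ext
      show ((2 : F)⁻¹ • ((1 + i.1) * (1 + j.1))) * i.1 = j.1 * ((2 : F)⁻¹ • ((1 + i.1) * (1 + j.1)))
      rw [smul_mul_assoc, mul_smul_comm, y_i vi vj vij]
    · apply Subtype.ext
      show ((2 : F)⁻¹ • ((1 + i.1) * (1 + j.1))) * j.1 = i.1 * j.1 * ((2 : F)⁻¹ • ((1 + i.1) * (1 + j.1)))
      rw [smul_mul_assoc, mul_smul_comm, y_j vi vj vij]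
  · rcases f3 with f3 | f3
    · left
      intro a ha
      obtain ⟨i, hi, j, hj, hii, hjj, hij⟩ := f2
      have han : a ∈ Subgroup.normalizer ((P : Subgroup (SpecialLinearGroup (Fin 2) F)) : Set _) := mem_normalizer_of ha
      obtain ⟨k, hk⟩ := f3 (conjAut a han)
      have h5 : ∀ c ∈ (P : Subgroup (SpecialLinearGroup (Fin 2) F)), a ^ 2 ^ k * c = c * a ^ 2 ^ k := by
        intro c hc
        have h6 : conjAut (a ^ 2 ^ k) (Subgroup.pow_mem _ han _) = 1 := by
          rw [← hk]
          unfold conjAut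
          rw [← map_pow]; rfl
        have h7 := congrArg (fun f : MulAut (P : Subgroup (SpecialLinearGroup (Fin 2) F)) => ((f ⟨c, hc⟩ : (P : Subgroup (SpecialLinearGroup (Fin 2) F))) : SpecialLinearGroup (Fin 2) F)) h6
        have h8 : a ^ 2 ^ k * c * (a ^ 2 ^ k)⁻¹ = c := h7
        exact mul_inv_eq_iff_eq_mul.1 h8
      refine two_elt P ha (k := k) ?_
      rcases cl_sl h2 i j _ hii hjj hij (h5 i hi) (h5 j hj) with h6 | h6
      · rw [h6]; exact one_mem _
      · rw [h6, ← hii]; exact mul_mem hi hi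
    · exact Or.inr f3

end Data

end Cfsg.Agent.Fus.PSp4
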