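import Cfsg.Agent.Fus.Biset2
set_option autoImplicit false
set_option maxHeartbeats 400000

/-!
# Realization of fusion systems by bisets (Park) (helper88)
-/

namespace Cfsg.Agent.Fus.Bi

open Cfsg Cfsg.Agent.Fus Cfsg.Agent.Fus.Burn

/-- restriction of an action to an invariant subset -/
def restr {G X : Type*} [Group G] (ρ : G →* Equiv.Perm X) (A : Set X) (hA : Inv ρ A) : G →* Equiv.Perm A where
  toFun g := ⟨fun x => ⟨ρ g x, hA g x x.2⟩, fun x => ⟨ρ g⁻¹ x, hA g⁻¹ x x.2⟩,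
    fun x => Subtype.ext (by
      show ρ g⁻¹ (ρ g x) = x
      rw [← Equiv.Perm.mul_apply, ← map_mul, inv_mul_cancel, map_one]; rfl),
    fun x => Subtype.ext (by
      show ρ g (ρ g⁻¹ x) = x
      rw [← Equiv.Perm.mul_apply, ← map_mul, mul_inv_cancel, map_one]; rfl)⟩
  map_one' := by
    ext x
    show ρ 1 (x : X) = x
    rw [map_one]; rfl
  map_mul' g h := by
    ext x
    show ρ (g * h) (x : X) = ρ g (ρ h x)
    rw [map_mul]; rfl

@[simp] theorem coe_restr {G X : Type*} [Group G] (ρ : G →* Equiv.Perm X) (A : Set X) (hA : Inv ρ A) (g : G) (x : A) :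
    ((restr ρ A hA g x : A) : X) = ρ g x := rfl

theorem stab_restr {G X : Type*} [Group G] (ρ : G →* Equiv.Perm X) (A : Set X) (hA : Inv ρ A) (x : A) :
    Burn.stab (restr ρ A hA) x = Burn.stab ρ (x : X) := by
  ext g
  rw [mem_stab, mem_stab, Subtype.ext_iff, coe_restr]

theorem fixS_comp {G H X : Type*} [Group G] [Group H] (ρ : G →* Equiv.Perm X) (κ : H →* G) (A : Set X)
    (K : Subgroup H) : fixS (ρ.comp κ) A K = fixS ρ A (K.map κ) := by
  ext z
  constructor
  · rintro ⟨hz, hzH⟩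
    refine ⟨hz, ?_⟩
    rintro _ ⟨g, hg, rfl⟩
    exact hzH g hg
  · rintro ⟨hz, hzH⟩
    exact ⟨hz, fun g hg => hzH _ ⟨g, hg, rfl⟩⟩

variable {Ω : Type*} [Group Ω] {S : Subgroup Ω} {F : FusionSystem S} {p : ℕ}

/-- the inclusion `P × S → S × S` -/
def kin {P : Subgroup Ω} (hP : P ≤ S) : P × S →* S × S := (Subgroup.inclusion hP).prodMap (MonoidHom.id S)

/-- the map as a homomorphism with values in `S` -/
def IsMapS {P : Subgroup Ω} {f : Ω → Ω} (h : IsMap F P f) : P →* S where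
  toFun u := ⟨f u, h.mem u.2⟩
  map_one' := Subtype.ext h.map_one
  map_mul' u v := Subtype.ext (h.map_mul u.2 v.2)

/-- `(u, b) ↦ (f u, b)` -/
def kmap {P : Subgroup Ω} {f : Ω → Ω} (h : IsMap F P f) : P × S →* S × S := (IsMapS h).prodMap (MonoidHom.id S)

theorem kin_apply {P : Subgroup Ω} (hP : P ≤ S) (z : P × S) : kin hP z = (⟨z.1, hP z.1.2⟩, z.2) := rfl

theorem kmap_apply {P : Subgroup Ω} {f : Ω → Ω} (h : IsMap F P f) (z : P × S) :
    kmap h z = (⟨f z.1, h.mem z.1.2⟩, z.2) := rfl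

theorem graph_comp_minv {P A : Subgroup Ω} {f χ : Ω → Ω} (h : IsMap F P f) (hχ : IsMap F A χ) (hA : A ≤ P)
    {H : Subgroup (P × S)} (hH : H.map (kin h.le) = graph hχ) :
    ∃ hχ' : IsMap F (img A f) (fun y => χ (minv A f y)), H.map (kmap h) = graph hχ' ∧
      img (img A f) (fun y => χ (minv A f y)) = img A χ := by
  have hk' := h.mono hA
  have hχ' : IsMap F (img A f) (fun y => χ (minv A f y)) :=
    hχ.comp hk'.minv_isMap fun y hy => hk'.minv_mem hy
  refine ⟨hχ', ?_, ?_⟩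
  · ext z
    constructor
    · rintro ⟨g, hg, rfl⟩
      have h1 : kin h.le g ∈ graph hχ := by rw [← hH]; exact ⟨g, hg, rfl⟩
      refine ⟨subset_img h1.1, ?_⟩
      show (g.2 : Ω) = χ (minv A f (f g.1))
      have h7 : (g.1 : Ω) ∈ A := h1.1
      rw [hk'.minv_apply h7]
      exact h1.2
    · rintro ⟨h1, h2⟩
      obtain ⟨x, hx, hxz⟩ := hk'.mem_img.mp h1
      have h3 : ((⟨x, hχ.le hx⟩, ⟨χ x, hχ.mem hx⟩) : S × S) ∈ H.map (kin h.le) := by
        rw [hH]; exact ⟨hx, rfl⟩
      obtain ⟨g, hg, hgx⟩ := h3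
      refine ⟨g, hg, ?_⟩
      have h4 : (g.1 : Ω) = x := congrArg (fun u : S × S => (u.1 : Ω)) hgx
      have h5 : (g.2 : Ω) = χ x := congrArg (fun u : S × S => (u.2 : Ω)) hgx
      apply Prod.ext
      · apply Subtype.ext
        show f g.1 = z.1
        rw [h4, hxz]
      · apply Subtype.ext
        show (g.2 : Ω) = z.2
        rw [h5, h2]
        show χ x = χ (minv A f z.1)
        rw [← hxz, hk'.minv_apply hx]
  · ext y
    rw [hχ'.mem_img, hχ.mem_img]
    constructor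
    · rintro ⟨u, hu, rfl⟩
      exact ⟨_, hk'.minv_mem hu, rfl⟩
    · rintro ⟨x, hx, rfl⟩
      exact ⟨f x, subset_img hx, by simp only [hk'.minv_apply hx]⟩

theorem exists_theta [Finite S] {c : Subgroup (S × S) → ℕ} (hc : Supp F c)
    (hst : ∀ (P : Subgroup Ω) (f : Ω → Ω) (h : IsMap F P f), mark c (graph h) = mark c (graph (idm F h.img_le)))
    {P : Subgroup Ω} {f : Ω → Ω} (h : IsMap F P f) :
    ∃ e : (Subgroup (S × S) × ℕ × Set (S × S)) → (Subgroup (S × S) × ℕ × Set (S × S)),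
      Set.BijOn e (carr c) (carr c) ∧
      ∀ (z : P × S), ∀ x ∈ carr c, e (uact (S × S) (kin h.le z) x) = uact (S × S) (kmap h z) (e x) := by
  have := finite_of_le h.le
  refine exists_equivariant ((uact (S × S)).comp (kin h.le)) ((uact (S × S)).comp (kmap h))
    {H | H.map (kin h.le) ∈ FT F} _ (carr c) (carr c) (finite_carr c) (finite_carr c) rfl
    (fun g z hz => carr_inv c _ z hz) (fun g z hz => carr_inv c _ z hz) ?_ ?_ ?_
  · intro x hx
    refine mem_FT_of_le (stab_mem_FT hc hx) ?_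
    rintro _ ⟨g, hg, rfl⟩
    exact hg
  · intro x hx
    obtain ⟨B, ψ, hψ, hB⟩ := stab_mem_FT hc hx
    set H := Burn.stab ((uact (S × S)).comp (kmap h)) x with hHdef
    have h1 : ∀ z ∈ H, f z.1 ∈ B ∧ (z.2 : Ω) = ψ (f z.1) := by
      intro z hz
      have h2 : kmap h z ∈ graph hψ := by rw [← hB]; exact hz
      exact ⟨h2.1, h2.2⟩
    have h3 : ∀ x ∈ pr1 (H.map (kin h.le)), x ∈ P ∧ f x ∈ B := by
      intro x hx
      obtain ⟨_, ⟨z, hz, rfl⟩, rfl⟩ := mem_pr1.mp hx
      exact ⟨z.1.2, (h1 z hz).1⟩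
    have h4 : IsMap F (pr1 (H.map (kin h.le))) (fun x => ψ (f x)) :=
      hψ.comp (h.mono fun x hx => (h3 x hx).1) fun x hx => (h3 x hx).2
    refine mem_FT_of h4 ?_
    rintro _ ⟨z, hz, rfl⟩
    exact ⟨mem_pr1.mpr ⟨_, ⟨z, hz, rfl⟩, rfl⟩, (h1 z hz).2⟩
  · intro H hH
    rw [fixS_comp, fixS_comp, ncard_fixS_carr, ncard_fixS_carr]
    obtain ⟨A, χ, hχ, hKχ⟩ := hH
    have hA : A ≤ P := by
      intro x hx
      have h1 : ((⟨x, hχ.le hx⟩, ⟨χ x, hχ.mem hx⟩) : S × S) ∈ H.map (kin h.le) := by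
        rw [hKχ]; exact ⟨hx, rfl⟩
      obtain ⟨g, hg, hgx⟩ := h1
      have h3 : (g.1 : Ω) = x := congrArg (fun u : S × S => (u.1 : Ω)) hgx
      rw [← h3]
      exact g.1.2
    obtain ⟨hχ', h5, h6⟩ := graph_comp_minv h hχ hA hKχ
    rw [hKχ, h5, hst A χ hχ, hst _ _ hχ']
    congr 1
    ext z
    rw [mem_graph, mem_graph, h6]

/-- An `S × S`-set that realizes `F` by permutations commuting with the right action. -/
structure RealAct (F : FusionSystem S) {X : Type*} (α : S × S →* Equiv.Perm X) : Prop where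
  supp : ∀ x, Burn.stab α x ∈ FT F
  real : ∀ (P : Subgroup Ω) (f : Ω → Ω) (h : IsMap F P f), ∃ θ : Equiv.Perm X,
    ∀ (z : P × S) (x : X), θ (α (kin h.le z) x) = α (kmap h z) (θ x)

/-- the permutations commuting with the right action -/
def cent {X : Type*} (α : S × S →* Equiv.Perm X) : Subgroup (Equiv.Perm X) where
  carrier := {π | ∀ (b : S) (x : X), π (α (1, b) x) = α (1, b) (π x)}
  one_mem' := fun b x => rfl
  mul_mem' := by
    intro π σ hπ hσ b x
    rw [Equiv.Perm.mul_apply, hσ, hπ, Equiv.Perm.mul_apply]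
  inv_mem' := by
    intro π hπ b x
    rw [Equiv.Perm.inv_eq_iff_eq, hπ]
    simp

theorem mem_cent {X : Type*} {α : S × S →* Equiv.Perm X} {π : Equiv.Perm X} :
    π ∈ cent α ↔ ∀ (b : S) (x : X), π (α (1, b) x) = α (1, b) (π x) := Iff.rfl

theorem left_mem_cent {X : Type*} (α : S × S →* Equiv.Perm X) (a : S) : α (a, 1) ∈ cent α := by
  intro b x
  rw [← Equiv.Perm.mul_apply, ← Equiv.Perm.mul_apply, ← map_mul, ← map_mul]
  congr 2
  apply Prod.ext
  · show a * 1 = 1 * a
    rw [one_mul, mul_one]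
  · show 1 * b = b * 1
    rw [one_mul, mul_one]

/-- the left action -/
def lact {X : Type*} (α : S × S →* Equiv.Perm X) : S →* cent α where
  toFun a := ⟨α (a, 1), left_mem_cent α a⟩
  map_one' := Subtype.ext (by
    show α (1, 1) = 1
    exact map_one α)
  map_mul' a b := Subtype.ext (by
    show α (a * b, 1) = α (a, 1) * α (b, 1)
    rw [← map_mul]
    congr 1
    apply Prod.ext
    · rfl
    · exact (one_mul 1).symm)

@[simp] theorem coe_lact {X : Type*} (α : S × S →* Equiv.Perm X) (a : S) : ((lact α a : cent α) : Equiv.Perm X) = α (a, 1) :=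
  rfl

theorem RealAct.left_free {X : Type*} {α : S × S →* Equiv.Perm X} (hα : RealAct F α) {a : S} {x : X}
    (h : α (a, 1) x = x) : a = 1 := by
  obtain ⟨P, f, hf, hP⟩ := hα.supp x
  have h1 : ((a, 1) : S × S) ∈ graph hf := by rw [← hP]; exact h
  have h2 : (1 : Ω) = f a := h1.2
  have h3 : f a = f 1 := by rw [← h2, hf.map_one]
  exact Subtype.ext (hf.inj h1.1 P.one_mem h3)

theorem RealAct.right_free {X : Type*} {α : S × S →* Equiv.Perm X} (hα : RealAct F α) {b : S} {x : X}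
    (h : α (1, b) x = x) : b = 1 := by
  obtain ⟨P, f, hf, hP⟩ := hα.supp x
  have h1 : ((1, b) : S × S) ∈ graph hf := by rw [← hP]; exact h
  have h2 : (b : Ω) = f 1 := h1.2
  rw [hf.map_one] at h2
  exact Subtype.ext h2

/-- Park's theorem: a `RealAct` with a point with stabilizer the diagonal realizes the system. -/
theorem RealAct.isRealizedBy {X : Type*} {α : S × S →* Equiv.Perm X} (hα : RealAct F α)
    {x₀ : X} (hx₀ : ∀ a : S, α (a, a) x₀ = x₀) : F.IsRealizedBy (lact α) := by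
  refine ⟨?_, ?_⟩
  · rw [injective_iff_map_eq_one]
    intro a ha
    refine hα.left_free (x := x₀) ?_
    have h1 : ((lact α a : cent α) : Equiv.Perm X) = 1 := by rw [ha]; rfl
    rw [← coe_lact, h1]
    rfl
  · intro P hP φ hφ
    constructor
    · intro h
      have hf := isMap_of_mem h
      obtain ⟨θ, hθ⟩ := hα.real P _ hf
      have hθc : θ ∈ cent α := by
        intro b x
        have h1 := hθ (1, b) x
        rw [kin_apply, kmap_apply] at h1
        have h2 : ((⟨ofHom φ ((1 : P) : Ω), hf.mem (1 : P).2⟩ : S), b) = ((1 : S), b) := by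
          apply Prod.ext
          · apply Subtype.ext
            exact hf.map_one
          · rfl
        rw [h2] at h1
        exact h1
      refine ⟨⟨θ, hθc⟩, fun x => ?_⟩
      rw [eq_mul_inv_iff_mul_eq]
      apply Subtype.ext
      ext1 y
      have h1 := hθ (x, 1) y
      rw [kin_apply, kmap_apply] at h1
      show α (⟨φ x, hφ x⟩, 1) (θ y) = θ (α (⟨x, hP x.2⟩, 1) y)
      rw [h1]
      simp only [ofHom_coe]
    · rintro ⟨⟨g, hg⟩, hgx⟩
      -- the point `g x₀`
      obtain ⟨B, ψ, hψ, hB⟩ := hα.supp (g x₀)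
      have key : ∀ u : P, φ u ∈ B ∧ (u : Ω) = ψ (φ u) := by
        intro u
        have h1 : α (⟨φ u, hφ u⟩, ⟨u, hP u.2⟩) (g x₀) = g x₀ := by
          have h2 := hgx u
          rw [eq_mul_inv_iff_mul_eq] at h2
          have h3 : α (⟨φ u, hφ u⟩, 1) (g x₀) = g (α (⟨u, hP u.2⟩, 1) x₀) :=
            congrArg (fun z : cent α => (z : Equiv.Perm X) x₀) h2
          have h4 : ((⟨φ u, hφ u⟩, ⟨u, hP u.2⟩) : S × S) = (1, ⟨u, hP u.2⟩) * (⟨φ u, hφ u⟩, 1) := by
            apply Prod.ext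
            · exact (one_mul _).symm
            · exact (mul_one _).symm
          have h5 : (1, ⟨u, hP u.2⟩) * (⟨u, hP u.2⟩, 1) = ((⟨u, hP u.2⟩, ⟨u, hP u.2⟩) : S × S) := by
            apply Prod.ext
            · exact one_mul _
            · exact mul_one _
          have h6 : α (1, ⟨u, hP u.2⟩) (α (⟨u, hP u.2⟩, 1) x₀) = x₀ := by
            rw [← Equiv.Perm.mul_apply, ← map_mul, h5, hx₀]
          rw [h4, map_mul, Equiv.Perm.mul_apply, h3, ← hg, h6]
        have h2 : ((⟨φ u, hφ u⟩, ⟨u, hP u.2⟩) : S × S) ∈ graph hψ := by rw [← hB]; exact h1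
        exact h2
      -- `φ = ψ⁻¹`
      have hle : img (φ.range) ψ = P := by
        ext y
        have hψ' := hψ.mono (Q := φ.range) (by rintro _ ⟨u, rfl⟩; exact (key u).1)
        rw [hψ'.mem_img]
        constructor
        · rintro ⟨_, ⟨u, rfl⟩, rfl⟩
          rw [← (key u).2]
          exact u.2
        · intro hy
          exact ⟨_, ⟨⟨y, hy⟩, rfl⟩, (key ⟨y, hy⟩).2.symm⟩
      have hψ' := hψ.mono (Q := φ.range) (by rintro _ ⟨u, rfl⟩; exact (key u).1)
      have h6 := hψ'.minv_isMap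
      rw [hle] at h6
      refine h6.mem_hom fun u => ?_
      have h7 : minv φ.range ψ (ψ (φ u)) = φ u := hψ'.minv_apply ⟨u, rfl⟩
      rw [← (key u).2] at h7
      exact h7.symm

theorem realAct_carr [Finite S] {c : Subgroup (S × S) → ℕ} (hc : Supp F c)
    (hst : ∀ (P : Subgroup Ω) (f : Ω → Ω) (h : IsMap F P f), mark c (graph h) = mark c (graph (idm F h.img_le))) :
    RealAct F (restr (uact (S × S)) (carr c) (carr_inv c)) where
  supp x := by
    rw [stab_restr]
    exact stab_mem_FT hc x.2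
  real P f h := by
    obtain ⟨e, he1, he2⟩ := exists_theta hc hst h
    refine ⟨he1.equiv e, fun z x => ?_⟩
    apply Subtype.ext
    exact he2 z x x.2

theorem exists_diag [Finite S] {c : Subgroup (S × S) → ℕ} (h : mark c (graph (idm F (le_refl S))) ≠ 0) :
    ∃ x : carr c, ∀ a : S, restr (uact (S × S)) (carr c) (carr_inv c) (a, a) x = x := by
  rw [← ncard_fixS_carr] at h
  obtain ⟨x, hx, hxf⟩ := Set.nonempty_of_ncard_ne_zero h
  exact ⟨⟨x, hx⟩, fun a => Subtype.ext (hxf (a, a) ⟨a.2, rfl⟩)⟩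

end Cfsg.Agent.Fus.Bi
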