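import Cfsg.Agent.Fus.Cover

/-!
# A simplicity criterion for `p`-fusion systems of groups with self-normalizing Sylow subgroup of cyclic centre

`isSimple_of_subgroup`: `G` a finite subgroup of an ambient group, `U ≤ G` a subgroup with `N_G(U)` a `p`-group,
`|G| ∣ |U| m` with `p ∤ m`, `C_G(U) ⊆ {1, z}`, and every strongly closed subgroup containing `z` contains `U`.
-/

set_option autoImplicit false

namespace Cfsg.Agent.Fus

open Cfsg

variable {Ω : Type*} [Group Ω] {p : ℕ}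

theorem isSimple_of_subgroup [Fact p.Prime] (G : Subgroup Ω) [Finite G] (U : Subgroup Ω) (hUG : U ≤ G)
    (hN : ∀ n ∈ G, n ∈ Subgroup.normalizer (U : Set Ω) → ∃ k : ℕ, n ^ p ^ k = 1)
    (m : ℕ) (hm : ¬ p ∣ m) (hcard : Nat.card G ∣ Nat.card U * m)
    (Z : Set Ω) (hcen : ∀ c ∈ U, (∀ u ∈ U, u * c = c * u) → c = 1 ∨ c ∈ Z) (hZ : Z ⊆ U) (hU1 : U ≠ ⊥)
    (hgen : ∀ T : Subgroup Ω, T ≤ U → (∃ z ∈ Z, z ∈ T) → (∀ x ∈ T, ∀ g ∈ G, g * x * g⁻¹ ∈ U → g * x * g⁻¹ ∈ T) →
      U ≤ T)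
    (S : Sylow p G) : (groupFusionSystem (S : Subgroup G)).IsSimple p := by
  classical
  have hp : p.Prime := Fact.out
  have hUfin : Finite U := Finite.of_injective (Subgroup.inclusion hUG) (Subgroup.inclusion_injective hUG)
  -- `N_G(U)` is a `p`-group, hence equal to `U`
  set N : Subgroup Ω := G ⊓ Subgroup.normalizer (U : Set Ω) with hNdef
  have hNfin : Finite N := Finite.of_injective (Subgroup.inclusion (inf_le_left : N ≤ G))
    (Subgroup.inclusion_injective _)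
  have hNp : IsPGroup p N := by
    rintro ⟨n, hn⟩
    obtain ⟨k, hk⟩ := hN n hn.1 hn.2
    exact ⟨k, Subtype.ext hk⟩
  have hUN : U ≤ N := le_inf hUG Subgroup.le_normalizer
  have hUp : IsPGroup p U := hNp.to_le hUN
  have hNU : N ≤ U := by
    obtain ⟨a, ha⟩ := hNp.exists_card_eq
    obtain ⟨b, hb⟩ := hUp.exists_card_eq
    have h1 : Nat.card N ∣ Nat.card G := Subgroup.card_dvd_of_le inf_le_left
    have h2 : p ^ a ∣ p ^ b * m := by
      rw [← ha, ← hb]; exact h1.trans hcard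
    have h3 : Nat.Coprime (p ^ a) m := Nat.Coprime.pow_left _ ((Nat.Prime.coprime_iff_not_dvd hp).mpr hm)
    have h4 : p ^ a ∣ p ^ b := h3.dvd_of_dvd_mul_right h2
    have h5 : Nat.card N ≤ Nat.card U := by
      rw [ha, hb]; exact Nat.le_of_dvd (pow_pos hp.pos _) h4
    exact (Subgroup.eq_of_le_of_card_ge hUN h5).ge
  have hnorm : ∀ g : G, g ∈ Subgroup.normalizer ((U.subgroupOf G : Subgroup G) : Set G) → (g : Ω) ∈ U := by
    intro g hg
    apply hNU
    refine ⟨g.2, ?_⟩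
    apply mem_normalizer_of_conj
    intro x hx
    exact (Subgroup.mem_normalizer_iff.mp hg ⟨x, hUG hx⟩).mp hx
  refine isSimple_of_cover (MonoidHom.id G) (fun x => ⟨x, rfl⟩) ?_ ?_ (U.subgroupOf G) ?_ ?_ ?_ ?_ ?_ S
  · intro z hz x
    have hz' : z = 1 := hz
    rw [hz', mul_one, one_mul]
  · intro z hz _
    exact hz
  · exact hUp.of_injective (Subgroup.subgroupOfEquivOfLe hUG).toMonoidHom
      (Subgroup.subgroupOfEquivOfLe hUG).injective
  · intro h
    apply hU1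
    rw [Subgroup.subgroupOf_eq_bot] at h
    rw [eq_bot_iff]
    exact fun x hx => h.le_bot ⟨hx, hUG hx⟩
  · intro g hg _
    exact hnorm g hg
  · intro T hTU hT1 hT
    have hfS : Finite (U.subgroupOf G) := inferInstance
    have hUp' : IsPGroup p (U.subgroupOf G) := hUp.of_injective (Subgroup.subgroupOfEquivOfLe hUG).toMonoidHom
      (Subgroup.subgroupOfEquivOfLe hUG).injective
    obtain ⟨c, hc, hc1, hcc⟩ := exists_central_of_normal hUp' hTU (fun s hs t ht => hT t ht s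
      ((U.subgroupOf G).mul_mem ((U.subgroupOf G).mul_mem hs (hTU ht)) ((U.subgroupOf G).inv_mem hs))) hT1
    have h1 : (c : Ω) ∈ Z := by
      rcases hcen c (hTU hc) (fun u hu => congrArg Subtype.val (hcc ⟨u, hUG hu⟩ hu)) with h | h
      · exact absurd (Subtype.ext h) hc1
      · exact h
    have h2 := hgen (T.map G.subtype) ?_ ⟨c, h1, ⟨c, hc, rfl⟩⟩ ?_
    · intro x hx
      obtain ⟨y, hy, hyx⟩ := h2 (hx : (x : Ω) ∈ U)
      have : y = x := Subtype.ext hyx
      rwa [← this]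
    · rintro _ ⟨y, hy, rfl⟩
      exact hTU hy
    · rintro _ ⟨y, hy, rfl⟩ g hg hgy
      exact ⟨⟨g, hg⟩ * y * ⟨g, hg⟩⁻¹, hT y hy ⟨g, hg⟩ hgy, rfl⟩
  · intro g hg
    have hgU : g ∈ U.subgroupOf G := hnorm g hg
    refine Subgroup.subset_closure ⟨hg, U.subgroupOf G, le_rfl, ?_, Subgroup.subset_closure ⟨hg, Or.inr (Or.inr hgU)⟩⟩
    intro c hc
    refine ⟨c, ?_, rfl⟩
    apply hnorm
    apply mem_normalizer_of_conj
    intro x hx
    have h1 := hc x hx
    have h2 : c * x * c⁻¹ = x := by rw [← h1]; group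
    rw [h2]
    exact hx

end Cfsg.Agent.Fus
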