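import Cfsg.Agent.Fus.Cover

/-!
# Fusion systems of groups acting on polar spaces

`Geo p K V X`: a group `X` of isometries of a nondegenerate trace-valued skew-hermitian (or alternating) form
containing all isometries of `p`-power order, `p = char K`.
-/

set_option autoImplicit false
set_option linter.unusedSectionVars false

namespace Cfsg.Agent.Fus.Polar

open Cfsg Cfsg.Agent.Fus

/-- Polar geometry data. -/
structure Geo (p : ℕ) (K V X : Type*) [Field K] [AddCommGroup V] [Module K V] [Group X] where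
  A : X →* Module.End K V
  faith : ∀ g, (∀ x, A g x = x) → g = 1
  σ : K →+* K
  σσ : ∀ a, σ (σ a) = a
  B : V → V → K
  add_left : ∀ x x' y, B (x + x') y = B x y + B x' y
  smul_left : ∀ (a : K) (x y : V), B (a • x) y = a * B x y
  skew : ∀ x y, B y x = - σ (B x y)
  nondeg : ∀ x, x ≠ 0 → ∃ y, B x y ≠ 0
  pres : ∀ g x y, B (A g x) (A g y) = B x y
  tr : ∀ w, ∃ s, s - σ s = B w w
  full : ∀ f : Module.End K V, (∀ x y, B (f x) (f y) = B x y) → (∃ k : ℕ, f ^ p ^ k = 1) → ∃ g, A g = f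
  norms : ∀ c c' : K, c ≠ 0 → σ c = c → σ c' = c' →
    c' ∈ AddSubgroup.closure {d : K | ∃ l : K, l ≠ 0 ∧ d = l * σ l * c}
  ns : ∀ z z' : V, B z z' ≠ 0 → ∀ a : K, ∃ b b' : K,
    B (b • z + b' • z') (b • z + b' • z') = σ a - a
  d2 : ∀ (u u' : V) (l : K) (g : X), B u u = 0 → B u' u' = 0 → B u u' = 1 → l ≠ 0 → A g u = l • u →
    A g u' = (σ l)⁻¹ • u' → (∀ x, B x u = 0 → B x u' = 0 → A g x = x) → σ l = l
  an : ∀ D : Set V, (∀ w, (∀ x ∈ D, B w x = 0) → w ≠ 0 → B w w ≠ 0) → ∀ g, (∀ x ∈ D, A g x = x) → g = 1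

namespace Geo

variable {p : ℕ} {K V X : Type*} [Field K] [AddCommGroup V] [Module K V] [Group X]

section Form

variable (G : Geo p K V X)

theorem add_right (x y y' : V) : G.B x (y + y') = G.B x y + G.B x y' := by
  rw [G.skew (y + y') x, G.skew y x, G.skew y' x, G.add_left, map_add]; ring

theorem smul_right (a : K) (x y : V) : G.B x (a • y) = G.σ a * G.B x y := by
  rw [G.skew (a • y) x, G.skew y x, G.smul_left, map_mul]; ring

theorem zero_left (y : V) : G.B 0 y = 0 := by
  have := G.smul_left 0 0 y; rwa [zero_smul, zero_mul] at this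

theorem zero_right (y : V) : G.B y 0 = 0 := by
  rw [G.skew 0 y, G.zero_left, map_zero, neg_zero]

theorem neg_left (x y : V) : G.B (-x) y = - G.B x y := by
  have := G.smul_left (-1) x y; rwa [neg_one_smul, neg_one_mul] at this

theorem neg_right (x y : V) : G.B x (-y) = - G.B x y := by
  rw [G.skew (-y) x, G.neg_left, map_neg, G.skew y x]

theorem sub_left (x x' y : V) : G.B (x - x') y = G.B x y - G.B x' y := by
  rw [sub_eq_add_neg, G.add_left, G.neg_left, sub_eq_add_neg]

theorem sub_right (x y y' : V) : G.B x (y - y') = G.B x y - G.B x y' := by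
  rw [sub_eq_add_neg, G.add_right, G.neg_right, sub_eq_add_neg]

theorem zero_comm {x y : V} : G.B x y = 0 ↔ G.B y x = 0 := by
  constructor
  · intro h; rw [G.skew x y, h, map_zero, neg_zero]
  · intro h; rw [G.skew y x, h, map_zero, neg_zero]

theorem σ_ne {a : K} (h : a ≠ 0) : G.σ a ≠ 0 := (map_ne_zero_iff _ G.σ.injective).mpr h

theorem ext {g h : X} (H : G.A g = G.A h) : g = h := by
  have h1 : g * h⁻¹ = 1 := by
    apply G.faith
    intro x
    rw [map_mul, H, ← map_mul, mul_inv_cancel, map_one]; rfl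
  rwa [mul_inv_eq_one] at h1

theorem mul_apply (g h : X) (x : V) : G.A (g * h) x = G.A g (G.A h x) := by
  rw [map_mul]; rfl

theorem one_apply (x : V) : G.A 1 x = x := by
  rw [map_one]; rfl

theorem inv_apply (g : X) (x : V) : G.A g⁻¹ (G.A g x) = x := by
  rw [← G.mul_apply, inv_mul_cancel, G.one_apply]

theorem apply_inv (g : X) (x : V) : G.A g (G.A g⁻¹ x) = x := by
  rw [← G.mul_apply, mul_inv_cancel, G.one_apply]

theorem inv_eq {g : X} {x y : V} (h : G.A g x = y) : G.A g⁻¹ y = x := by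
  rw [← h, G.inv_apply]

/-- Eichler maps -/
def eich (u w : V) (s : K) : Module.End K V where
  toFun x := x + G.B x u • w + G.B x w • u + (s * G.B x u) • u
  map_add' x y := by simp only [G.add_left]; module
  map_smul' a x := by simp only [G.smul_left, RingHom.id_apply]; module

theorem eich_apply (u w : V) (s : K) (x : V) :
    G.eich u w s x = x + G.B x u • w + G.B x w • u + (s * G.B x u) • u := rfl

theorem eich_pres {u w : V} {s : K} (hu : G.B u u = 0) (huw : G.B u w = 0) (hs : s - G.σ s = G.B w w) (x y : V) :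
    G.B (G.eich u w s x) (G.eich u w s y) = G.B x y := by
  have hwu := G.zero_comm.mp huw
  simp only [G.eich_apply, G.add_left, G.add_right, G.smul_left, G.smul_right, hu, huw, hwu, map_mul]
  rw [G.skew y u, G.skew y w]
  linear_combination (- G.B x u * G.σ (G.B y u)) * hs

theorem eich_comp {u w w' : V} {s s' : K} (hu : G.B u u = 0) (huw : G.B u w = 0) (huw' : G.B u w' = 0) :
    G.eich u w s * G.eich u w' s' = G.eich u (w + w') (s + s' + G.B w' w) := by
  have hwu' := G.zero_comm.mp huw'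
  ext x
  rw [Module.End.mul_apply]
  simp only [G.eich_apply, G.add_left, G.add_right, G.smul_left, hu, huw, hwu']
  module

theorem eich_zero (u : V) : G.eich u 0 0 = 1 := by
  ext x
  rw [G.eich_apply, G.zero_right]
  simp

theorem eich_conj (g : X) (u w : V) (s : K) :
    G.A g * G.eich u w s * G.A g⁻¹ = G.eich (G.A g u) (G.A g w) s := by
  ext x
  have h : ∀ y, G.B (G.A g⁻¹ x) y = G.B x (G.A g y) := by
    intro y
    rw [← G.pres g, G.apply_inv]
  rw [Module.End.mul_apply, Module.End.mul_apply, G.eich_apply, G.eich_apply, map_add, map_add, map_add,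
    map_smul, map_smul, map_smul, G.apply_inv, h, h]

theorem eich_smul (a : K) (u w : V) (s : K) : G.eich (a • u) w s = G.eich u (G.σ a • w) (a * G.σ a * s) := by
  ext x
  rw [G.eich_apply, G.eich_apply, G.smul_right, G.smul_right, G.σσ]
  module

theorem eich_self (u : V) (t s : K) : G.eich u (t • u) s = G.eich u 0 (s + t + G.σ t) := by
  ext x
  rw [G.eich_apply, G.eich_apply, G.smul_right, G.zero_right]
  module

theorem eich_pow {u w : V} {s : K} (hu : G.B u u = 0) (huw : G.B u w = 0) (k : ℕ) :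
    (G.eich u w s) ^ k = G.eich u ((k : K) • w) ((k : K) * s + (k.choose 2 : K) * G.B w w) := by
  induction k with
  | zero => simp [G.eich_zero]
  | succ k ih =>
    rw [pow_succ, ih, G.eich_comp hu (by rw [G.smul_right, huw, mul_zero]) huw]
    have h1 : ((k + 1).choose 2 : K) = (k : K) + (k.choose 2 : K) := by
      rw [Nat.choose_succ_succ' k 1, Nat.choose_one_right, Nat.cast_add]
    rw [G.smul_right, map_natCast, h1, Nat.cast_succ]
    congr 1
    · module
    · ring

end Form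

section Group

variable (G : Geo p K V X) [Fact p.Prime] [CharP K p]

theorem eich_pow_eq_one {u w : V} {s : K} (hu : G.B u u = 0) (huw : G.B u w = 0) :
    (G.eich u w s) ^ p ^ 2 = 1 := by
  have hp := (Fact.out : p.Prime)
  rw [G.eich_pow hu huw]
  have h1 : ((p ^ 2 : ℕ) : K) = 0 := by
    rw [Nat.cast_pow, CharP.cast_eq_zero, zero_pow two_ne_zero]
  have h2 : ((p ^ 2).choose 2 : K) = 0 := by
    rw [CharP.cast_eq_zero_iff K p]
    apply hp.dvd_choose_pow two_ne_zero
    have := hp.two_le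
    nlinarith
  rw [h1, h2, zero_smul, zero_mul, zero_mul, add_zero, G.eich_zero]

theorem exists_eich {u w : V} {s : K} (hu : G.B u u = 0) (huw : G.B u w = 0) (hs : s - G.σ s = G.B w w) :
    ∃ g, G.A g = G.eich u w s :=
  G.full _ (G.eich_pres hu huw hs) ⟨2, G.eich_pow_eq_one hu huw⟩

theorem pElement_eich {u w : V} {s : K} (hu : G.B u u = 0) (huw : G.B u w = 0) {g : X}
    (h : G.A g = G.eich u w s) : ∃ k : ℕ, g ^ p ^ k = 1 := by
  refine ⟨2, G.ext ?_⟩
  rw [map_pow, h, G.eich_pow_eq_one hu huw, map_one]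

theorem conj_eich {g e : X} {u w : V} {s : K} (h : G.A e = G.eich u w s) :
    G.A (g * e * g⁻¹) = G.eich (G.A g u) (G.A g w) s := by
  rw [map_mul, map_mul, h, G.eich_conj]

/-! ### pointwise stabilisers -/

/-- orthogonal complement -/
def perp (D : Set V) : Set V := {y | ∀ x ∈ D, G.B y x = 0}

/-- pointwise stabiliser -/
def M (D : Set V) : Subgroup X where
  carrier := {g | ∀ x ∈ D, G.A g x = x}
  mul_mem' {a b} ha hb x hx := by rw [G.mul_apply, hb x hx, ha x hx]
  one_mem' x _ := G.one_apply x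
  inv_mem' {a} ha x hx := G.inv_eq (ha x hx)

theorem mem_M {D : Set V} {g : X} : g ∈ G.M D ↔ ∀ x ∈ D, G.A g x = x := Iff.rfl

theorem mem_perp {D : Set V} {y : V} : y ∈ G.perp D ↔ ∀ x ∈ D, G.B y x = 0 := Iff.rfl

theorem perp_insert {D : Set V} {u y : V} : y ∈ G.perp (insert u D) ↔ G.B y u = 0 ∧ y ∈ G.perp D := by
  simp only [mem_perp, Set.forall_mem_insert]

theorem mem_M_insert {D : Set V} {u : V} {g : X} : g ∈ G.M (insert u D) ↔ G.A g u = u ∧ g ∈ G.M D := by
  simp only [mem_M, Set.forall_mem_insert]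

/-- nondegenerate complement -/
def ND (D : Set V) : Prop := ∀ w ∈ G.perp D, w ≠ 0 → ∃ y ∈ G.perp D, G.B w y ≠ 0

theorem ND_empty : G.ND ∅ := by
  intro w _ hw
  obtain ⟨y, hy⟩ := G.nondeg w hw
  exact ⟨y, fun x hx => absurd hx (Set.notMem_empty x), hy⟩

theorem perp_add {D : Set V} {x y : V} (hx : x ∈ G.perp D) (hy : y ∈ G.perp D) : x + y ∈ G.perp D := by
  intro z hz; rw [G.add_left, hx z hz, hy z hz, add_zero]

theorem perp_smul {D : Set V} (a : K) {x : V} (hx : x ∈ G.perp D) : a • x ∈ G.perp D := by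
  intro z hz; rw [G.smul_left, hx z hz, mul_zero]

theorem perp_neg {D : Set V} {x : V} (hx : x ∈ G.perp D) : -x ∈ G.perp D := by
  intro z hz; rw [G.neg_left, hx z hz, neg_zero]

theorem perp_sub {D : Set V} {x y : V} (hx : x ∈ G.perp D) (hy : y ∈ G.perp D) : x - y ∈ G.perp D := by
  intro z hz; rw [G.sub_left, hx z hz, hy z hz, sub_zero]

theorem perp_zero {D : Set V} : (0 : V) ∈ G.perp D := by
  intro z _; exact G.zero_left z

theorem perp_act {D : Set V} {g : X} (hg : g ∈ G.M D) {x : V} (hx : x ∈ G.perp D) : G.A g x ∈ G.perp D := by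
  intro z hz
  rw [← hx z hz, ← G.pres g x z, hg z hz]

theorem eich_mem_M {D : Set V} {u w : V} {s : K} (hu : u ∈ G.perp D) (hw : w ∈ G.perp D) {g : X}
    (h : G.A g = G.eich u w s) : g ∈ G.M D := by
  intro x hx
  rw [h, G.eich_apply, G.zero_comm.mp (hu x hx), G.zero_comm.mp (hw x hx)]
  simp

/-- the subgroup generated by the `p`-elements fixing `D` pointwise -/
def Y (D : Set V) : Subgroup X := Subgroup.closure {g | g ∈ G.M D ∧ ∃ k : ℕ, g ^ p ^ k = 1}

theorem Y_le (D : Set V) : G.Y D ≤ G.M D := by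
  rw [Y, Subgroup.closure_le]
  exact fun g hg => hg.1

theorem Y_mono {D D' : Set V} (h : D ⊆ D') : G.Y D' ≤ G.Y D := by
  apply Subgroup.closure_mono
  rintro g ⟨hg, hk⟩
  exact ⟨fun x hx => hg x (h hx), hk⟩

theorem eich_mem_Y {D : Set V} {u w : V} {s : K} (hu0 : G.B u u = 0) (huw : G.B u w = 0) (hu : u ∈ G.perp D)
    (hw : w ∈ G.perp D) {g : X} (h : G.A g = G.eich u w s) : g ∈ G.Y D :=
  Subgroup.subset_closure ⟨G.eich_mem_M hu hw h, G.pElement_eich hu0 huw h⟩

/-- exact moves -/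
theorem exists_move {D : Set V} {u v : V} (hu : u ∈ G.perp D) (hv : v ∈ G.perp D) (huu : G.B u u = 0)
    (hvv : G.B v v = 0) (hb : G.B u v ≠ 0) (hs : G.σ (G.B u v) = G.B u v) :
    ∃ g ∈ G.Y D, G.A g u = v := by
  set b := G.B u v with hbdef
  have hvu : G.B v u = -b := by rw [G.skew u v, hs]
  have hz : G.B (v - u) (v - u) = 0 := by
    rw [G.sub_left, G.sub_right, G.sub_right, huu, hvv, hvu, ← hbdef]; ring
  obtain ⟨g, hg⟩ := G.exists_eich (u := v - u) (w := 0) (s := b⁻¹) hz (G.zero_right _)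
    (by rw [map_inv₀, hs, sub_self, G.zero_right])
  refine ⟨g, G.eich_mem_Y hz (G.zero_right _) (G.perp_sub hv hu) G.perp_zero hg, ?_⟩
  rw [hg, G.eich_apply, G.zero_right, G.sub_right, huu, ← hbdef, sub_zero, inv_mul_cancel₀ hb]
  module

theorem exists_move' {D : Set V} {u v : V} (hu : u ∈ G.perp D) (hv : v ∈ G.perp D) (huu : G.B u u = 0)
    (hvv : G.B v v = 0) (hb : G.B u v ≠ 0) : ∃ g ∈ G.Y D, ∃ l : K, l ≠ 0 ∧ G.A g u = l • v := by
  have h1 : G.B u (G.B u v • v) = G.σ (G.B u v) * G.B u v := G.smul_right _ _ _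
  obtain ⟨g, hg, he⟩ := G.exists_move hu (G.perp_smul (G.B u v) hv) huu
    (by rw [G.smul_left, G.smul_right, hvv, mul_zero, mul_zero])
    (by rw [h1]; exact mul_ne_zero (G.σ_ne hb) hb)
    (by rw [h1, map_mul, G.σσ]; ring)
  exact ⟨g, hg, _, hb, he⟩

theorem exists_partner {D : Set V} (hD : G.ND D) {u : V} (hu : u ∈ G.perp D) (huu : G.B u u = 0) (hu0 : u ≠ 0) :
    ∃ v ∈ G.perp D, G.B v v = 0 ∧ G.B u v = 1 := by
  obtain ⟨y, hy, hne⟩ := hD u hu hu0
  set y1 := (G.σ (G.B u y))⁻¹ • y with hy1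
  have hy1p : y1 ∈ G.perp D := G.perp_smul _ hy
  have h1 : G.B u y1 = 1 := by
    rw [hy1, G.smul_right, map_inv₀, G.σσ, inv_mul_cancel₀ hne]
  have h2 : G.B y1 u = -1 := by rw [G.skew u y1, h1, map_one]
  obtain ⟨s, hs⟩ := G.tr y1
  clear_value y1
  refine ⟨y1 + (-s) • u, G.perp_add hy1p (G.perp_smul _ hu), ?_, ?_⟩
  · rw [G.add_left, G.add_right, G.add_right, G.smul_left, G.smul_right, G.smul_left, G.smul_right, huu, h1, h2,
      map_neg, ← hs]
    ring
  · rw [G.add_right, G.smul_right, huu, h1, mul_zero, add_zero]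

/-- projection away from a hyperbolic pair -/
theorem exists_proj {D : Set V} {u v : V} (hu : u ∈ G.perp D) (hv : v ∈ G.perp D) (huu : G.B u u = 0)
    (hvv : G.B v v = 0) (huv : G.B u v = 1) {y : V} (hy : y ∈ G.perp D) :
    ∃ (y' : V) (a b : K), y = y' + a • u + b • v ∧ y' ∈ G.perp (insert u (insert v D)) := by
  have hvu : G.B v u = -1 := by rw [G.skew u v, huv, map_one]
  refine ⟨y - (G.B y v) • u - (-G.B y u) • v, G.B y v, -G.B y u, by module, ?_⟩
  rw [G.perp_insert, G.perp_insert]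
  refine ⟨?_, ?_, G.perp_sub (G.perp_sub hy (G.perp_smul _ hu)) (G.perp_smul _ hv)⟩
  · rw [G.sub_left, G.sub_left, G.smul_left, G.smul_left, huu, hvu]; ring
  · rw [G.sub_left, G.sub_left, G.smul_left, G.smul_left, huv, hvv]; ring

theorem ND_insert {D : Set V} (hD : G.ND D) {u v : V} (hu : u ∈ G.perp D) (hv : v ∈ G.perp D) (huu : G.B u u = 0)
    (hvv : G.B v v = 0) (huv : G.B u v = 1) : G.ND (insert u (insert v D)) := by
  intro w hw hw0
  have hw' := hw
  rw [G.perp_insert, G.perp_insert] at hw'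
  obtain ⟨h1, h2, h3⟩ := hw'
  obtain ⟨y, hy, hne⟩ := hD w h3 hw0
  obtain ⟨y', a, b, rfl, hy'⟩ := G.exists_proj hu hv huu hvv huv hy
  refine ⟨y', hy', ?_⟩
  rwa [G.add_right, G.add_right, G.smul_right, G.smul_right, h1, h2, mul_zero, mul_zero, add_zero, add_zero] at hne

/-- transitivity on isotropic points -/
theorem exists_trans {D : Set V} (hD : G.ND D) {u v : V} (hu : u ∈ G.perp D) (hv : v ∈ G.perp D)
    (huu : G.B u u = 0) (hvv : G.B v v = 0) (hu0 : u ≠ 0) (hv0 : v ≠ 0) :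
    ∃ g ∈ G.Y D, ∃ l : K, l ≠ 0 ∧ G.A g u = l • v := by
  by_cases h : G.B u v = 0
  · obtain ⟨x, hx, hxx, hux, hxv⟩ : ∃ x ∈ G.perp D, G.B x x = 0 ∧ G.B u x ≠ 0 ∧ G.B x v ≠ 0 := by
      obtain ⟨u', hu', hu'u', huu'⟩ := G.exists_partner hD hu huu hu0
      by_cases h1 : G.B u' v = 0
      · have hv' : v ∈ G.perp (insert u (insert u' D)) := by
          rw [G.perp_insert, G.perp_insert]
          exact ⟨G.zero_comm.mp h, G.zero_comm.mp h1, hv⟩
        obtain ⟨v', hv'p, hv'v', hvv'⟩ := G.exists_partner (G.ND_insert hD hu hu' huu hu'u' huu') hv' hvv hv0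
        rw [G.perp_insert, G.perp_insert] at hv'p
        obtain ⟨h2, h3, h4⟩ := hv'p
        refine ⟨u' + v', G.perp_add hu' h4, ?_, ?_, ?_⟩
        · rw [G.add_left, G.add_right, G.add_right, hu'u', hv'v', h3, G.zero_comm.mp h3]; ring
        · rw [G.add_right, huu', G.zero_comm.mp h2, add_zero]; exact one_ne_zero
        · rw [G.add_left, h1, zero_add, G.skew v v', hvv', map_one]
          exact neg_ne_zero.mpr one_ne_zero
      · exact ⟨u', hu', hu'u', by rw [huu']; exact one_ne_zero, h1⟩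
    obtain ⟨g, hg, l, hl, he⟩ := G.exists_move' hu hx huu hxx hux
    obtain ⟨g', hg', l', hl', he'⟩ := G.exists_move' hx hv hxx hvv hxv
    refine ⟨g' * g, mul_mem hg' hg, l * l', mul_ne_zero hl hl', ?_⟩
    rw [G.mul_apply, he, map_smul, he', smul_smul]
  · exact G.exists_move' hu hv huu hvv h

/-- the element moving one hyperbolic partner to another -/
theorem exists_reg {D : Set V} {u v v' : V} (hv : v ∈ G.perp D) (hv' : v' ∈ G.perp D)
    (huu : G.B u u = 0) (hvv : G.B v v = 0) (hv'v' : G.B v' v' = 0) (huv : G.B u v = 1) (huv' : G.B u v' = 1) :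
    ∃ (e : X) (w : V) (s : K), w ∈ G.perp D ∧ G.B u w = 0 ∧ s - G.σ s = G.B w w ∧ G.A e = G.eich u w s ∧
      G.A e v = v' ∧ G.A e u = u := by
  have huw : G.B u (v - v') = 0 := by rw [G.sub_right, huv, huv', sub_self]
  have hvu : G.B v u = -1 := by rw [G.skew u v, huv, map_one]
  have hs : -G.B v v' - G.σ (-G.B v v') = G.B (v - v') (v - v') := by
    rw [G.sub_left, G.sub_right, G.sub_right, hvv, hv'v', G.skew v v', map_neg]; ring
  obtain ⟨e, he⟩ := G.exists_eich huu huw hs
  refine ⟨e, v - v', _, G.perp_sub hv hv', huw, hs, he, ?_, ?_⟩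
  · rw [he, G.eich_apply, hvu, G.sub_right, hvv]
    module
  · rw [he, G.eich_apply, huu, huw]
    simp

/-- exact scaling of isotropic vectors -/
theorem exists_scale {D : Set V} {u u' z z' : V} (hu : u ∈ G.perp D) (hu' : u' ∈ G.perp D)
    (huu : G.B u u = 0) (hu'u' : G.B u' u' = 0) (huu' : G.B u u' = 1)
    (hz : z ∈ G.perp (insert u (insert u' D))) (hz' : z' ∈ G.perp (insert u (insert u' D)))
    (hzz' : G.B z z' ≠ 0) {l : K} (hl : l ≠ 0) : ∃ g ∈ G.Y D, G.A g u = l • u := by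
  have hu'u : G.B u' u = -1 := by rw [G.skew u u', huu', map_one]
  have hσl := G.σ_ne hl
  set a := -(G.σ l)⁻¹ with ha
  obtain ⟨b, b', hb⟩ := G.ns z z' hzz' a
  set ζ := b • z + b' • z' with hζ
  have hζp : ζ ∈ G.perp (insert u (insert u' D)) := G.perp_add (G.perp_smul _ hz) (G.perp_smul _ hz')
  rw [G.perp_insert, G.perp_insert] at hζp
  obtain ⟨h1, h2, h3⟩ := hζp
  have h1' := G.zero_comm.mp h1
  have h2' := G.zero_comm.mp h2
  set w := -u + a • u' + ζ with hw
  have hwp : w ∈ G.perp D := G.perp_add (G.perp_add (G.perp_neg hu) (G.perp_smul _ hu')) h3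
  have hww : G.B w w = 0 := by
    rw [hw]
    simp only [G.add_left, G.add_right, G.neg_left, G.neg_right, G.smul_left, G.smul_right, huu, hu'u', huu',
      hu'u, h1, h2, h1', h2', hb]
    ring
  have hu'w : G.B u' w = 1 := by
    rw [hw]
    simp only [G.add_right, G.neg_right, G.smul_right, hu'u', hu'u, h2']
    ring
  have hwu : G.B w (l • u) = 1 := by
    rw [hw]
    simp only [G.add_left, G.neg_left, G.smul_left, G.smul_right, huu, hu'u, h1]
    rw [ha]
    field_simp
    ring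
  obtain ⟨g1, hg1, he1⟩ := G.exists_move hu hu' huu hu'u' (by rw [huu']; exact one_ne_zero)
    (by rw [huu', map_one])
  obtain ⟨g2, hg2, he2⟩ := G.exists_move hu' hwp hu'u' hww (by rw [hu'w]; exact one_ne_zero)
    (by rw [hu'w, map_one])
  obtain ⟨g3, hg3, he3⟩ := G.exists_move hwp (G.perp_smul l hu) hww
    (by rw [G.smul_left, G.smul_right, huu, mul_zero, mul_zero]) (by rw [hwu]; exact one_ne_zero)
    (by rw [hwu, map_one])
  refine ⟨g3 * g2 * g1, mul_mem (mul_mem hg3 hg2) hg1, ?_⟩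
  rw [G.mul_apply, G.mul_apply, he1, he2, he3]

theorem exists_scale' {D : Set V} {u u' : V} (hu : u ∈ G.perp D) (hu' : u' ∈ G.perp D)
    (huu : G.B u u = 0) (hu'u' : G.B u' u' = 0) (huu' : G.B u u' = 1)
    {l : K} (hl : l ≠ 0) (hσ : G.σ l = l) : ∃ g ∈ G.Y D, G.A g u = l • u := by
  have hu'u : G.B u' u = -1 := by rw [G.skew u u', huu', map_one]
  have h1 : G.B u' (l • u) = -l := by rw [G.smul_right, hu'u, hσ]; ring
  obtain ⟨g1, hg1, he1⟩ := G.exists_move hu hu' huu hu'u' (by rw [huu']; exact one_ne_zero)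
    (by rw [huu', map_one])
  obtain ⟨g2, hg2, he2⟩ := G.exists_move hu' (G.perp_smul l hu) hu'u'
    (by rw [G.smul_left, G.smul_right, huu, mul_zero, mul_zero]) (by rw [h1]; exact neg_ne_zero.mpr hl)
    (by rw [h1, map_neg, hσ])
  refine ⟨g2 * g1, mul_mem hg2 hg1, ?_⟩
  rw [G.mul_apply, he1, he2]

end Group

end Geo

end Cfsg.Agent.Fus.Polar
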