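import Cfsg.Agent.Fus.Polar

/-!
# Polar groups: pointwise stabilisers are generated by `p`-elements; Sylow subgroups and Eichler elements
-/

set_option autoImplicit false
set_option linter.unusedSectionVars false

namespace Cfsg.Agent.Fus

variable {Ω : Type*} [Group Ω] {p : ℕ} [Fact p.Prime] [Finite Ω]

/-- a Sylow subgroup contains every normal `p`-subgroup -/
theorem SylIn.le_of_normal {R L N : Subgroup Ω} (h : SylIn p R L) (hN : IsPGroup p N) (hNL : N ≤ L)
    (hn : ∀ g ∈ L, ∀ x ∈ N, g * x * g⁻¹ ∈ N) : N ≤ R := by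
  obtain ⟨l, hl, h1⟩ := h.exists_conj hNL hN
  intro x hx
  have h2 := h1 _ (hn l⁻¹ (L.inv_mem hl) x hx)
  have h3 : l * (l⁻¹ * x * l⁻¹⁻¹) * l⁻¹ = x := by group
  rwa [h3] at h2

theorem SylIn.eq_of_le {R L R' : Subgroup Ω} (h : SylIn p R L) (h1 : R ≤ R') (h2 : R' ≤ L) (h3 : IsPGroup p R') :
    R = R' := by
  have hf : Finite L := inferInstance
  obtain ⟨l, hl, h4⟩ := h.exists_conj h2 h3
  apply le_antisymm h1
  have h5 : Fus.cj l R' ≤ R := cj_le_iff.mpr h4
  have h6 : Nat.card (Fus.cj l R') = Nat.card R' :=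
    (Nat.card_congr (R'.equivMapOfInjective _ (MulAut.conj l).injective).toEquiv).symm
  have h7 : Nat.card R' ≤ Nat.card R := by
    rw [← h6]; exact Subgroup.card_le_of_le h5
  exact (Subgroup.eq_of_le_of_card_ge h1 h7).ge

theorem SylIn.mem_of_normalizer {R L : Subgroup Ω} (h : SylIn p R L) {g : Ω} (hg : g ∈ L)
    (hn : g ∈ Subgroup.normalizer (R : Set Ω)) (hp : ∃ k : ℕ, g ^ p ^ k = 1) : g ∈ R := by
  have h1 : IsPGroup p (Subgroup.zpowers g) := by
    obtain ⟨k, hk⟩ := hp
    rintro ⟨_, n, rfl⟩
    refine ⟨k, Subtype.ext ?_⟩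
    show (g ^ n) ^ p ^ k = 1
    rw [← zpow_natCast, ← zpow_mul, mul_comm, zpow_mul, zpow_natCast, hk, one_zpow]
  have h2 : Subgroup.zpowers g ≤ Subgroup.normalizer (R : Set Ω) := (Subgroup.zpowers_le).mpr hn
  have h3 : IsPGroup p (R ⊔ Subgroup.zpowers g : Subgroup Ω) := IsPGroup.to_sup_of_normal_left' h.isPGroup h1 h2
  have h4 := h.eq_of_le le_sup_left (sup_le h.le ((Subgroup.zpowers_le).mpr hg)) h3
  rw [h4]
  exact (le_sup_right : Subgroup.zpowers g ≤ _) (Subgroup.mem_zpowers g)

theorem SylIn.of_normalizer {R L L' : Subgroup Ω} (h : SylIn p R L') (hL : L' ≤ L)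
    (hn : ∀ g ∈ L, g ∈ Subgroup.normalizer (R : Set Ω) → (∃ k : ℕ, g ^ p ^ k = 1) → g ∈ L') : SylIn p R L := by
  have hf : Finite L := inferInstance
  obtain ⟨P, hP, hRP⟩ := exists_sylIn_ge (h.le.trans hL) h.isPGroup
  by_cases he : R = P
  · rw [he]; exact hP
  · exfalso
    have hlt : R < P := lt_of_le_of_ne hRP he
    obtain ⟨x, hx, hxR⟩ := SetLike.exists_of_lt (lt_inf_normalizer hP.isPGroup hlt)
    apply hxR
    have hxp : ∃ k : ℕ, x ^ p ^ k = 1 := by
      obtain ⟨k, hk⟩ := hP.isPGroup ⟨x, hx.1⟩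
      exact ⟨k, congrArg Subtype.val hk⟩
    exact h.mem_of_normalizer (hn x (hP.le hx.1) hx.2 hxp) hx.2 hxp

end Cfsg.Agent.Fus

namespace Cfsg.Agent.Fus.Polar.Geo

open Cfsg Cfsg.Agent.Fus

variable {p : ℕ} {K V X : Type*} [Field K] [AddCommGroup V] [Module K V] [Group X]
variable (G : Geo p K V X) [Fact p.Prime] [CharP K p] [Finite V]

theorem perp_ssubset {D : Set V} {u v : V} (hu : u ∈ G.perp D) (huv : G.B u v = 1) :
    G.perp (insert u (insert v D)) ⊂ G.perp D := by
  refine ⟨fun y hy => ?_, fun h => ?_⟩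
  · rw [G.perp_insert, G.perp_insert] at hy
    exact hy.2.2
  · have h1 := h hu
    rw [G.perp_insert, G.perp_insert] at h1
    rw [h1.2.1] at huv
    exact zero_ne_one huv

theorem M_le_Y : ∀ (n : ℕ) (D : Set V), (G.perp D).ncard < n → G.ND D → G.M D ≤ G.Y D := by
  intro n
  induction n with
  | zero => intro D h; exact absurd h (Nat.not_lt_zero _)
  | succ n ih =>
    intro D hn hD g hg
    by_cases hiso : ∃ u ∈ G.perp D, u ≠ 0 ∧ G.B u u = 0
    · obtain ⟨u, hu, hu0, huu⟩ := hiso
      obtain ⟨u', hu', hu'u', huu'⟩ := G.exists_partner hD hu huu hu0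
      have hD' := G.ND_insert hD hu hu' huu hu'u' huu'
      have hn' : (G.perp (insert u (insert u' D))).ncard < n := by
        have h1 := Set.ncard_lt_ncard (G.perp_ssubset hu huu') (Set.toFinite _)
        omega
      have hIH := ih _ hn' hD'
      have hYY : G.Y (insert u (insert u' D)) ≤ G.Y D :=
        G.Y_mono ((Set.subset_insert _ _).trans (Set.subset_insert _ _))
      -- it is enough to reach `u` by elements of `Y D`
      have key : ∀ h ∈ G.M D, G.A h u = u → h ∈ G.Y D := by
        intro h hh hhu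
        have h1 : G.B u (G.A h u') = 1 := by
          rw [← huu', ← G.pres h u u', hhu]
        have h2 : G.B (G.A h u') (G.A h u') = 0 := by rw [G.pres, hu'u']
        obtain ⟨e, w, s, hw, huw, hs, he, hev, heu⟩ := G.exists_reg (D := D) hu' (G.perp_act hh hu') huu hu'u' h2
          huu' h1
        have heY : e ∈ G.Y D := G.eich_mem_Y huu huw hu hw he
        have h3 : e⁻¹ * h ∈ G.M (insert u (insert u' D)) := by
          rw [G.mem_M_insert, G.mem_M_insert]
          refine ⟨?_, ?_, mul_mem (InvMemClass.inv_mem (G.Y_le D heY)) hh⟩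
          · rw [G.mul_apply, hhu]; exact G.inv_eq heu
          · rw [G.mul_apply]; exact G.inv_eq hev
        have h4 : h = e * (e⁻¹ * h) := by group
        rw [h4]
        exact mul_mem heY (hYY (hIH h3))
      -- move `g u` to a multiple of `u`
      have hgu0 : G.A g u ≠ 0 := by
        intro h
        apply hu0
        rw [← G.inv_apply g u, h, map_zero]
      obtain ⟨y, hy, l, hl, he⟩ := G.exists_trans hD (G.perp_act hg hu) hu (by rw [G.pres, huu]) huu hgu0 hu0
      have hyg : y * g ∈ G.M D := mul_mem (G.Y_le D hy) hg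
      have hygu : G.A (y * g) u = l • u := by rw [G.mul_apply, he]
      -- it is enough to find an element of `Y D` scaling `u` by `l`
      have key2 : (∃ y' ∈ G.Y D, G.A y' u = l • u) → g ∈ G.Y D := by
        rintro ⟨y', hy', he'⟩
        have h1 : y'⁻¹ * (y * g) ∈ G.Y D := by
          apply key
          · exact mul_mem (InvMemClass.inv_mem (G.Y_le D hy')) hyg
          · rw [G.mul_apply, hygu]; exact G.inv_eq he'
        have h2 : g = y⁻¹ * (y' * (y'⁻¹ * (y * g))) := by group
        rw [h2]
        exact mul_mem (InvMemClass.inv_mem hy) (mul_mem hy' h1)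
      apply key2
      by_cases hne : ∃ z ∈ G.perp (insert u (insert u' D)), z ≠ 0
      · obtain ⟨z, hz, hz0⟩ := hne
        obtain ⟨z', hz', hzz'⟩ := hD' z hz hz0
        exact G.exists_scale hu hu' huu hu'u' huu' hz hz' hzz' hl
      · push Not at hne
        apply G.exists_scale' hu hu' huu hu'u' huu' hl
        -- normalize the action on `u'`
        set v := G.A (y * g) u' with hv
        have hvp : v ∈ G.perp D := G.perp_act hyg hu'
        have hvv : G.B v v = 0 := by rw [hv, G.pres, hu'u']
        have h1 : G.B u (G.σ l • v) = 1 := by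
          rw [G.smul_right, G.σσ, ← G.smul_left, ← hygu, hv, G.pres, huu']
        have h2 : G.B (G.σ l • v) (G.σ l • v) = 0 := by
          rw [G.smul_left, G.smul_right, hvv, mul_zero, mul_zero]
        obtain ⟨e, w, s, hw, huw, hs, he1, hev, heu⟩ := G.exists_reg (D := D) hu' (G.perp_smul (G.σ l) hvp) huu
          hu'u' h2 huu' h1
        have heM : e ∈ G.M D := G.eich_mem_M hu hw he1
        set k := e⁻¹ * (y * g) with hk
        have hkM : k ∈ G.M D := mul_mem (InvMemClass.inv_mem heM) hyg
        have hku : G.A k u = l • u := by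
          rw [hk, G.mul_apply, hygu, map_smul, G.inv_eq heu]
        have hku' : G.A k u' = (G.σ l)⁻¹ • u' := by
          rw [hk, G.mul_apply, ← hv]
          have h3 : v = (G.σ l)⁻¹ • (G.σ l • v) := by
            rw [smul_smul, inv_mul_cancel₀ (G.σ_ne hl), one_smul]
          rw [h3, map_smul, G.inv_eq hev]
        refine G.d2 u u' l k huu hu'u' huu' hl hku hku' ?_
        intro x hxu hxu'
        have h4 : G.A k x - x ∈ G.perp (insert u (insert u' D)) := by
          rw [G.perp_insert, G.perp_insert]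
          refine ⟨?_, ?_, ?_⟩
          · have h5 : G.B (G.A k x) (l • u) = 0 := by rw [← hku, G.pres, hxu]
            rw [G.smul_right] at h5
            rw [G.sub_left, hxu, sub_zero]
            exact (mul_eq_zero.mp h5).resolve_left (G.σ_ne hl)
          · have h5 : G.B (G.A k x) ((G.σ l)⁻¹ • u') = 0 := by rw [← hku', G.pres, hxu']
            rw [G.smul_right] at h5
            rw [G.sub_left, hxu', sub_zero]
            exact (mul_eq_zero.mp h5).resolve_left (G.σ_ne (inv_ne_zero (G.σ_ne hl)))
          · intro d hd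
            rw [G.sub_left, sub_eq_zero]
            conv_lhs => rw [← hkM d hd]
            exact G.pres k x d
        exact sub_eq_zero.mp (hne _ h4)
    · push Not at hiso
      have h1 : g = 1 := G.an D (fun w hw hw0 => hiso w hw hw0) g hg
      rw [h1]; exact one_mem _

end Cfsg.Agent.Fus.Polar.Geo
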