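import Cfsg.Agent.Fus.StrongEmb
import Cfsg.Agent.Fus.StrEmb
import Cfsg.Agent.H48.SPE
set_option autoImplicit false

/-!
# Two conjugate `p`-subgroups generating a subgroup without normal `p`-subgroups
-/

namespace Cfsg.Agent.FusSE

open Cfsg Cfsg.Agent
open scoped Pointwise

section Gen

variable {X : Type*} [Group X] [Finite X] {p : ℕ} [hp : Fact p.Prime]

theorem le_of_normalized {Y : Subgroup X} (hY : IsStronglyPEmbedded p Y) {D K : Subgroup X} (hD : IsPGroup p D)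
    (hDY : D ≤ Y) (hD1 : D ≠ ⊥) (hK : IsPGroup p K) (hDK : D ≤ Subgroup.normalizer (K : Set X)) : K ≤ Y := by
  have hR : IsPGroup p (D ⊔ K : Subgroup X) := hD.to_sup_of_normal_right' hK hDK
  suffices h : D ⊔ K ≤ Y from le_sup_right.trans h
  by_contra hne
  have hlt : (D ⊔ K) ⊓ Y < D ⊔ K := lt_of_le_of_ne inf_le_left fun h => hne (inf_eq_left.1 h)
  obtain ⟨z, hz, hz2⟩ := SetLike.exists_of_lt (Fus.lt_normalizerIn hR hlt)
  have h1 : (D ⊔ K) ⊓ Y ≠ ⊥ := by
    intro h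
    apply hD1
    rw [eq_bot_iff, ← h]
    exact le_inf le_sup_left hDY
  have h2 := H48.SPE.normalizer_le hY (hR.to_le inf_le_left) inf_le_right h1 hz.2
  exact hz2 ⟨hz.1, h2⟩

theorem exists_conj_of_spe {Y : Subgroup X} (hY : IsStronglyPEmbedded p Y) {T : Subgroup X} (hT : IsPGroup p T)
    (hT1 : T ≠ ⊥) : ∃ g : X, ∀ K : Subgroup X, IsPGroup p K → (∀ t ∈ T, ∀ k ∈ K, t * k * t⁻¹ ∈ K) →
      (∀ t ∈ T, ∀ k ∈ K, (g * t * g⁻¹) * k * (g * t * g⁻¹)⁻¹ ∈ K) → K = ⊥ := by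
  obtain ⟨P, hPY, hP1, hP⟩ := H48.SPE.exists_sylow_le hY
  obtain ⟨Q, hQ⟩ := hT.exists_le_sylow
  obtain ⟨x, hx⟩ := MulAction.exists_smul_eq X Q P
  have hxT : ∀ t ∈ T, x * t * x⁻¹ ∈ Y := by
    intro t ht
    apply hPY
    rw [← hx]
    exact ⟨t, hQ ht, rfl⟩
  obtain ⟨g₁, hg₁⟩ : ∃ g : X, g ∉ Y := by
    by_contra h
    push Not at h
    exact hY.2.1 ((Subgroup.eq_top_iff' Y).mpr h)
  refine ⟨x⁻¹ * g₁ * x, fun K hK h1 h2 => ?_⟩
  have hmem : ∀ (a : X) (B : Subgroup X) (b : X), b ∈ MulAut.conj a • B ↔ a⁻¹ * b * a ∈ B := by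
    intro a B b
    rw [Subgroup.mem_pointwise_smul_iff_inv_smul_mem]
    simp [MulAut.smul_def]
  have hnorm : ∀ (D B : Subgroup X), (∀ t ∈ D, ∀ k ∈ B, t * k * t⁻¹ ∈ B) → D ≤ Subgroup.normalizer (B : Set X) := by
    intro D B h t ht
    exact Fus.mem_normalizer_of_conj fun k hk => h t ht k hk
  set T₁ : Subgroup X := MulAut.conj x • T with hT₁
  have hT₁p : IsPGroup p T₁ := hT.map (MulAut.conj x).toMonoidHom
  have hbot : ∀ (a : X) (B : Subgroup X), MulAut.conj a • B = ⊥ → B = ⊥ := by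
    intro a B h
    rw [eq_bot_iff]
    intro b hb
    have : a * b * a⁻¹ ∈ MulAut.conj a • B := by
      rw [hmem]
      simpa [mul_assoc] using hb
    rw [h, Subgroup.mem_bot] at this
    rw [Subgroup.mem_bot]
    exact conj_eq_one_iff.1 this
  have hT₁1 : T₁ ≠ ⊥ := fun h => hT1 (hbot x T h)
  have hT₁Y : T₁ ≤ Y := by
    intro t ht
    rw [hT₁, hmem] at ht
    have := hxT _ ht
    simpa [mul_assoc] using this
  set K₁ : Subgroup X := MulAut.conj x • K with hK₁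
  have hK₁p : IsPGroup p K₁ := hK.map (MulAut.conj x).toMonoidHom
  have hK₁Y : K₁ ≤ Y := by
    refine le_of_normalized hY hT₁p hT₁Y hT₁1 hK₁p (hnorm _ _ ?_)
    intro t ht k hk
    rw [hT₁, hmem] at ht
    rw [hK₁, hmem] at hk ⊢
    have := h1 _ ht _ hk
    convert this using 1
    group
  by_contra hKne
  have hK₁1 : K₁ ≠ ⊥ := fun h => hKne (hbot x K h)
  have h3 : MulAut.conj g₁⁻¹ • K₁ ≤ Y := by
    refine le_of_normalized hY hT₁p hT₁Y hT₁1 (hK₁p.map (MulAut.conj g₁⁻¹).toMonoidHom) (hnorm _ _ ?_)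
    intro t ht k hk
    rw [hT₁, hmem] at ht
    rw [hmem, hK₁, hmem] at hk ⊢
    have := h2 _ ht _ hk
    convert this using 1
    group
  have h4 := H48.SPE.mem_of_conj_le hY hK₁p hK₁Y hK₁1 g₁⁻¹ h3
  exact hg₁ (by simpa using Y.inv_mem h4)

end Gen

section Aut

variable {H : Type*} [Group H] [Finite H] {p : ℕ} [hp : Fact p.Prime]

/-- For a `p`-subgroup `T` of `A` not contained in `Inn(H)` there is a conjugate `T^g` such that all `p`-subgroups
of `A` normalized by `T` and `T^g` are contained in `Inn(H)`. -/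
theorem SEOut.exists_conj {A : Subgroup (MulAut H)} (h : SEOut p A) {T : Subgroup A} (hT : IsPGroup p T)
    (hTI : ¬ T ≤ (Inn H).subgroupOf A) : ∃ g : A, ∀ K : Subgroup A, IsPGroup p K → (∀ t ∈ T, ∀ k ∈ K, t * k * t⁻¹ ∈ K) →
      (∀ t ∈ T, ∀ k ∈ K, (g * t * g⁻¹) * k * (g * t * g⁻¹)⁻¹ ∈ K) → K ≤ (Inn H).subgroupOf A := by
  obtain ⟨hn, E, hE⟩ := h
  set I := (Inn H).subgroupOf A with hI
  have hTq : IsPGroup p (T.map (QuotientGroup.mk' I)) := hT.map _
  have hT1 : T.map (QuotientGroup.mk' I) ≠ ⊥ := by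
    intro h0
    rw [Subgroup.map_eq_bot_iff, QuotientGroup.ker_mk'] at h0
    exact hTI h0
  obtain ⟨g, hg⟩ := exists_conj_of_spe hE hTq hT1
  obtain ⟨a, rfl⟩ := QuotientGroup.mk_surjective g
  refine ⟨a, fun K hK h1 h2 => ?_⟩
  have h3 := hg (K.map (QuotientGroup.mk' I)) (hK.map _) ?_ ?_
  · rw [Subgroup.map_eq_bot_iff, QuotientGroup.ker_mk'] at h3
    exact h3
  · rintro _ ⟨t, ht, rfl⟩ _ ⟨k, hk, rfl⟩
    exact ⟨t * k * t⁻¹, h1 t ht k hk, rfl⟩
  · rintro _ ⟨t, ht, rfl⟩ _ ⟨k, hk, rfl⟩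
    exact ⟨(a * t * a⁻¹) * k * (a * t * a⁻¹)⁻¹, h2 t ht k hk, rfl⟩

/-- A group of automorphisms stabilizing a chain `1 ≤ Z ≤ H` with `Z` of order `p`, `H` abelian, has order at most `p`. -/
theorem SEOut.card_le_prime (hH : IsPGroup p H) (hab : ∀ a b : H, a * b = b * a)
    {A : Subgroup (MulAut H)} (h : SEOut p A) {Z : Subgroup H} (hZ : Nat.card Z = p) {T : Subgroup A}
    (h1 : ∀ t ∈ T, ∀ z ∈ Z, (t : MulAut H) z = z) (h2 : ∀ t ∈ T, ∀ x : H, (t : MulAut H) x * x⁻¹ ∈ Z) :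
    Nat.card T ≤ p := by
  have hInn : ∀ a : MulAut H, a ∈ Inn H → a = 1 := by
    rintro _ ⟨x, rfl⟩
    ext y
    show x * y * x⁻¹ = y
    rw [hab x y, mul_inv_cancel_right]
  have hbotI : (Inn H).subgroupOf A = ⊥ := by
    rw [eq_bot_iff]
    intro a ha
    rw [Subgroup.mem_subgroupOf] at ha
    exact Subtype.ext (hInn _ ha)
  -- automorphisms fixing `W` and `H / W`
  have chain : ∀ W : Subgroup H, ∃ K : Subgroup A, IsPGroup p K ∧ ∀ a : A, a ∈ K ↔
      (∀ z ∈ W, (a : MulAut H) z = z) ∧ ∀ x : H, (a : MulAut H) x * x⁻¹ ∈ W := by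
    intro W
    set c : ℕ → Subgroup H := fun i => match i with
      | 0 => ⊥
      | 1 => W
      | _ => ⊤ with hc
    have hmono : Monotone c := by
      apply monotone_nat_of_le_succ
      intro n
      match n with
      | 0 => exact bot_le
      | 1 => exact le_top
      | n + 2 => exact le_rfl
    refine ⟨(chainStab 2 c rfl hmono).subgroupOf A,
      (isPGroup_chainStab hH 2 c rfl rfl hmono).comap_of_injective A.subtype A.subtype_injective, ?_⟩
    intro a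
    rw [Subgroup.mem_subgroupOf]
    constructor
    · intro ha
      refine ⟨fun z hz => ?_, fun x => ha 1 (by norm_num) x trivial⟩
      have h3 : (a : MulAut H) z * z⁻¹ ∈ (⊥ : Subgroup H) := ha 0 (by norm_num) z hz
      rwa [Subgroup.mem_bot, mul_inv_eq_one] at h3
    · rintro ⟨h3, h4⟩ i hi x hx
      interval_cases i
      · show (a : MulAut H) x * x⁻¹ ∈ (⊥ : Subgroup H)
        rw [Subgroup.mem_bot, mul_inv_eq_one]
        exact h3 x hx
      · exact h4 x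
  have hTp : IsPGroup p T := by
    obtain ⟨K, hK, hK2⟩ := chain Z
    exact hK.to_le fun t ht => (hK2 t).2 ⟨h1 t ht, h2 t ht⟩
  by_cases hT0 : T ≤ (Inn H).subgroupOf A
  · rw [hbotI, le_bot_iff] at hT0
    rw [hT0, Subgroup.card_bot]
    exact hp.out.one_lt.le
  obtain ⟨g, hg⟩ := h.exists_conj hTp hT0
  have hZg : Nat.card (Z.map ((g : MulAut H) : H →* H)) = p := by
    rw [← hZ]
    exact Subgroup.card_map_of_injective (MulEquiv.injective _)
  set Zg : Subgroup H := Z.map ((g : MulAut H) : H →* H) with hZgdef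
  obtain ⟨K, hK, hK2⟩ := chain (Z ⊔ Zg)
  have hZn : Zg.Normal := ⟨fun a ha b => by rwa [hab b a, mul_inv_cancel_right]⟩
  have htW : ∀ t ∈ T, ∀ x : H, (t : MulAut H) x * x⁻¹ ∈ Z ⊔ Zg := fun t ht x => le_sup_left (a := Z) (h2 t ht x)
  have htW' : ∀ t ∈ T, ∀ x : H, ((g * t * g⁻¹ : A) : MulAut H) x * x⁻¹ ∈ Z ⊔ Zg := by
    intro t ht x
    refine le_sup_right (a := Z) ⟨_, h2 t ht (((g⁻¹ : A) : MulAut H) x), ?_⟩
    show (g : MulAut H) ((t : MulAut H) (((g⁻¹ : A) : MulAut H) x) * (((g⁻¹ : A) : MulAut H) x)⁻¹) = _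
    rw [map_mul, map_inv]
    have h5 : (g : MulAut H) (((g⁻¹ : A) : MulAut H) x) = x := by
      rw [← MulAut.mul_apply, ← Subgroup.coe_mul, mul_inv_cancel, Subgroup.coe_one, MulAut.one_apply]
    rw [h5]
    rfl
  -- `K` is normalized by everything acting trivially on `H / W`
  have hnormK : ∀ s : A, (∀ x : H, (s : MulAut H) x * x⁻¹ ∈ Z ⊔ Zg) → ∀ k ∈ K, s * k * s⁻¹ ∈ K := by
    intro s hs k hk
    rw [hK2] at hk ⊢
    have hsW : ∀ w ∈ Z ⊔ Zg, (s : MulAut H) w ∈ Z ⊔ Zg := by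
      intro w hw
      have := (Z ⊔ Zg).mul_mem (hs w) hw
      rwa [inv_mul_cancel_right] at this
    have hsinv : ∀ x : H, ((s⁻¹ : A) : MulAut H) x * x⁻¹ ∈ Z ⊔ Zg := by
      intro x
      have h6 := hs (((s⁻¹ : A) : MulAut H) x)
      have h5 : (s : MulAut H) (((s⁻¹ : A) : MulAut H) x) = x := by
        rw [← MulAut.mul_apply, ← Subgroup.coe_mul, mul_inv_cancel, Subgroup.coe_one, MulAut.one_apply]
      rw [h5] at h6
      have := (Z ⊔ Zg).inv_mem h6
      rwa [mul_inv_rev, inv_inv] at this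
    have hsW' : ∀ w ∈ Z ⊔ Zg, ((s⁻¹ : A) : MulAut H) w ∈ Z ⊔ Zg := by
      intro w hw
      have := (Z ⊔ Zg).mul_mem (hsinv w) hw
      rwa [inv_mul_cancel_right] at this
    have h5 : ∀ x : H, (s : MulAut H) (((s⁻¹ : A) : MulAut H) x) = x := by
      intro x
      rw [← MulAut.mul_apply, ← Subgroup.coe_mul, mul_inv_cancel, Subgroup.coe_one, MulAut.one_apply]
    constructor
    · intro w hw
      show (s : MulAut H) ((k : MulAut H) (((s⁻¹ : A) : MulAut H) w)) = w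
      rw [hk.1 _ (hsW' w hw), h5]
    · intro x
      show (s : MulAut H) ((k : MulAut H) (((s⁻¹ : A) : MulAut H) x)) * x⁻¹ ∈ _
      have h7 := hsW _ (hk.2 (((s⁻¹ : A) : MulAut H) x))
      rw [map_mul, map_inv, h5] at h7
      exact h7
  have hK1 := hg K hK (fun t ht => hnormK t (htW t ht)) (fun t ht => hnormK _ (htW' t ht))
  rw [hbotI, le_bot_iff] at hK1
  -- a generator of `Z^g`
  have hcyc : IsCyclic Zg := isCyclic_of_prime_card hZg
  obtain ⟨⟨w, hw⟩, hgen⟩ := hcyc.exists_generator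
  have hinj : Function.Injective (fun t : T => (⟨((t : A) : MulAut H) w * w⁻¹, h2 t t.2 w⟩ : Z)) := by
    intro t t' htt
    have h8 : ((t : A) : MulAut H) w = ((t' : A) : MulAut H) w := by
      have := congrArg Subtype.val htt
      exact mul_right_cancel this
    have h9 : ((t'⁻¹ * t : T) : A) ∈ K := by
      rw [hK2]
      refine ⟨?_, fun x => htW _ (t'⁻¹ * t : T).2 x⟩
      have hfix : ∀ y ∈ Z ⊔ Zg, (((t'⁻¹ * t : T) : A) : MulAut H) y = y := by
        intro y hy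
        have h10 : Z ⊔ Zg ≤ MonoidHom.eqLocus (((((t'⁻¹ * t : T) : A) : MulAut H) : H →* H)) (MonoidHom.id H) := by
          refine sup_le (fun z hz => h1 _ (t'⁻¹ * t : T).2 z hz) ?_
          intro z hz
          obtain ⟨k, hk⟩ := Subgroup.mem_zpowers_iff.1 (hgen ⟨z, hz⟩)
          have hk' : w ^ k = z := congrArg Subtype.val hk
          have h11 : (((t'⁻¹ * t : T) : A) : MulAut H) w = w := by
            show (((t' : A)⁻¹ : A) : MulAut H) (((t : A) : MulAut H) w) = w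
            rw [h8, ← MulAut.mul_apply, ← Subgroup.coe_mul, inv_mul_cancel, Subgroup.coe_one, MulAut.one_apply]
          show (((t'⁻¹ * t : T) : A) : MulAut H) z = z
          rw [← hk', map_zpow, h11]
        exact h10 hy
      exact hfix
    rw [hK1, Subgroup.mem_bot] at h9
    have h10 : t'⁻¹ * t = 1 := Subtype.ext h9
    exact (inv_mul_eq_one.1 h10).symm
  have := Nat.card_le_card_of_injective _ hinj
  rwa [hZ] at this

end Aut

end Cfsg.Agent.FusSE
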