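import Cfsg.Agent.Fus.StrongEmb

/-!
Groups `A` of automorphisms of a group `H` of order `p²` with `A / Inn H` having a strongly
`p`-embedded subgroup: `H` is elementary abelian and `A` contains a copy of `SL₂(p)`.
-/

set_option autoImplicit false

namespace Cfsg.Agent.FusSE

open Cfsg

variable {H : Type*} [Group H] {p : ℕ}

theorem SEOut.not_isCyclic [Finite H] [Fact p.Prime] {A : Subgroup (MulAut H)} (h : SEOut p A) :
    ¬ IsCyclic H := by
  intro hc
  apply h.not_comm
  intro α _ β _
  obtain ⟨k, hk⟩ := MonoidHom.map_cyclic α.toMonoidHom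
  obtain ⟨l, hl⟩ := MonoidHom.map_cyclic β.toMonoidHom
  ext x
  have h1 : ∀ y, α y = y ^ k := hk
  have h2 : ∀ y, β y = y ^ l := hl
  rw [MulAut.mul_apply, MulAut.mul_apply, h2, h1, h1, h2, ← zpow_mul, ← zpow_mul, mul_comm]

/-- The fixed points of an automorphism. -/
def fixedBy (α : MulAut H) : Subgroup H := (α.toMonoidHom).eqLocus (MonoidHom.id H)

theorem mem_fixedBy {α : MulAut H} {x : H} : x ∈ fixedBy α ↔ α x = x := Iff.rfl

theorem fixedBy_ne_bot [Finite H] [Fact p.Prime] [Nontrivial H] (hH : IsPGroup p H)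
    {α : MulAut H} {m : ℕ} (hα : α ^ p ^ m = 1) : fixedBy α ≠ ⊥ := by
  intro hbot
  have hp : IsPGroup p (Subgroup.zpowers α) := by
    rintro ⟨b, k, hk⟩
    refine ⟨m, Subtype.ext ?_⟩
    have hk' : α ^ k = b := hk
    show b ^ p ^ m = 1
    rw [← hk', ← zpow_natCast, ← zpow_mul, mul_comm, zpow_mul, zpow_natCast, hα, one_zpow]
  have h1 := hp.card_modEq_card_fixedPoints H
  have h2 : p ∣ Nat.card H := by
    obtain ⟨n, hn0, hn1⟩ := hH.nontrivial_iff_card.mp inferInstance
    rw [hn1]
    exact dvd_pow_self p hn0.ne'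
  have h3 : Nat.card (MulAction.fixedPoints (Subgroup.zpowers α) H) = 1 := by
    rw [Nat.card_eq_one_iff_unique]
    refine ⟨⟨?_⟩, ⟨⟨1, fun g => map_one (g : MulAut H)⟩⟩⟩
    rintro ⟨x, hx⟩ ⟨y, hy⟩
    have hx1 : x ∈ fixedBy α := hx ⟨α, Subgroup.mem_zpowers α⟩
    have hy1 : y ∈ fixedBy α := hy ⟨α, Subgroup.mem_zpowers α⟩
    rw [hbot, Subgroup.mem_bot] at hx1 hy1
    exact Subtype.ext (hx1.trans hy1.symm)
  rw [h3] at h1
  have h4 : p ∣ 1 := (Nat.modEq_zero_iff_dvd.mp ((h1.symm.trans (Nat.modEq_zero_iff_dvd.mpr h2))))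
  exact (Fact.out : p.Prime).one_lt.ne' (Nat.dvd_one.mp h4)

/-- Coordinates in an elementary abelian group of order `p²` with respect to two generators. -/
theorem exists_equiv_of_generators {H : Type*} [CommGroup H] [Finite H] [Fact p.Prime]
    (hcard : Nat.card H = p ^ 2) (hexp : ∀ z : H, z ^ p = 1) {x y : H} (hx1 : x ≠ 1)
    (hyx : y ∉ Subgroup.zpowers x) :
    ∃ φ : H ≃* Multiplicative (Fin 2 → ZMod p),
      φ x = Multiplicative.ofAdd (Pi.single 0 1) ∧ φ y = Multiplicative.ofAdd (Pi.single 1 1) := by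
  have hp : p.Prime := Fact.out
  have hy1 : y ≠ 1 := by
    rintro rfl
    exact hyx (one_mem _)
  let f (z : H) : ZMod p →+ Additive H :=
    ZMod.lift p ⟨zmultiplesHom (Additive H) (Additive.ofMul z), by
      rw [zmultiplesHom_apply, natCast_zsmul, ← ofMul_pow, hexp]; rfl⟩
  have hf : ∀ z, f z 1 = Additive.ofMul z := by
    intro z
    have h := ZMod.lift_coe p (⟨zmultiplesHom (Additive H) (Additive.ofMul z), by
      rw [zmultiplesHom_apply, natCast_zsmul, ← ofMul_pow, hexp]; rfl⟩ :
        {f : ℤ →+ Additive H // f p = 0}) 1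
    simpa [f] using h
  have hfv : ∀ z s, f z s = Additive.ofMul (z ^ s.val) := by
    intro z s
    have h : s = s.val • (1 : ZMod p) := by simp
    conv_lhs => rw [h]
    rw [map_nsmul, hf, ofMul_pow]
  let g : (Fin 2 → ZMod p) →+ Additive H :=
    ((f x).comp (Pi.evalAddMonoidHom (fun _ : Fin 2 => ZMod p) 0)) +
      ((f y).comp (Pi.evalAddMonoidHom (fun _ : Fin 2 => ZMod p) 1))
  have hg : ∀ w, g w = Additive.ofMul (x ^ (w 0).val * y ^ (w 1).val) := by
    intro w
    show f x (w 0) + f y (w 1) = _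
    rw [hfv, hfv, ofMul_mul]
  have hginj : Function.Injective g := by
    rw [injective_iff_map_eq_zero]
    intro w hw
    rw [hg, ofMul_eq_zero] at hw
    have hpow : ∀ (z : H) (t : ZMod p), t ≠ 0 → (z ^ t.val) ^ (t⁻¹).val = z := by
      intro z t ht
      rw [← pow_mul]
      have h3 : ((t.val * (t⁻¹).val : ℕ) : ZMod p) = ((1 : ℕ) : ZMod p) := by
        push_cast
        rw [ZMod.natCast_zmod_val, ZMod.natCast_zmod_val, mul_inv_cancel₀ ht]
      rw [ZMod.natCast_eq_natCast_iff] at h3
      have h5 : z ^ (t.val * (t⁻¹).val) = z ^ 1 := by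
        rw [pow_eq_pow_iff_modEq]
        exact h3.of_dvd (orderOf_dvd_of_pow_eq_one (hexp z))
      rw [h5, pow_one]
    have ht : w 1 = 0 := by
      by_contra ht
      apply hyx
      have h1 : y ^ (w 1).val ∈ Subgroup.zpowers x := by
        have h0 : y ^ (w 1).val = (x ^ (w 0).val)⁻¹ := by
          rw [eq_inv_iff_mul_eq_one, mul_comm]; exact hw
        rw [h0]
        exact inv_mem (pow_mem (Subgroup.mem_zpowers x) _)
      rw [← hpow y (w 1) ht]
      exact pow_mem h1 _
    have hs : w 0 = 0 := by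
      by_contra hs
      apply hx1
      rw [ht, ZMod.val_zero, pow_zero, mul_one] at hw
      rw [← hpow x (w 0) hs, hw, one_pow]
    ext i
    fin_cases i
    · exact hs
    · exact ht
  have hbij : Function.Bijective g := by
    rw [Nat.bijective_iff_injective_and_card]
    refine ⟨hginj, ?_⟩
    have h2 : Nat.card (Additive H) = p ^ 2 := hcard
    rw [h2]
    simp
  let ψ : (Fin 2 → ZMod p) ≃+ Additive H := AddEquiv.ofBijective g hbij
  refine ⟨(AddEquiv.toMultiplicativeLeft ψ).symm, ?_, ?_⟩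
  · rw [MulEquiv.symm_apply_eq]
    show x = Additive.toMul (g (Pi.single 0 1))
    rw [hg]
    simp [ZMod.val_one]
  · rw [MulEquiv.symm_apply_eq]
    show y = Additive.toMul (g (Pi.single 1 1))
    rw [hg]
    simp [ZMod.val_one]

theorem SEOut.exists_SL2 [Finite H] [Fact p.Prime] (hcard : Nat.card H = p ^ 2)
    {A : Subgroup (MulAut H)} (h : SEOut p A) :
    (∀ x y : H, x * y = y * x) ∧ (∀ x : H, x ^ p = 1) ∧
      ∃ K : Subgroup A, Nonempty (K ≃* Matrix.SpecialLinearGroup (Fin 2) (ZMod p)) := by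
  have hp : p.Prime := Fact.out
  have hcomm : ∀ x y : H, x * y = y * x :=
    (IsPGroup.isMulCommutative_of_card_eq_prime_sq hcard).is_comm.comm
  have hH : IsPGroup p H := IsPGroup.of_card hcard
  have hInn : ∀ α ∈ Inn H, α = 1 := by
    rintro _ ⟨g, rfl⟩
    ext x
    rw [MulAut.conj_apply, MulAut.one_apply, hcomm g x, mul_inv_cancel_right]
  have hexp : ∀ x : H, x ^ p = 1 := by
    intro x
    by_contra hx
    apply h.not_isCyclic
    have h1 : orderOf x ∣ p ^ 2 := hcard ▸ orderOf_dvd_natCard x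
    obtain ⟨k, hk, hk'⟩ := (Nat.dvd_prime_pow hp).mp h1
    have h2 : k = 2 := by
      by_contra hk2
      have : k ≤ 1 := by omega
      apply hx
      apply orderOf_dvd_iff_pow_eq_one.mp
      rw [hk']
      calc p ^ k ∣ p ^ 1 := pow_dvd_pow p this
        _ = p := pow_one p
    rw [h2, ← hcard] at hk'
    exact isCyclic_of_orderOf_eq_card x hk'
  refine ⟨hcomm, hexp, ?_⟩
  have hnt : Nontrivial H := Finite.one_lt_card_iff_nontrivial.mp (by
    rw [hcard]; exact Nat.one_lt_pow two_ne_zero hp.one_lt)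
  obtain ⟨u, huA, huI, m, hum⟩ := h.exists_pow
  have hu1 : u ≠ 1 := by
    rintro rfl
    exact huI (one_mem _)
  -- order of the centralizer of `u`
  have hCbot : fixedBy u ≠ ⊥ := fixedBy_ne_bot hH hum
  have hCtop : fixedBy u ≠ ⊤ := by
    intro htop
    apply hu1
    ext x
    have : x ∈ fixedBy u := htop ▸ Subgroup.mem_top x
    exact this
  have hCcard : Nat.card (fixedBy u) = p := by
    have h1 : Nat.card (fixedBy u) ∣ p ^ 2 := hcard ▸ Subgroup.card_subgroup_dvd_card _
    obtain ⟨k, hk, hk'⟩ := (Nat.dvd_prime_pow hp).mp h1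
    interval_cases k
    · exfalso
      rw [pow_zero] at hk'
      exact hCbot (Subgroup.eq_bot_of_card_eq _ hk')
    · rw [hk', pow_one]
    · exfalso
      exact hCtop (Subgroup.eq_top_of_card_eq _ (by rw [hk', hcard]))
  have hnormal : ∀ K : Subgroup H, K.Normal := fun K => ⟨fun n hn g => by
    rwa [hcomm g n, mul_inv_cancel_right]⟩
  -- some `g ∈ A` moves the centralizer of `u`
  obtain ⟨g, hgA, x, hxC, hgx⟩ : ∃ g ∈ A, ∃ x ∈ fixedBy u, g x ∉ fixedBy u := by
    by_contra hcon
    push Not at hcon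
    let c : ℕ → Subgroup H := fun i => if i = 0 then ⊥ else if i = 1 then fixedBy u else ⊤
    have hc0 : c 0 = ⊥ := rfl
    have hc1 : c 1 = fixedBy u := rfl
    have hc2 : ∀ i, 2 ≤ i → c i = ⊤ := by
      intro i hi
      have h1 : i ≠ 0 := by omega
      have h2 : i ≠ 1 := by omega
      simp only [c, h1, h2, if_false]
    refine h.no_chain hH (n := 2) (c := c) hc0 (hc2 2 le_rfl) ?_ ?_ ?_ ?_
    · apply monotone_nat_of_le_succ
      intro i
      match i with
      | 0 => rw [hc0]; exact bot_le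
      | i + 1 => rw [hc2 (i + 1 + 1) (by omega)]; exact le_top
    · intro i _
      exact (hnormal _).subgroupOf _
    · intro i hi
      left
      interval_cases i
      · rw [zero_add, hc0, hc1, hCcard, Subgroup.card_bot, mul_one]
      · rw [hc1, hc2 (1 + 1) le_rfl, Subgroup.card_top, hcard, hCcard, sq]
    · intro α hα i x hx
      match i with
      | 0 => rw [hc0, Subgroup.mem_bot] at hx ⊢; rw [hx, map_one]
      | 1 => exact hcon α hα x hx
      | i + 2 => rw [hc2 (i + 2) (by omega)]; exact Subgroup.mem_top _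
  have hx1 : x ≠ 1 := by
    rintro rfl
    exact hgx (by rw [map_one]; exact one_mem _)
  have hCx : fixedBy u = Subgroup.zpowers x := by
    symm
    apply Subgroup.eq_of_le_of_card_ge ((Subgroup.zpowers_le).mpr hxC)
    rw [hCcard, Nat.card_zpowers, orderOf_eq_prime (hexp x) hx1]
  set y := g x with hy
  have hy1 : y ≠ 1 := by
    intro h1
    exact hgx (by rw [h1]; exact one_mem _)
  -- action of `u` on `y`
  have huy : u y * y⁻¹ ∈ fixedBy u := by
    refine triv_on_factor (M := ⊤) (N := fixedBy u) le_top ((hnormal _).subgroupOf _) (Or.inl ?_)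
      (fun _ _ => Subgroup.mem_top _) ?_ hum y (Subgroup.mem_top _)
    · rw [Subgroup.card_top, hcard, hCcard, sq]
    · intro z hz
      rw [mem_fixedBy] at hz
      rw [hz]
      exact hz
  obtain ⟨a, ha⟩ : ∃ a : ℕ, x ^ a = u y * y⁻¹ := by
    rw [hCx, ← mem_powers_iff_mem_zpowers] at huy
    exact huy
  have huy' : u y = y * x ^ a := by rw [ha, hcomm y]; group
  have ha0 : (a : ZMod p) ≠ 0 := by
    intro h0
    rw [ZMod.natCast_eq_zero_iff] at h0
    obtain ⟨b, rfl⟩ := h0
    rw [pow_mul, hexp, one_pow, mul_one] at huy'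
    exact hgx huy'
  have hux : ∀ k : ℕ, (u ^ k) x = x := by
    intro k
    induction k with
    | zero => rfl
    | succ k ih => rw [pow_succ', MulAut.mul_apply, ih]; exact hxC
  have huky : ∀ k : ℕ, (u ^ k) y = y * x ^ (k * a) := by
    intro k
    induction k with
    | zero => simp
    | succ k ih =>
      rw [pow_succ', MulAut.mul_apply, ih, map_mul, map_pow, huy']
      have : u x = x := hxC
      rw [this, mul_assoc, ← pow_add]
      congr 2
      ring
  -- the conjugate `v = g u g⁻¹`
  set v := g * u * g⁻¹ with hv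
  have hvA : v ∈ A := A.mul_mem (A.mul_mem hgA huA) (A.inv_mem hgA)
  have hvg : ∀ z, v (g z) = g (u z) := by
    intro z
    rw [hv, MulAut.mul_apply, MulAut.mul_apply]
    congr 2
    exact MulEquiv.symm_apply_apply g z
  have hvy : v y = y := by
    rw [hy, hvg]
    congr 1
  have hvx : v x * x⁻¹ ∈ Subgroup.zpowers y := by
    obtain ⟨z, hz⟩ := g.surjective x
    have h1 : u z * z⁻¹ ∈ fixedBy u := by
      refine triv_on_factor (M := ⊤) (N := fixedBy u) le_top ((hnormal _).subgroupOf _) (Or.inl ?_)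
        (fun _ _ => Subgroup.mem_top _) ?_ hum z (Subgroup.mem_top _)
      · rw [Subgroup.card_top, hcard, hCcard, sq]
      · intro w hw
        rw [mem_fixedBy] at hw
        rw [hw]
        exact hw
    rw [hCx] at h1
    obtain ⟨j, hj⟩ := h1
    refine ⟨j, ?_⟩
    have hj' : x ^ j = u z * z⁻¹ := hj
    show y ^ j = v x * x⁻¹
    rw [hy, ← map_zpow, hj', map_mul, map_inv, ← hvg, hz]
  obtain ⟨b, hb⟩ : ∃ b : ℕ, y ^ b = v x * x⁻¹ := by
    rw [← mem_powers_iff_mem_zpowers] at hvx
    exact hvx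
  have hvx' : v x = x * y ^ b := by rw [hb, hcomm x]; group
  have hxy : x ∉ Subgroup.zpowers y := by
    intro hmem
    have h1 : Subgroup.zpowers x = Subgroup.zpowers y := by
      apply Subgroup.eq_of_le_of_card_ge ((Subgroup.zpowers_le).mpr hmem)
      rw [Nat.card_zpowers, Nat.card_zpowers, orderOf_eq_prime (hexp x) hx1,
        orderOf_eq_prime (hexp y) hy1]
    apply hgx
    rw [hCx, h1]
    exact Subgroup.mem_zpowers y
  have hyx : y ∉ Subgroup.zpowers x := by rwa [← hCx]
  have hb0 : (b : ZMod p) ≠ 0 := by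
    intro h0
    rw [ZMod.natCast_eq_zero_iff] at h0
    obtain ⟨c, rfl⟩ := h0
    rw [pow_mul, hexp, one_pow, mul_one] at hvx'
    -- then `u` fixes `g⁻¹ x`
    obtain ⟨z, hz⟩ := g.surjective x
    have h2 : u z = z := by
      apply g.injective
      rw [← hvg, hz, hvx']
    have h3 : z ∈ Subgroup.zpowers x := by rw [← hCx]; exact h2
    obtain ⟨j, hj⟩ := h3
    apply hxy
    refine ⟨j, ?_⟩
    have hj' : x ^ j = z := hj
    show y ^ j = x
    rw [hy, ← map_zpow, hj', hz]
  have hvy' : ∀ k : ℕ, (v ^ k) y = y := by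
    intro k
    induction k with
    | zero => rfl
    | succ k ih => rw [pow_succ', MulAut.mul_apply, ih]; exact hvy
  have hvkx : ∀ k : ℕ, (v ^ k) x = x * y ^ (k * b) := by
    intro k
    induction k with
    | zero => simp
    | succ k ih =>
      rw [pow_succ', MulAut.mul_apply, ih, map_mul, map_pow, hvx', hvy, mul_assoc, ← pow_add]
      congr 2
      ring
  -- matrices
  let : CommGroup H := { (inferInstance : Group H) with mul_comm := hcomm }
  obtain ⟨φ, hφx, hφy⟩ := exists_equiv_of_generators hcard hexp hx1 hyx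
  let ρ : Matrix.SpecialLinearGroup (Fin 2) (ZMod p) →* MulAut H :=
    { toFun := fun M => (φ.trans (AddEquiv.toMultiplicative
        (Matrix.SpecialLinearGroup.toLin' M).toAddEquiv)).trans φ.symm
      map_one' := by
        ext z
        simp
      map_mul' := by
        intro M N
        ext z
        simp [map_mul] }
  have hρ : ∀ M z, φ (ρ M z) = Multiplicative.ofAdd (M • (Multiplicative.toAdd (φ z))) := by
    intro M z
    have h1 : ρ M z = φ.symm (Multiplicative.ofAdd ((Matrix.SpecialLinearGroup.toLin' M)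
      (Multiplicative.toAdd (φ z)))) := rfl
    rw [h1, MulEquiv.apply_symm_apply]
    rfl
  have hgen : Subgroup.zpowers x ⊔ Subgroup.zpowers y = ⊤ := by
    have h1 : Nat.card (Subgroup.zpowers x ⊔ Subgroup.zpowers y : Subgroup H) ∣ p ^ 2 :=
      hcard ▸ Subgroup.card_subgroup_dvd_card _
    obtain ⟨k, hk, hk'⟩ := (Nat.dvd_prime_pow hp).mp h1
    have h2 : Subgroup.zpowers x < Subgroup.zpowers x ⊔ Subgroup.zpowers y := by
      refine lt_of_le_of_ne le_sup_left (fun h3 => hyx ?_)
      rw [h3]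
      exact (le_sup_right : Subgroup.zpowers y ≤ _) (Subgroup.mem_zpowers y)
    have h3 : Nat.card (Subgroup.zpowers x) < Nat.card (Subgroup.zpowers x ⊔ Subgroup.zpowers y : Subgroup H) := by
      by_contra h4
      exact h2.ne (Subgroup.eq_of_le_of_card_ge h2.le (not_lt.mp h4))
    rw [Nat.card_zpowers, orderOf_eq_prime (hexp x) hx1, hk'] at h3
    have h5 : k = 2 := by
      by_contra h6
      have h7 : k ≤ 1 := by omega
      have := Nat.pow_le_pow_right hp.pos h7
      rw [pow_one] at this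
      omega
    apply Subgroup.eq_top_of_card_eq
    rw [hk', h5, hcard]
  have hext : ∀ α β : MulAut H, α x = β x → α y = β y → α = β := by
    intro α β h1 h2
    have h3 : Subgroup.zpowers x ⊔ Subgroup.zpowers y ≤ α.toMonoidHom.eqLocus β.toMonoidHom := by
      rw [sup_le_iff, Subgroup.zpowers_le, Subgroup.zpowers_le]
      exact ⟨h1, h2⟩
    rw [hgen] at h3
    ext z
    exact h3 (Subgroup.mem_top z)
  have h01 : (0 : Fin 2) ≠ 1 := by decide
  have h10 : (1 : Fin 2) ≠ 0 := by decide
  have hρ01 : ∀ c, ρ (Matrix.SpecialLinearGroup.transvection h01 c) ∈ A := by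
    intro c
    have h1 : ρ (Matrix.SpecialLinearGroup.transvection h01 c) = u ^ (c * (a : ZMod p)⁻¹).val := by
      apply hext
      · apply φ.injective
        rw [hρ, hux, hφx, toAdd_ofAdd, Matrix.SpecialLinearGroup.transvection_smul_single_fst]
      · apply φ.injective
        rw [hρ, huky, hφy, toAdd_ofAdd, Matrix.SpecialLinearGroup.transvection_smul_single_snd,
          map_mul, map_pow, hφx, hφy, ofAdd_add, ← ofAdd_nsmul, ← Nat.cast_smul_eq_nsmul (ZMod p)]
        push_cast
        rw [ZMod.natCast_zmod_val, inv_mul_cancel_right₀ ha0]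
    rw [h1]
    exact A.pow_mem huA _
  have hρ10 : ∀ c, ρ (Matrix.SpecialLinearGroup.transvection h10 c) ∈ A := by
    intro c
    have h1 : ρ (Matrix.SpecialLinearGroup.transvection h10 c) = v ^ (c * (b : ZMod p)⁻¹).val := by
      apply hext
      · apply φ.injective
        rw [hρ, hvkx, hφx, toAdd_ofAdd, Matrix.SpecialLinearGroup.transvection_smul_single_snd,
          map_mul, map_pow, hφx, hφy, ofAdd_add, ← ofAdd_nsmul, ← Nat.cast_smul_eq_nsmul (ZMod p)]
        push_cast
        rw [ZMod.natCast_zmod_val, inv_mul_cancel_right₀ hb0]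
      · apply φ.injective
        rw [hρ, hvy', hφy, toAdd_ofAdd, Matrix.SpecialLinearGroup.transvection_smul_single_fst]
    rw [h1]
    exact A.pow_mem hvA _
  have hρA : ∀ M, ρ M ∈ A := by
    intro M
    refine Matrix.SL2.transvection_induction (fun M => ρ M ∈ A) ?_ ?_ M
    · intro i j hij c
      fin_cases i <;> fin_cases j
      · exact absurd rfl hij
      · exact hρ01 c
      · exact hρ10 c
      · exact absurd rfl hij
    · intro M N hM hN
      show ρ (M * N) ∈ A
      rw [map_mul]
      exact A.mul_mem hM hN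
  have hρinj : Function.Injective ρ := by
    rw [injective_iff_map_eq_one]
    intro M hM
    apply Matrix.SpecialLinearGroup.toLin'_injective
    rw [map_one]
    apply LinearEquiv.ext
    intro w
    obtain ⟨z, hz⟩ := φ.surjective (Multiplicative.ofAdd w)
    have h1 := hρ M z
    rw [hM, MulAut.one_apply, hz, toAdd_ofAdd] at h1
    have h2 := Multiplicative.ofAdd.injective h1
    exact h2.symm
  let ρ' : Matrix.SpecialLinearGroup (Fin 2) (ZMod p) →* A := ρ.codRestrict A hρA
  have hρ'inj : Function.Injective ρ' := fun M N hMN => hρinj (congrArg Subtype.val hMN)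
  exact ⟨ρ'.range, ⟨(MonoidHom.ofInjective hρ'inj).symm⟩⟩

end Cfsg.Agent.FusSE
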