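import Cfsg.Agent.Fus.AbelianEss
import Cfsg.Agent.Extra.More
import Cfsg.Agent.H56.TwoGroups

/-!
Essential subgroups of small order: groups `H` of order `p^3`, `p^4` and `A ≤ Aut(H)` such that
`A / Inn(H)` has a strongly `p`-embedded subgroup.
-/

set_option autoImplicit false

namespace Cfsg.Agent.FusSE

open Cfsg Cfsg.Agent.Extra
open scoped commutatorElement

variable {H : Type*} [Group H] {p : ℕ}

/-- no invariant flag of length four with factors of order at most `p` -/
theorem SEOut.no_flag [Finite H] [Fact p.Prime] (hH : IsPGroup p H) {A : Subgroup (MulAut H)} (h : SEOut p A)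
    (C₁ C₂ C₃ : Subgroup H) [h₁ : C₁.Normal] [h₂ : C₂.Normal] [h₃ : C₃.Normal] (h12 : C₁ ≤ C₂) (h23 : C₂ ≤ C₃)
    (i1 : ∀ α ∈ A, ∀ x ∈ C₁, α x ∈ C₁) (i2 : ∀ α ∈ A, ∀ x ∈ C₂, α x ∈ C₂) (i3 : ∀ α ∈ A, ∀ x ∈ C₃, α x ∈ C₃)
    (c1 : Nat.card C₁ ≤ p) (c2 : C₁.relIndex C₂ ≤ p) (c3 : C₂.relIndex C₃ ≤ p) (c4 : C₃.index ≤ p) : False := by
  set c : ℕ → Subgroup H := fun i => match i with
    | 0 => ⊥
    | 1 => C₁
    | 2 => C₂
    | 3 => C₃
    | _ => ⊤ with hc
  refine h.no_chain_relIndex hH (n := 4) (c := c) rfl rfl ?_ ?_ ?_ ?_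
  · apply monotone_nat_of_le_succ
    intro n
    match n with
    | 0 => exact bot_le
    | 1 => exact h12
    | 2 => exact h23
    | 3 => exact le_top
    | n + 4 => exact le_rfl
  · intro i hi
    interval_cases i
    · exact (inferInstance : (⊥ : Subgroup H).Normal).subgroupOf _
    · exact h₁.subgroupOf _
    · exact h₂.subgroupOf _
    · exact h₃.subgroupOf _
  · intro i hi
    interval_cases i
    · show (⊥ : Subgroup H).relIndex C₁ ≤ p
      rw [Subgroup.relIndex_bot_left]; exact c1
    · exact c2
    · exact c3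
    · show C₃.relIndex ⊤ ≤ p
      rw [Subgroup.relIndex_top_right]; exact c4
  · intro α hα i x hx
    match i with
    | 0 =>
      have hx' : x = 1 := hx
      rw [hx', map_one]; exact Subgroup.one_mem _
    | 1 => exact i1 α hα x hx
    | 2 => exact i2 α hα x hx
    | 3 => exact i3 α hα x hx
    | n + 4 => trivial

theorem char_inv {C : Subgroup H} [hC : C.Characteristic] (α : MulAut H) {x : H} (hx : x ∈ C) : α x ∈ C := by
  have h1 := Subgroup.characteristic_iff_map_le.mp hC α
  exact h1 ⟨x, hx, rfl⟩

/-- a version for characteristic subgroups -/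
theorem SEOut.no_char_flag [Finite H] [Fact p.Prime] (hH : IsPGroup p H) {A : Subgroup (MulAut H)} (h : SEOut p A)
    (C₁ C₂ C₃ : Subgroup H) [h₁ : C₁.Characteristic] [h₂ : C₂.Characteristic] [h₃ : C₃.Characteristic]
    (h12 : C₁ ≤ C₂) (h23 : C₂ ≤ C₃)
    (c1 : Nat.card C₁ ≤ p) (c2 : C₁.relIndex C₂ ≤ p) (c3 : C₂.relIndex C₃ ≤ p) (c4 : C₃.index ≤ p) : False :=
  h.no_flag hH C₁ C₂ C₃ h12 h23 (fun α _ _ hx => char_inv α hx) (fun α _ _ hx => char_inv α hx)
    (fun α _ _ hx => char_inv α hx) c1 c2 c3 c4

/-- the centralizer of the elements with nontrivial square is characteristic -/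
theorem char_centralizer_sq : (Subgroup.centralizer ({b : H | b ^ 2 ≠ 1} : Set H)).Characteristic := by
  rw [Subgroup.characteristic_iff_map_le]
  rintro φ _ ⟨x, hx, rfl⟩
  rw [Subgroup.mem_centralizer_iff]
  intro b hb
  have h1 : (φ.symm b) ^ 2 ≠ 1 := by
    intro h
    apply hb
    rw [← map_pow] at h
    exact (MulEquiv.map_eq_one_iff φ.symm).mp h
  have h2 := (Subgroup.mem_centralizer_iff.mp hx) _ h1
  have h3 := congrArg φ h2
  rw [map_mul, map_mul, MulEquiv.apply_symm_apply] at h3
  exact h3

/-- the quadratic form argument for `p = 2` -/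
theorem centralizer_sq_index [Finite H] (hcl : ClassTwo H) (hZ : (Subgroup.center H).index = 4)
    (hZ2 : ∀ z ∈ Subgroup.center H, z ^ 2 = 1) (hc : Nat.card (commutator H) = 2)
    (hsq : ∀ x : H, x ^ 2 ∈ commutator H) {y : H} (hy : y ∉ Subgroup.center H) (hy2 : y ^ 2 = 1) :
    Subgroup.center H ≤ Subgroup.centralizer ({b : H | b ^ 2 ≠ 1} : Set H) ∧
      (Subgroup.center H).relIndex (Subgroup.centralizer ({b : H | b ^ 2 ≠ 1} : Set H)) ≤ 2 ∧
      (Subgroup.centralizer ({b : H | b ^ 2 ≠ 1} : Set H)).index ≤ 2 := by
  set K := Subgroup.centralizer ({b : H | b ^ 2 ≠ 1} : Set H) with hK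
  have hle : Subgroup.center H ≤ K := Subgroup.center_le_centralizer _
  -- the nontrivial commutator
  obtain ⟨t, ht1, htu⟩ : ∃ t : H, t ≠ 1 ∧ ∀ x ∈ commutator H, x ≠ 1 → x = t := by
    have h1 : Nontrivial (commutator H) := by
      rw [← Finite.one_lt_card_iff_nontrivial, hc]; norm_num
    obtain ⟨t, ht⟩ := exists_ne (1 : commutator H)
    refine ⟨t, fun h => ht (Subtype.ext h), fun x hx hx1 => ?_⟩
    by_contra hne
    classical
    have : Fintype (commutator H) := Fintype.ofFinite _
    rw [Nat.card_eq_fintype_card] at hc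
    have h2 : ({1, t, ⟨x, hx⟩} : Finset (commutator H)).card ≤ 2 := by
      rw [← hc]; exact Finset.card_le_univ _
    rw [Finset.card_eq_three.mpr ⟨1, t, ⟨x, hx⟩, ht.symm, fun h => hx1 (congrArg Subtype.val h).symm,
      fun h => hne (congrArg Subtype.val h).symm, rfl⟩] at h2
    omega
  -- noncentral a, b noncommuting with nontrivial squares are impossible
  have key : ∀ a b : H, a ^ 2 ≠ 1 → b ^ 2 ≠ 1 → a * b = b * a := by
    intro a b ha hb
    by_contra hab
    have hcab : ⁅a, b⁆ ≠ 1 := fun h => hab (commutatorElement_eq_one_iff_mul_comm.mp h)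
    have hcm : ∀ u v : H, ⁅u, v⁆ ∈ commutator H := fun u v =>
      Subgroup.commutator_mem_commutator (Subgroup.mem_top u) (Subgroup.mem_top v)
    have e1 : ⁅a, b⁆ = t := htu _ (hcm a b) hcab
    have e2 : a ^ 2 = t := htu _ (hsq a) ha
    have e3 : b ^ 2 = t := htu _ (hsq b) hb
    -- y modulo the centre is a, b or ab
    have hcomm : ∀ u v : H, u * v = v * u ∨ ⁅u, v⁆ = t := by
      intro u v
      by_cases h : ⁅u, v⁆ = 1
      · exact Or.inl (commutatorElement_eq_one_iff_mul_comm.mp h)
      · exact Or.inr (htu _ (hcm u v) h)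
    have htt : t * t = 1 := by
      have h1 : t ∈ commutator H := by rw [← e1]; exact hcm a b
      have h2 : (⟨t, h1⟩ : commutator H) ^ Nat.card (commutator H) = 1 := pow_card_eq_one'
      rw [hc] at h2
      have h3 := congrArg Subtype.val h2
      rw [← sq]; exact h3
    -- the subgroup of the elements commuting with a and with b is the centre
    have hcent : Subgroup.centralizer ({a} : Set H) ⊓ Subgroup.centralizer ({b} : Set H) = Subgroup.center H := by
      symm
      apply Subgroup.eq_of_le_of_card_ge
      · intro z hz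
        exact ⟨Subgroup.center_le_centralizer _ hz, Subgroup.center_le_centralizer _ hz⟩
      · have hle1 : Subgroup.centralizer ({a} : Set H) ⊓ Subgroup.centralizer ({b} : Set H) ≤
            Subgroup.centralizer ({a} : Set H) := inf_le_left
        have h0 := Subgroup.relIndex_mul_index hle1
        have h3 : (Subgroup.centralizer ({a} : Set H)).index ≠ 1 := by
          intro h
          rw [Subgroup.index_eq_one] at h
          have hb' : b ∈ Subgroup.centralizer ({a} : Set H) := by rw [h]; trivial
          exact hab (Subgroup.mem_centralizer_singleton_iff.mp hb').symm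
        have h4 : (Subgroup.centralizer ({a} : Set H) ⊓ Subgroup.centralizer ({b} : Set H)).relIndex
            (Subgroup.centralizer ({a} : Set H)) ≠ 1 := by
          intro h
          have ha' : a ∈ Subgroup.centralizer ({a} : Set H) := Subgroup.mem_centralizer_singleton_iff.mpr rfl
          have := (Subgroup.relIndex_eq_one.mp h ha').2
          exact hab (Subgroup.mem_centralizer_singleton_iff.mp this)
        have h5 : (Subgroup.centralizer ({a} : Set H)).index ≠ 0 := Subgroup.index_ne_zero_of_finite
        have h6 : (Subgroup.centralizer ({a} : Set H) ⊓ Subgroup.centralizer ({b} : Set H)).relIndex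
            (Subgroup.centralizer ({a} : Set H)) ≠ 0 := Subgroup.index_ne_zero_of_finite
        have h7 : 4 ≤ (Subgroup.centralizer ({a} : Set H) ⊓ Subgroup.centralizer ({b} : Set H)).index := by
          rw [← h0]
          exact (show 4 ≤ 2 * 2 from le_rfl).trans (Nat.mul_le_mul (by omega) (by omega))
        have h1 := Subgroup.index_mul_card (Subgroup.center H)
        have h2 := Subgroup.index_mul_card (Subgroup.centralizer ({a} : Set H) ⊓ Subgroup.centralizer ({b} : Set H))
        rw [hZ, ← h2] at h1
        have h8 := Nat.mul_le_mul h7 (le_refl (Nat.card (Subgroup.centralizer ({a} : Set H) ⊓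
          Subgroup.centralizer ({b} : Set H) : Subgroup H)))
        rw [← h1] at h8
        exact Nat.le_of_mul_le_mul_left h8 (by norm_num)
    have hinv : ∀ u v : H, ⁅u, v⁆ = t → ⁅v, u⁆ = t := by
      intro u v h
      rw [← commutatorElement_inv, h, inv_eq_iff_mul_eq_one]
      exact htt
    have eba : ⁅b, a⁆ = t := hinv _ _ e1
    have hmem : ∀ x : H, ⁅a, x⁆ = 1 → ⁅b, x⁆ = 1 → x ∈ Subgroup.center H := by
      intro x h1 h2
      rw [← hcent]
      exact ⟨Subgroup.mem_centralizer_singleton_iff.mpr (commutatorElement_eq_one_iff_mul_comm.mp h1).symm,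
        Subgroup.mem_centralizer_singleton_iff.mpr (commutatorElement_eq_one_iff_mul_comm.mp h2).symm⟩
    have hsqmul : ∀ u v : H, (u * v) ^ 2 = u ^ 2 * v ^ 2 * ⁅v, u⁆ := by
      intro u v
      rw [hcl.mul_pow, Nat.choose_self, pow_one]
    have hz1 : ∀ u z : H, z ∈ Subgroup.center H → (u * z) ^ 2 = u ^ 2 := by
      intro u z hz
      have hc' : Commute u z := (Subgroup.mem_center_iff.mp hz u)
      rw [hc'.mul_pow, hZ2 z hz, mul_one]
    rcases hcomm a y with h1 | h1
    · rcases hcomm b y with h2 | h2
      · exact hy (hmem y (commutatorElement_eq_one_iff_mul_comm.mpr h1) (commutatorElement_eq_one_iff_mul_comm.mpr h2))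
      · -- y = a z
        have h3 : a⁻¹ * y ∈ Subgroup.center H := by
          apply hmem
          · rw [hcl.mul_right, commutatorElement_eq_one_iff_mul_comm.mpr h1, mul_one,
              commutatorElement_eq_one_iff_mul_comm]
            group
          · rw [hcl.mul_right, h2, hcl.inv_right, eba, inv_mul_cancel]
        have h4 := hz1 a _ h3
        rw [mul_inv_cancel_left, hy2] at h4
        exact ha h4.symm
    · rcases hcomm b y with h2 | h2
      · have h3 : b⁻¹ * y ∈ Subgroup.center H := by
          apply hmem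
          · rw [hcl.mul_right, h1, hcl.inv_right, e1, inv_mul_cancel]
          · rw [hcl.mul_right, commutatorElement_eq_one_iff_mul_comm.mpr h2, mul_one,
              commutatorElement_eq_one_iff_mul_comm]
            group
        have h4 := hz1 b _ h3
        rw [mul_inv_cancel_left, hy2] at h4
        exact hb h4.symm
      · have h3 : (a * b)⁻¹ * y ∈ Subgroup.center H := by
          apply hmem
          · rw [hcl.mul_right, h1, hcl.inv_right, hcl.mul_right, commutatorElement_self, one_mul, e1,
              inv_mul_cancel]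
          · rw [hcl.mul_right, h2, hcl.inv_right, hcl.mul_right, commutatorElement_self, mul_one, eba,
              inv_mul_cancel]
        have h4 := hz1 (a * b) _ h3
        rw [mul_inv_cancel_left, hy2, hsqmul, e2, e3, eba, htt, one_mul] at h4
        exact ht1 h4.symm
  -- an element with nontrivial square
  obtain ⟨a, ha⟩ : ∃ a : H, a ^ 2 ≠ 1 := by
    by_contra hcon
    push Not at hcon
    apply hy
    rw [Subgroup.mem_center_iff]
    intro g
    have e1 : ∀ u : H, u⁻¹ = u := fun u => by
      rw [inv_eq_iff_mul_eq_one, ← sq]; exact hcon u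
    calc g * y = (g * y)⁻¹ := (e1 _).symm
      _ = y⁻¹ * g⁻¹ := by rw [mul_inv_rev]
      _ = y * g := by rw [e1, e1]
  have haK : a ∈ K := by
    rw [hK, Subgroup.mem_centralizer_iff]
    intro b hb
    exact key b a hb ha
  have haZ : a ∉ Subgroup.center H := fun h => ha (hZ2 a h)
  have hKtop : K ≠ ⊤ := by
    intro h
    apply haZ
    rw [Subgroup.mem_center_iff]
    intro g
    have hg : g ∈ K := by rw [h]; trivial
    exact ((Subgroup.mem_centralizer_iff.mp hg) a ha).symm
  have h1 := Subgroup.relIndex_mul_index hle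
  rw [hZ] at h1
  have h2 : K.index ≠ 1 := fun h => hKtop (Subgroup.index_eq_one.mp h)
  have h3 : (Subgroup.center H).relIndex K ≠ 1 := fun h => haZ (Subgroup.relIndex_eq_one.mp h haK)
  refine ⟨hle, ?_, ?_⟩
  · have h4 : K.index ≠ 0 := Subgroup.index_ne_zero_of_finite
    by_contra hcon
    have : 3 * 2 ≤ (Subgroup.center H).relIndex K * K.index := Nat.mul_le_mul (by omega) (by omega)
    omega
  · have h4 : (Subgroup.center H).relIndex K ≠ 0 := Subgroup.index_ne_zero_of_finite
    by_contra hcon
    have : 2 * 3 ≤ (Subgroup.center H).relIndex K * K.index := Nat.mul_le_mul (by omega) (by omega)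
    omega

theorem center_index_ne_prime [Fact p.Prime] (hnc : ¬ IsMulCommutative H) : (Subgroup.center H).index ≠ p := by
  intro h
  apply hnc
  have h1 : Nat.card (H ⧸ Subgroup.center H) = p := h
  have : IsCyclic (H ⧸ Subgroup.center H) := isCyclic_of_prime_card h1
  exact ⟨⟨commutative_of_cyclic_center_quotient (QuotientGroup.mk' (Subgroup.center H))
    (by rw [QuotientGroup.ker_mk'])⟩⟩

theorem classTwo_of_index [Fact p.Prime] (h : (Subgroup.center H).index = p ^ 2) : ClassTwo H := by
  have h1 : Nat.card (H ⧸ Subgroup.center H) = p ^ 2 := h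
  have h2 : IsMulCommutative (H ⧸ Subgroup.center H) := IsPGroup.isMulCommutative_of_card_eq_prime_sq h1
  rw [classTwo_iff]
  intro x y
  have h3 : QuotientGroup.mk' (Subgroup.center H) ⁅x, y⁆ = 1 := by
    rw [map_commutatorElement, commutatorElement_eq_one_iff_mul_comm]
    exact h2.is_comm.comm _ _
  rwa [← MonoidHom.mem_ker, QuotientGroup.ker_mk'] at h3

theorem not_comm_of_center_ne_top (h : Subgroup.center H ≠ ⊤) : ¬ IsMulCommutative H := by
  intro hc
  apply h
  rw [eq_top_iff]
  intro x _
  rw [Subgroup.mem_center_iff]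
  intro g
  exact hc.is_comm.comm g x

theorem center_ne_top_of_not_comm (h : ¬ IsMulCommutative H) : Subgroup.center H ≠ ⊤ := by
  intro hc
  apply h
  refine ⟨⟨fun a b => ?_⟩⟩
  have hb : b ∈ Subgroup.center H := by rw [hc]; trivial
  exact Subgroup.mem_center_iff.mp hb a

/-- order `p ^ 3` -/
theorem SEOut.order_cube [Finite H] [Fact p.Prime] (hH : IsPGroup p H) {A : Subgroup (MulAut H)} (h : SEOut p A)
    (hcard : Nat.card H = p ^ 3) : (IsMulCommutative H ∧ ∀ x : H, x ^ p = 1) ∨
      (Odd p ∧ IsExtraspecial p H ∧ ∀ x : H, x ^ p = 1) ∨ (p = 2 ∧ Nonempty (H ≃* QuaternionGroup 2)) := by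
  have hp : p.Prime := Fact.out
  by_cases hab : IsMulCommutative H
  · left
    refine ⟨hab, ?_⟩
    let : CommGroup H := { (inferInstance : Group H) with mul_comm := hab.is_comm.comm }
    by_contra hcon
    push Not at hcon
    obtain ⟨x, hx⟩ := hcon
    have h1 : Nat.card (om H p 1) ≤ p ^ 2 := by
      have h2 : Nat.card (om H p 1) ∣ p ^ 3 := by rw [← hcard]; exact Subgroup.card_subgroup_dvd_card _
      obtain ⟨k, hk, hk1⟩ := (Nat.dvd_prime_pow hp).mp h2
      have hk3 : k ≠ 3 := by
        rintro rfl
        rw [← hcard] at hk1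
        have h3 := Subgroup.eq_top_of_card_eq _ hk1
        have h4 : x ∈ om H p 1 := by rw [h3]; trivial
        rw [mem_om, pow_one] at h4
        exact hx h4
      rw [hk1]
      exact Nat.pow_le_pow_right hp.pos (by omega)
    rcases h.rank_two hH h1 with ⟨h3, -⟩ | ⟨-, k, ⟨e⟩⟩
    · exact hx (h3 x)
    · have h4 := Nat.card_congr e.toEquiv
      rw [hcard, Nat.card_congr Multiplicative.toAdd, Nat.card_prod, Nat.card_zmod, ← pow_add] at h4
      have h5 := Nat.pow_right_injective hp.two_le h4
      omega
  · right
    obtain ⟨k, hk0, hk⟩ := IsPGroup.card_center_eq_prime_pow hcard (by norm_num)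
    have h1 := Subgroup.index_mul_card (Subgroup.center H)
    have hk3 : k ≤ 3 := by
      have h2 : Nat.card (Subgroup.center H) ∣ p ^ 3 := by rw [← hcard]; exact Subgroup.card_subgroup_dvd_card _
      rw [hk] at h2
      exact (Nat.pow_dvd_pow_iff_le_right hp.one_lt).mp h2
    rw [hk, hcard] at h1
    have hk1 : k = 1 := by
      interval_cases k
      · rfl
      · exfalso
        apply center_index_ne_prime (p := p) hab
        have h2 : (Subgroup.center H).index * p ^ 2 = p * p ^ 2 := by rw [h1]; ring
        exact Nat.eq_of_mul_eq_mul_right (pow_pos hp.pos 2) h2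
      · exfalso
        apply center_ne_top_of_not_comm hab
        rw [← Subgroup.index_eq_one]
        have h2 : (Subgroup.center H).index * p ^ 3 = 1 * p ^ 3 := by rw [h1]; ring
        exact Nat.eq_of_mul_eq_mul_right (pow_pos hp.pos 3) h2
    subst hk1
    rw [pow_one] at hk h1
    have hidx : (Subgroup.center H).index = p ^ 2 := by
      have h2 : (Subgroup.center H).index * p = p ^ 2 * p := by rw [h1]; ring
      exact Nat.eq_of_mul_eq_mul_right hp.pos h2
    have hcl : ClassTwo H := classTwo_of_index hidx
    have hG : GES p H := ⟨hk, hcl⟩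
    have hE : IsExtraspecial p H := isExtraspecial_of_ges hG (center_ne_top_of_not_comm hab)
    -- a characteristic maximal subgroup containing the centre is impossible
    have hno : ∀ K : Subgroup H, K.Characteristic → Subgroup.center H ≤ K → (Subgroup.center H).relIndex K ≤ p →
        K.index ≤ p → False := by
      intro K hK h1 h2 h3
      refine h.no_char_flag hH (Subgroup.center H) K ⊤ h1 le_top hk.le h2 ?_ ?_
      · rw [Subgroup.relIndex_top_right]; exact h3
      · rw [Subgroup.index_top]; exact hp.one_lt.le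
    by_cases hp2 : p = 2
    · right
      refine ⟨hp2, ?_⟩
      subst hp2
      by_cases hy : ∃ y : H, y ∉ Subgroup.center H ∧ y ^ 2 = 1
      · exfalso
        obtain ⟨y, hy1, hy2⟩ := hy
        obtain ⟨k1, k2, k3⟩ := centralizer_sq_index hcl hidx (fun z hz => hG.center_pow hz)
          (by rw [hE.1.2.2]; exact hk) (fun x => by rw [hE.1.2.2]; exact hG.pow_mem_center x) hy1 hy2
        exact hno _ char_centralizer_sq k1 k2 k3
      · push Not at hy
        have huniq : ∀ x y : H, orderOf x = 2 → orderOf y = 2 → x = y := by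
          intro x y hx hy'
          have hxZ : x ∈ Subgroup.center H := by
            by_contra hcon
            apply hy x hcon
            rw [← hx]; exact pow_orderOf_eq_one x
          have hyZ : y ∈ Subgroup.center H := by
            by_contra hcon
            apply hy y hcon
            rw [← hy']; exact pow_orderOf_eq_one y
          have hx1 : x ≠ 1 := by rintro rfl; rw [orderOf_one] at hx; norm_num at hx
          have hy1 : y ≠ 1 := by rintro rfl; rw [orderOf_one] at hy'; norm_num at hy'
          obtain ⟨n, hn⟩ := hG.exists_pow_eq hxZ hx1 hyZ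
          have h4 : x ^ n = x ^ (n % 2) := by
            have := pow_mod_orderOf x n
            rw [hx] at this; exact this.symm
          rw [h4] at hn
          rcases Nat.mod_two_eq_zero_or_one n with h5 | h5
          · rw [h5, pow_zero] at hn; exact absurd hn.symm hy1
          · rw [h5, pow_one] at hn; exact hn
        rcases H56.order_eight_unique_involution (by rw [hcard]; norm_num) huniq with h3 | h3
        · exact absurd ⟨⟨fun a b => (IsCyclic.commGroup (α := H)).mul_comm a b⟩⟩ hab
        · exact h3
    · left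
      refine ⟨hp.odd_of_ne_two hp2, hE, ?_⟩
      by_contra hcon
      push Not at hcon
      obtain ⟨x, hx⟩ := hcon
      have hchar : (powHom hp2 hG).ker.Characteristic := by
        rw [Subgroup.characteristic_iff_map_le]
        rintro φ _ ⟨y, hy, rfl⟩
        rw [mem_ker_powHom] 
        have h1 := (mem_ker_powHom hp2 hG y).mp hy
        show φ y ^ p = 1
        rw [← map_pow, h1, map_one]
      have hle : Subgroup.center H ≤ (powHom hp2 hG).ker := fun z hz =>
        (mem_ker_powHom hp2 hG z).mpr (hG.center_pow hz)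
      have hi := index_ker_powHom_le hp2 hG
      have hne : (powHom hp2 hG).ker.index ≠ 1 := by
        intro h3
        rw [Subgroup.index_eq_one] at h3
        have h4 : x ∈ (powHom hp2 hG).ker := by rw [h3]; trivial
        exact hx ((mem_ker_powHom hp2 hG x).mp h4)
      refine hno _ hchar hle ?_ hi
      have h3 := Subgroup.relIndex_mul_index hle
      rw [hidx] at h3
      have h4 : (powHom hp2 hG).ker.index ∣ p ^ 2 := Dvd.intro_left _ h3
      obtain ⟨j, hj, hj1⟩ := (Nat.dvd_prime_pow hp).mp h4
      rw [hj1] at hne hi h3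
      have hj2 : 1 ≤ j := by
        rcases Nat.eq_zero_or_pos j with rfl | h5
        · exact absurd (pow_zero p) hne
        · exact h5
      have h5 : (Subgroup.center H).relIndex (powHom hp2 hG).ker * p ≤ p * p := by
        rw [← sq, ← h3]
        exact Nat.mul_le_mul_left _ (by calc p = p ^ 1 := (pow_one p).symm
                                         _ ≤ p ^ j := Nat.pow_le_pow_right hp.pos hj2)
      exact Nat.le_of_mul_le_mul_right h5 hp.pos

end Cfsg.Agent.FusSE
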