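import Cfsg.Agent.Fus.SmallEss
import Cfsg.Agent.Fus.SmallP
import Cfsg.Agent.Fus.MaxCls2
import Mathlib.GroupTheory.NoncommCoprod
set_option autoImplicit false
set_option linter.all false

/-!
# Essential subgroups of order `p ^ 4` (helper86)
-/

namespace Cfsg.Agent.FusSE

open Cfsg Cfsg.Agent.Extra Subgroup
open scoped commutatorElement

/-- internal direct product with a central subgroup of prime order -/
theorem exists_prod_equiv {G : Type*} [Group G] {p : ℕ} [hp : Fact p.Prime] (K : Subgroup G) {w : G}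
    (hcen : ∀ k ∈ K, k * w = w * k) (hw : w ^ p = 1) (hwK : w ∉ K) :
    Nonempty ((K ⊔ zpowers w : Subgroup G) ≃* K × Multiplicative (ZMod p)) := by
  have hw1 : w ≠ 1 := fun h => hwK (h ▸ K.one_mem)
  have hord : orderOf w = p := orderOf_eq_prime hw hw1
  have hcard : Nat.card (zpowers w) = p := by rw [Nat.card_zpowers, hord]
  have e0 : zpowers w ≃* Multiplicative (ZMod p) :=
    mulEquivOfPrimeCardEq hcard (by rw [Nat.card_congr Multiplicative.toAdd, Nat.card_zmod])
  have comm : ∀ (m : K) (n : zpowers w), Commute (K.subtype m) ((zpowers w).subtype n) := by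
    rintro m ⟨n, i, rfl⟩
    exact (show Commute (m : G) w from hcen m m.2).zpow_right i
  have hdisj : Disjoint K (zpowers w) := by
    have : Fact (Nat.card (zpowers w)).Prime := ⟨by rw [hcard]; exact hp.out⟩
    rcases Subgroup.eq_bot_or_eq_top_of_prime_card (K.subgroupOf (zpowers w)) with h | h
    · rw [Subgroup.subgroupOf_eq_bot] at h; exact h
    · rw [Subgroup.subgroupOf_eq_top] at h
      exact absurd (h (mem_zpowers w)) hwK
  let f : K × zpowers w →* G := MonoidHom.noncommCoprod K.subtype (zpowers w).subtype comm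
  have hinj : Function.Injective f := by
    rw [MonoidHom.noncommCoprod_injective]
    refine ⟨K.subtype_injective, (zpowers w).subtype_injective, ?_⟩
    rw [Subgroup.range_subtype, Subgroup.range_subtype]; exact hdisj
  have hr : f.range = K ⊔ zpowers w := by
    rw [MonoidHom.noncommCoprod_range, Subgroup.range_subtype, Subgroup.range_subtype]
  let e1 : K × zpowers w ≃* f.range := MonoidHom.ofInjective hinj
  exact ⟨((MulEquiv.subgroupCongr hr.symm).trans e1.symm).trans (MulEquiv.prodCongr (MulEquiv.refl _) e0)⟩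

section Comm

variable {H : Type*} [CommGroup H] {p : ℕ}

theorem exists_equiv_211 [Finite H] [hp : Fact p.Prime] (hcard : Nat.card H = p ^ 4)
    (hom : Nat.card (om H p 1) = p ^ 3) :
    Nonempty (H ≃* Multiplicative (ZMod (p ^ 2) × ZMod p × ZMod p)) := by
  have hpp := hp.out
  have hlt : ∀ {a b : ℕ}, a < b → p ^ a < p ^ b := fun h => Nat.pow_lt_pow_right hpp.one_lt h
  obtain ⟨x, hx⟩ : ∃ x : H, x ∉ om H p 1 := by
    by_contra hcon
    push Not at hcon
    have h1 : om H p 1 = ⊤ := (Subgroup.eq_top_iff' _).2 hcon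
    rw [h1, Subgroup.card_top, hcard] at hom
    exact absurd hom (hlt (by norm_num)).ne'
  have hker : om H p 1 = (powMonoidHom p : H →* H).ker := by
    ext y; rw [mem_om, pow_one]; rfl
  have hrange : Nat.card (powMonoidHom p : H →* H).range = p := by
    have h1 := Subgroup.card_mul_index (om H p 1)
    rw [hom, hcard, hker, Subgroup.index_ker] at h1
    have h2 : p ^ 3 * Nat.card (powMonoidHom p : H →* H).range = p ^ 3 * p := by rw [h1]; ring
    exact Nat.eq_of_mul_eq_mul_left (pow_pos hpp.pos 3) h2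
  have hxp : x ^ p ^ 2 = 1 := by
    have h0 : ∀ u : (powMonoidHom p : H →* H).range, u ^ p = 1 := by
      intro u
      have h1 : u ^ Nat.card (powMonoidHom p : H →* H).range = 1 := pow_card_eq_one'
      rwa [hrange] at h1
    have h2 := congrArg Subtype.val (h0 ⟨x ^ p, ⟨x, rfl⟩⟩)
    rw [sq, pow_mul]
    exact h2
  have hordx : orderOf x = p ^ 2 := by
    refine orderOf_eq_prime_pow (n := 1) ?_ hxp
    rw [mem_om] at hx; exact hx
  have hcx : Nat.card (zpowers x) = p ^ 2 := by rw [Nat.card_zpowers, hordx]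
  obtain ⟨y, hy, hyx⟩ : ∃ y ∈ om H p 1, y ∉ zpowers x := by
    by_contra hcon
    push Not at hcon
    have h1 := Subgroup.card_le_of_le (show om H p 1 ≤ zpowers x from hcon)
    rw [hom, hcx] at h1
    exact absurd h1 (not_le_of_gt (hlt (by norm_num)))
  rw [mem_om, pow_one] at hy
  obtain ⟨e1⟩ := exists_prod_equiv (p := p) (zpowers x) (w := y) (fun k _ => mul_comm _ _) hy hyx
  have hcz : Nat.card (Multiplicative (ZMod p)) = p := by
    rw [Nat.card_congr Multiplicative.toAdd, Nat.card_zmod]
  have hc1 : Nat.card (zpowers x ⊔ zpowers y : Subgroup H) = p ^ 3 := by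
    rw [Nat.card_congr e1.toEquiv, Nat.card_prod, hcx, hcz]; ring
  obtain ⟨w, hw, hwK⟩ : ∃ w ∈ om H p 1, w ∉ zpowers x ⊔ zpowers y := by
    by_contra hcon
    push Not at hcon
    have h1 : om H p 1 ≤ zpowers x ⊔ zpowers y := hcon
    have h2 := Subgroup.eq_of_le_of_card_ge h1 (by rw [hom, hc1])
    apply hx
    rw [h2]
    exact (le_sup_left : zpowers x ≤ _) (mem_zpowers x)
  rw [mem_om, pow_one] at hw
  obtain ⟨e2⟩ := exists_prod_equiv (p := p) (zpowers x ⊔ zpowers y) (w := w) (fun k _ => mul_comm _ _) hw hwK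
  have hc2 : Nat.card (zpowers x ⊔ zpowers y ⊔ zpowers w : Subgroup H) = p ^ 4 := by
    rw [Nat.card_congr e2.toEquiv, Nat.card_prod, hc1, hcz]; ring
  have htop : zpowers x ⊔ zpowers y ⊔ zpowers w = (⊤ : Subgroup H) :=
    Subgroup.eq_top_of_card_eq _ (by rw [hc2, hcard])
  have e3 : zpowers x ≃* Multiplicative (ZMod (p ^ 2)) :=
    mulEquivOfCyclicCardEq (by rw [hcx, Nat.card_congr Multiplicative.toAdd, Nat.card_zmod])
  have e4 : H ≃* (zpowers x × Multiplicative (ZMod p)) × Multiplicative (ZMod p) :=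
    ((Subgroup.topEquiv.symm.trans (MulEquiv.subgroupCongr htop.symm)).trans e2).trans
      (MulEquiv.prodCongr e1 (MulEquiv.refl _))
  have e5 : H ≃* Multiplicative (ZMod (p ^ 2)) × (Multiplicative (ZMod p) × Multiplicative (ZMod p)) :=
    (e4.trans MulEquiv.prodAssoc).trans (MulEquiv.prodCongr e3 (MulEquiv.refl _))
  exact ⟨e5.trans ((MulEquiv.prodCongr (MulEquiv.refl _) (MulEquiv.prodMultiplicative _ _).symm).trans
    (MulEquiv.prodMultiplicative _ _).symm)⟩

theorem SEOut.order_four_comm [Finite H] [Fact p.Prime] (hH : IsPGroup p H) {A : Subgroup (MulAut H)}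
    (h : SEOut p A) (hcard : Nat.card H = p ^ 4) :
    (∀ x : H, x ^ p = 1) ∨ Nonempty (H ≃* Multiplicative (ZMod (p ^ 2) × ZMod p × ZMod p)) ∨
      ((p = 2 ∨ p = 3) ∧ Nonempty (H ≃* Multiplicative (ZMod (p ^ 2) × ZMod (p ^ 2)))) := by
  have hp : p.Prime := Fact.out
  have h2 : Nat.card (om H p 1) ∣ p ^ 4 := by rw [← hcard]; exact Subgroup.card_subgroup_dvd_card _
  obtain ⟨k, hk, hk1⟩ := (Nat.dvd_prime_pow hp).mp h2
  rcases Nat.lt_or_ge 2 k with hk2 | hk2
  · rcases (by omega : k = 3 ∨ k = 4) with rfl | rfl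
    · right; left; exact exists_equiv_211 hcard hk1
    · left
      intro x
      rw [← hcard] at hk1
      have h3 := Subgroup.eq_top_of_card_eq _ hk1
      have h4 : x ∈ om H p 1 := by rw [h3]; trivial
      rwa [mem_om, pow_one] at h4
  · right; right
    rcases h.rank_two hH (by rw [hk1]; exact Nat.pow_le_pow_right hp.pos hk2) with ⟨-, h4⟩ | ⟨h3, k', ⟨e⟩⟩
    · exfalso
      rw [hcard] at h4
      have := Nat.pow_right_injective hp.two_le h4
      omega
    · have h4 := Nat.card_congr e.toEquiv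
      rw [hcard, Nat.card_congr Multiplicative.toAdd, Nat.card_prod, Nat.card_zmod, ← pow_add] at h4
      have h5 := Nat.pow_right_injective hp.two_le h4
      have h6 : k' = 2 := by omega
      subst h6
      refine ⟨?_, ⟨e⟩⟩
      have := hp.two_le
      omega

end Comm

section Nonab

variable {H : Type*} [Group H] {p : ℕ}

/-- the elements whose `p`-th power lies in `N ≥ H'` -/
theorem exists_powK {N : Subgroup H} (hN : commutator H ≤ N) (p : ℕ) :
    ∃ K : Subgroup H, (∀ x, x ∈ K ↔ x ^ p ∈ N) ∧ (N.Characteristic → K.Characteristic) ∧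
      (∀ Z : Subgroup H, (∀ x : H, x ^ p ∈ Z) → N.relIndex Z ≠ 0 → K.index ≤ N.relIndex Z) := by
  have hNn : N.Normal := Subgroup.Normal.of_commutator_le H hN
  have hcomm : IsMulCommutative (H ⧸ N) := (Subgroup.Normal.quotient_commutative_iff_commutator_le).2 hN
  let f : H →* H ⧸ N :=
    { toFun := fun x => (QuotientGroup.mk x : H ⧸ N) ^ p
      map_one' := by simp
      map_mul' := fun x y => by
        rw [QuotientGroup.mk_mul, Commute.mul_pow (hcomm.is_comm.comm _ _)] }
  have hmem : ∀ x, x ∈ f.ker ↔ x ^ p ∈ N := by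
    intro x
    rw [MonoidHom.mem_ker]
    show (QuotientGroup.mk x : H ⧸ N) ^ p = 1 ↔ _
    rw [← QuotientGroup.mk_pow, QuotientGroup.eq_one_iff]
  refine ⟨f.ker, hmem, ?_, ?_⟩
  · intro hc
    rw [Subgroup.characteristic_iff_map_le]
    rintro φ _ ⟨y, hy, rfl⟩
    have h1 := (hmem y).1 hy
    refine (hmem _).2 ?_
    show (φ y) ^ p ∈ N
    rw [← map_pow]
    exact char_inv (C := N) φ h1
  · intro Z hZ h0
    rw [Subgroup.index_ker]
    have h1 : f.range ≤ Z.map (QuotientGroup.mk' N) := by
      rintro _ ⟨x, rfl⟩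
      exact ⟨x ^ p, hZ x, rfl⟩
    have h2 : Nat.card (Z.map (QuotientGroup.mk' N)) = N.relIndex Z := by
      have h3 := Subgroup.relIndex_ker Z (QuotientGroup.mk' N)
      rw [QuotientGroup.ker_mk'] at h3
      exact h3.symm
    have : Finite (Z.map (QuotientGroup.mk' N)) := Nat.finite_of_card_ne_zero (by rw [h2]; exact h0)
    rw [← h2]
    exact Subgroup.card_le_of_le h1


/-- if the centre has index `p ^ 2` then the commutator subgroup has order `p` -/
theorem card_commutator_of_index [Finite H] [hp : Fact p.Prime] (hidx : (center H).index = p ^ 2)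
    (hnc : ¬ IsMulCommutative H) : Nat.card (commutator H) = p := by
  have hpp := hp.out
  have hcl : ClassTwo H := classTwo_of_index hidx
  have hC : ∀ x : H, x ∉ center H → (centralizer ({x} : Set H)).index = p := by
    intro x hx
    have hle : center H ≤ centralizer ({x} : Set H) := Subgroup.center_le_centralizer _
    have h1 := Subgroup.relIndex_mul_index hle
    rw [hidx] at h1
    obtain ⟨k, hk, hk1⟩ := (Nat.dvd_prime_pow hpp).1 (Dvd.intro_left _ h1)
    have hk0 : k ≠ 0 := by
      rintro rfl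
      rw [pow_zero, Subgroup.index_eq_one] at hk1
      apply hx
      rw [Subgroup.mem_center_iff]
      intro g
      have hg : g ∈ centralizer ({x} : Set H) := by rw [hk1]; trivial
      exact (Subgroup.mem_centralizer_singleton_iff.1 hg)
    have hk2 : k ≠ 2 := by
      rintro rfl
      rw [hk1] at h1
      have h2 : (center H).relIndex (centralizer ({x} : Set H)) = 1 :=
        Nat.eq_of_mul_eq_mul_right (pow_pos hpp.pos 2) (by rw [h1, one_mul])
      rw [Subgroup.relIndex_eq_one] at h2
      exact hx (h2 (Subgroup.mem_centralizer_singleton_iff.2 rfl))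
    have hk3 : k = 1 := by omega
    rw [hk1, hk3, pow_one]
  have hgen : ∀ x c y : H, ⁅x, c⁆ ≠ 1 → ⁅x, y⁆ ∈ zpowers ⁅x, c⁆ := by
    intro x c y hxc
    have hx : x ∉ center H := by
      intro hx
      exact hxc (commutatorElement_eq_one_iff_mul_comm.2 (Subgroup.mem_center_iff.1 hx c).symm)
    have h1 : Nat.card (commHom hcl x).range = p := by
      rw [← Subgroup.index_ker, ker_commHom, hC x hx]
    have hne : (⟨commHom hcl x c, ⟨c, rfl⟩⟩ : (commHom hcl x).range) ≠ 1 := by
      intro h
      apply hxc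
      exact congrArg (fun w : (commHom hcl x).range => ((w : center H) : H)) h
    have h2 := mem_zpowers_of_prime_card (g' := (⟨commHom hcl x y, ⟨y, rfl⟩⟩ : (commHom hcl x).range)) h1 hne
    obtain ⟨k, hk⟩ := h2
    refine ⟨k, ?_⟩
    have h3 := congrArg (fun w : (commHom hcl x).range => ((w : center H) : H)) hk
    exact h3
  obtain ⟨a, b, hab⟩ : ∃ a b : H, ⁅a, b⁆ ≠ 1 := by
    by_contra hcon
    push Not at hcon
    exact hnc ⟨⟨fun a b => commutatorElement_eq_one_iff_mul_comm.1 (hcon a b)⟩⟩
  have hTp : ⁅a, b⁆ ^ p = 1 := by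
    rw [← hcl.pow_left]
    have h1 : (QuotientGroup.mk a : H ⧸ center H) ^ p = 1 := by
      have h3 : Nat.card (H ⧸ center H) = p ^ 2 := hidx
      have h4 : IsMulCommutative (H ⧸ center H) := IsPGroup.isMulCommutative_of_card_eq_prime_sq h3
      by_contra hne
      have h5 : orderOf (QuotientGroup.mk a : H ⧸ center H) = p ^ 2 := by
        refine orderOf_eq_prime_pow (n := 1) (by rwa [pow_one]) ?_
        show _ ^ p ^ 2 = _
        rw [← h3]; exact pow_card_eq_one'
      have : IsCyclic (H ⧸ center H) := isCyclic_of_orderOf_eq_card _ (by rw [h5, h3])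
      exact hnc ⟨⟨commutative_of_cyclic_center_quotient (QuotientGroup.mk' (Subgroup.center H))
        (by rw [QuotientGroup.ker_mk'])⟩⟩
    rw [← QuotientGroup.mk_pow, QuotientGroup.eq_one_iff] at h1
    exact commutatorElement_eq_one_iff_mul_comm.2 (Subgroup.mem_center_iff.1 h1 b).symm
  have hTcard : Nat.card (zpowers ⁅a, b⁆) = p := by
    rw [Nat.card_zpowers, orderOf_eq_prime hTp hab]
  have hba : ⁅b, a⁆ = ⁅a, b⁆⁻¹ := (commutatorElement_inv a b).symm
  have hbaT : ⁅b, a⁆ ≠ 1 := by rw [hba]; exact inv_ne_one.2 hab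
  have hbT : ∀ y, ⁅b, y⁆ ∈ zpowers ⁅a, b⁆ := by
    intro y
    have h1 := hgen b a y hbaT
    rwa [hba, Subgroup.zpowers_inv] at h1
  have haT : ∀ y, ⁅a, y⁆ ∈ zpowers ⁅a, b⁆ := fun y => hgen a b y hab
  have hflip : ∀ x y : H, ⁅x, y⁆ = ⁅y, x⁆⁻¹ := fun x y => (commutatorElement_inv y x).symm
  have key : ∀ x y : H, ⁅x, y⁆ ∈ zpowers ⁅a, b⁆ := by
    intro x y
    by_cases h1 : ⁅x, b⁆ = 1
    · have h3 : ⁅a * x, b⁆ ≠ 1 := by rw [hcl.mul_left, h1, mul_one]; exact hab
      have h4 := hgen (a * x) b y h3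
      have h5 : ⁅a * x, b⁆ = ⁅a, b⁆ := by rw [hcl.mul_left, h1, mul_one]
      rw [h5, hcl.mul_left] at h4
      have h6 := (zpowers ⁅a, b⁆).mul_mem ((zpowers ⁅a, b⁆).inv_mem (haT y)) h4
      rwa [inv_mul_cancel_left] at h6
    · have h2 := hgen x b y h1
      have h3 : zpowers ⁅x, b⁆ ≤ zpowers ⁅a, b⁆ := by
        rw [Subgroup.zpowers_le, hflip x b]
        exact (zpowers ⁅a, b⁆).inv_mem (hbT x)
      exact h3 h2
  have h1 : commutator H = zpowers ⁅a, b⁆ := by
    apply le_antisymm
    · rw [commutator_def, Subgroup.commutator_le]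
      intro x _ y _
      exact key x y
    · rw [Subgroup.zpowers_le]
      exact Subgroup.commutator_mem_commutator (mem_top a) (mem_top b)
  rw [h1, hTcard]

/-- the flag through the centre -/
theorem SEOut.no_K [Finite H] [hp : Fact p.Prime] (hH : IsPGroup p H) {A : Subgroup (MulAut H)} (h : SEOut p A)
    (hcard : Nat.card (center H) = p ^ 2) (hidx : (center H).index = p ^ 2) {N K : Subgroup H}
    [hN : N.Characteristic] [hK : K.Characteristic] (hNZ : N ≤ center H) (hNc : Nat.card N = p)
    (hZK : center H ≤ K) (hK1 : K ≠ ⊤) (hK2 : K.index ≤ p) : False := by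
  have hpp := hp.out
  have h1 := Subgroup.relIndex_mul_index hZK
  rw [hidx] at h1
  obtain ⟨k, hk, hk1⟩ := (Nat.dvd_prime_pow hpp).1 (Dvd.intro_left _ h1)
  have hk0 : k ≠ 0 := by
    rintro rfl
    rw [pow_zero, Subgroup.index_eq_one] at hk1
    exact hK1 hk1
  have hk3 : k < 2 := by
    by_contra hcon
    have h2 : k = 2 := by omega
    rw [hk1, h2] at hK2
    have h3 : p * 2 ≤ p ^ 2 := by rw [sq]; exact Nat.mul_le_mul_left _ hpp.two_le
    have := hpp.pos
    omega
  have hk4 : k = 1 := by omega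
  rw [hk4, pow_one] at hk1
  rw [hk1] at h1
  have h2 : (center H).relIndex K = p := Nat.eq_of_mul_eq_mul_right hpp.pos (by rw [h1, sq])
  have h3 : N.relIndex (center H) = p := by
    have h4 := Subgroup.relIndex_mul_relIndex ⊥ N (center H) bot_le hNZ
    rw [Subgroup.relIndex_bot_left, Subgroup.relIndex_bot_left, hNc, hcard] at h4
    exact Nat.eq_of_mul_eq_mul_left hpp.pos (by rw [h4, sq])
  exact h.no_char_flag hH N (center H) K hNZ hZK hNc.le h3.le h2.le hk1.le


theorem pow_mem_center_of_index [Finite H] [hp : Fact p.Prime] (hidx : (center H).index = p ^ 2)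
    (hnc : ¬ IsMulCommutative H) (x : H) : x ^ p ∈ center H := by
  have h1 : (QuotientGroup.mk x : H ⧸ center H) ^ p = 1 := by
    have h3 : Nat.card (H ⧸ center H) = p ^ 2 := hidx
    by_contra hne
    have h5 : orderOf (QuotientGroup.mk x : H ⧸ center H) = p ^ 2 := by
      refine orderOf_eq_prime_pow (n := 1) (by rwa [pow_one]) ?_
      show _ ^ p ^ 2 = _
      rw [← h3]; exact pow_card_eq_one'
    have : IsCyclic (H ⧸ center H) := isCyclic_of_orderOf_eq_card _ (by rw [h5, h3])
    exact hnc ⟨⟨commutative_of_cyclic_center_quotient (QuotientGroup.mk' (Subgroup.center H))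
      (by rw [QuotientGroup.ker_mk'])⟩⟩
  rwa [← QuotientGroup.mk_pow, QuotientGroup.eq_one_iff] at h1

theorem commutator_pow_eq_one [Finite H] [hp : Fact p.Prime] (hc : Nat.card (commutator H) = p) {x : H}
    (hx : x ∈ commutator H) : x ^ p = 1 := by
  have h1 : (⟨x, hx⟩ : commutator H) ^ Nat.card (commutator H) = 1 := pow_card_eq_one'
  rw [hc] at h1
  exact congrArg Subtype.val h1

/-- the centre is cyclic of order `p ^ 2` -/
theorem SEOut.exp_of_cyclic_center [Finite H] [hp : Fact p.Prime] (hH : IsPGroup p H) {A : Subgroup (MulAut H)}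
    (h : SEOut p A) (hcard : Nat.card (center H) = p ^ 2) (hidx : (center H).index = p ^ 2)
    (hnc : ¬ IsMulCommutative H) (hcyc : IsCyclic (center H)) (x : H) : x ^ p ^ 2 = 1 := by
  have hpp := hp.out
  have hcl : ClassTwo H := classTwo_of_index hidx
  have hc := card_commutator_of_index hidx hnc
  let W : Subgroup H :=
    { carrier := {y | y ∈ center H ∧ y ^ p = 1}
      one_mem' := ⟨one_mem _, one_pow p⟩
      mul_mem' := by
        rintro a b ⟨ha, ha'⟩ ⟨hb, hb'⟩
        refine ⟨mul_mem ha hb, ?_⟩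
        rw [(show Commute a b from Subgroup.mem_center_iff.1 hb a).mul_pow, ha', hb', one_mul]
      inv_mem' := by
        rintro a ⟨ha, ha'⟩
        exact ⟨inv_mem ha, by rw [inv_pow, ha', inv_one]⟩ }
  have hW : ∀ y, y ∈ W ↔ y ∈ center H ∧ y ^ p = 1 := fun y => Iff.rfl
  have hWchar : W.Characteristic := by
    rw [Subgroup.characteristic_iff_map_le]
    rintro φ _ ⟨y, ⟨hy, hy'⟩, rfl⟩
    exact ⟨char_inv φ hy, by
      show (φ y) ^ p = 1
      rw [← map_pow, hy', map_one]⟩
  have hWZ : W ≤ center H := fun y hy => hy.1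
  obtain ⟨g, hg⟩ := hcyc.exists_generator
  have hgord : orderOf (g : H) = p ^ 2 := by
    rw [Subgroup.orderOf_coe, ← hcard]
    exact orderOf_eq_card_of_forall_mem_zpowers hg
  have hWg : W = zpowers ((g : H) ^ p) := by
    apply le_antisymm
    · rintro y ⟨hy, hy'⟩
      obtain ⟨k, hk⟩ := Subgroup.mem_zpowers_iff.1 (hg ⟨y, hy⟩)
      have hk' : (g : H) ^ k = y := congrArg Subtype.val hk
      have h1 : ((g : H)) ^ (k * p) = 1 := by rw [zpow_mul, hk', zpow_natCast, hy']
      rw [← orderOf_dvd_iff_zpow_eq_one, hgord] at h1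
      have h2 : (p : ℤ) ∣ k := by
        have h3 : (p : ℤ) * p ∣ k * p := by
          have : ((p ^ 2 : ℕ) : ℤ) = (p : ℤ) * p := by push_cast; ring
          rwa [this] at h1
        exact Int.dvd_of_mul_dvd_mul_right (by exact_mod_cast hpp.ne_zero) h3
      obtain ⟨m, hm⟩ := h2
      refine ⟨m, ?_⟩
      show ((g : H) ^ p) ^ m = y
      rw [← hk', hm, zpow_mul, zpow_natCast]
    · rw [Subgroup.zpowers_le]
      refine ⟨Subgroup.pow_mem _ g.2 p, ?_⟩
      rw [← pow_mul, ← sq, ← hgord, pow_orderOf_eq_one]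
  have hWc : Nat.card W = p := by
    rw [hWg, Nat.card_zpowers, orderOf_pow, hgord, Nat.gcd_eq_right (Dvd.intro_left _ (by rw [sq])), sq,
      Nat.mul_div_cancel _ hpp.pos]
  have hcW : commutator H ≤ W := fun y hy => ⟨hcl hy, commutator_pow_eq_one hc hy⟩
  have hrel : W.relIndex (center H) = p := by
    have h4 := Subgroup.relIndex_mul_relIndex ⊥ W (center H) bot_le hWZ
    rw [Subgroup.relIndex_bot_left, Subgroup.relIndex_bot_left, hWc, hcard] at h4
    exact Nat.eq_of_mul_eq_mul_left hpp.pos (by rw [h4, sq])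
  obtain ⟨K, hK, hKc, hKi⟩ := exists_powK hcW p
  have hKchar := hKc hWchar
  have hxp := pow_mem_center_of_index hidx hnc
  have hi := hKi (center H) hxp (by rw [hrel]; exact hpp.ne_zero)
  rw [hrel] at hi
  have hZK : center H ≤ K := by
    intro z hz
    rw [hK, hW]
    refine ⟨Subgroup.pow_mem _ hz p, ?_⟩
    have h1 : (⟨z, hz⟩ : center H) ^ Nat.card (center H) = 1 := pow_card_eq_one'
    rw [hcard] at h1
    rw [← pow_mul, ← sq]
    exact congrArg Subtype.val h1
  have hKtop : K = ⊤ := by
    by_contra hne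
    exact h.no_K hH hcard hidx hWZ hWc hZK hne hi
  have h1 : x ∈ K := by rw [hKtop]; trivial
  rw [sq, pow_mul]
  exact ((hK x).1 h1).2

theorem comm_relIndex [Finite H] [hp : Fact p.Prime] (hcard : Nat.card (center H) = p ^ 2)
    (hidx : (center H).index = p ^ 2) (hnc : ¬ IsMulCommutative H) :
    (commutator H).relIndex (center H) = p := by
  have h4 := Subgroup.relIndex_mul_relIndex ⊥ (commutator H) (center H) bot_le (classTwo_of_index hidx)
  rw [Subgroup.relIndex_bot_left, Subgroup.relIndex_bot_left, card_commutator_of_index hidx hnc, hcard] at h4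
  exact Nat.eq_of_mul_eq_mul_left hp.out.pos (by rw [h4, sq])

theorem SEOut.pow_mem_comm [Finite H] [hp : Fact p.Prime] (hH : IsPGroup p H) {A : Subgroup (MulAut H)}
    (h : SEOut p A) (hcard : Nat.card (center H) = p ^ 2) (hidx : (center H).index = p ^ 2)
    (hnc : ¬ IsMulCommutative H) (hel : ∀ z ∈ center H, z ^ p = 1) (x : H) : x ^ p ∈ commutator H := by
  have hpp := hp.out
  have hcl : ClassTwo H := classTwo_of_index hidx
  have hc := card_commutator_of_index hidx hnc
  have hrel := comm_relIndex hcard hidx hnc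
  obtain ⟨K, hK, hKc, hKi⟩ := exists_powK (N := commutator H) le_rfl p
  have hKchar := hKc inferInstance
  have hi := hKi (center H) (pow_mem_center_of_index hidx hnc) (by rw [hrel]; exact hpp.ne_zero)
  rw [hrel] at hi
  have hZK : center H ≤ K := by
    intro z hz
    rw [hK, hel z hz]
    exact one_mem _
  have hKtop : K = ⊤ := by
    by_contra hne
    exact h.no_K hH hcard hidx hcl hc hZK hne hi
  have h1 : x ∈ K := by rw [hKtop]; trivial
  exact (hK x).1 h1

theorem SEOut.exp_odd [Finite H] [hp : Fact p.Prime] (hH : IsPGroup p H) {A : Subgroup (MulAut H)}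
    (h : SEOut p A) (hcard : Nat.card (center H) = p ^ 2) (hidx : (center H).index = p ^ 2)
    (hnc : ¬ IsMulCommutative H) (hel : ∀ z ∈ center H, z ^ p = 1) (hp2 : p ≠ 2) (x : H) : x ^ p = 1 := by
  have hpp := hp.out
  have hcl : ClassTwo H := classTwo_of_index hidx
  have hc := card_commutator_of_index hidx hnc
  let f : H →* H :=
    { toFun := fun x => x ^ p
      map_one' := one_pow p
      map_mul' := fun x y => by
        show (x * y) ^ p = x ^ p * y ^ p
        rw [hcl.mul_pow]
        have hdvd : p ∣ p.choose 2 := hpp.dvd_choose_self (by norm_num)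
          (lt_of_le_of_ne hpp.two_le (Ne.symm hp2))
        obtain ⟨k, hk⟩ := hdvd
        rw [hk, pow_mul, commutator_pow_eq_one hc
          (Subgroup.commutator_mem_commutator (mem_top y) (mem_top x)), one_pow, mul_one] }
  have hf : ∀ y, y ∈ f.ker ↔ y ^ p = 1 := fun y => Iff.rfl
  have hchar : f.ker.Characteristic := by
    rw [Subgroup.characteristic_iff_map_le]
    rintro φ _ ⟨y, hy, rfl⟩
    rw [hf]
    show (φ y) ^ p = 1
    rw [← map_pow, (hf y).1 hy, map_one]
  have hi : f.ker.index ≤ p := by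
    rw [Subgroup.index_ker]
    have h1 : f.range ≤ commutator H := by
      rintro _ ⟨y, rfl⟩
      exact h.pow_mem_comm hH hcard hidx hnc hel y
    have := Subgroup.card_le_of_le h1
    rwa [hc] at this
  have hKtop : f.ker = ⊤ := by
    by_contra hne
    exact h.no_K hH hcard hidx hcl hc (K := f.ker) (fun z hz => hel z hz) hne hi
  have h1 : x ∈ f.ker := by rw [hKtop]; trivial
  exact h1

theorem SEOut.sq_ne_one [Finite H] (hH : IsPGroup 2 H) {A : Subgroup (MulAut H)}
    (h : SEOut 2 A) (hcard : Nat.card (center H) = 2 ^ 2) (hidx : (center H).index = 2 ^ 2)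
    (hnc : ¬ IsMulCommutative H) (hel : ∀ z ∈ center H, z ^ 2 = 1) {y : H} (hy : y ∉ center H) : y ^ 2 ≠ 1 := by
  intro hy2
  have hcl : ClassTwo H := classTwo_of_index hidx
  have hc := card_commutator_of_index hidx hnc
  obtain ⟨k1, k2, k3⟩ := centralizer_sq_index hcl hidx hel hc
    (fun x => h.pow_mem_comm hH hcard hidx hnc hel x) hy hy2
  have hch : (Subgroup.centralizer ({b : H | b ^ 2 ≠ 1} : Set H)).Characteristic := char_centralizer_sq
  exact h.no_char_flag hH (commutator H) (center H) _ hcl k1 hc.le (comm_relIndex hcard hidx hnc).le k2 k3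

theorem exists_split [Finite H] [hp : Fact p.Prime] (hpw : ∀ x : H, x ^ p ∈ commutator H) {z : H}
    (hz : z ∈ center H) (hzp : z ^ p = 1) (hzc : z ∉ commutator H) :
    ∃ E : Subgroup H, z ∉ E ∧ commutator H ≤ E ∧ Nonempty (H ≃* E × Multiplicative (ZMod p)) := by
  obtain ⟨M, hM⟩ := Set.Finite.exists_maximal
    (s := {M : Subgroup H | commutator H ≤ M ∧ z ∉ M}) (Set.toFinite _) ⟨_, le_rfl, hzc⟩
  have hMmem := hM.prop
  have hMn : M.Normal := Subgroup.Normal.of_commutator_le H hMmem.1
  have htop : M ⊔ zpowers z = ⊤ := by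
    rw [Subgroup.eq_top_iff']
    intro y
    by_cases hy : y ∈ M
    · exact (le_sup_left : M ≤ _) hy
    · have h1 : z ∈ M ⊔ Subgroup.zpowers y := by
        by_contra hx'
        have h2 := hM.le_of_ge (y := M ⊔ Subgroup.zpowers y) ⟨hMmem.1.trans le_sup_left, hx'⟩ le_sup_left
        exact hy (h2 ((le_sup_right : Subgroup.zpowers y ≤ _) (Subgroup.mem_zpowers y)))
      rw [← SetLike.mem_coe, Subgroup.normal_mul] at h1
      obtain ⟨m, hm, w, ⟨j, hj⟩, hmz⟩ := h1
      have hj' : y ^ j = w := hj
      have hmz' : m * w = z := hmz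
      have hyp : y ^ p ∈ M := hMmem.1 (hpw y)
      have hcop : IsCoprime j (p : ℤ) := by
        rw [Int.isCoprime_iff_gcd_eq_one]
        by_contra hne
        have hdvd : (p : ℤ) ∣ j := by
          have hpc : ¬ Nat.Coprime j.natAbs p := by
            intro hc
            apply hne
            rw [Int.gcd_eq_natAbs]
            simpa using hc
          have := (Nat.Prime.coprime_iff_not_dvd hp.out).not_left.mp (fun hc => hpc hc.symm)
          exact Int.natCast_dvd.mpr (by simpa using this)
        obtain ⟨l, rfl⟩ := hdvd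
        apply hMmem.2
        rw [← hmz', ← hj', zpow_mul, zpow_natCast]
        exact M.mul_mem hm (M.zpow_mem hyp l)
      obtain ⟨a, b, hab⟩ := hcop
      have hyK : y = (y ^ j) ^ a * (y ^ p) ^ b := by
        rw [← zpow_natCast, ← zpow_mul, ← zpow_mul, ← zpow_add]
        have : j * a + (p : ℤ) * b = 1 := by rw [← hab]; ring
        rw [this, zpow_one]
      rw [hyK]
      refine mul_mem (zpow_mem ?_ a) (zpow_mem ((le_sup_left : M ≤ _) hyp) b)
      have h3 : y ^ j = m⁻¹ * z := by rw [← hmz', hj']; group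
      rw [h3]
      exact mul_mem ((le_sup_left : M ≤ _) (M.inv_mem hm)) ((le_sup_right : zpowers z ≤ _) (mem_zpowers z))
  obtain ⟨e⟩ := exists_prod_equiv (p := p) M (w := z) (fun k _ => Subgroup.mem_center_iff.1 hz k) hzp hMmem.2
  exact ⟨M, hMmem.2, hMmem.1, ⟨(Subgroup.topEquiv.symm.trans (MulEquiv.subgroupCongr htop.symm)).trans e⟩⟩

theorem card_center_of_cube [Finite H] [hp : Fact p.Prime] (hcard : Nat.card H = p ^ 3)
    (hab : ¬ IsMulCommutative H) : Nat.card (center H) = p := by
  have hpp := hp.out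
  obtain ⟨k, hk0, hk⟩ := IsPGroup.card_center_eq_prime_pow hcard (by norm_num)
  have h1 := Subgroup.index_mul_card (Subgroup.center H)
  have hk3 : k ≤ 3 := by
    have h2 : Nat.card (Subgroup.center H) ∣ p ^ 3 := by rw [← hcard]; exact Subgroup.card_subgroup_dvd_card _
    rw [hk] at h2
    exact (Nat.pow_dvd_pow_iff_le_right hpp.one_lt).mp h2
  rw [hk, hcard] at h1
  have hk1 : k = 1 := by
    interval_cases k
    · rfl
    · exfalso
      apply center_index_ne_prime (p := p) hab
      have h2 : (Subgroup.center H).index * p ^ 2 = p * p ^ 2 := by rw [h1]; ring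
      exact Nat.eq_of_mul_eq_mul_right (pow_pos hpp.pos 2) h2
    · exfalso
      apply center_ne_top_of_not_comm hab
      rw [← Subgroup.index_eq_one]
      have h2 : (Subgroup.center H).index * p ^ 3 = 1 * p ^ 3 := by rw [h1]; ring
      exact Nat.eq_of_mul_eq_mul_right (pow_pos hpp.pos 3) h2
  rw [hk, hk1, pow_one]

/-- a nonabelian group of order `p ^ 4` carrying such a group of automorphisms has centre of order `p ^ 2` -/
theorem SEOut.card_center_four [Finite H] [hp : Fact p.Prime] (hH : IsPGroup p H) {A : Subgroup (MulAut H)}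
    (h : SEOut p A) (hcard : Nat.card H = p ^ 4) (hab : ¬ IsMulCommutative H) :
    Nat.card (center H) = p ^ 2 := by
  have hpp := hp.out
  obtain ⟨k, hk0, hk⟩ := IsPGroup.card_center_eq_prime_pow hcard (by norm_num)
  have h1 := Subgroup.index_mul_card (Subgroup.center H)
  have hk3 : k ≤ 4 := by
    have h2 : Nat.card (Subgroup.center H) ∣ p ^ 4 := by rw [← hcard]; exact Subgroup.card_subgroup_dvd_card _
    rw [hk] at h2
    exact (Nat.pow_dvd_pow_iff_le_right hpp.one_lt).mp h2
  rw [hk, hcard] at h1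
  interval_cases k
  · exfalso
    rw [pow_one] at hk
    by_cases hcl : ClassTwo H
    · obtain ⟨n, -, hn⟩ := card_of_isExtraspecial (isExtraspecial_of_ges ⟨hk, hcl⟩ (center_ne_top_of_not_comm hab))
      rw [hcard] at hn
      have := Nat.pow_right_injective hpp.two_le hn
      omega
    · have : Group.IsNilpotent H := hH.isNilpotent
      have h2 := Cfsg.Agent.MaxClass.class_le_of_card (p := p) (n := 4) (by norm_num) hcard
      have h3 : ¬ Group.nilpotencyClass H ≤ 2 := by
        intro h4
        apply hcl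
        rw [← Subgroup.lowerCentralSeries_eq_bot_iff_nilpotencyClass_le] at h4
        rw [ClassTwo, commutator_def]
        rw [Subgroup.lowerCentralSeries_succ, Subgroup.lowerCentralSeries_one] at h4
        exact Subgroup.commutator_eq_bot_iff_le_centralizer.1 h4 |>.trans (by
          rw [Subgroup.coe_top, Subgroup.centralizer_univ])
      have h5 := Cfsg.Agent.MaxClass.ess_card_le hcard (by norm_num) (by omega) h
      omega
  · exact hk
  · exfalso
    apply center_index_ne_prime (p := p) hab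
    have h2 : (Subgroup.center H).index * p ^ 3 = p * p ^ 3 := by rw [h1]; ring
    exact Nat.eq_of_mul_eq_mul_right (pow_pos hpp.pos 3) h2
  · exfalso
    apply center_ne_top_of_not_comm hab
    rw [← Subgroup.index_eq_one]
    have h2 : (Subgroup.center H).index * p ^ 4 = 1 * p ^ 4 := by rw [h1]; ring
    exact Nat.eq_of_mul_eq_mul_right (pow_pos hpp.pos 4) h2


/-- a nonabelian direct factor of order `p ^ 3` -/
theorem factor_center [Finite H] [hp : Fact p.Prime] (hcard : Nat.card H = p ^ 4) (hab : ¬ IsMulCommutative H)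
    {E : Subgroup H} (e : H ≃* E × Multiplicative (ZMod p)) : Nat.card E = p ^ 3 ∧ ¬ IsMulCommutative E := by
  have hpp := hp.out
  constructor
  · have h1 := Nat.card_congr e.toEquiv
    rw [hcard, Nat.card_prod, Nat.card_congr Multiplicative.toAdd, Nat.card_zmod] at h1
    exact Nat.eq_of_mul_eq_mul_right hpp.pos (by rw [← h1]; ring)
  · intro hc
    apply hab
    refine ⟨⟨fun a b => e.injective ?_⟩⟩
    rw [map_mul, map_mul]
    exact Prod.ext (hc.is_comm.comm _ _) (mul_comm _ _)

theorem SEOut.order_four_nonab [Finite H] [hp : Fact p.Prime] (hH : IsPGroup p H) {A : Subgroup (MulAut H)}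
    (h : SEOut p A) (hcard : Nat.card H = p ^ 4) (hab : ¬ IsMulCommutative H) :
    (Odd p ∧ ∃ (E : Type) (_ : Group E) (_ : Finite E), Cfsg.IsExtraspecial p E ∧ Nat.card E = p ^ 3 ∧
        (∀ x : E, x ^ p = 1) ∧ Nonempty (H ≃* E × Multiplicative (ZMod p))) ∨
      (p = 2 ∧ Nonempty (H ≃* QuaternionGroup 2 × Multiplicative (ZMod 2))) ∨
      ((∀ x : H, x ^ (p ^ 2) = 1) ∧ IsCyclic ↥(Subgroup.center H) ∧
        Nat.card (Subgroup.center H) = p ^ 2) := by
  have hpp := hp.out
  have hZ := h.card_center_four hH hcard hab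
  have hidx : (center H).index = p ^ 2 := by
    have h1 := Subgroup.card_mul_index (center H)
    rw [hZ, hcard] at h1
    exact Nat.eq_of_mul_eq_mul_left (pow_pos hpp.pos 2) (by rw [h1]; ring)
  by_cases hcyc : IsCyclic (center H)
  · right; right
    exact ⟨h.exp_of_cyclic_center hH hZ hidx hab hcyc, hcyc, hZ⟩
  have hel : ∀ z ∈ center H, z ^ p = 1 := by
    intro z hz
    by_contra hne
    apply hcyc
    have h1 : (⟨z, hz⟩ : center H) ^ Nat.card (center H) = 1 := pow_card_eq_one'
    have h5 : orderOf (⟨z, hz⟩ : center H) = p ^ 2 := by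
      refine orderOf_eq_prime_pow (n := 1) ?_ (by rw [← hZ]; exact h1)
      rw [pow_one]
      intro h6
      exact hne (congrArg Subtype.val h6)
    exact isCyclic_of_orderOf_eq_card _ (by rw [h5, hZ])
  have hcc := card_commutator_of_index hidx hab
  have hcl : ClassTwo H := classTwo_of_index hidx
  obtain ⟨z, hz, hzc⟩ : ∃ z ∈ center H, z ∉ commutator H := by
    by_contra hcon
    push Not at hcon
    have h1 := Subgroup.card_le_of_le (show center H ≤ commutator H from hcon)
    rw [hZ, hcc, sq] at h1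
    have := Nat.mul_le_mul_left p hpp.two_le
    have := hpp.pos
    omega
  obtain ⟨E, hzE, hcE, ⟨e⟩⟩ := exists_split (h.pow_mem_comm hH hZ hidx hab hel) hz (hel z hz) hzc
  obtain ⟨hE3, hEn⟩ := factor_center hcard hab e
  have hEZ := card_center_of_cube hE3 hEn
  by_cases hp2 : p = 2
  · right; left
    subst hp2
    refine ⟨rfl, ?_⟩
    have huniq : ∀ x y : E, orderOf x = 2 → orderOf y = 2 → x = y := by
      have h0 : ∀ x : E, orderOf x = 2 → x ∈ center E := by
        intro x hx
        have h1 : (x : H) ^ 2 = 1 := by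
          have := pow_orderOf_eq_one x
          rw [hx] at this
          exact congrArg Subtype.val this
        have h2 : (x : H) ∈ center H := by
          by_contra hcon
          exact h.sq_ne_one hH hZ hidx hab hel hcon h1
        rw [Subgroup.mem_center_iff]
        intro g
        exact Subtype.ext (Subgroup.mem_center_iff.1 h2 g)
      intro x y hx hy
      have hx1 : x ≠ 1 := by rintro rfl; rw [orderOf_one] at hx; norm_num at hx
      have hy1 : y ≠ 1 := by rintro rfl; rw [orderOf_one] at hy; norm_num at hy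
      obtain ⟨k, hk⟩ := mem_zpowers_of_prime_card (g := (⟨x, h0 x hx⟩ : center E))
        (g' := (⟨y, h0 y hy⟩ : center E)) hEZ (fun hc => hx1 (congrArg Subtype.val hc))
      have hk' : x ^ k = y := congrArg Subtype.val hk
      rw [← zpow_mod_orderOf, hx] at hk'
      rcases Int.emod_two_eq_zero_or_one k with h5 | h5
      · exfalso; apply hy1; rw [← hk']; norm_num [h5]
      · rw [← hk']; norm_num [h5]
    rcases H56.order_eight_unique_involution (by rw [hE3]; norm_num) huniq with h3 | ⟨⟨e'⟩⟩
    · exact absurd ⟨⟨fun a b => (IsCyclic.commGroup (α := E)).mul_comm a b⟩⟩ hEn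
    · exact ⟨e.trans (MulEquiv.prodCongr e' (MulEquiv.refl _))⟩
  · left
    refine ⟨hpp.odd_of_ne_two hp2, ?_⟩
    obtain ⟨E', hG, hF, ⟨e'⟩⟩ := Finite.exists_type_univ_nonempty_mulEquiv.{_, 0} E
    have hc3 : Nat.card E' = p ^ 3 := by rw [← Nat.card_congr e'.toEquiv, hE3]
    have hnc' : ¬ IsMulCommutative E' := by
      intro hc
      apply hEn
      exact ⟨⟨fun a b => e'.injective (by rw [map_mul, map_mul]; exact hc.is_comm.comm _ _)⟩⟩
    refine ⟨E', hG, inferInstance, Fus.isExtraspecial_of_card hc3 (card_center_of_cube hc3 hnc'), hc3, ?_,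
      ⟨e.trans (MulEquiv.prodCongr e' (MulEquiv.refl _))⟩⟩
    intro x
    obtain ⟨y, rfl⟩ := e'.surjective x
    rw [← map_pow]
    have : y ^ p = 1 := Subtype.ext (h.exp_odd hH hZ hidx hab hel hp2 y)
    rw [this, map_one]

end Nonab

end Cfsg.Agent.FusSE
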