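import Mathlib
set_option autoImplicit false
set_option maxHeartbeats 400000
set_option linter.unusedVariables false

/-!
# Recognition of the quotient `C_p ≀ C_p` (helper88)
-/

namespace Cfsg.Agent.Fus.Wr

open Polynomial

variable {p : ℕ} [hp : Fact p.Prime]

/-- the shift -/
def shift (p : ℕ) : (ZMod p → ZMod p) →ₗ[ZMod p] (ZMod p → ZMod p) where
  toFun v i := v (i - 1)
  map_add' v w := rfl
  map_smul' t v := rfl

theorem shift_pow (n : ℕ) (v : ZMod p → ZMod p) (i : ZMod p) : ((shift p) ^ n) v i = v (i - n) := by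
  induction n generalizing i with
  | zero => simp
  | succ n ih =>
    rw [pow_succ', Module.End.mul_apply]
    show ((shift p) ^ n) v (i - 1) = _
    rw [ih]
    congr 1
    push_cast
    ring

theorem aeval_mem {W : Submodule (ZMod p) (ZMod p → ZMod p)} (hW : ∀ v ∈ W, shift p v ∈ W) (u : (ZMod p)[X])
    {v : ZMod p → ZMod p} (hv : v ∈ W) : aeval (shift p) u v ∈ W := by
  have hpow : ∀ n : ℕ, ((shift p) ^ n) v ∈ W := by
    intro n
    induction n with
    | zero => simpa using hv
    | succ n ih =>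
      rw [pow_succ', Module.End.mul_apply]
      exact hW _ ih
  induction u using Polynomial.induction_on' with
  | add a b ha hb =>
    rw [map_add, LinearMap.add_apply]
    exact W.add_mem ha hb
  | monomial n a =>
    rw [aeval_monomial, Module.End.mul_apply, Module.algebraMap_end_apply]
    exact W.smul_mem a (hpow n)

theorem aeval_sum_single (w : ZMod p → ZMod p) :
    aeval (shift p) (∑ i : ZMod p, C (w i) * X ^ i.val) (Pi.single 0 1) = w := by
  ext j
  rw [map_sum, LinearMap.sum_apply, Finset.sum_apply, Finset.sum_eq_single j]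
  · rw [map_mul, aeval_C, map_pow, aeval_X, Module.End.mul_apply, Module.algebraMap_end_apply, Pi.smul_apply,
      shift_pow, ZMod.natCast_zmod_val, sub_self, Pi.single_eq_same, smul_eq_mul, mul_one]
  · intro i _ hij
    rw [map_mul, aeval_C, map_pow, aeval_X, Module.End.mul_apply, Module.algebraMap_end_apply, Pi.smul_apply,
      shift_pow, ZMod.natCast_zmod_val, Pi.single_eq_of_ne (sub_ne_zero.mpr hij.symm), smul_zero]
  · intro h
    exact absurd (Finset.mem_univ _) h

/-- A shift invariant subspace not inside the augmentation kernel is everything. -/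
theorem eq_top_of_sum_ne {W : Submodule (ZMod p) (ZMod p → ZMod p)} (hW : ∀ v ∈ W, shift p v ∈ W)
    {w : ZMod p → ZMod p} (hw : w ∈ W) (hsum : ∑ i, w i ≠ 0) : W = ⊤ := by
  set P : (ZMod p)[X] := ∑ i : ZMod p, C (w i) * X ^ i.val with hP
  have hP1 : P.eval 1 ≠ 0 := by
    rw [hP, eval_finsetSum]
    simpa using hsum
  have hcop : IsCoprime P ((X - C 1) ^ p) := by
    apply IsCoprime.pow_right
    apply IsCoprime.symm
    rw [(irreducible_X_sub_C (1 : ZMod p)).coprime_iff_not_dvd, dvd_iff_isRoot]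
    exact hP1
  obtain ⟨u, v, huv⟩ := hcop
  have h0 : aeval (shift p) ((X - C (1 : ZMod p)) ^ p) = 0 := by
    have h1 : (X - C (1 : ZMod p)) ^ p = X ^ p - 1 := by
      rw [map_one, sub_pow_char, one_pow]
    rw [h1, map_sub, map_pow, aeval_X, map_one, sub_eq_zero]
    ext v i
    simp [shift_pow]
  have h1 : (Pi.single 0 1 : ZMod p → ZMod p) ∈ W := by
    have h2 := aeval_mem hW u hw
    rw [← aeval_sum_single w, ← hP, ← Module.End.mul_apply, ← map_mul] at h2
    have h3 : aeval (shift p) (u * P) = 1 := by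
      have h4 := congrArg (aeval (shift p)) huv
      rw [map_add, map_mul _ v, h0, mul_zero, add_zero, map_one] at h4
      exact h4
    rw [h3, Module.End.one_apply] at h2
    exact h2
  rw [eq_top_iff]
  intro x _
  rw [← aeval_sum_single x]
  exact aeval_mem hW _ h1

variable {G : Type*} [Group G]

/-- The subspace of the vectors of values. -/
def valSub (R : Subgroup G) [R.Normal] (c : ZMod p → G) (ν : G → ZMod p)
    (hν : ∀ x ∈ R, ∀ y ∈ R, ν (x * y) = ν x + ν y) : AddSubgroup (ZMod p → ZMod p) where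
  carrier := {v | ∃ x ∈ R, ∀ i, v i = ν ((c i)⁻¹ * x * c i)}
  zero_mem' := by
    refine ⟨1, R.one_mem, fun i => ?_⟩
    have h1 := hν 1 R.one_mem 1 R.one_mem
    rw [mul_one] at h1
    have h2 : ν 1 = 0 := by
      have := congrArg (fun t => t - ν 1) h1
      simpa using this.symm
    rw [mul_one, inv_mul_cancel, h2]
    rfl
  add_mem' := by
    rintro v w ⟨x, hx, hv⟩ ⟨y, hy, hw⟩
    refine ⟨x * y, R.mul_mem hx hy, fun i => ?_⟩
    have h1 : ∀ z ∈ R, (c i)⁻¹ * z * c i ∈ R := fun z hz => by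
      have := (inferInstance : R.Normal).conj_mem z hz (c i)⁻¹
      rwa [inv_inv] at this
    rw [Pi.add_apply, hv, hw, ← hν _ (h1 x hx) _ (h1 y hy)]
    congr 1
    group
  neg_mem' := by
    rintro v ⟨x, hx, hv⟩
    refine ⟨x⁻¹, R.inv_mem hx, fun i => ?_⟩
    have h1 : ∀ z ∈ R, (c i)⁻¹ * z * c i ∈ R := fun z hz => by
      have := (inferInstance : R.Normal).conj_mem z hz (c i)⁻¹
      rwa [inv_inv] at this
    have h2 := hν _ (h1 x hx) _ (h1 x⁻¹ (R.inv_mem hx))
    have h3 : (c i)⁻¹ * x * c i * ((c i)⁻¹ * x⁻¹ * c i) = 1 := by group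
    have h4 := hν 1 R.one_mem 1 R.one_mem
    rw [mul_one] at h4
    have h5 : ν 1 = 0 := by
      have := congrArg (fun t => t - ν 1) h4
      simpa using this.symm
    rw [h3, h5] at h2
    rw [Pi.neg_apply, hv]
    exact neg_eq_of_add_eq_zero_right h2.symm

theorem card_image_le {l : G →* Multiplicative (ZMod p)} {c : ZMod p → G}
    (hc : ∀ i, l (c i) = Multiplicative.ofAdd i) {ν : G → ZMod p}
    (hν : ∀ x ∈ l.ker, ∀ y ∈ l.ker, ν (x * y) = ν x + ν y) {w : G} (hw : w ∈ l.ker)
    (hsum : ∑ i, ν ((c i)⁻¹ * w * c i) ≠ 0) (v : ZMod p → ZMod p) :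
    ∃ x ∈ l.ker, ∀ i, v i = ν ((c i)⁻¹ * x * c i) := by
  have hν1 : ν 1 = 0 := by
    have h4 := hν 1 (one_mem _) 1 (one_mem _)
    rw [mul_one] at h4
    have := congrArg (fun t => t - ν 1) h4
    simpa using this.symm
  have hconj : ∀ r ∈ l.ker, ∀ y ∈ l.ker, ν (r⁻¹ * y * r) = ν y := by
    intro r hr y hy
    have h1 := hν _ (mul_mem (inv_mem hr) hy) r hr
    have h2 := hν _ (inv_mem hr) y hy
    have h3 := hν _ (inv_mem hr) r hr
    rw [inv_mul_cancel, hν1] at h3
    rw [h1, h2]
    have : ν r⁻¹ + ν y + ν r = ν y + (ν r⁻¹ + ν r) := by ring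
    rw [this, ← h3, add_zero]
  let W := AddSubgroup.toZModSubmodule p (valSub l.ker c ν hν)
  have hmem : ∀ v, v ∈ W ↔ ∃ x ∈ l.ker, ∀ i, v i = ν ((c i)⁻¹ * x * c i) := fun v => Iff.rfl
  have hW : ∀ v ∈ W, shift p v ∈ W := by
    intro v hv
    obtain ⟨x, hx, hvx⟩ := (hmem v).mp hv
    rw [hmem]
    refine ⟨c 1 * x * (c 1)⁻¹, (inferInstance : l.ker.Normal).conj_mem x hx _, fun i => ?_⟩
    show v (i - 1) = _
    rw [hvx]
    set r := (c (i - 1))⁻¹ * ((c 1)⁻¹ * c i) with hr
    have hrk : r ∈ l.ker := by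
      rw [MonoidHom.mem_ker, hr, map_mul, map_mul, map_inv, map_inv, hc, hc, hc, ← ofAdd_neg, ← ofAdd_neg, ← ofAdd_add,
        ← ofAdd_add]
      have : (-(i - 1) + (-1 + i) : ZMod p) = 0 := by ring
      rw [this]; rfl
    have hyk : (c (i - 1))⁻¹ * x * c (i - 1) ∈ l.ker := by
      have := (inferInstance : l.ker.Normal).conj_mem x hx (c (i - 1))⁻¹
      rwa [inv_inv] at this
    rw [← hconj r hrk _ hyk]
    congr 1
    rw [hr]
    group
  have htop := eq_top_of_sum_ne hW (w := fun i => ν ((c i)⁻¹ * w * c i)) ((hmem _).mpr ⟨w, hw, fun i => rfl⟩) hsum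
  rw [← hmem, htop]
  trivial

theorem card_sylow_perm (W : Sylow p (Equiv.Perm (Fin (p ^ 2)))) : Nat.card W = p ^ (p + 1) := by
  rw [Sylow.card_eq_multiplicity, Nat.card_perm, Nat.card_fin, Nat.factorization_def _ hp.out, pow_two,
    padicValNat_factorial_mul]
  have h1 : padicValNat p p.factorial = 1 := by
    have := padicValNat_factorial_mul (p := p) 1
    rw [mul_one, Nat.factorial_one] at this
    rw [this]; simp
  rw [h1, add_comm]

theorem exists_wreath [Finite G] (hG : IsPGroup p G) {l : G →* Multiplicative (ZMod p)} {c : ZMod p → G}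
    (hc : ∀ i, l (c i) = Multiplicative.ofAdd i) {ν : G → ZMod p}
    (hν : ∀ x ∈ l.ker, ∀ y ∈ l.ker, ν (x * y) = ν x + ν y) {w : G} (hw : w ∈ l.ker)
    (hsum : ∑ i, ν ((c i)⁻¹ * w * c i) ≠ 0) :
    ∃ (W : Sylow p (Equiv.Perm (Fin (p ^ 2)))) (f : G →* ↥(W : Subgroup (Equiv.Perm (Fin (p ^ 2))))),
      Function.Surjective f := by
  have hsurj := card_image_le hc hν hw hsum
  -- `μ`
  let μ : l.ker →* Multiplicative (ZMod p) :=
    { toFun := fun x => Multiplicative.ofAdd (ν x)
      map_one' := by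
        have h4 := hν 1 (one_mem _) 1 (one_mem _)
        rw [mul_one] at h4
        have h5 : ν 1 = 0 := by
          have := congrArg (fun t => t - ν 1) h4
          simpa using this.symm
        show Multiplicative.ofAdd (ν ((1 : l.ker) : G)) = 1
        rw [Subgroup.coe_one, h5]; rfl
      map_mul' := fun x y => by
        show Multiplicative.ofAdd (ν ((x : G) * y)) = _
        rw [hν x x.2 y y.2]; rfl }
  let Ψ : l.ker →* Multiplicative (ZMod p → ZMod p) :=
    { toFun := fun x => Multiplicative.ofAdd fun i => ν ((c i)⁻¹ * x * c i)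
      map_one' := by
        have h4 := hν 1 (one_mem _) 1 (one_mem _)
        rw [mul_one] at h4
        have h5 : ν 1 = 0 := by
          have := congrArg (fun t => t - ν 1) h4
          simpa using this.symm
        show Multiplicative.ofAdd (fun i => ν ((c i)⁻¹ * ((1 : l.ker) : G) * c i)) = 1
        have h6 : (fun i => ν ((c i)⁻¹ * ((1 : l.ker) : G) * c i)) = 0 := by
          ext i
          rw [Subgroup.coe_one, mul_one, inv_mul_cancel, h5]; rfl
        rw [h6]; rfl
      map_mul' := fun x y => by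
        show Multiplicative.ofAdd (fun i => ν ((c i)⁻¹ * ((x : G) * y) * c i)) =
          Multiplicative.ofAdd ((fun i => ν ((c i)⁻¹ * x * c i)) + fun i => ν ((c i)⁻¹ * y * c i))
        congr 1
        ext i
        have h1 : ∀ z ∈ l.ker, (c i)⁻¹ * z * c i ∈ l.ker := fun z hz => by
          have := (inferInstance : l.ker.Normal).conj_mem z hz (c i)⁻¹
          rwa [inv_inv] at this
        rw [Pi.add_apply, ← hν _ (h1 x x.2) _ (h1 y y.2)]
        congr 1
        group }
  have hΨ : Function.Surjective Ψ := by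
    intro v
    obtain ⟨x, hx, hvx⟩ := hsurj (Multiplicative.toAdd v)
    refine ⟨⟨x, hx⟩, ?_⟩
    show Multiplicative.ofAdd (fun i => ν ((c i)⁻¹ * x * c i)) = v
    rw [← funext hvx]
    rfl
  have hμ : Function.Surjective μ := by
    intro t
    obtain ⟨x, hx, hvx⟩ := hsurj (fun _ => Multiplicative.toAdd t)
    have hy : (c 0)⁻¹ * x * c 0 ∈ l.ker := by
      have := (inferInstance : l.ker.Normal).conj_mem x hx (c 0)⁻¹
      rwa [inv_inv] at this
    refine ⟨⟨_, hy⟩, ?_⟩
    show Multiplicative.ofAdd (ν ((c 0)⁻¹ * x * c 0)) = t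
    rw [← hvx 0]
    rfl
  have hl : Function.Surjective l := fun t => ⟨c (Multiplicative.toAdd t), hc _⟩
  have hlidx : l.ker.index = p := by
    rw [Subgroup.index_ker, MonoidHom.range_eq_top.mpr hl, Subgroup.card_top]
    show Nat.card (ZMod p) = p
    exact Nat.card_zmod p
  have hμidx : μ.ker.index = p := by
    rw [Subgroup.index_ker, MonoidHom.range_eq_top.mpr hμ, Subgroup.card_top]
    show Nat.card (ZMod p) = p
    exact Nat.card_zmod p
  have hΨidx : Ψ.ker.index = p ^ p := by
    rw [Subgroup.index_ker, MonoidHom.range_eq_top.mpr hΨ, Subgroup.card_top]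
    show Nat.card (ZMod p → ZMod p) = p ^ p
    rw [Nat.card_fun, Nat.card_zmod]
  set M : Subgroup G := μ.ker.map l.ker.subtype with hM
  have hMidx : M.index = p ^ 2 := by
    rw [hM, Subgroup.index_map_subtype, hμidx, hlidx, pow_two]
  have hcard : Nat.card (G ⧸ M) = p ^ 2 := hMidx
  let e : (G ⧸ M) ≃ Fin (p ^ 2) := (Finite.equivFin (G ⧸ M)).trans (finCongr hcard)
  let f₀ : G →* Equiv.Perm (Fin (p ^ 2)) := e.permCongrHom.toMonoidHom.comp (MulAction.toPermHom G (G ⧸ M))
  have hker : f₀.ker = (MulAction.toPermHom G (G ⧸ M)).ker := by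
    ext x
    rw [MonoidHom.mem_ker, MonoidHom.mem_ker]
    constructor
    · intro h
      apply e.permCongrHom.injective
      rw [map_one]
      exact h
    · intro h
      show e.permCongrHom (MulAction.toPermHom G (G ⧸ M) x) = 1
      rw [h, map_one]
  set N := f₀.ker with hN
  have hNM : N ≤ M := by
    rw [hker, ← Subgroup.normalCore_eq_ker]
    exact Subgroup.normalCore_le M
  have hNl : N ≤ l.ker := hNM.trans (Subgroup.map_subtype_le _)
  have hNΨ : N.subgroupOf l.ker ≤ Ψ.ker := by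
    intro x hx
    rw [MonoidHom.mem_ker]
    show Multiplicative.ofAdd (fun i => ν ((c i)⁻¹ * x * c i)) = 1
    have h6 : (fun i => ν ((c i)⁻¹ * (x : G) * c i)) = 0 := by
      ext i
      have h1 : (c i)⁻¹ * (x : G) * c i ∈ N := by
        have := (inferInstance : N.Normal).conj_mem x hx (c i)⁻¹
        rwa [inv_inv] at this
      obtain ⟨y, hy, hyx⟩ := hNM h1
      have h2 : μ y = 1 := hy
      have h3 : ν (y : G) = 0 := h2
      have h4 : (y : G) = (c i)⁻¹ * (x : G) * c i := hyx
      rw [← h4, h3]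
      rfl
    rw [h6]; rfl
  have hNidx : p ^ (p + 1) ≤ N.index := by
    have h1 : N.relIndex l.ker * l.ker.index = N.index := Subgroup.relIndex_mul_index hNl
    have h2 : p ^ p ≤ N.relIndex l.ker := by
      rw [← hΨidx]
      refine Nat.le_of_dvd ?_ (Subgroup.index_dvd_of_le hNΨ)
      have : (N.subgroupOf l.ker).index ≠ 0 := Subgroup.index_ne_zero_of_finite
      exact Nat.pos_of_ne_zero this
    rw [← h1, hlidx, pow_succ]
    exact Nat.mul_le_mul_right p h2
  have hrange : IsPGroup p f₀.range := hG.of_surjective f₀.rangeRestrict f₀.rangeRestrict_surjective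
  obtain ⟨W, hW⟩ := hrange.exists_le_sylow
  have hWeq : f₀.range = (W : Subgroup (Equiv.Perm (Fin (p ^ 2)))) := by
    apply Subgroup.eq_of_le_of_card_ge hW
    rw [← Subgroup.index_ker]
    exact (card_sylow_perm W).le.trans hNidx
  refine ⟨W, f₀.codRestrict _ fun x => hW ⟨x, rfl⟩, ?_⟩
  rintro ⟨y, hy⟩
  rw [← hWeq] at hy
  obtain ⟨x, hx⟩ := hy
  exact ⟨x, Subtype.ext hx⟩

end Cfsg.Agent.Fus.Wr
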