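import Cfsg.Agent.Fus.ElemTate
import Cfsg.Agent.Fus.Wreath
set_option autoImplicit false
set_option maxHeartbeats 400000

/-!
# Transfer cocycles and the quotient `C_p ≀ C_p` (helper88)
-/

namespace Cfsg.Agent.Fus.Wr

variable {p : ℕ} [hp : Fact p.Prime]

theorem act_inv_act {B O : Type*} [Group B] (r : B →* Equiv.Perm O) (b : B) (o : O) : r b⁻¹ (r b o) = o := by
  rw [← Equiv.Perm.mul_apply, ← map_mul, inv_mul_cancel, map_one]; rfl

theorem act_act_inv {B O : Type*} [Group B] (r : B →* Equiv.Perm O) (b : B) (o : O) : r b (r b⁻¹ o) = o := by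
  rw [← Equiv.Perm.mul_apply, ← map_mul, mul_inv_cancel, map_one]; rfl

/-- A cocycle vanishing on stabilizers is a coboundary. -/
theorem coc_gauge {B O M : Type*} [Group B] [AddCommGroup M] (r : B →* Equiv.Perm O) (D : B → O → M)
    (hD : ∀ u v o, D (u * v) o = D u (r v o) + D v o) (A : Set O) (hA : ∀ b, ∀ o ∈ A, r b o ∈ A)
    (h0 : ∀ o ∈ A, ∀ b, r b o = o → D b o = 0) : ∃ k : O → M, ∀ o ∈ A, ∀ b, D b o = k (r b o) - k o := by
  have key : ∀ x : O, ∃ b, r b (Tr.omk r x).out = x := fun x => Tr.omk_eq.mp (Tr.omk_out _)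
  choose τ hτ using key
  refine ⟨fun o => D (τ o) (Tr.omk r o).out, fun o ho b => ?_⟩
  have h1 : Tr.omk r (r b o) = Tr.omk r o := (Tr.omk_eq.mpr ⟨b, rfl⟩).symm
  have h2 := hτ (r b o)
  rw [h1] at h2
  show D b o = D (τ (r b o)) (Tr.omk r (r b o)).out - D (τ o) (Tr.omk r o).out
  rw [h1]
  set rep := (Tr.omk r o).out with hrep
  have hrepA : rep ∈ A := by
    have h3 := hA (τ o)⁻¹ o ho
    have h4 : r (τ o)⁻¹ o = rep := by
      have h5 := act_inv_act r (τ o) rep
      have h6 : r (τ o) rep = o := hτ o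
      rwa [h6] at h5
    rwa [h4] at h3
  have h3 : r ((b * τ o)⁻¹ * τ (r b o)) rep = rep := by
    have h4 : r b o = r (b * τ o) rep := by rw [map_mul, Equiv.Perm.mul_apply, hτ]
    rw [map_mul, Equiv.Perm.mul_apply, h2, h4, act_inv_act]
  have h4 := h0 rep hrepA _ h3
  have h5 := hD (b * τ o) ((b * τ o)⁻¹ * τ (r b o)) rep
  rw [h3, h4, add_zero, mul_inv_cancel_left, hD, hτ] at h5
  rw [h5]
  abel

theorem exists_orbit_ne {G O M : Type*} [Group G] [AddCommGroup M] (σ : G →* Equiv.Perm O) (f : O → M) :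
    ∀ (n : ℕ) (s : Finset O), s.card = n → (∀ g, ∀ o ∈ s, σ g o ∈ s) → ∑ o ∈ s, f o ≠ 0 →
      ∃ t ⊆ s, (∀ g, ∀ o ∈ t, σ g o ∈ t) ∧ (∃ o₀ ∈ t, ∀ o ∈ t, ∃ g, σ g o₀ = o) ∧ ∑ o ∈ t, f o ≠ 0 := by
  classical
  intro n
  induction n using Nat.strong_induction_on with
  | _ n ih =>
  intro s hs hinv hne
  rcases s.eq_empty_or_nonempty with rfl | ⟨x, hx⟩
  · exact absurd Finset.sum_empty hne
  · set t := s.filter (fun o => ∃ g, σ g x = o) with ht
    have htinv : ∀ g, ∀ o ∈ t, σ g o ∈ t := by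
      intro g o ho
      obtain ⟨h1, k, rfl⟩ := Finset.mem_filter.mp ho
      refine Finset.mem_filter.mpr ⟨hinv g _ h1, g * k, ?_⟩
      rw [map_mul]; rfl
    have hxt : x ∈ t := Finset.mem_filter.mpr ⟨hx, 1, by rw [map_one]; rfl⟩
    by_cases h : ∑ o ∈ t, f o = 0
    · set u := s.filter (fun o => ¬ ∃ g, σ g x = o) with hu
      have h1 : ∑ o ∈ t, f o + ∑ o ∈ u, f o = ∑ o ∈ s, f o := Finset.sum_filter_add_sum_filter_not _ _ _
      rw [h, zero_add] at h1
      have hcard : u.card < n := by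
        rw [← hs]
        refine Finset.card_lt_card ⟨Finset.filter_subset _ _, fun hsub => ?_⟩
        exact (Finset.mem_filter.mp (hsub hx)).2 ⟨1, by rw [map_one]; rfl⟩
      obtain ⟨t', ht', h2, h3, h4⟩ := ih _ hcard u rfl (by
        intro g o ho
        obtain ⟨h1, h2⟩ := Finset.mem_filter.mp ho
        refine Finset.mem_filter.mpr ⟨hinv g _ h1, ?_⟩
        rintro ⟨k, hk⟩
        refine h2 ⟨g⁻¹ * k, ?_⟩
        rw [map_mul, Equiv.Perm.mul_apply, hk, act_inv_act]) (by rw [h1]; exact hne)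
      exact ⟨t', ht'.trans (Finset.filter_subset _ _), h2, h3, h4⟩
    · exact ⟨t, Finset.filter_subset _ _, htinv, ⟨x, hxt, fun o ho => (Finset.mem_filter.mp ho).2⟩, h⟩

variable {G O : Type*} [Group G]

theorem sum_perm {M : Type*} [AddCommMonoid M] (e : Equiv.Perm O) (s : Finset O) (hs : ∀ o, o ∈ s ↔ e o ∈ s)
    (f : O → M) : ∑ o ∈ s, f (e o) = ∑ o ∈ s, f o :=
  Finset.sum_equiv e hs fun _ _ => rfl

theorem wreath_of_stab [Finite G] (hG : IsPGroup p G) (σ : G →* Equiv.Perm O) (D : G → O → ZMod p)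
    (hD : ∀ u v o, D (u * v) o = D u (σ v o) + D v o) (s : Finset O) (hs : ∀ g, ∀ o ∈ s, σ g o ∈ s)
    (l : G →* Multiplicative (ZMod p)) (hl : Function.Surjective l) (hstab : ∀ o ∈ s, ∀ g, σ g o = o → l g = 1)
    {w : G} (hw : l w = 1) (hsum : ∑ o ∈ s, D w o ≠ 0) :
    ∃ (W : Sylow p (Equiv.Perm (Fin (p ^ 2)))) (f : G →* ↥(W : Subgroup (Equiv.Perm (Fin (p ^ 2))))),
      Function.Surjective f := by
  classical
  have hsiff : ∀ g o, o ∈ s ↔ σ g o ∈ s := by
    intro g o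
    refine ⟨hs g o, fun h => ?_⟩
    have h1 := hs g⁻¹ _ h
    rwa [act_inv_act] at h1
  obtain ⟨k, hk⟩ := coc_gauge σ (fun g _ => Multiplicative.toAdd (l g)) (fun u v o => by
    show Multiplicative.toAdd (l (u * v)) = _
    rw [map_mul]; rfl) (s : Set O) hs (fun o ho b hb => by
      show Multiplicative.toAdd (l b) = 0
      rw [hstab o ho b hb]; rfl)
  have hk' : ∀ o ∈ s, ∀ g, k (σ g o) = Multiplicative.toAdd (l g) + k o := by
    intro o ho g
    have h1 : Multiplicative.toAdd (l g) = k (σ g o) - k o := hk o ho g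
    rw [h1]; abel
  choose c hc using fun i : ZMod p => hl (Multiplicative.ofAdd i)
  set s0 := s.filter (fun o => k o = 0) with hs0
  have hs0iff : ∀ g ∈ l.ker, ∀ o, o ∈ s0 ↔ σ g o ∈ s0 := by
    intro g hg o
    rw [Finset.mem_filter, Finset.mem_filter, ← hsiff]
    refine and_congr_right fun ho => ?_
    rw [hk' o ho, MonoidHom.mem_ker.mp hg]
    show _ ↔ (0 : ZMod p) + k o = 0
    rw [zero_add]
  let ν : G → ZMod p := fun x => ∑ o ∈ s0, D x o
  have hν : ∀ x ∈ l.ker, ∀ y ∈ l.ker, ν (x * y) = ν x + ν y := by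
    intro x hx y hy
    show ∑ o ∈ s0, D (x * y) o = ∑ o ∈ s0, D x o + ∑ o ∈ s0, D y o
    rw [← sum_perm (σ y) s0 (hs0iff y hy) (D x), ← Finset.sum_add_distrib]
    exact Finset.sum_congr rfl fun o _ => hD x y o
  refine exists_wreath hG hc hν (w := w) hw ?_
  have h1 : ∀ i, ν ((c i)⁻¹ * w * c i) = ∑ o ∈ s.filter (fun o => k o = i), D w o := by
    intro i
    set w' := (c i)⁻¹ * w * c i with hw'
    have hw'k : w' ∈ l.ker := by
      have := (inferInstance : l.ker.Normal).conj_mem w hw (c i)⁻¹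
      rwa [inv_inv] at this
    have h2 : ∑ o ∈ s.filter (fun o => k o = i), D w o = ∑ o ∈ s0, D w (σ (c i) o) := by
      symm
      refine Finset.sum_equiv (σ (c i)) ?_ fun _ _ => rfl
      intro o
      rw [Finset.mem_filter, Finset.mem_filter, ← hsiff]
      refine and_congr_right fun ho => ?_
      rw [hk' o ho, hc]
      show _ ↔ i + k o = i
      rw [add_eq_left]
    rw [h2]
    have h3 : ∀ o, D w (σ (c i) o) = D w' o + (D (c i) (σ w' o) - D (c i) o) := by
      intro o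
      have h4 := hD w (c i) o
      have h5 := hD (c i) w' o
      have h6 : c i * w' = w * c i := by rw [hw']; group
      rw [h6, h4] at h5
      linear_combination h5
    rw [Finset.sum_congr rfl fun o _ => h3 o, Finset.sum_add_distrib, Finset.sum_sub_distrib,
      sum_perm (σ w') s0 (hs0iff w' hw'k) (D (c i)), sub_self, add_zero]
  rw [Finset.sum_congr rfl fun i _ => h1 i, Finset.sum_fiberwise]
  exact hsum

/-- a surjection onto `C_p` whose kernel contains a given proper subgroup -/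
theorem exists_hom_of_ne_top [Finite G] (hG : IsPGroup p G) {Q : Subgroup G} (hQ : Q ≠ ⊤) :
    ∃ l : G →* Multiplicative (ZMod p), Function.Surjective l ∧ Q ≤ l.ker := by
  obtain ⟨M, hM, hQM⟩ := (eq_top_or_exists_le_coatom Q).resolve_left hQ
  obtain ⟨hn, hidx⟩ := Cfsg.Agent.Solv.coatom_of_pGroup hG M hM
  let e : (G ⧸ M) ≃* Multiplicative (ZMod p) := mulEquivOfPrimeCardEq (p := p) hidx (Nat.card_zmod p)
  refine ⟨e.toMonoidHom.comp (QuotientGroup.mk' M), e.surjective.comp (QuotientGroup.mk'_surjective M), ?_⟩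
  intro x hx
  rw [MonoidHom.mem_ker]
  show e (QuotientGroup.mk' M x) = 1
  have h1 : QuotientGroup.mk' M x = 1 := by
    rw [← MonoidHom.mem_ker, QuotientGroup.ker_mk']
    exact hQM hx
  rw [h1, map_one]

theorem wreath_of_cocycle [Finite G] (hG : IsPGroup p G) (σ : G →* Equiv.Perm O) (D : G → O → ZMod p)
    (hD : ∀ u v o, D (u * v) o = D u (σ v o) + D v o) (s : Finset O) (hs : ∀ g, ∀ o ∈ s, σ g o ∈ s)
    (hfix : ∀ o ∈ s, ∃ g, σ g o ≠ o) {w : G}
    (hw : ∀ o ∈ s, σ w o ≠ o → ∀ k : ℤ, σ (w ^ k) o = o → D (w ^ k) o = 0) (hsum : ∑ o ∈ s, D w o ≠ 0) :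
    ∃ (W : Sylow p (Equiv.Perm (Fin (p ^ 2)))) (f : G →* ↥(W : Subgroup (Equiv.Perm (Fin (p ^ 2))))),
      Function.Surjective f := by
  classical
  obtain ⟨t, hts, htinv, ⟨o₀, ho₀, htr⟩, htsum⟩ := exists_orbit_ne σ (D w) _ s rfl hs hsum
  obtain ⟨g, hg⟩ := hfix o₀ (hts ho₀)
  have hQ : Burn.stab σ o₀ ≠ ⊤ := by
    intro h
    apply hg
    have : g ∈ Burn.stab σ o₀ := by rw [h]; trivial
    exact this
  obtain ⟨l, hl, hlQ⟩ := exists_hom_of_ne_top hG hQ
  have hstab : ∀ o ∈ t, ∀ g, σ g o = o → l g = 1 := by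
    intro o ho g hgo
    obtain ⟨x, rfl⟩ := htr o ho
    have h1 : x⁻¹ * g * x ∈ Burn.stab σ o₀ := by
      rw [Burn.mem_stab, map_mul, map_mul, Equiv.Perm.mul_apply, Equiv.Perm.mul_apply, hgo, act_inv_act]
    have h3 : l g = l x * ((l x)⁻¹ * l g * l x) * (l x)⁻¹ := by group
    rw [h3]
    have h4 : (l x)⁻¹ * l g * l x = 1 := by
      have := hlQ h1
      rwa [MonoidHom.mem_ker, map_mul, map_mul, map_inv] at this
    rw [h4, mul_one, mul_inv_cancel]
  by_cases hlw : l w = 1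
  · exact wreath_of_stab hG σ D hD t htinv l hl hstab hlw htsum
  · exfalso
    apply htsum
    have hne : ∀ o ∈ t, σ w o ≠ o := fun o ho h => hlw (hstab o ho w h)
    obtain ⟨k, hk⟩ := coc_gauge (σ.comp (Subgroup.zpowers w).subtype) (fun b o => D b o)
      (fun u v o => hD u v o) (t : Set O) (fun b o ho => htinv _ o ho) (by
        rintro o ho ⟨_, ⟨n, rfl⟩⟩ hb
        exact hw o (hts ho) (hne o ho) n hb)
    have h1 : ∀ o ∈ t, D w o = k (σ w o) - k o := fun o ho => hk o ho ⟨w, Subgroup.mem_zpowers w⟩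
    rw [Finset.sum_congr rfl h1, Finset.sum_sub_distrib, sum_perm (σ w) t ?_ k, sub_self]
    intro o
    refine ⟨htinv w o, fun h => ?_⟩
    have h1 := htinv w⁻¹ _ h
    rwa [act_inv_act] at h1

/-- separation by homomorphisms to `C_p` -/
theorem exists_sep [Finite G] {N : Subgroup G} (hcomm : commutator G ≤ N) (hpow : ∀ x : G, x ^ p ∈ N) {x : G}
    (hx : x ∉ N) : ∃ l : G →* Multiplicative (ZMod p), N ≤ l.ker ∧ l x ≠ 1 := by
  have hNn : N.Normal := Subgroup.Normal.of_commutator_le _ hcomm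
  let _ : CommGroup (G ⧸ N) :=
    { (inferInstance : Group (G ⧸ N)) with
      mul_comm := ((Subgroup.Normal.quotient_commutative_iff_commutator_le).mpr hcomm).is_comm.comm }
  have hW : ∀ x : Additive (G ⧸ N), p • x = 0 := by
    intro x
    show Additive.ofMul ((Additive.toMul x) ^ p) = 0
    obtain ⟨g, hg⟩ := QuotientGroup.mk'_surjective N (Additive.toMul x)
    rw [← hg, ← map_pow]
    have : QuotientGroup.mk' N (g ^ p) = 1 := by
      rw [← MonoidHom.mem_ker, QuotientGroup.ker_mk']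
      exact hpow g
    rw [this]; rfl
  let inst : Module (ZMod p) (Additive (G ⧸ N)) := AddCommGroup.zmodModule (n := p) (G := Additive (G ⧸ N)) hW
  have hne : Additive.ofMul (QuotientGroup.mk' N x) ≠ 0 := by
    intro h
    apply hx
    have h1 : QuotientGroup.mk' N x = 1 := h
    rwa [← MonoidHom.mem_ker, QuotientGroup.ker_mk'] at h1
  obtain ⟨φ, hφ⟩ : ∃ φ : Module.Dual (ZMod p) (Additive (G ⧸ N)), φ (Additive.ofMul (QuotientGroup.mk' N x)) ≠ 0 := by
    by_contra h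
    push Not at h
    exact hne ((Module.forall_dual_apply_eq_zero_iff (ZMod p) _).mp h)
  refine ⟨(AddMonoidHom.toMultiplicativeRight φ.toAddMonoidHom).comp (QuotientGroup.mk' N), ?_, ?_⟩
  · intro y hy
    rw [MonoidHom.mem_ker]
    show Multiplicative.ofAdd (φ (Additive.ofMul (QuotientGroup.mk' N y))) = 1
    have : QuotientGroup.mk' N y = 1 := by
      rw [← MonoidHom.mem_ker, QuotientGroup.ker_mk']
      exact hy
    rw [this, ofMul_one, map_zero]
    rfl
  · intro h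
    exact hφ h

end Cfsg.Agent.Fus.Wr
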