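import Cfsg.Agent.Fus.ElemTate
import Cfsg.Agent.Fus.Wreath2
import Cfsg.Agent.Fus.PPow6
set_option autoImplicit false
set_option maxHeartbeats 400000

/-!
# Equivariance of the transfer and `hyp` of subsystems of `p`-power index (helper88)
-/

namespace Cfsg.Agent.Fus.Bi

open Cfsg Cfsg.Agent.Fus Cfsg.Agent.Fus.Burn

variable {Ω : Type*} [Group Ω] {S T : Subgroup Ω} {F : FusionSystem S} {p : ℕ} {X A : Type*} [CommGroup A]

theorem graph_map_aut {a : MulAut S} (ha : AutInv a F) {P : Subgroup Ω} {f : Ω → Ω} (h : IsMap F P f) :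
    (graph h).map ((a : S ≃* S).prodCongr a).toMonoidHom = graph (ha P f h) := by
  ext z
  constructor
  · rintro ⟨w, hw, rfl⟩
    have hw1 : (w.1 : Ω) ∈ P := hw.1
    have hw2 : (w.2 : Ω) = f w.1 := hw.2
    have h1 : ((a w.1 : S) : Ω) = ofAut a (w.1 : Ω) := (ofAut_coe a w.1).symm
    have h2 : ((a w.2 : S) : Ω) = ofAut a (w.2 : Ω) := (ofAut_coe a w.2).symm
    show ((a w.1 : S) : Ω) ∈ _ ∧ ((a w.2 : S) : Ω) = cjf a f ((a w.1 : S) : Ω)
    rw [h1, h2, cjf_apply a h.le f hw1, hw2]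
    exact ⟨subset_img hw1, rfl⟩
  · rintro ⟨h1, h2⟩
    obtain ⟨x, hx, hxz⟩ := (mem_img_ofAut a h.le).mp h1
    refine ⟨(⟨x, h.le hx⟩, ⟨f x, h.mem hx⟩), ⟨hx, rfl⟩, ?_⟩
    apply Prod.ext
    · apply Subtype.ext
      show ((a ⟨x, h.le hx⟩ : S) : Ω) = z.1
      rw [← hxz, ofAut_apply a (h.le hx)]
    · apply Subtype.ext
      show ((a ⟨f x, h.mem hx⟩ : S) : Ω) = z.2
      rw [h2, ← hxz, cjf_apply a h.le f hx, ofAut_apply a (h.mem hx)]

theorem presFT_of_autInv [Finite S] {a : MulAut S} (ha : AutInv a F) (ha' : AutInv a⁻¹ F) : PresFT F a a := by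
  have key : ∀ {b : MulAut S}, AutInv b F → ∀ H ∈ FT F, H.map ((b : S ≃* S).prodCongr b).toMonoidHom ∈ FT F := by
    rintro b hb _ ⟨P, f, h, rfl⟩
    rw [graph_map_aut hb h]
    exact graph_mem_FT _
  refine ⟨key ha, fun H hH => ?_⟩
  have h1 := key ha' _ hH
  have h2 : (H.map ((a : S ≃* S).prodCongr a).toMonoidHom).map (((a⁻¹ : MulAut S) : S ≃* S).prodCongr a⁻¹).toMonoidHom
      = H := by
    have h3 := map_map_symm ((a : S ≃* S).prodCongr a) H
    have h4 : ((a : S ≃* S).prodCongr a).symm = (((a⁻¹ : MulAut S) : S ≃* S).prodCongr a⁻¹) := rfl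
    rw [h4] at h3
    exact h3
  rwa [h2] at h1

/-- The twisting bijection of the characteristic biset. -/
theorem exists_twist [Finite S] {c : Subgroup (S × S) → ℕ} (hc : IsChar F p c) {a : S ≃* S} (ha : PresFT F a a) :
    ∃ e : Equiv.Perm (carr c), ∀ (g : S × S) (x : carr c),
      e (restr (uact (S × S)) (carr c) (carr_inv c) g x) =
        restr (uact (S × S)) (carr c) (carr_inv c) (a g.1, a g.2) (e x) := by
  have hsym := hc.sym a a ha
  obtain ⟨b, hb1, hb2⟩ := exists_equivariant (uact (S × S)) ((uact (S × S)).comp (a.prodCongr a).toMonoidHom) Set.univ _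
    (carr c) (carr c) (finite_carr c) (finite_carr c) rfl (carr_inv c) (fun g z hz => carr_inv c _ z hz)
    (fun _ _ => trivial) (fun _ _ => trivial) (by
      intro K _
      rw [fixS_comp, ncard_fixS_carr, ncard_fixS_carr, hsym.mark])
  refine ⟨hb1.equiv b, fun g x => ?_⟩
  apply Subtype.ext
  exact hb2 g x x.2

/-- Equivariance of the transfer. -/
theorem V_twist [Finite X] {α : S × S →* Equiv.Perm X} {a : S ≃* S} {e : Equiv.Perm X}
    (he : ∀ (g : S × S) (x : X), e (α g x) = α (a g.1, a g.2) (e x)) {l : S →* A} {h : X → A}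
    (hh : Tr.Gauge (ract α) l h) :
    ∃ hh' : Tr.Gauge (ract α) (l.comp a.toMonoidHom) (fun x => h (e x)), ∀ u, V hh' u = V hh (a u) := by
  classical
  have her : ∀ (b : S) (x : X), e (ract α b x) = ract α (a b) (e x) := by
    intro b x
    have := he (1, b) x
    rw [map_one] at this
    exact this
  have hg : Tr.Gauge (ract α) (l.comp a.toMonoidHom) (fun x => h (e x)) := by
    intro b x
    show h (e (ract α b x)) = l (a b) * h (e x)
    rw [her, hh]
  refine ⟨hg, fun u => ?_⟩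
  · rw [V_apply, V_apply]
    let _ : Fintype (Tr.Orb (ract α)) := Fintype.ofFinite _
    unfold Tr.trg
    simp only
    -- the permutation of the orbits
    let ē : Equiv.Perm (Tr.Orb (ract α)) := Quotient.congr e fun x y => by
      constructor
      · rintro ⟨b, rfl⟩
        exact ⟨a b, (her b x).symm⟩
      · rintro ⟨b, hb⟩
        refine ⟨a.symm b, ?_⟩
        apply e.injective
        rw [her, a.apply_symm_apply]
        exact hb
    have hē : ∀ x, ē (Tr.omk (ract α) x) = Tr.omk (ract α) (e x) := fun x => rfl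
    rw [← Equiv.prod_comp ē (fun o : Tr.Orb (ract α) => h (α (a u, 1) o.out) / h o.out)]
    refine Finset.prod_congr rfl fun o _ => ?_
    have h1 : Tr.omk (ract α) (e o.out) = ē o := by rw [← hē, Tr.omk_out]
    have h2 := hh.div_congr (left_mem_cen α (a u)) (x := e o.out) (y := (ē o).out) (by rw [Tr.omk_out, h1])
    rw [← h2]
    have h3 := he (u, 1) o.out
    rw [map_one] at h3
    rw [← h3]

/-- The transfer is multiplicative. -/
theorem V_mul [Finite X] {α : S × S →* Equiv.Perm X} {l l' : S →* A} {h h' : X → A}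
    (hh : Tr.Gauge (ract α) l h) (hh' : Tr.Gauge (ract α) l' h') :
    ∃ hh'' : Tr.Gauge (ract α) (l * l') (fun x => h x * h' x), ∀ u, V hh'' u = V hh u * V hh' u := by
  classical
  have hg : Tr.Gauge (ract α) (l * l') (fun x => h x * h' x) := by
    intro b x
    show h (ract α b x) * h' (ract α b x) = l b * l' b * (h x * h' x)
    rw [hh, hh', mul_mul_mul_comm]
  refine ⟨hg, fun u => ?_⟩
  · rw [V_apply, V_apply, V_apply]
    let _ : Fintype (Tr.Orb (ract α)) := Fintype.ofFinite _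
    unfold Tr.trg
    simp only
    rw [← Finset.prod_mul_distrib]
    refine Finset.prod_congr rfl fun o _ => ?_
    rw [mul_div_mul_comm]

theorem V_congr [Finite X] {α : S × S →* Equiv.Perm X} {l : S →* A} {h h' : X → A}
    (hh : Tr.Gauge (ract α) l h) (hh' : Tr.Gauge (ract α) l h') (u : S) : V hh u = V hh' u := by
  rw [V_apply, V_apply]
  exact Tr.trg_congr hh hh' (left_mem_cen α u)

/-- `hyp` of a subsystem of `p`-power index. -/
theorem hyper_le_of_ppower [Finite S] [Fact p.Prime] (hS : IsPGroup p S) {E : FusionSystem T} (hTS : T ≤ S)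
    (hT : F.hyperfocalSubgroup p ≤ T)
    (h : ∀ P : Subgroup Ω, P ≤ T → ∀ α ∈ F.autGroup P, (orderOf α).Coprime p → IsMap E P (ofAut α)) :
    F.hyperfocalSubgroup p ≤ E.hyperfocalSubgroup p := by
  have := finite_of_le hTS
  set K := E.hyperfocalSubgroup p with hK
  refine hyper_le fun P hP α hα x hx => ?_
  have hfP := finite_of_le hP
  have hfA := finite_mulAut (P := P)
  have hα' : (orderOf (α : MulAut P)).Coprime p := by rwa [Subgroup.orderOf_coe]
  -- the restriction to `P ⊓ T`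
  have hmove : ∀ y ∈ P, y⁻¹ * ofAut (α : MulAut P) y ∈ T := fun y hy =>
    hT (mem_hyper_of_coprime hP α.2 hα' hy)
  have hinv : ∀ y ∈ P ⊓ T, ofAut (α : MulAut P) y ∈ P ⊓ T := by
    intro y hy
    refine ⟨ofAut_mem _ hy.1, ?_⟩
    have h1 := T.mul_mem hy.2 (hmove y hy.1)
    rwa [mul_inv_cancel_left] at h1
  obtain ⟨β, hβ, hβx, hβo⟩ := exists_restrict_mem hP (inf_le_left : P ⊓ T ≤ P) α.2 hinv
  have hβp : (orderOf β).Coprime p := Nat.Coprime.coprime_dvd_left hβo hα'
  have hβE := h (P ⊓ T) inf_le_right β hβ hβp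
  have hK1 : ∀ y ∈ P ⊓ T, y⁻¹ * ofAut (α : MulAut P) y ∈ K := by
    intro y hy
    rw [← hβx y hy]
    exact mem_hyper_of_coprime inf_le_right ((mem_autGroup_iff inf_le_right).mpr hβE) hβp hy
  -- `u = x⁻¹ α(x)`
  set u := x⁻¹ * ofAut (α : MulAut P) x with hu
  have huT : u ∈ T := hmove x hx
  have huP : u ∈ P := P.mul_mem (P.inv_mem hx) (ofAut_mem _ hx)
  have hKn : ∀ t ∈ T, ∀ k ∈ K, t * k * t⁻¹ ∈ K := fun t ht k hk => hyper_conj_mem ht hk
  -- `α^n(u) ∈ u K`
  have hiter : ∀ n : ℕ, ofAut ((α : MulAut P) ^ n) u ∈ P ⊓ T ∧ u⁻¹ * ofAut ((α : MulAut P) ^ n) u ∈ K := by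
    intro n
    induction n with
    | zero =>
      rw [pow_zero, ofAut_one huP, inv_mul_cancel]
      exact ⟨⟨huP, huT⟩, K.one_mem⟩
    | succ n ih =>
      obtain ⟨ih1, ih2⟩ := ih
      rw [pow_succ', ofAut_mul _ _ huP]
      refine ⟨hinv _ ih1, ?_⟩
      have h1 := K.mul_mem ih2 (hK1 _ ih1)
      have e : u⁻¹ * ofAut ((α : MulAut P) ^ n) u * ((ofAut ((α : MulAut P) ^ n) u)⁻¹ *
          ofAut (α : MulAut P) (ofAut ((α : MulAut P) ^ n) u)) =
          u⁻¹ * ofAut (α : MulAut P) (ofAut ((α : MulAut P) ^ n) u) := by group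
      rwa [e] at h1
  have hpow : ∀ n : ℕ, (x * u ^ n)⁻¹ * ofAut ((α : MulAut P) ^ n) x ∈ K := by
    intro n
    induction n with
    | zero =>
      rw [pow_zero, pow_zero, ofAut_one hx, mul_one, inv_mul_cancel]
      exact K.one_mem
    | succ n ih =>
      have h1 : ofAut ((α : MulAut P) ^ (n + 1)) x = ofAut ((α : MulAut P) ^ n) x * ofAut ((α : MulAut P) ^ n) u := by
        rw [pow_succ, ofAut_mul _ _ hx]
        have h2 : ofAut (α : MulAut P) x = x * u := by rw [hu, mul_inv_cancel_left]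
        rw [h2, ofAut_map_mul _ hx huP]
      rw [h1]
      set y := ofAut ((α : MulAut P) ^ n) x
      set v := ofAut ((α : MulAut P) ^ n) u
      have h2 : (x * u ^ (n + 1))⁻¹ * (y * v) = u⁻¹ * ((x * u ^ n)⁻¹ * y) * u * (u⁻¹ * v) := by
        rw [pow_succ]; group
      rw [h2]
      refine K.mul_mem ?_ (hiter n).2
      have h3 := hKn u⁻¹ (T.inv_mem huT) _ ih
      rwa [inv_inv] at h3
  -- `n = orderOf α`
  have h1 := hpow (orderOf (α : MulAut P))
  rw [pow_orderOf_eq_one, ofAut_one hx] at h1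
  have h2 : u ^ orderOf (α : MulAut P) ∈ K := by
    have h3 : (x * u ^ orderOf (α : MulAut P))⁻¹ * x = (u ^ orderOf (α : MulAut P))⁻¹ := by group
    rw [h3] at h1
    exact K.inv_mem_iff.mp h1
  -- `u` has order a power of `p`
  obtain ⟨k, hk⟩ := hS ⟨u, hTS huT⟩
  have hk' : u ^ p ^ k = 1 := congrArg Subtype.val hk
  have hcop : Nat.Coprime (orderOf (α : MulAut P)) (p ^ k) := Nat.Coprime.pow_right k hα'
  obtain ⟨a, b, hab⟩ : ∃ a b : ℤ, a * ((orderOf (α : MulAut P) : ℕ) : ℤ) + b * ((p ^ k : ℕ) : ℤ) = 1 :=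
    Nat.isCoprime_iff_coprime.mpr hcop
  have h4 : u = (u ^ orderOf (α : MulAut P)) ^ a := by
    calc u = u ^ (a * ((orderOf (α : MulAut P) : ℕ) : ℤ) + b * ((p ^ k : ℕ) : ℤ) : ℤ) := by rw [hab, zpow_one]
      _ = (u ^ orderOf (α : MulAut P)) ^ a * (u ^ p ^ k) ^ b := by
        rw [zpow_add, mul_comm a, mul_comm b, zpow_mul, zpow_mul, zpow_natCast, zpow_natCast]
      _ = _ := by rw [hk', one_zpow, mul_one]
  rw [h4]
  exact K.zpow_mem h2 a

end Cfsg.Agent.Fus.Bi
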