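import Cfsg.Agent.Fus.Tate1
import Cfsg.Agent.H63.PG
set_option autoImplicit false
set_option maxHeartbeats 400000

/-!
# Tate's theorem for fusion systems (helper88)
-/

namespace Cfsg.Agent.Fus.Bi

open Cfsg Cfsg.Agent.Fus Cfsg.Agent.Fus.Burn

variable {Ω : Type*} [Group Ω] {S T : Subgroup Ω} {F : FusionSystem S} {p : ℕ} {X A : Type*} [CommGroup A]

theorem V_congr' [Finite X] {α : S × S →* Equiv.Perm X} {l l' : S →* A} {h h' : X → A} (hl : l = l')
    (hh : Tr.Gauge (ract α) l h) (hh' : Tr.Gauge (ract α) l' h') (u : S) : V hh u = V hh' u := by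
  subst hl
  exact V_congr hh hh' u

/-- The transfer, packaged. -/
theorem exists_transfer [Finite S] [Fact p.Prime] (hS : IsPGroup p S) (hF : F.IsSaturated p) (A : Type*)
    [CommGroup A] : ∃ (m : ℕ) (V : (S →* A) → (S →* A)), ¬ p ∣ m ∧ (∀ l l', V (l * l') = V l * V l') ∧
      (∀ l, Stable F (V l)) ∧ (∀ l, Stable F l → ∀ u, V l u = (l u)⁻¹ ^ m) ∧
      (∀ a : MulAut S, AutInv a F → AutInv a⁻¹ F → ∀ l u, V (l.comp (a : S ≃* S).toMonoidHom) u = V l (a u)) := by
  obtain ⟨c, hc⟩ := exists_isChar hS hF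
  have hX : Finite (carr c) := (finite_carr c).to_subtype
  have hα := charAct_carr hc
  set α := restr (uact (S × S)) (carr c) (carr_inv c) with hαd
  have hg : ∀ l : S →* A, ∃ h : carr c → A, Tr.Gauge (ract α) l h := fun l =>
    Tr.exists_gauge (r := ract α) hα.toRealAct.free l
  choose h hh using hg
  refine ⟨Nat.card (Tr.Orb (ract α)), fun l => V (hh l), hα.not_dvd, ?_, ?_, ?_, ?_⟩
  · intro l l'
    obtain ⟨hm, hm'⟩ := V_mul (hh l) (hh l')
    ext u
    rw [MonoidHom.mul_apply, ← hm']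
    exact V_congr _ _ u
  · intro l
    exact V_stable_of hα.toRealAct (hh l)
  · intro l hl u
    exact V_of_stable hα.toRealAct hl (hh l) u
  · intro a ha ha' l u
    obtain ⟨e, he⟩ := exists_twist hc (presFT_of_autInv ha ha')
    obtain ⟨ht, ht'⟩ := V_twist he (hh l)
    rw [← ht']
    exact V_congr _ _ u

theorem stable_of_hyper [Finite S] [Fact p.Prime] (hS : IsPGroup p S) (hF : F.IsSaturated p) {l : S →* A}
    (h : ∀ x (hx : x ∈ S), x ∈ F.hyperfocalSubgroup p → l ⟨x, hx⟩ = 1) : Stable F l := by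
  rw [stable_iff]
  intro x hx hxf
  have h1 : F.focalSubgroup ≤ l.ker.map S.subtype := by
    rw [focal_eq hS hF]
    refine sup_le (fun y hy => ⟨⟨y, hyper_le_S hy⟩, h y _ hy, rfl⟩) ?_
    have h7 : (commutator S).map S.subtype = ⁅S, S⁆ := by
      rw [commutator_def, Subgroup.map_commutator, ← MonoidHom.range_eq_map, Subgroup.range_subtype]
    rw [← h7]
    exact Subgroup.map_mono (Abelianization.commutator_subset_ker l)
  obtain ⟨w, hw, hwx⟩ := h1 hxf
  have : w = ⟨x, hx⟩ := Subtype.ext hwx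
  rw [← this]
  exact hw

theorem pow_ne_one_of_not_dvd {B : Type*} [Group B] [Fact p.Prime] {x : B} {m k : ℕ} (hm : ¬ p ∣ m)
    (hx : x ^ p ^ k = 1) (h : x ≠ 1) : x ^ m ≠ 1 := by
  intro h1
  apply h
  rw [← orderOf_dvd_iff_pow_eq_one] at h1 hx
  rw [← orderOf_eq_one_iff]
  exact Nat.eq_one_of_dvd_coprimes
    (Nat.Coprime.pow_left k ((Fact.out : p.Prime).coprime_iff_not_dvd.mpr hm)) hx h1

end Cfsg.Agent.Fus.Bi

namespace Cfsg.Agent.Fus

open Cfsg Cfsg.Agent.Fus.Bi

variable {Ω : Type*} [Group Ω] {p : ℕ}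

/-- Separation of elements of the hyperfocal subgroup by homomorphisms of `S`. -/
theorem sep_hyper [Fact p.Prime] (n : ℕ) : ∀ {S : Subgroup Ω} {F : FusionSystem S} [Finite S], Nat.card S = n →
    IsPGroup p S → F.IsSaturated p → ∀ {N₀ : Subgroup Ω}, N₀ ≤ F.hyperfocalSubgroup p →
    (∀ s ∈ S, ∀ t ∈ F.hyperfocalSubgroup p, s * t * s⁻¹ * t⁻¹ ∈ N₀) → (∀ t ∈ F.hyperfocalSubgroup p, t ^ p ∈ N₀) →
    ∀ {t₀ : S}, (t₀ : Ω) ∈ F.hyperfocalSubgroup p → (t₀ : Ω) ∉ N₀ →
    ∃ χ : S →* Multiplicative (ZMod p), (∀ u : S, (u : Ω) ∈ N₀ → χ u = 1) ∧ χ t₀ ≠ 1 := by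
  induction n using Nat.strong_induction_on with
  | _ n ih =>
  intro S F _ hn hS hF N₀ hN₀ hcomm hpow t₀ ht₀ ht₀N
  have hp : p.Prime := Fact.out
  set T := F.hyperfocalSubgroup p with hT
  have hTS : T ≤ S := hyper_le_S
  by_cases hTeq : T = S
  · -- `T = S`
    obtain ⟨l, hl, hlx⟩ := Wr.exists_sep (G := S) (N := N₀.subgroupOf S) (p := p) (by
        rw [commutator_def, Subgroup.commutator_le]
        intro x _ y _
        rw [Subgroup.mem_subgroupOf]
        exact hcomm x x.2 y (by rw [hTeq]; exact y.2)) (by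
        intro x
        rw [Subgroup.mem_subgroupOf]
        exact hpow x (by rw [hTeq]; exact x.2)) (x := t₀) (by rwa [Subgroup.mem_subgroupOf])
    exact ⟨l, fun u hu => hl (by rwa [Subgroup.mem_subgroupOf]), hlx⟩
  · -- a maximal subgroup
    obtain ⟨B, hB1, hB2, hB3⟩ := exists_index_p hS (T.subgroupOf S) fun h => by
      rw [Subgroup.subgroupOf_eq_top] at h
      exact hTeq (le_antisymm hTS h)
    set M : Subgroup Ω := B.map S.subtype with hM
    have hMS : M ≤ S := Subgroup.map_subtype_le B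
    have hmem : ∀ s (hs : s ∈ S), s ∈ M ↔ (⟨s, hs⟩ : S) ∈ B := by
      intro s hs
      constructor
      · rintro ⟨y, hy, rfl⟩
        exact hy
      · intro h
        exact ⟨_, h, rfl⟩
    have hTM : T ≤ M := fun x hx => (hmem x (hTS hx)).mpr (hB1 (by rwa [Subgroup.mem_subgroupOf]))
    have hMn : ∀ s ∈ S, ∀ x ∈ M, s * x * s⁻¹ ∈ M := by
      intro s hs x hx
      rw [hmem _ (S.mul_mem (S.mul_mem hs (hMS hx)) (S.inv_mem hs))]
      exact hB3.conj_mem ⟨x, hMS hx⟩ ((hmem _ _).mp hx) ⟨s, hs⟩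
    have hMS' : M < S := by
      refine lt_of_le_of_ne hMS fun h => ?_
      have : B = ⊤ := by
        rw [eq_top_iff]
        rintro ⟨s, hs⟩ -
        rw [← hmem s hs, h]
        exact hs
      rw [this, Subgroup.index_top] at hB2
      exact hp.one_lt.ne hB2
    have hfM : Finite M := finite_of_le hMS
    have hMp : IsPGroup p M := isPGroup_of_le hS hMS
    have hMsc : F.StronglyClosed M := stronglyClosed_of_hyper_le hS hF hMS hMn hTM
    obtain ⟨E, hE1, hE2, hE3⟩ := exists_ppower (Nat.card S) rfl hS hF hMS hTM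
    have hinv : TInv F E := tInv_of_coprime hS hMS hE1 hE2 hE3
    have hET : E.hyperfocalSubgroup p = T :=
      le_antisymm (hyper_mono_sys hE2 hMS) (hyper_le_of_ppower hS hMS hTM hE3)
    -- the induction hypothesis
    obtain ⟨χ', hχ1, hχ2⟩ := ih (Nat.card M) (hn ▸ card_lt_of_lt le_rfl hMS') (S := M) (F := E) rfl hMp hE1
      (N₀ := N₀) (by rw [hET]; exact hN₀) (by rw [hET]; exact fun s hs t ht => hcomm s (hMS hs) t ht)
      (by rw [hET]; exact hpow) (t₀ := ⟨t₀, hTM ht₀⟩) (by rw [hET]; exact ht₀) ht₀N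
    obtain ⟨m, V, hm, hVmul, hVst, hVof, hVtw⟩ := exists_transfer hMp hE1 (Multiplicative (ZMod p))
    -- `d`
    set d : M →* Multiplicative (ZMod p) := ((powMonoidHom m).comp χ') * V χ' with hd
    have hdu : ∀ u, d u = χ' u ^ m * V χ' u := fun u => rfl
    have hVT : ∀ t : M, (t : Ω) ∈ T → V χ' t = 1 := by
      intro t ht
      exact stable_iff.mp (hVst χ') t t.2 (hyper_le_focal (by rw [hET]; exact ht))
    have hcardZ : Nat.card (Multiplicative (ZMod p)) = p := by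
      rw [Nat.card_congr Multiplicative.toAdd, Nat.card_zmod]
    have hfZ : Finite (Multiplicative (ZMod p)) := Nat.finite_of_card_ne_zero (by rw [hcardZ]; exact hp.ne_zero)
    have hZp : ∀ z : Multiplicative (ZMod p), z ^ p = 1 := fun z => by
      have := pow_card_eq_one' (x := z)
      rwa [hcardZ] at this
    have hd0 : d ⟨t₀, hTM ht₀⟩ ≠ 1 := by
      rw [hdu, hVT _ ht₀, mul_one]
      exact pow_ne_one_of_not_dvd (k := 1) hm (by rw [pow_one]; exact hZp _) hχ2
    have hdN : ∀ u : M, (u : Ω) ∈ N₀ → d u = 1 := by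
      intro u hu
      rw [hdu, hVT u (hN₀ hu), hχ1 u hu, one_pow, one_mul]
    have hdinv : ∀ s (hs : s ∈ S) (u : M), d ⟨s * u * s⁻¹, hMn s hs u u.2⟩ = d u := by
      intro s hs u
      have hsn := sc_le_normalizer hMsc hs
      set a : MulAut M := conjAut s hsn with ha
      have haF : a ∈ F.autGroup M := conjAut_mem_autGroup hMS hs hsn
      have hau : ∀ v : M, a v = ⟨s * v * s⁻¹, hMn s hs v v.2⟩ := fun v => rfl
      set δ : M →* Multiplicative (ZMod p) := χ'.comp (a : M ≃* M).toMonoidHom * χ'⁻¹ with hδ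
      have hδu : ∀ v, δ v = χ' (a v) * (χ' v)⁻¹ := fun v => rfl
      have hδst : Stable E δ := by
        refine stable_of_hyper hMp hE1 fun x hx hxT => ?_
        rw [hET] at hxT
        rw [hδu, ← map_inv, ← map_mul]
        exact hχ1 _ (hcomm s hs x hxT)
      have h1 : χ'.comp (a : M ≃* M).toMonoidHom = δ * χ' := by
        rw [hδ, inv_mul_cancel_right]
      have h2 := hVtw a (hinv a haF) (hinv a⁻¹ (Subgroup.inv_mem _ haF)) χ' u
      rw [h1, hVmul, MonoidHom.mul_apply, hVof δ hδst] at h2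
      rw [← hau, hdu, hdu, ← h2]
      have h3 : χ' (a u) = δ u * χ' u := by rw [hδu, inv_mul_cancel_right]
      rw [h3, mul_pow, inv_pow]
      have h4 : ∀ x y z : Multiplicative (ZMod p), x * y * (x⁻¹ * z) = y * z := by
        intro x y z
        rw [mul_comm x y, mul_assoc, mul_inv_cancel_left]
      exact h4 _ _ _
    -- the kernel
    set N : Subgroup S := (d.ker.map M.subtype).subgroupOf S with hN
    have hNmem : ∀ u : S, u ∈ N ↔ ∃ h : (u : Ω) ∈ M, d ⟨u, h⟩ = 1 := by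
      intro u
      rw [hN, Subgroup.mem_subgroupOf]
      constructor
      · rintro ⟨w, hw, hwu⟩
        have hwu' : (w : Ω) = u := hwu
        have hu : (u : Ω) ∈ M := hwu' ▸ w.2
        refine ⟨hu, ?_⟩
        have : w = ⟨u, hu⟩ := Subtype.ext hwu'
        rw [← this]
        exact hw
      · rintro ⟨h, h1⟩
        exact ⟨⟨u, h⟩, h1, rfl⟩
    have hNn : N.Normal := by
      refine ⟨fun u hu g => ?_⟩
      obtain ⟨h1, h2⟩ := (hNmem u).mp hu
      refine (hNmem _).mpr ⟨hMn g g.2 u h1, ?_⟩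
      rw [← h2]
      exact hdinv g g.2 ⟨u, h1⟩
    have hNcard : Nat.card (S ⧸ N) = p ^ 2 := by
      have hsurj : Function.Surjective d := by
        rw [← MonoidHom.range_eq_top]
        refine Subgroup.eq_top_of_card_eq _ ?_
        have h1 : Nat.card d.range ∣ p := (Subgroup.card_subgroup_dvd_card d.range).trans (dvd_of_eq hcardZ)
        rcases (Nat.dvd_prime hp).mp h1 with h2 | h2
        · exfalso
          apply hd0
          have h3 := Subgroup.card_eq_one.mp h2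
          have h4 : d ⟨t₀, hTM ht₀⟩ ∈ d.range := ⟨_, rfl⟩
          rw [h3] at h4
          exact Subgroup.mem_bot.mp h4
        · rw [h2, hcardZ]
      have h1 : d.ker.index = p := by
        rw [Subgroup.index_ker, MonoidHom.range_eq_top.mpr hsurj, Subgroup.card_top, hcardZ]
      have h2 := d.ker.card_mul_index
      have h3 : Nat.card N = Nat.card d.ker := by
        refine Nat.card_congr (Equiv.ofBijective
          (fun w : d.ker => (⟨⟨w.1, hMS w.1.2⟩, (hNmem _).mpr ⟨w.1.2, w.2⟩⟩ : N)) ⟨?_, ?_⟩).symm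
        · rintro ⟨⟨x, hx⟩, hx'⟩ ⟨⟨y, hy⟩, hy'⟩ hxy
          have : x = y := congrArg (fun z : N => ((z : S) : Ω)) hxy
          subst this
          rfl
        · rintro ⟨⟨x, hx⟩, hx'⟩
          obtain ⟨h4, h5⟩ := (hNmem _).mp hx'
          exact ⟨⟨⟨x, h4⟩, h5⟩, rfl⟩
      have h4 : Nat.card M = Nat.card B := Subgroup.card_map_of_injective S.subtype_injective
      have h5 := B.card_mul_index
      have h6 := N.card_mul_index
      have h7 : Nat.card (S ⧸ N) = N.index := rfl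
      rw [h7]
      refine Nat.eq_of_mul_eq_mul_left (Nat.card_pos (α := N)) ?_
      rw [h6, ← h5, hB2, ← h4, ← h2, h1, h3, pow_two, mul_assoc]
    have hcommA : ∀ x y : S ⧸ N, x * y = y * x := by
      have := IsPGroup.isMulCommutative_of_card_eq_prime_sq hNcard
      exact fun x y => this.is_comm.comm x y
    let instA : CommGroup (S ⧸ N) := { (inferInstance : Group (S ⧸ N)) with mul_comm := hcommA }
    set ν : S →* S ⧸ N := QuotientGroup.mk' N with hν
    have hν1 : ∀ u, ν u = 1 ↔ u ∈ N := by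
      intro u
      rw [← MonoidHom.mem_ker, hν, QuotientGroup.ker_mk']
    obtain ⟨m₂, V₂, hm₂, hVmul₂, hVst₂, hVof₂, -⟩ := exists_transfer hS hF (S ⧸ N)
    have hV₂T : ∀ (l : S →* S ⧸ N) (t : S), (t : Ω) ∈ T → V₂ l t = 1 := by
      intro l t ht
      exact stable_iff.mp (hVst₂ l) t t.2 (hyper_le_focal ht)
    have hV₂one : V₂ 1 = 1 := by
      have := hVmul₂ 1 1
      rw [mul_one] at this
      exact (left_eq_mul.mp this)
    have hV₂pow : ∀ (l : S →* S ⧸ N) (k : ℕ), V₂ (l ^ k) = V₂ l ^ k := by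
      intro l k
      induction k with
      | zero => rw [pow_zero, pow_zero, hV₂one]
      | succ k ih => rw [pow_succ, hVmul₂, ih, pow_succ]
    set d₂ : S →* S ⧸ N := ν ^ m₂ * V₂ ν with hd₂
    have hd₂u : ∀ u, d₂ u = ν u ^ m₂ * V₂ ν u := fun u => rfl
    -- `ν ^ p` is stable
    have hνp : Stable F (ν ^ p) := by
      refine stable_of_hyper hS hF fun x hx hxT => ?_
      show ν ⟨x, hx⟩ ^ p = 1
      rw [← map_pow, hν1]
      refine (hNmem _).mpr ⟨?_, ?_⟩
      · exact M.pow_mem (hTM hxT) p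
      · have h1 : (⟨((⟨x, hx⟩ ^ p : S) : Ω), M.pow_mem (hTM hxT) p⟩ : M) = ⟨x, hTM hxT⟩ ^ p := rfl
        rw [h1, map_pow]
        exact hZp _
    have hd₂p : ∀ u, d₂ u ^ p = 1 := by
      intro u
      have h1 := hVof₂ (ν ^ p) hνp u
      rw [hV₂pow] at h1
      have h2 : V₂ ν u ^ p = (ν u ^ p)⁻¹ ^ m₂ := h1
      rw [hd₂u, mul_pow, h2, ← pow_mul, mul_comm m₂ p, pow_mul, inv_pow, mul_inv_cancel]
    have hd₂N : ∀ u : S, (u : Ω) ∈ N₀ → d₂ u = 1 := by
      intro u hu
      have h1 : ν u = 1 := (hν1 u).mpr ((hNmem u).mpr ⟨hTM (hN₀ hu), hdN _ hu⟩)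
      rw [hd₂u, h1, one_pow, one_mul, hV₂T _ _ (hN₀ hu)]
    have hd₂0 : d₂ t₀ ≠ 1 := by
      rw [hd₂u, hV₂T _ _ ht₀, mul_one]
      obtain ⟨k, hk⟩ := hS t₀
      refine pow_ne_one_of_not_dvd (k := k) hm₂ (by rw [← map_pow, hk, map_one]) fun h => ?_
      obtain ⟨h1, h2⟩ := (hNmem _).mp ((hν1 _).mp h)
      exact hd0 h2
    obtain ⟨l, hl, hlx⟩ := Wr.exists_sep (G := S) (N := d₂.ker) (p := p)
      (Abelianization.commutator_subset_ker d₂) (fun x => by rw [MonoidHom.mem_ker, map_pow, hd₂p]) (x := t₀)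
      (by rwa [MonoidHom.mem_ker])
    exact ⟨l, fun u hu => hl (hd₂N u hu), hlx⟩

/-- Tate: equality of the focal subgroups implies equality of the hyperfocal subgroups. -/
theorem tate_hyper {S : Subgroup Ω} [Finite S] [Fact p.Prime] (hS : IsPGroup p S) {F H : FusionSystem S}
    (hF : F.IsSaturated p) (hH : H.IsSaturated p) (hHF : H.IsSubsystemOf F)
    (hfoc : F.focalSubgroup = H.focalSubgroup) : F.hyperfocalSubgroup p = H.hyperfocalSubgroup p := by
  have hp : p.Prime := Fact.out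
  set T := F.hyperfocalSubgroup p with hT
  set T₀ := H.hyperfocalSubgroup p with hT₀
  have hle : T₀ ≤ T := hyper_mono_sys hHF le_rfl
  have hTS : T ≤ S := hyper_le_S
  by_contra hne
  have hlt : T₀.subgroupOf S < T.subgroupOf S := by
    refine lt_of_le_of_ne (fun x hx => hle hx) fun h => hne ?_
    rw [Subgroup.subgroupOf_inj, inf_eq_left.mpr hTS, inf_eq_left.mpr (hle.trans hTS)] at h
    exact h.symm
  have hTn : (T.subgroupOf S).Normal := ⟨fun x hx g => hyper_conj_mem g.2 hx⟩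
  have hT₀n : (T₀.subgroupOf S).Normal := ⟨fun x hx g => hyper_conj_mem g.2 hx⟩
  -- a maximal normal subgroup below `T`
  obtain ⟨N, hN⟩ := Set.Finite.exists_maximal (Set.toFinite {N : Subgroup S | N.Normal ∧ T₀.subgroupOf S ≤ N ∧
    N < T.subgroupOf S}) ⟨_, hT₀n, le_rfl, hlt⟩
  obtain ⟨hNn, hN1, hN2⟩ := hN.prop
  -- the quotient
  have hQ : IsPGroup p (S ⧸ N) := hS.to_quotient N
  set TQ : Subgroup (S ⧸ N) := (T.subgroupOf S).map (QuotientGroup.mk' N) with hTQ
  have hTQn : TQ.Normal := hTn.map _ (QuotientGroup.mk'_surjective N)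
  have hTQ1 : TQ ≠ ⊥ := by
    intro h
    rw [hTQ, Subgroup.map_eq_bot_iff, QuotientGroup.ker_mk'] at h
    exact absurd hN2 (not_lt_of_ge h)
  have hZ := Cfsg.Agent.H63.inf_center_ne_bot hQ TQ hTQ1
  -- a central element of order `p`
  obtain ⟨z, hz1, hz2, hz3⟩ : ∃ z : S ⧸ N, z ∈ TQ ∧ z ∈ Subgroup.center (S ⧸ N) ∧ orderOf z = p := by
    have h1 : p ∣ Nat.card (TQ ⊓ Subgroup.center (S ⧸ N) : Subgroup (S ⧸ N)) := by
      rcases (hQ.to_subgroup (TQ ⊓ Subgroup.center (S ⧸ N))).card_eq_or_dvd with h | h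
      · exact absurd (Subgroup.card_eq_one.mp h) hZ
      · exact h
    obtain ⟨z, hz⟩ := exists_prime_orderOf_dvd_card' p h1
    exact ⟨z, z.2.1, z.2.2, by rwa [Subgroup.orderOf_coe]⟩
  have hzp : z ^ p = 1 := by rw [← hz3]; exact pow_orderOf_eq_one z
  have hz1' : z ≠ 1 := by
    intro h
    rw [h, orderOf_one] at hz3
    exact hp.one_lt.ne hz3
  have hzn : (Subgroup.zpowers z).Normal := by
    refine ⟨?_⟩
    rintro _ ⟨k, rfl⟩ g
    have h1 := (Subgroup.mem_center_iff.mp (Subgroup.zpow_mem _ hz2 k)) g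
    refine ⟨k, ?_⟩
    show z ^ k = g * z ^ k * g⁻¹
    rw [h1, mul_inv_cancel_right]
  have hNeq : (Subgroup.zpowers z).comap (QuotientGroup.mk' N) = T.subgroupOf S := by
    have h1 : (Subgroup.zpowers z).comap (QuotientGroup.mk' N) ≤ T.subgroupOf S := by
      intro x hx
      have h2 : QuotientGroup.mk' N x ∈ TQ := (Subgroup.zpowers_le.mpr hz1) hx
      obtain ⟨y, hy, hyx⟩ := h2
      have h3 : y⁻¹ * x ∈ N := QuotientGroup.eq.mp hyx
      have h4 := (T.subgroupOf S).mul_mem hy (hN2.le h3)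
      rwa [mul_inv_cancel_left] at h4
    by_contra hne2
    have h2 : N ≤ (Subgroup.zpowers z).comap (QuotientGroup.mk' N) := by
      intro x hx
      rw [Subgroup.mem_comap]
      have : QuotientGroup.mk' N x = 1 := by rwa [← MonoidHom.mem_ker, QuotientGroup.ker_mk']
      rw [this]
      exact Subgroup.one_mem _
    have h3 := hN.le_of_ge (y := (Subgroup.zpowers z).comap (QuotientGroup.mk' N))
      ⟨hzn.comap _, hN1.trans h2, lt_of_le_of_ne h1 hne2⟩ h2
    obtain ⟨w, hw⟩ := QuotientGroup.mk'_surjective N z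
    have h4 : w ∈ N := h3 (by rw [Subgroup.mem_comap, hw]; exact Subgroup.mem_zpowers z)
    apply hz1'
    rw [← hw, ← MonoidHom.mem_ker, QuotientGroup.ker_mk']
    exact h4
  -- the properties of `N`
  set N₀ : Subgroup Ω := N.map S.subtype with hN₀
  have hN₀m : ∀ u : S, (u : Ω) ∈ N₀ ↔ u ∈ N := by
    intro u
    constructor
    · rintro ⟨w, hw, hwu⟩
      have : w = u := Subtype.ext hwu
      rwa [← this]
    · intro h
      exact ⟨u, h, rfl⟩
  have hker : ∀ u : S, u ∈ N ↔ QuotientGroup.mk' N u = 1 := fun u => by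
    rw [← MonoidHom.mem_ker, QuotientGroup.ker_mk']
  have hTz : ∀ t (ht : t ∈ T), ∃ k : ℤ, z ^ k = QuotientGroup.mk' N ⟨t, hTS ht⟩ := by
    intro t ht
    have h1 : (⟨t, hTS ht⟩ : S) ∈ T.subgroupOf S := ht
    rw [← hNeq] at h1
    exact h1
  obtain ⟨t₀, ht₀, ht₀N⟩ := SetLike.exists_of_lt hN2
  obtain ⟨χ, hχ1, hχ2⟩ := sep_hyper (Nat.card S) rfl hS hF (N₀ := N₀)
    (fun x hx => by
      obtain ⟨w, hw, rfl⟩ := hx
      exact hN2.le hw)
    (fun s hs t ht => by
      have h1 : s * t * s⁻¹ * t⁻¹ = ((⟨s, hs⟩ * ⟨t, hTS ht⟩ * ⟨s, hs⟩⁻¹ * ⟨t, hTS ht⟩⁻¹ : S) : Ω) := rfl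
      rw [h1, hN₀m, hker, map_mul, map_mul, map_mul, map_inv, map_inv]
      obtain ⟨k, hk⟩ := hTz t ht
      rw [← hk, Subgroup.mem_center_iff.mp (Subgroup.zpow_mem _ hz2 k), mul_inv_cancel_right, mul_inv_cancel])
    (fun t ht => by
      have h1 : t ^ p = ((⟨t, hTS ht⟩ ^ p : S) : Ω) := rfl
      rw [h1, hN₀m, hker, map_pow]
      obtain ⟨k, hk⟩ := hTz t ht
      rw [← hk, ← zpow_natCast, ← zpow_mul, mul_comm, zpow_mul, zpow_natCast, hzp, one_zpow])
    (t₀ := t₀) ht₀ (fun h => ht₀N ((hN₀m _).mp h))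
  -- contradiction
  apply hχ2
  have h1 : Stable H χ := by
    refine stable_of_hyper hS hH fun x hx hxT => hχ1 _ ?_
    rw [hN₀m]
    exact hN1 hxT
  have h2 : (t₀ : Ω) ∈ H.focalSubgroup := by
    rw [← hfoc]
    exact hyper_le_focal ht₀
  exact stable_iff.mp h1 t₀ t₀.2 h2

end Cfsg.Agent.Fus
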