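import Cfsg.Agent.Fus.Trans2
set_option autoImplicit false
set_option maxHeartbeats 400000

/-!
# Thompson transfer for fusion systems (helper88)
-/

namespace Cfsg.Agent.Fus.Tr

variable {X B A : Type*} [Group B] [CommGroup A]

/-- the action of the commuting permutations on the orbits -/
def operHom (r : B →* Equiv.Perm X) : Cen r →* Equiv.Perm (Orb r) where
  toFun π := operm π.2
  map_one' := by
    ext o
    induction o using Quotient.inductionOn with
    | _ x => rfl
  map_mul' π σ := by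
    ext o
    induction o using Quotient.inductionOn with
    | _ x => rfl

@[simp] theorem operHom_omk (r : B →* Equiv.Perm X) (π : Cen r) (x : X) : operHom r π (omk r x) = omk r ((π : Equiv.Perm X) x) :=
  rfl

theorem exists_omk {r : B →* Equiv.Perm X} (o : Orb r) : ∃ x, omk r x = o := ⟨o.out, omk_out o⟩

end Cfsg.Agent.Fus.Tr

namespace Cfsg.Agent.Fus.Bi

open Cfsg Cfsg.Agent.Fus Cfsg.Agent.Fus.Burn

variable {Ω : Type*} [Group Ω] {S : Subgroup Ω} {F : FusionSystem S} {p : ℕ} {X : Type*}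

open Classical in
/-- The sign character of a subgroup of index two. -/
noncomputable def sgnHom {G : Type*} [Group G] (T : Subgroup G) (hT : T.index = 2) : G →* ℤˣ where
  toFun x := if x ∈ T then 1 else -1
  map_one' := if_pos T.one_mem
  map_mul' x y := by
    by_cases hx : x ∈ T <;> by_cases hy : y ∈ T <;>
      simp [Subgroup.mul_mem_iff_of_index_two hT, hx, hy]

theorem sgnHom_of_mem {G : Type*} [Group G] {T : Subgroup G} (hT : T.index = 2) {x : G} (hx : x ∈ T) :
    sgnHom T hT x = 1 := if_pos hx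

theorem sgnHom_of_notMem {G : Type*} [Group G] {T : Subgroup G} (hT : T.index = 2) {x : G} (hx : x ∉ T) :
    sgnHom T hT x = -1 := if_neg hx

/-- left multiplication on the right orbits -/
noncomputable def lorb (α : S × S →* Equiv.Perm X) : S →* Equiv.Perm (Tr.Orb (ract α)) :=
  (Tr.operHom (ract α)).comp (lact α)

theorem lorb_omk (α : S × S →* Equiv.Perm X) (a : S) (x : X) :
    lorb α a (Tr.omk (ract α) x) = Tr.omk (ract α) (α (a, 1) x) := rfl

theorem mulp (a b c d : S) : ((a, b) : S × S) * (c, d) = (a * c, b * d) := rfl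

/-- the elements fixing a right orbit -/
theorem lorb_fix_iff {α : S × S →* Equiv.Perm X} {a : S} {x : X} :
    lorb α a (Tr.omk (ract α) x) = Tr.omk (ract α) x ↔ ∃ b : S, α (a, b) x = x := by
  rw [lorb_omk, Tr.omk_eq]
  refine exists_congr fun b => ?_
  rw [ract_apply, ← Equiv.Perm.mul_apply, ← map_mul, mulp, one_mul, mul_one]

theorem card_le_of_fix {α : S × S →* Equiv.Perm X} (hα : RealAct F α) [Finite S] {x : X} {j : S} {b : S}
    (hjb : α (j, b) x = x) (hall : ∀ c : S, c * j = j * c → ∃ d : S, α (c, d) x = x) :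
    Nat.card (Subgroup.centralizer {j}) ≤ Nat.card (Subgroup.centralizer {b}) := by
  obtain ⟨P, f, hf, hP⟩ := hα.supp x
  have hmem : ∀ {c d : S}, α (c, d) x = x → (c : Ω) ∈ P ∧ (d : Ω) = f c := by
    intro c d h
    have h1 : ((c, d) : S × S) ∈ graph hf := by rw [← hP]; exact h
    exact h1
  have hcP : ∀ c : Subgroup.centralizer {j}, ((c : S) : Ω) ∈ P := by
    intro c
    obtain ⟨d, hd⟩ := hall c (by
      have := Subgroup.mem_centralizer_iff.mp c.2 j rfl
      exact this.symm)
    exact (hmem hd).1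
  obtain ⟨hjP, hbf⟩ := hmem hjb
  refine Nat.card_le_card_of_injective
    (fun c : Subgroup.centralizer {j} => (⟨⟨f (c : S), hf.mem (hcP c)⟩, ?_⟩ : Subgroup.centralizer {b})) ?_
  · rw [Subgroup.mem_centralizer_iff]
    intro y hy
    rw [show y = b from hy]
    apply Subtype.ext
    show (b : Ω) * f (c : S) = f (c : S) * b
    rw [hbf, ← hf.map_mul hjP (hcP c), ← hf.map_mul (hcP c) hjP]
    have h1 : j * (c : S) = (c : S) * j := Subgroup.mem_centralizer_iff.mp c.2 j rfl
    have h2 : (j : Ω) * ((c : S) : Ω) = ((c : S) : Ω) * j := congrArg Subtype.val h1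
    rw [h2]
  · intro c d hcd
    have h1 : f (c : S) = f (d : S) := congrArg (fun z => ((z : Subgroup.centralizer {b}) : S).1) hcd
    exact Subtype.ext (Subtype.ext (hf.inj (hcP c) (hcP d) h1))

/-- for involutions the normalizer of the generated subgroup is the centralizer -/
theorem card_normalizerIn_zpowers [Finite S] {j : S} (hj : orderOf j = 2) :
    Nat.card (FusionSystem.normalizerIn S (Subgroup.zpowers (j : Ω))) = Nat.card (Subgroup.centralizer {j}) := by
  have hj' : orderOf (j : Ω) = 2 := by rw [Subgroup.orderOf_coe, hj]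
  have hj2 : (j : Ω) ^ 2 = 1 := by rw [← hj']; exact pow_orderOf_eq_one _
  have hj1 : (j : Ω) ≠ 1 := by
    intro h
    rw [h, orderOf_one] at hj'
    omega
  have hz : ∀ y, y ∈ Subgroup.zpowers (j : Ω) → y = 1 ∨ y = j := by
    rintro _ ⟨n, rfl⟩
    rcases Int.even_or_odd' n with ⟨k, rfl | rfl⟩
    · left
      show (j : Ω) ^ (2 * k) = 1
      rw [zpow_mul, zpow_two, ← pow_two, hj2, one_zpow]
    · right
      show (j : Ω) ^ (2 * k + 1) = j
      rw [zpow_add, zpow_mul, zpow_two, ← pow_two, hj2, one_zpow, one_mul, zpow_one]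
  refine Nat.card_congr (Equiv.ofBijective
    (fun g : FusionSystem.normalizerIn S (Subgroup.zpowers (j : Ω)) =>
      (⟨⟨g, g.2.1⟩, ?_⟩ : Subgroup.centralizer {j})) ⟨?_, ?_⟩)
  · rw [Subgroup.mem_centralizer_iff]
    intro y hy
    rw [show y = j from hy]
    apply Subtype.ext
    show (j : Ω) * g = g * j
    have h1 := (Subgroup.mem_normalizer_iff.mp (mem_normalizerIn.mp g.2).2 j).mp (Subgroup.mem_zpowers _)
    rcases hz _ h1 with h2 | h2
    · exfalso
      apply hj1
      rw [mul_inv_eq_one] at h2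
      exact (mul_eq_left.mp h2)
    · rw [mul_inv_eq_iff_eq_mul] at h2
      exact h2.symm
  · rintro ⟨g, hg⟩ ⟨g', hg'⟩ h
    exact Subtype.ext (congrArg (fun z => ((z : Subgroup.centralizer {j}) : S).1) h)
  · rintro ⟨⟨g, hg⟩, hgj⟩
    have h1 : j * ⟨g, hg⟩ = ⟨g, hg⟩ * j := Subgroup.mem_centralizer_iff.mp hgj j rfl
    have h2 : (j : Ω) * g = g * j := congrArg Subtype.val h1
    refine ⟨⟨g, mem_normalizerIn.mpr ⟨hg, ?_⟩⟩, rfl⟩
    have hfin : Finite (Subgroup.zpowers (j : Ω)) := finite_of_le (Subgroup.zpowers_le.mpr j.2)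
    refine mem_normalizer_of_conj fun y hy => ?_
    obtain ⟨n, rfl⟩ := hy
    have h3 : Commute g (j : Ω) := h2.symm
    have h4 : g * (j : Ω) ^ n * g⁻¹ = (j : Ω) ^ n := by
      rw [mul_inv_eq_iff_eq_mul]
      exact (h3.zpow_right n).eq
    show g * (j : Ω) ^ n * g⁻¹ ∈ _
    rw [h4]
    exact ⟨n, rfl⟩

/-- The main computation. -/
theorem V_involution [Finite S] [Finite X] (hS : IsPGroup 2 S) {α : S × S →* Equiv.Perm X} (hα : CharAct F 2 α)
    {T : Subgroup S} (hT : T.index = 2) {h : X → ℤˣ} (hh : Tr.Gauge (ract α) (sgnHom T hT) h) {j : S}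
    (hj : orderOf j = 2)
    (hjT : ∀ b ∈ T, ∀ x, α (j, b) x = x → Nat.card (Subgroup.centralizer {b}) < Nat.card (Subgroup.centralizer {j})) :
    V hh j = -1 := by
  classical
  let _ : Fintype (Tr.Orb (ract α)) := Fintype.ofFinite _
  have hTn : T.Normal := Subgroup.normal_of_index_eq_two hT
  have hjj : j * j = 1 := by rw [← pow_two, ← hj]; exact pow_orderOf_eq_one j
  -- the orbits contributing
  let N : Set (Tr.Orb (ract α)) := {o | ∃ x b, Tr.omk (ract α) x = o ∧ b ∉ T ∧ α (j, b) x = x}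
  -- left centralizer acts
  let C := Subgroup.centralizer {j}
  let σ : C →* Equiv.Perm (Tr.Orb (ract α)) := (lorb α).comp C.subtype
  have hNinv : ∀ c : C, ∀ o ∈ N, σ c o ∈ N := by
    rintro c _ ⟨x, b, rfl, hb, hx⟩
    refine ⟨α ((c : S), 1) x, b, rfl, hb, ?_⟩
    have h1 : ((j, b) : S × S) * ((c : S), 1) = ((c : S), 1) * (j, b) := by
      rw [mulp, mulp, one_mul, mul_one]
      have h2 : j * (c : S) = (c : S) * j := Subgroup.mem_centralizer_iff.mp c.2 j rfl
      rw [h2]
    rw [← Equiv.Perm.mul_apply, ← map_mul, h1, map_mul, Equiv.Perm.mul_apply, hx]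
  have hjC : j ∈ C := Subgroup.mem_centralizer_iff.mpr (by rintro _ rfl; rfl)
  -- the complement has an even number of elements
  have heven : 2 ∣ (Nᶜ).ncard := by
    refine dvd_ncard σ _ _ _ (Set.toFinite _) rfl ?_ ?_
    · intro c o ho hco
      apply ho
      have h1 := hNinv c⁻¹ _ hco
      rwa [← Equiv.Perm.mul_apply, ← map_mul, inv_mul_cancel, map_one] at h1
    · intro o ho
      obtain ⟨x, rfl⟩ := Tr.exists_omk o
      have h0 := Subgroup.card_mul_index (Burn.stab σ (Tr.omk (ract α) x))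
      obtain ⟨k, hk⟩ := IsPGroup.iff_card.mp (hS.to_subgroup C)
      have h1 : (Burn.stab σ (Tr.omk (ract α) x)).index ∣ 2 ^ k := by
        rw [← hk, ← h0]; exact dvd_mul_left _ _
      obtain ⟨m, -, hm⟩ := (Nat.dvd_prime_pow Nat.prime_two).mp h1
      rcases Nat.eq_zero_or_pos m with rfl | hm0
      · exfalso
        rw [pow_zero, Subgroup.index_eq_one] at hm
        have hfix : ∀ c : S, c * j = j * c → ∃ d : S, α (c, d) x = x := by
          intro c hc
          have h2 : (⟨c, Subgroup.mem_centralizer_iff.mpr (by rintro _ rfl; exact hc.symm)⟩ : C) ∈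
              Burn.stab σ (Tr.omk (ract α) x) := by rw [hm]; trivial
          exact lorb_fix_iff.mp h2
        obtain ⟨b, hb⟩ := hfix j rfl
        have hbT : b ∈ T := by
          by_contra hbT
          exact ho ⟨x, b, rfl, hbT, hb⟩
        have h3 := card_le_of_fix hα.toRealAct hb hfix
        have h4 := hjT b hbT x hb
        omega
      · rw [hm]
        exact dvd_pow_self 2 (by omega)
  have hodd : ¬ 2 ∣ N.ncard := by
    intro h2
    have h3 : N.ncard + (Nᶜ).ncard = Nat.card (Tr.Orb (ract α)) := Set.ncard_add_ncard_compl _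
    exact hα.not_dvd (by rw [← h3]; exact Dvd.dvd.add h2 heven)
  -- the product
  rw [V_apply]
  unfold Tr.trg
  simp only
  have hjcen := left_mem_cen α j
  have hval : ∀ x : X, h (α (j, 1) x) / h x = h (α (j, 1) (Tr.omk (ract α) x).out) / h (Tr.omk (ract α) x).out :=
    fun x => hh.div_congr hjcen (Tr.omk_out _).symm
  rw [← Finset.prod_filter_mul_prod_filter_not Finset.univ (fun o => o ∈ N)]
  have h1 : ∏ o ∈ Finset.univ.filter (fun o => o ∈ N), h (α (j, 1) o.out) / h o.out = (-1) ^ N.ncard := by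
    have h2 : (Finset.univ.filter (fun o => o ∈ N)).card = N.ncard := by
      rw [Set.ncard_eq_toFinset_card']
      congr 1
      ext o
      simp
    rw [← h2, ← Finset.prod_const]
    refine Finset.prod_congr rfl fun o ho => ?_
    obtain ⟨x, b, rfl, hb, hx⟩ := (Finset.mem_filter.mp ho).2
    rw [← hval]
    have h3 : α (j, 1) x = ract α b⁻¹ x := by
      have h4 : ((j, 1) : S × S) = (1, b⁻¹) * (j, b) := by rw [mulp, one_mul, inv_mul_cancel]
      rw [h4, map_mul, Equiv.Perm.mul_apply, hx, ract_apply]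
    rw [h3, hh, mul_div_assoc, div_self', mul_one]
    exact sgnHom_of_notMem hT fun h => hb (by simpa using h)
  have h2 : ∏ o ∈ Finset.univ.filter (fun o => ¬ o ∈ N), h (α (j, 1) o.out) / h o.out = 1 := by
    refine Finset.prod_involution (fun o _ => lorb α j o) ?_ ?_ ?_ ?_
    · intro o _
      obtain ⟨x, rfl⟩ := Tr.exists_omk o
      rw [lorb_omk, ← hval, ← hval, ← Equiv.Perm.mul_apply, ← map_mul, mulp, one_mul, hjj]
      have h3 : α ((1 : S), (1 : S)) = 1 := map_one α
      rw [h3, Equiv.Perm.one_apply, div_mul_div_cancel, div_self']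
    · intro o ho hne heq
      apply hne
      obtain ⟨x, rfl⟩ := Tr.exists_omk o
      obtain ⟨b, hb⟩ := lorb_fix_iff.mp heq
      have hbT : b ∈ T := by
        by_contra hbT
        exact (Finset.mem_filter.mp ho).2 ⟨x, b, rfl, hbT, hb⟩
      rw [← hval]
      have h3 : α (j, 1) x = ract α b⁻¹ x := by
        have h4 : ((j, 1) : S × S) = (1, b⁻¹) * (j, b) := by rw [mulp, one_mul, inv_mul_cancel]
        rw [h4, map_mul, Equiv.Perm.mul_apply, hb, ract_apply]
      rw [h3, hh, mul_div_assoc, div_self', mul_one]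
      exact sgnHom_of_mem hT (T.inv_mem hbT)
    · intro o ho
      rw [Finset.mem_filter] at ho ⊢
      refine ⟨Finset.mem_univ _, fun h3 => ho.2 ?_⟩
      have h4 := hNinv ⟨j, hjC⟩ _ h3
      have h5 : σ ⟨j, hjC⟩ (lorb α j o) = o := by
        show lorb α j (lorb α j o) = o
        rw [← Equiv.Perm.mul_apply, ← map_mul, hjj, map_one]
        rfl
      rwa [h5] at h4
    · intro o ho
      rw [← Equiv.Perm.mul_apply, ← map_mul, hjj, map_one]
      rfl
  rw [h1, h2, mul_one]
  exact (Nat.not_even_iff_odd.mp fun h => hodd h.two_dvd).neg_one_pow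

/-- Thompson transfer. -/
theorem thompson_transfer [Finite S] (hS : IsPGroup 2 S) (hF : F.IsSaturated 2) {T : Subgroup Ω}
    (hT : T.relIndex S = 2) {i : Ω} (hi : i ∈ S) (hi2 : orderOf i = 2)
    (h : ∀ j : Ω, F.IsConjElt i j → F.IsFullyNormalized (Subgroup.zpowers j) → j ∉ T) :
    i ∉ F.focalSubgroup := by
  intro hif
  have hfact : Fact (Nat.Prime 2) := ⟨Nat.prime_two⟩
  obtain ⟨Q, hQc, hQ⟩ := exists_fullyNormalized (F := F) (P := Subgroup.zpowers i) (Subgroup.zpowers_le.mpr hi)
  obtain ⟨f, hf, rfl⟩ := isConj_iff.mp hQc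
  have hiz : i ∈ Subgroup.zpowers i := Subgroup.mem_zpowers i
  have himg : img (Subgroup.zpowers i) f = Subgroup.zpowers (f i) := by
    ext y
    rw [hf.mem_img]
    constructor
    · rintro ⟨_, ⟨n, rfl⟩, rfl⟩
      refine ⟨n, ?_⟩
      exact (hf.map_zpow hiz n).symm
    · rintro ⟨n, rfl⟩
      refine ⟨i ^ n, ⟨n, rfl⟩, ?_⟩
      exact hf.map_zpow hiz n
  rw [himg] at hQ
  set j : S := ⟨f i, hf.mem hiz⟩ with hjd
  have hj2 : orderOf j = 2 := by
    have h1 : orderOf (f i) = orderOf i := by
      refine orderOf_eq_orderOf_iff.mpr fun n => ?_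
      rw [← hf.map_pow hiz, hf.eq_one_iff (Subgroup.pow_mem _ hiz n)]
    rw [← hi2, ← h1, ← Subgroup.orderOf_coe]
  obtain ⟨c, hc⟩ := exists_isChar hS hF
  have hX : Finite (carr c) := (finite_carr c).to_subtype
  have hα := charAct_carr hc
  set α := restr (uact (S × S)) (carr c) (carr_inv c) with hαd
  have hT' : (T.subgroupOf S).index = 2 := hT
  obtain ⟨g, hg⟩ := Tr.exists_gauge (r := ract α) hα.toRealAct.free (sgnHom (T.subgroupOf S) hT')
  have hV : V hg j = -1 := by
    refine V_involution hS hα hT' hg hj2 ?_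
    intro b hbT x hx
    obtain ⟨P, φ, hφ, hP⟩ := hα.supp x
    have h1 : ((j, b) : S × S) ∈ graph hφ := by rw [← hP]; exact hx
    have hjP : f i ∈ P := h1.1
    have hbφ : (b : Ω) = φ (f i) := h1.2
    have hcomp : IsMap F (Subgroup.zpowers i) (fun x => φ (f x)) := by
      refine hφ.comp hf fun x hx => ?_
      obtain ⟨n, rfl⟩ := hx
      show f (i ^ n) ∈ P
      rw [hf.map_zpow hiz]
      exact P.zpow_mem hjP n
    have hconj : F.IsConjElt i b := by
      rw [isConjElt_iff]
      exact ⟨_, hcomp, hbφ.symm⟩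
    have hb2 : orderOf b = 2 := by
      have h2 : orderOf (b : Ω) = orderOf i := by
        refine orderOf_eq_orderOf_iff.mpr fun n => ?_
        rw [hbφ]
        have h3 := hcomp.map_pow hiz n
        rw [← h3]
        exact hcomp.eq_one_iff (Subgroup.pow_mem _ hiz n)
      rw [← hi2, ← h2, Subgroup.orderOf_coe]
    rw [← card_normalizerIn_zpowers hb2, ← card_normalizerIn_zpowers hj2]
    by_contra hle
    push Not at hle
    have himg2 : img (Subgroup.zpowers i) (fun x => φ (f x)) = Subgroup.zpowers (b : Ω) := by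
      ext y
      rw [hcomp.mem_img]
      constructor
      · rintro ⟨_, ⟨n, rfl⟩, rfl⟩
        refine ⟨n, ?_⟩
        rw [hbφ]
        exact (hcomp.map_zpow hiz n).symm
      · rintro ⟨n, rfl⟩
        refine ⟨i ^ n, ⟨n, rfl⟩, ?_⟩
        show φ (f (i ^ n)) = (b : Ω) ^ n
        rw [hbφ]
        exact hcomp.map_zpow hiz n
    have hbQ : F.IsFullyNormalized (Subgroup.zpowers (b : Ω)) := by
      refine ⟨Subgroup.zpowers_le.mpr b.2, fun R hR => ?_⟩
      refine le_trans (hQ.2 R ?_) hle
      have h4 := hcomp.isConj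
      rw [himg2] at h4
      have h5 := hf.isConj
      rw [himg] at h5
      exact isConj_trans (isConj_trans (isConj_symm h5) h4) hR
    exact h b hconj hbQ hbT
  have hVi : V hg ⟨i, hi⟩ = 1 := by
    obtain ⟨w, hw, hwz⟩ := V_focal hα.toRealAct hg hif
    have h2 : w = ⟨i, hi⟩ := Subtype.ext hwz
    rw [← h2]
    exact hw
  have h3 := V_fus hα.toRealAct hg hf hiz
  rw [hVi] at h3
  rw [show (⟨f i, hf.mem hiz⟩ : S) = j from rfl, hV] at h3
  exact absurd h3 (by decide)

end Cfsg.Agent.Fus.Bi
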