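import Cfsg.Agent.Fus.EssImg
set_option autoImplicit false
set_option maxHeartbeats 400000

/-!
# Extension of maps to `S` (helper88)
-/

namespace Cfsg.Agent.Fus

open Cfsg Cfsg.FusionSystem

variable {Ω : Type*} [Group Ω] {S : Subgroup Ω} {F : FusionSystem S} {p : ℕ}

theorem IsMap.minv_top [Finite S] {k : Ω → Ω} (hk : IsMap F S k) : IsMap F S (minv S k) := by
  have h1 := hk.minv_isMap
  rwa [img_eq_self_of_top hk] at h1

theorem IsMap.minv_top_apply [Finite S] {k : Ω → Ω} (hk : IsMap F S k) {y : Ω} (hy : y ∈ S) : k (minv S k y) = y :=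
  hk.apply_minv (by rw [img_eq_self_of_top hk]; exact hy)

/-- `R` is the image of `N` under an automorphism of `S` -/
def ImN (F : FusionSystem S) (N R : Subgroup Ω) : Prop := ∃ k, IsMap F S k ∧ R = img N k

theorem ImN.img [Finite S] {N R : Subgroup Ω} (hN : N ≤ S) (h : ImN F N R) {k : Ω → Ω} (hk : IsMap F S k) :
    ImN F N (img R k) := by
  obtain ⟨k', hk', rfl⟩ := h
  refine ⟨fun x => k (k' x), hk.comp hk' fun x hx => hk'.mem hx, ?_⟩
  exact ((hk'.mono hN).img_comp).symm

theorem ImN.of_img [Finite S] {N R : Subgroup Ω} (hN : N ≤ S) (hR : R ≤ S) {k : Ω → Ω} (hk : IsMap F S k)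
    (h : ImN F N (Fus.img R k)) : ImN F N R := by
  have h1 := h.img hN hk.minv_top
  have h2 : Fus.img (Fus.img R k) (minv S k) = R := by
    rw [← (hk.mono hR).img_comp]
    exact (img_congr (g := fun x => x) fun x hx => hk.minv_apply (hR hx)).trans img_id'
  rwa [h2] at h1

theorem imN_congr {N R : Subgroup Ω} {f g : Ω → Ω} (h : ∀ x ∈ R, f x = g x) : ImN F N (img R f) ↔ ImN F N (img R g) := by
  rw [img_congr h]

theorem topExtSpec [Finite S] (F : FusionSystem S) {N : Subgroup Ω} (hN : N ≤ S) :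
    MapSpec S (fun Q f => IsMap F Q f ∧ ∀ R ≤ Q, (ImN F N R ∨ ImN F N (img R f)) →
      ∃ k, IsMap F S k ∧ ∀ x ∈ R, k x = f x) where
  congr := by
    rintro P f g ⟨h1, h2⟩ hfg
    refine ⟨h1.congr hfg, fun R hR hRN => ?_⟩
    obtain ⟨k, hk, hkf⟩ := h2 R hR (by rwa [imN_congr fun x hx => hfg x (hR hx)])
    exact ⟨k, hk, fun x hx => by rw [hkf x hx, hfg x (hR hx)]⟩
  le h := h.1.le
  mem h x hx := h.1.mem hx
  mul h x hx y hy := h.1.map_mul hx hy
  inj h x hx y hy := h.1.inj hx hy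
  conj := by
    intro P g hP hg
    exact ⟨isMap_conj hP hg, fun R _ _ => ⟨_, isMap_conj le_rfl hg, fun _ _ => rfl⟩⟩
  comp := by
    rintro P Q f g ⟨h1, h2⟩ ⟨h3, h4⟩ hPQ
    refine ⟨h3.comp h1 hPQ, fun R hR hRN => ?_⟩
    have hfR := h1.mono hR
    have hRQ : img R f ≤ Q := hfR.img_le_iff.mpr fun x hx => hPQ x (hR hx)
    rcases hRN with hRN | hRN
    · obtain ⟨k₁, hk₁, hkf⟩ := h2 R hR (Or.inl hRN)
      have h5 : ImN F N (img R f) := by
        rw [← imN_congr hkf]
        exact hRN.img hN hk₁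
      obtain ⟨k₂, hk₂, hkg⟩ := h4 _ hRQ (Or.inl h5)
      refine ⟨fun x => k₂ (k₁ x), hk₂.comp hk₁ fun x hx => hk₁.mem hx, fun x hx => ?_⟩
      show k₂ (k₁ x) = g (f x)
      rw [hkf x hx, hkg _ (subset_img hx)]
    · have h6 : img R (fun x => g (f x)) = img (img R f) g := hfR.img_comp
      rw [h6] at hRN
      obtain ⟨k₂, hk₂, hkg⟩ := h4 _ hRQ (Or.inr hRN)
      have h5 : ImN F N (img R f) := by
        rw [← imN_congr hkg] at hRN
        exact ImN.of_img hN hfR.img_le hk₂ hRN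
      obtain ⟨k₁, hk₁, hkf⟩ := h2 R hR (Or.inr h5)
      refine ⟨fun x => k₂ (k₁ x), hk₂.comp hk₁ fun x hx => hk₁.mem hx, fun x hx => ?_⟩
      show k₂ (k₁ x) = g (f x)
      rw [hkf x hx, hkg _ (subset_img hx)]
  inv := by
    rintro P f ⟨h1, h2⟩
    refine ⟨minv P f, fun x hx => h1.minv_apply hx, h1.minv_isMap, fun R hR hRN => ?_⟩
    have hmR := h1.minv_isMap.mono hR
    have hRP : img R (minv P f) ≤ P := hmR.img_le_iff.mpr fun x hx => h1.minv_mem (hR hx)
    have hback : img (img R (minv P f)) f = R := by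
      rw [← hmR.img_comp]
      exact (img_congr (g := fun x => x) fun x hx => h1.apply_minv (hR hx)).trans img_id'
    obtain ⟨k, hk, hkf⟩ := h2 _ hRP (by
      rw [hback]
      exact hRN.symm)
    refine ⟨minv S k, hk.minv_top, fun x hx => ?_⟩
    have h3 := hkf _ (subset_img hx : minv P f x ∈ img R (minv P f))
    rw [h1.apply_minv (hR hx)] at h3
    have h4 := hk.minv_apply (h1.le (h1.minv_mem (hR hx)))
    rw [h3] at h4
    exact h4

/-- If no essential subgroup contains `N` then all `F`-maps on `N` extend to `S`. -/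
theorem exists_extend_top [Finite S] [Fact p.Prime] (hS : IsPGroup p S) (hF : F.IsSaturated p) {N : Subgroup Ω}
    (hN : ∀ Q, F.IsEssential p Q → ¬ N ≤ Q) {g : Ω → Ω} (hg : IsMap F N g) :
    ∃ k, IsMap F S k ∧ ∀ x ∈ N, k x = g x := by
  have hNS := hg.le
  have key : F ≤ (topExtSpec F hNS).toFS := by
    refine alperin_essential hS hF fun P hP α hα => ?_
    have hPS : P ≤ S := by
      rcases hP with rfl | hP
      · exact le_rfl
      · exact hP.1.1
    have h1 := isMap_ofAut hPS hα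
    rw [mem_autGroup_iff hPS, (topExtSpec F hNS).isMap_toFS]
    refine ⟨h1, fun R hR hRN => ?_⟩
    rcases hP with rfl | hP
    · exact ⟨_, h1, fun _ _ => rfl⟩
    · exfalso
      have hno : ∀ R ≤ P, ¬ ImN F N R := by
        rintro R hR ⟨k, hk, rfl⟩
        refine hN _ (essential_img hS hF hP hk.minv_top) fun x hx => ?_
        have h2 : minv S k (k x) ∈ img P (minv S k) := subset_img (hR (subset_img hx))
        rwa [hk.minv_apply (hNS hx)] at h2
      rcases hRN with hRN | hRN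
      · exact hno R hR hRN
      · exact hno _ ((h1.mono hR).img_le_iff.mpr fun x hx => ofAut_mem _ (hR hx)) hRN
  rw [le_iff] at key
  have h2 := key N g hg
  rw [(topExtSpec F hNS).isMap_toFS] at h2
  exact h2.2 N le_rfl (Or.inl ⟨id, isMap_id le_rfl, (img_id (P := N)).symm⟩)

end Cfsg.Agent.Fus
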