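import Cfsg.Agent.Fus.Park
set_option autoImplicit false
set_option maxHeartbeats 400000

/-!
# Transfer for sets with a free action (helper88)
-/

namespace Cfsg.Agent.Fus.Tr

variable {X B A : Type*} [Group B] [CommGroup A]

/-- the orbit relation -/
def osetoid (r : B →* Equiv.Perm X) : Setoid X :=
  ⟨fun x y => ∃ b, r b x = y, fun x => ⟨1, by rw [map_one]; rfl⟩,
    fun {x y} ⟨b, h⟩ => ⟨b⁻¹, by rw [← h, ← Equiv.Perm.mul_apply, ← map_mul, inv_mul_cancel, map_one]; rfl⟩,
    fun {x y z} ⟨b, h⟩ ⟨c, h'⟩ => ⟨c * b, by rw [map_mul, Equiv.Perm.mul_apply, h, h']⟩⟩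

/-- the orbits -/
abbrev Orb (r : B →* Equiv.Perm X) := Quotient (osetoid r)

/-- the orbit of a point -/
def omk (r : B →* Equiv.Perm X) (x : X) : Orb r := Quotient.mk (osetoid r) x

theorem omk_eq {r : B →* Equiv.Perm X} {x y : X} : omk r x = omk r y ↔ ∃ b, r b x = y :=
  ⟨fun h => Quotient.exact h, fun h => Quotient.sound (s := osetoid r) h⟩

theorem omk_out {r : B →* Equiv.Perm X} (o : Orb r) : omk r o.out = o := Quotient.out_eq o

/-- permutations commuting with the action -/
def Cen (r : B →* Equiv.Perm X) : Subgroup (Equiv.Perm X) where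
  carrier := {π | ∀ (b : B) (x : X), π (r b x) = r b (π x)}
  one_mem' := fun b x => rfl
  mul_mem' := by
    intro π σ hπ hσ b x
    rw [Equiv.Perm.mul_apply, hσ, hπ, Equiv.Perm.mul_apply]
  inv_mem' := by
    intro π hπ b x
    rw [Equiv.Perm.inv_eq_iff_eq, hπ]
    simp

theorem mem_cen {r : B →* Equiv.Perm X} {π : Equiv.Perm X} :
    π ∈ Cen r ↔ ∀ (b : B) (x : X), π (r b x) = r b (π x) := Iff.rfl

/-- the induced permutation of the orbits -/
def operm {r : B →* Equiv.Perm X} {π : Equiv.Perm X} (hπ : π ∈ Cen r) : Equiv.Perm (Orb r) :=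
  Quotient.congr π fun x y => by
    constructor
    · rintro ⟨b, rfl⟩
      exact ⟨b, (hπ b x).symm⟩
    · rintro ⟨b, hb⟩
      refine ⟨b, ?_⟩
      rw [← hπ] at hb
      exact π.injective hb

@[simp] theorem operm_omk {r : B →* Equiv.Perm X} {π : Equiv.Perm X} (hπ : π ∈ Cen r) (x : X) :
    operm hπ (omk r x) = omk r (π x) := rfl

/-- A gauge function for `l`. -/
def Gauge (r : B →* Equiv.Perm X) (l : B →* A) (h : X → A) : Prop := ∀ b x, h (r b x) = l b * h x

/-- Gauge functions exist when the action is free. -/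
theorem exists_gauge {r : B →* Equiv.Perm X} (hr : ∀ b x, r b x = x → b = 1) (l : B →* A) :
    ∃ h : X → A, Gauge r l h := by
  have key : ∀ x : X, ∃ b, r b (omk r x).out = x := fun x => omk_eq.mp (omk_out _)
  choose τ hτ using key
  refine ⟨fun x => l (τ x), fun b x => ?_⟩
  have h1 : omk r (r b x) = omk r x := (omk_eq.mpr ⟨b, rfl⟩).symm
  have h2 := hτ (r b x)
  rw [h1] at h2
  have h3 : r (τ (r b x)) (omk r x).out = r (b * τ x) (omk r x).out := by
    rw [h2, map_mul, Equiv.Perm.mul_apply, hτ]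
  have h4 : r ((b * τ x)⁻¹ * τ (r b x)) (omk r x).out = (omk r x).out := by
    rw [map_mul, Equiv.Perm.mul_apply, h3, ← Equiv.Perm.mul_apply, ← map_mul, inv_mul_cancel, map_one]
    rfl
  have h5 := hr _ _ h4
  rw [inv_mul_eq_one] at h5
  show l (τ (r b x)) = l b * l (τ x)
  rw [← h5, map_mul]

theorem Gauge.inv_div {r : B →* Equiv.Perm X} {l : B →* A} {h : X → A} (hh : Gauge r l h) {π : Equiv.Perm X}
    (hπ : π ∈ Cen r) (b : B) (x : X) : h (π (r b x)) / h (r b x) = h (π x) / h x := by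
  rw [hπ, hh, hh, mul_div_mul_left_eq_div]

theorem Gauge.div_congr {r : B →* Equiv.Perm X} {l : B →* A} {h : X → A} (hh : Gauge r l h) {π : Equiv.Perm X}
    (hπ : π ∈ Cen r) {x y : X} (hxy : omk r x = omk r y) : h (π x) / h x = h (π y) / h y := by
  obtain ⟨b, rfl⟩ := omk_eq.mp hxy
  exact (hh.inv_div hπ b x).symm

open Classical in
/-- The transfer (with respect to a gauge). -/
noncomputable def trg [Finite X] (r : B →* Equiv.Perm X) (h : X → A) (π : Equiv.Perm X) : A :=
  let _ : Fintype (Orb r) := Fintype.ofFinite _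
  ∏ o : Orb r, h (π o.out) / h o.out

theorem trg_mul [Finite X] {r : B →* Equiv.Perm X} {l : B →* A} {h : X → A} (hh : Gauge r l h) {π σ : Equiv.Perm X}
    (hπ : π ∈ Cen r) (hσ : σ ∈ Cen r) : trg r h (π * σ) = trg r h π * trg r h σ := by
  classical
  let _ : Fintype (Orb r) := Fintype.ofFinite _
  unfold trg
  simp only
  have h1 : ∏ o : Orb r, h (π o.out) / h o.out = ∏ o : Orb r, h (π (σ o.out)) / h (σ o.out) := by
    rw [← Equiv.prod_comp (operm hσ)]
    refine Finset.prod_congr rfl fun o _ => ?_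
    apply hh.div_congr hπ
    rw [omk_out, ← operm_omk hσ, omk_out]
  rw [h1, ← Finset.prod_mul_distrib]
  refine Finset.prod_congr rfl fun o _ => ?_
  rw [Equiv.Perm.mul_apply, div_mul_div_cancel]

theorem trg_one [Finite X] {r : B →* Equiv.Perm X} {h : X → A} : trg r h 1 = 1 := by
  unfold trg
  simp

/-- The product of a function on the orbits is invariant. -/
theorem prod_operm [Finite X] {r : B →* Equiv.Perm X} {π : Equiv.Perm X} (hπ : π ∈ Cen r) (g : X → A)
    (hg : ∀ b x, g (r b x) = g x) [Fintype (Orb r)] :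
    ∏ o : Orb r, g (π o.out) = ∏ o : Orb r, g o.out := by
  classical
  have h2 : ∀ {x y : X}, omk r x = omk r y → g x = g y := by
    intro x y hxy
    obtain ⟨b, rfl⟩ := omk_eq.mp hxy
    exact (hg b x).symm
  rw [← Equiv.prod_comp (operm hπ) (fun o : Orb r => g o.out)]
  refine Finset.prod_congr rfl fun o _ => ?_
  apply h2
  rw [omk_out, ← operm_omk hπ, omk_out]

/-- The transfer does not depend on the gauge. -/
theorem trg_congr [Finite X] {r : B →* Equiv.Perm X} {l : B →* A} {h h' : X → A} (hh : Gauge r l h)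
    (hh' : Gauge r l h') {π : Equiv.Perm X} (hπ : π ∈ Cen r) : trg r h π = trg r h' π := by
  classical
  let _ : Fintype (Orb r) := Fintype.ofFinite _
  unfold trg
  simp only
  have hg : ∀ b x, h (r b x) / h' (r b x) = h x / h' x := by
    intro b x
    rw [hh, hh', mul_div_mul_left_eq_div]
  have h1 : ∏ o : Orb r, h (π o.out) / h' (π o.out) = ∏ o : Orb r, h o.out / h' o.out :=
    prod_operm hπ (fun x => h x / h' x) hg
  rw [Finset.prod_div_distrib, Finset.prod_div_distrib] at h1
  rw [Finset.prod_div_distrib, Finset.prod_div_distrib]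
  rw [div_eq_div_iff_mul_eq_mul] at h1 ⊢
  rw [h1, mul_comm]

/-- The transfer homomorphism. -/
noncomputable def trHom [Finite X] {r : B →* Equiv.Perm X} {l : B →* A} {h : X → A} (hh : Gauge r l h) : Cen r →* A where
  toFun π := trg r h π
  map_one' := trg_one
  map_mul' π σ := trg_mul hh π.2 σ.2

theorem card_orb_mul [Finite X] {r : B →* Equiv.Perm X} (hr : ∀ b x, r b x = x → b = 1) :
    Nat.card B * Nat.card (Orb r) = Nat.card X := by
  rw [mul_comm, ← Nat.card_prod]
  refine Nat.card_congr (Equiv.ofBijective (fun z : Orb r × B => r z.2 z.1.out) ⟨?_, ?_⟩)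
  · rintro ⟨o, b⟩ ⟨o', b'⟩ h
    have h0 : r b o.out = r b' o'.out := h
    have h1 : o = o' := by
      rw [← omk_out o, ← omk_out o', omk_eq]
      refine ⟨b'⁻¹ * b, ?_⟩
      rw [map_mul, Equiv.Perm.mul_apply, h0, ← Equiv.Perm.mul_apply, ← map_mul, inv_mul_cancel, map_one]
      rfl
    subst h1
    have h2 : r (b'⁻¹ * b) o.out = o.out := by
      rw [map_mul, Equiv.Perm.mul_apply, h0, ← Equiv.Perm.mul_apply, ← map_mul, inv_mul_cancel, map_one]
      rfl
    have h3 := hr _ _ h2
    rw [inv_mul_eq_one] at h3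
    rw [h3]
  · intro x
    obtain ⟨b, hb⟩ := omk_eq.mp (omk_out (omk r x))
    exact ⟨(omk r x, b), hb⟩

end Cfsg.Agent.Fus.Tr
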