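import Cfsg.Agent.Fus.WNorm

set_option autoImplicit false

/-!
# Two weakly normal subsystems over the same subgroup (helper35)

`O^{p'}(E) ≤ D` for `E`, `D` weakly normal in `F` over the same `T`.
-/

namespace Cfsg.Agent.Fus

open Cfsg Cfsg.FusionSystem

variable {Ω : Type*} [Group Ω] {S T : Subgroup Ω} {F : FusionSystem S} {E D : FusionSystem T} {p : ℕ}

theorem tcen_iff_of_invariant (h : E.IsInvariantIn F) {Q : Subgroup Ω} : TCen F T Q ↔ E.IsCentric Q :=
  tcen_iff_isCentric h.1 fun _ _ hP hf => dec_of_invariant h hP hf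

theorem autGroup_sub (h : E.IsSubsystemOf F) (hTS : T ≤ S) {Q : Subgroup Ω} (hQ : Q ≤ T) :
    E.autGroup Q ≤ F.autGroup Q := fun _ hα =>
  (mem_autGroup_iff (hQ.trans hTS)).mpr (isSubsystemOf_iff.mp h _ _ (isMap_ofAut hQ hα))

theorem pHas_conjSysT (h : E.IsInvariantIn F) {β : MulAut T} (hβ : β ∈ F.autGroup T) {X : FusionSystem T}
    (hX : PHas E p E.IsCentric X) : PHas E p E.IsCentric (conjSys β X) := by
  have hTS := h.2.1.1
  intro P α k hP hα hk
  have hPT := hP.1
  have hα' := isMap_ofAut hPT hα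
  rw [isMap_conjSys']
  refine ⟨hα'.univ, ?_⟩
  have hB : IsMap F P (ofAut β⁻¹) := (isMap_ofAut hTS (Subgroup.inv_mem _ hβ)).mono hPT
  have hPB := isConj_le_sc h.2.1 hPT hB.isConj
  have h1 := hX (img P (ofAut β⁻¹)) (hB.trans rfl α) k
    ((tcen_iff_of_invariant h).mp (((tcen_iff_of_invariant h).mpr hP).conj h.2.1 hB.isConj))
    (inv_transport (strongInv_of_invariant h) hPT hB hα hPB) (by rw [← map_pow, hk, map_one])
  refine h1.congr fun x hx => ?_
  obtain ⟨y, hy, rfl⟩ := (mem_img_ofAut β⁻¹ hPT).mp hx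
  rw [hB.ofAut_trans rfl α hy, cjf_apply β⁻¹ hPT _ hy]

theorem tInv_pgenMin [Finite T] (h : E.IsInvariantIn F) :
    TInv F (pgenMin E p (isFam_centric (F := E))) := by
  intro α hα
  refine autInv_of_le ?_
  rw [le_iff]
  intro P f hf
  rw [isMap_conjSys', inv_inv]
  refine ⟨hf.univ, isMap_interSys.mpr fun X hX => ?_⟩
  have h1 := isMap_interSys.mp hf (conjSys α⁻¹ X) (pHas_conjSysT h (Subgroup.inv_mem _ hα) hX)
  have h2 := (isMap_conjSys'.mp h1).2
  rwa [inv_inv] at h2

/-- `E` and `D` are weakly normal in `F`, over the same subgroup. -/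
structure WPair (F : FusionSystem S) (E D : FusionSystem T) (p : ℕ) : Prop where
  hS : IsPGroup p S
  hF : F.IsSaturated p
  hE : E.IsSaturated p
  hD : D.IsSaturated p
  hEi : E.IsInvariantIn F
  hDi : D.IsInvariantIn F

namespace WPair

variable (H : WPair F E D p) [Finite S] [Fact p.Prime]

include H

omit [Finite ↥S] [Fact (Nat.Prime p)] in
theorem isCentric_iff {Q : Subgroup Ω} : E.IsCentric Q ↔ D.IsCentric Q :=
  (tcen_iff_of_invariant H.hEi).symm.trans (tcen_iff_of_invariant H.hDi)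

omit [Finite ↥S] [Fact (Nat.Prime p)] in
theorem symm : WPair F D E p := ⟨H.hS, H.hF, H.hD, H.hE, H.hDi, H.hEi⟩

/-- the `p`-automorphisms of `E` are in `D` -/
theorem pHas [Finite T] : PHas E p E.IsCentric D := fun _ _ _ hP hα hk =>
  isMap_ofAut hP.1 (pel_mem_of_invariant H.hS H.hF H.hE H.hEi H.hDi hP.1 hα hk)

theorem j0_le [Finite T] : pgenMin E p (isFam_centric (F := E)) ≤ D := pgenMin_min _ H.pHas

omit [Finite ↥S] [Fact (Nat.Prime p)] in
theorem hA [Finite T] : ∀ α ∈ D.autGroup T ⊔ E.autGroup T, AutInv α (pgenMin E p (isFam_centric (F := E))) := by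
  have hTS := H.hEi.2.1.1
  intro α hα
  refine tInv_pgenMin H.hEi α ?_
  exact sup_le (autGroup_sub H.hDi.1 hTS le_rfl) (autGroup_sub H.hEi.1 hTS le_rfl) hα

/-- the system generated by `E` and `D` -/
def join [Finite T] : FusionSystem T := aSys H.hA

theorem le_join_left [Finite T] : E ≤ H.join := by
  have hTS := H.hEi.2.1.1
  rw [le_iff]
  intro P f hf
  obtain ⟨α, hα, g, hg, h1⟩ := (pHas_pgenMin (isFam_centric (F := E))).dec (isPGroup_of_le H.hS hTS) H.hE
    isFam_centric hf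
  exact isMap_aSys.mpr ⟨α, Subgroup.mem_sup_right hα, g, hg, h1⟩

theorem le_join_right [Finite T] : D ≤ H.join := by
  have hTS := H.hEi.2.1.1
  rw [le_iff]
  intro P f hf
  have h0 : PHas D p D.IsCentric (pgenMin E p (isFam_centric (F := E))) := by
    intro Q α k hQ hα hk
    exact pHas_pgenMin isFam_centric Q α k (H.isCentric_iff.mpr hQ)
      (pel_mem_of_invariant H.hS H.hF H.hD H.hDi H.hEi hQ.1 hα hk) hk
  obtain ⟨α, hα, g, hg, h1⟩ := h0.dec (isPGroup_of_le H.hS hTS) H.hD isFam_centric hf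
  exact isMap_aSys.mpr ⟨α, Subgroup.mem_sup_left hα, g, hg, h1⟩

theorem join_isMap [Finite T] {P : Subgroup Ω} {f : Ω → Ω} (h : IsMap H.join P f) : IsMap F P f := by
  have hTS := H.hEi.2.1.1
  refine aSys_isMap hTS (sup_le (autGroup_sub H.hDi.1 hTS le_rfl) (autGroup_sub H.hEi.1 hTS le_rfl)) ?_ h
  rw [isSubsystemOf_iff]
  intro Q g hg
  exact isSubsystemOf_iff.mp H.hEi.1 _ _ (le_iff.mp (pgenMin_le _) _ _ hg)

theorem join_sub [Finite T] : H.join.IsSubsystemOf F := isSubsystemOf_iff.mpr fun _ _ h => H.join_isMap h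

omit [Finite ↥S] in
theorem pow_inner [Finite T] {α : MulAut T} (hα : α ∈ D.autGroup T ⊔ E.autGroup T) :
    ∃ m : ℕ, m.Coprime p ∧ α ^ m ∈ autInducedBy T T := by
  have hTS := H.hEi.2.1.1
  have hTp := isPGroup_of_le H.hS hTS
  refine exists_pow_mem_sup (fun b hb a ha => ?_) (autInducedBy_le_autGroup le_rfl)
    (fun a ha => exists_pow_inner hTp H.hD ha) (fun b hb => exists_pow_inner hTp H.hE hb) hα
  exact inv_conj_mem (strongInv_of_invariant H.hDi) le_rfl hTS (autGroup_sub H.hEi.1 hTS le_rfl hb) ha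

/-- `p`-automorphisms of the join -/
theorem join_pel [Finite T] {Q : Subgroup Ω} (hQT : Q ≤ T) {x : MulAut Q} (hx : x ∈ H.join.autGroup Q) {k : ℕ}
    (hk : x ^ p ^ k = 1) : x ∈ E.autGroup Q := by
  obtain ⟨α, hα, hαx⟩ := isMap_aSys.mp (isMap_ofAut hQT hx)
  have hpow : ∀ n : ℕ, DecW (pgenMin E p (isFam_centric (F := E))) (α ^ n) Q (ofAut (x ^ n)) := by
    intro n
    induction n with
    | zero =>
      rw [pow_zero, pow_zero]
      exact ⟨id, isMap_id hQT, fun y hy => by rw [ofAut_one hy]; exact (ofAut_one (hQT hy)).symm⟩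
    | succ n ih =>
      rw [pow_succ', pow_succ']
      have h1 : DecW (pgenMin E p (isFam_centric (F := E))) α (img Q (ofAut (x ^ n))) (ofAut x) := by
        rw [img_ofAut]
        exact hαx
      exact (decW_comp (H.hA _ (Subgroup.inv_mem _ (Subgroup.pow_mem _ hα n))) ih h1).congr
        fun y hy => (ofAut_mul _ _ hy).symm
  obtain ⟨m, hm, hmI⟩ := H.pow_inner hα
  obtain ⟨n, hn0, hn1⟩ := Nat.chineseRemainder (Nat.Coprime.pow_right k hm) 0 1
  have h1 : x ^ n = x := by
    have h3 : n ≡ 1 [MOD orderOf x] := hn1.of_dvd (orderOf_dvd_of_pow_eq_one hk)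
    have := (pow_eq_pow_iff_modEq (x := x)).mpr h3
    rwa [pow_one] at this
  have h2 : α ^ n ∈ autInducedBy T T := by
    obtain ⟨j, rfl⟩ := (Nat.modEq_zero_iff_dvd).mp hn0
    rw [pow_mul]
    exact Subgroup.pow_mem _ hmI j
  obtain ⟨f₀, hf₀, hf⟩ := hpow n
  rw [h1] at hf
  obtain ⟨t, ht, htx⟩ := mem_autInducedBy'.mp h2
  rw [mem_autGroup_iff hQT]
  have h3 : IsMap E Q f₀ := le_iff.mp (pgenMin_le _) _ _ hf₀
  have h4 : IsMap E (img Q f₀) (fun y => t * y * t⁻¹) := isMap_conj h3.img_le ht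
  refine (h4.comp h3 fun y hy => subset_img hy).congr fun y hy => ?_
  rw [hf y hy, htx _ (hf₀.mem hy)]

/-- images of fully normalized subgroups of `E` under `Aut_F(T)` -/
theorem fn_img [Finite T] {Q : Subgroup Ω} (hQ : E.IsFullyNormalized Q) {α : MulAut T} (hα : α ∈ F.autGroup T)
    {R : Subgroup Ω} (hRT : R ≤ T) (hR : img R (ofAut α) = Q) : E.IsFullyNormalized R := by
  have hTS := H.hEi.2.1.1
  have hinv := tInv_of_strongInv (strongInv_of_invariant H.hEi) hTS
  have hα' := Subgroup.inv_mem _ hα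
  -- sizes of normalizers
  have hsize : ∀ {β : MulAut T} {A : Subgroup Ω}, β ∈ F.autGroup T → A ≤ T →
      Nat.card (normalizerIn T A) ≤ Nat.card (normalizerIn T (img A (ofAut β))) := by
    intro β A hβ hA
    have hm : IsMap F (normalizerIn T A) (ofAut β) := (isMap_ofAut hTS hβ).mono (normalizerIn_le A)
    refine card_le_of_map hm (le_trans (normalizerIn_le _) hTS) fun x hx => ⟨ofAut_mem β hx.1, ?_⟩
    exact hm.map_normalizer (le_normalizerIn hA) hx hx.2
  refine ⟨hRT, fun R' hR' => ?_⟩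
  obtain ⟨f, hf, rfl⟩ := isConj_iff.mp hR'
  have h1 := hinv α hα _ _ hf
  have h2 : img (img R (ofAut α)) (cjf α f) = img (img R f) (ofAut α) := by
    have hm : IsMap F R (ofAut α) := (isMap_ofAut hTS hα).mono hRT
    rw [← hm.img_comp, ← hf.img_comp]
    exact img_congr fun x hx => cjf_apply α hRT f hx
  have h3 : Nat.card (normalizerIn T (img (img R (ofAut α)) (cjf α f))) ≤ Nat.card (normalizerIn T Q) := by
    refine hQ.2 _ ?_
    have := h1.isConj
    rwa [hR] at this ⊢
  rw [h2] at h3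
  refine (hsize hα hf.img_le).trans (h3.trans ?_)
  rw [← hR]
  have h4 := hsize (A := img R (ofAut α)) hα' (img_le_of_le α hRT)
  rwa [img_ofAut_inv' α hRT] at h4

theorem join_saturated [Finite T] : H.join.IsSaturated p := by
  have hTS := H.hEi.2.1.1
  have hT := H.hEi.2.1
  have hTp := isPGroup_of_le H.hS hTS
  have hAF : D.autGroup T ⊔ E.autGroup T ≤ F.autGroup T :=
    sup_le (autGroup_sub H.hDi.1 hTS le_rfl) (autGroup_sub H.hEi.1 hTS le_rfl)
  refine isSaturated_of_family hTp {P | TCen F T P} (fun P hP Q hPQ => ?_) (fun P hP => ?_) (fun X hX => ?_)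
    (fun P hP hP' => ?_)
  · exact hP.conj hT (isConj_of_subsystem H.join_sub hPQ)
  · obtain ⟨Q, hPQ, hQ⟩ := exists_fullyNormalized (F := E) hP.1
    have hPQ' : H.join.IsConj P Q := by
      obtain ⟨f, hf, rfl⟩ := isConj_iff.mp hPQ
      exact (le_iff.mp H.le_join_left _ _ hf).isConj
    refine ⟨Q, hPQ', ?_, ?_⟩
    · refine isFullyAutomized_of hTp hQ.1 fun K hK hKp hle => ?_
      have h1 : K ≤ E.autGroup Q := by
        intro x hx
        obtain ⟨k, hk⟩ := hKp ⟨x, hx⟩
        exact H.join_pel hQ.1 (hK hx) (congrArg Subtype.val hk)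
      exact IsFullyAutomized.le_of_isPGroup (sat_fullyAutomized hTp H.hE hQ) h1 hKp hle
    · rw [isReceptive_iff]
      refine ⟨hQ.1, fun R f hf himg N hRN hN => ?_⟩
      have hNT : N ≤ T := fun x hx => (hN x hx).1
      have hRT : R ≤ T := hRN.trans hNT
      obtain ⟨α, hα, e, he, hfe⟩ := isMap_aSys.mp hf
      have heE : IsMap E R e := le_iff.mp (pgenMin_le _) _ _ he
      have hQ₁ : img (img R e) (ofAut α) = Q := by
        rw [← himg, img_congr hfe, heE.img_comp]
      have hQ₁n := H.fn_img hQ (hAF hα) heE.img_le hQ₁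
      obtain ⟨g, hg, hgx⟩ := recep_exists_extend_of_le (sat_receptive' hTp H.hE hQ₁n) heE rfl hRN (fun n hn => by
        obtain ⟨h1, h2, h, hh, h3⟩ := hN n hn
        refine ⟨h1, h2, ofAut α⁻¹ h, ofAut_mem _ hh, fun x hx => ?_⟩
        have hnx : n * x * n⁻¹ ∈ R := (Subgroup.mem_normalizer_iff.mp h2 x).mp hx
        have h4 := h3 x hx
        rw [hfe _ hnx, hfe x hx] at h4
        have h5 := congrArg (ofAut α⁻¹) h4
        have hex : e x ∈ T := heE.mem hx
        rw [ofAut_inv_apply α (heE.mem hnx), ofAut_map_mul _ (T.mul_mem hh (ofAut_mem α hex)) (T.inv_mem hh),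
          ofAut_map_mul _ hh (ofAut_mem α hex), ofAut_inv_apply α hex, ofAut_map_inv' _ hh] at h5
        exact h5)
      have hα' : IsMap H.join T (ofAut α) := isMap_aSys_aut hα
      exact ⟨fun x => ofAut α (g x), hα'.comp (le_iff.mp H.le_join_left _ _ hg) fun x hx => hg.mem hx,
        fun x hx => by
          show ofAut α (g x) = f x
          rw [hgx x hx, hfe x hx]⟩
  · rw [le_iff]
    intro P f hf
    obtain ⟨α, hα, e, he, hfe⟩ := isMap_aSys.mp hf
    have hsub : ∀ (Q : Subgroup Ω) (g : Ω → Ω), TCen F T Q → IsMap H.join Q g → IsMap X Q g := fun Q g hQ hg =>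
      (isMap_of_mem (hX Q hQ hg.hom_mem)).congr fun x hx => by rw [ofHom_apply _ hx]; rfl
    have h1 : pgenMin E p (isFam_centric (F := E)) ≤ X := pgenMin_min _ fun Q β k hQ hβ hk =>
      hsub Q _ ((tcen_iff_of_invariant H.hEi).mpr hQ) (le_iff.mp H.le_join_left _ _ (isMap_ofAut hQ.1 hβ))
    have h2 : IsMap X T (ofAut α) :=
      hsub T _ ((tcen_iff_of_invariant H.hEi).mpr isCentric_self) (isMap_aSys_aut hα)
    exact (h2.comp (le_iff.mp h1 _ _ he) fun x hx => he.mem hx).congr fun x hx => (hfe x hx).symm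
  · refine absurd ((tcen_iff_of_invariant H.hEi).mpr ⟨hP.1, fun R hR => ?_⟩) hP'
    refine hP.2 R ?_
    obtain ⟨f, hf, rfl⟩ := isConj_iff.mp hR
    exact (le_iff.mp H.le_join_left _ _ hf).isConj

/-- `O^{p'}(E) ≤ D`. -/
theorem pPrimeRes_le_right [Finite T] : pPrimeRes E p ≤ D := by
  have hTS := H.hEi.2.1.1
  have hT := H.hEi.2.1
  have hTp := isPGroup_of_le H.hS hTS
  have h1 : PExt E p E.IsCentric (interSys (C := {X : FusionSystem T | X = E ∨ X = D}) ⟨E, Or.inl rfl⟩) := by
    refine ⟨?_, ?_, ?_⟩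
    · rw [le_iff]
      intro P f hf
      exact isMap_interSys.mp hf E (Or.inl rfl)
    · intro P α k hP hα hk
      refine isMap_interSys.mpr ?_
      rintro X (rfl | rfl)
      · exact isMap_ofAut hP.1 hα
      · exact H.pHas P α k hP hα hk
    · intro P R f hP hPR hR hf
      refine isMap_interSys.mpr ?_
      rintro X (rfl | rfl)
      · exact hR
      · have hPc : H.join.IsCentric P := by
          refine ⟨hP.1, fun Q hQ => ?_⟩
          exact ((tcen_iff_of_invariant H.hEi).mpr hP).2 Q (isConj_of_subsystem H.join_sub hQ)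
        exact mem_of_restrict_centric hTp H.join_saturated H.hD H.le_join_right (le_iff.mp H.le_join_left _ _ hR)
          hPc hPR (isMap_interSys.mp hf _ (Or.inr rfl))
  refine fusLe_trans genK_le (fusLe_trans (pextMin_le isFam_centric h1) ?_)
  rw [le_iff]
  intro P f hf
  exact isMap_interSys.mp hf D (Or.inr rfl)

end WPair

end Cfsg.Agent.Fus
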