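import Cfsg.Agent.Fus.ExtZ

set_option autoImplicit false

/-!
# Weakly normal subsystems: transport, `p`-automorphisms, joins (helper35)
-/

namespace Cfsg.Agent.Fus

open Cfsg Cfsg.FusionSystem

variable {Ω : Type*} [Group Ω] {S T : Subgroup Ω} {F : FusionSystem S} {E D : FusionSystem T} {p : ℕ}

/-! ### Invariant systems -/

/-- transport of `Aut_E(Q)` by a map of `F` -/
theorem inv_transport (h : StrongInv E F) {Q : Subgroup Ω} (hQT : Q ≤ T) {g : Ω → Ω} (hg : IsMap F Q g)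
    {β : MulAut Q} (hβ : β ∈ E.autGroup Q) (hgT : img Q g ≤ T) : hg.trans rfl β ∈ E.autGroup (img Q g) := by
  obtain ⟨k, hk, hkx⟩ := h Q Q (ofAut β) g le_rfl hQT (isMap_ofAut hQT hβ) (fun x hx => ofAut_mem β hx) hg
  rw [mem_autGroup_iff hgT]
  refine hk.congr fun y hy => ?_
  obtain ⟨x, hx, rfl⟩ := hg.mem_img.mp hy
  rw [hg.ofAut_trans rfl β hx, hkx x hx]

theorem inv_transport_back (h : StrongInv E F) (hT : F.StronglyClosed T) {Q : Subgroup Ω} (hQT : Q ≤ T) {g : Ω → Ω}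
    (hg : IsMap F Q g) {β : MulAut Q} (hβ : hg.trans rfl β ∈ E.autGroup (img Q g)) : β ∈ E.autGroup Q := by
  have hgT := isConj_le_sc hT hQT hg.isConj
  obtain ⟨k, hk, hkx⟩ := h (img Q g) (img Q g) (ofAut (hg.trans rfl β)) (minv Q g) le_rfl hgT (isMap_ofAut hgT hβ)
    (fun x hx => ofAut_mem _ hx) hg.minv_isMap
  rw [hg.img_minv] at hk
  rw [mem_autGroup_iff hQT]
  refine hk.congr fun x hx => ?_
  have h1 := hkx _ (subset_img hx)
  rw [hg.minv_apply hx] at h1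
  rw [h1, hg.ofAut_trans rfl β hx, hg.minv_apply (ofAut_mem β hx)]

/-- `Aut_E(Q)` is normalized by `Aut_F(Q)`. -/
theorem inv_conj_mem (h : StrongInv E F) {Q : Subgroup Ω} (hQT : Q ≤ T) (hTS : T ≤ S) {β κ : MulAut Q}
    (hβ : β ∈ F.autGroup Q) (hκ : κ ∈ E.autGroup Q) : β * κ * β⁻¹ ∈ E.autGroup Q := by
  have hβm := isMap_ofAut (hQT.trans hTS) hβ
  obtain ⟨k, hk, hkx⟩ := h Q Q (ofAut κ) (ofAut β) le_rfl hQT (isMap_ofAut hQT hκ) (fun x hx => ofAut_mem κ hx) hβm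
  rw [img_ofAut] at hk
  rw [mem_autGroup_iff hQT]
  refine hk.congr fun y hy => ?_
  have hy' := ofAut_mem β⁻¹ hy
  have h1 := hkx _ hy'
  rw [ofAut_apply_inv β hy] at h1
  rw [h1, ofAut_mul _ _ hy, ofAut_mul _ _ hy']

/-- Fully normalized subgroups of `F` contained in `T` are fully normalized in subsystems over `T`. -/
theorem fullyNormalized_sub [Finite S] [Fact p.Prime] (hS : IsPGroup p S) (hF : F.IsSaturated p)
    (hT : F.StronglyClosed T) (hle : E.IsSubsystemOf F) {Q : Subgroup Ω} (hQ : F.IsFullyNormalized Q) (hQT : Q ≤ T) :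
    E.IsFullyNormalized Q := by
  refine ⟨hQT, fun R hR => ?_⟩
  have hRF := isConj_of_subsystem hle hR
  have hRT : R ≤ T := isConj_le_sc hT hQT hRF
  obtain ⟨g, hg, -, h2⟩ := sat_exists_normalizer_map hS hF hQ (isConj_symm hRF)
  have hsub : normalizerIn T R ≤ normalizerIn S R := inf_le_inf_right _ hT.1
  have hgT := hg.mono hsub
  exact card_le_of_map hgT (le_trans (normalizerIn_le Q) hT.1) fun x hx =>
    ⟨sc_map_mem hT hgT hx hx.1, (h2 x (hsub hx)).2⟩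

/-- The `p`-automorphisms in two weakly normal subsystems over the same subgroup are the same. -/
theorem pel_mem_of_invariant [Finite S] [Fact p.Prime] (hS : IsPGroup p S) (hF : F.IsSaturated p)
    (hE : E.IsSaturated p) (hEi : E.IsInvariantIn F) (hDi : D.IsInvariantIn F) {Q : Subgroup Ω} (hQT : Q ≤ T)
    {α : MulAut Q} (hα : α ∈ E.autGroup Q) {k : ℕ} (hk : α ^ p ^ k = 1) : α ∈ D.autGroup Q := by
  have hT := hEi.2.1
  have hTS := hT.1
  have hfT : Finite T := finite_of_le hTS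
  have hTp := isPGroup_of_le hS hTS
  have hES := strongInv_of_invariant hEi
  have hDS := strongInv_of_invariant hDi
  obtain ⟨Q₀, hQQ₀, hQ₀⟩ := exists_fullyNormalized (F := F) (hQT.trans hTS)
  obtain ⟨g, hg, rfl⟩ := isConj_iff.mp hQQ₀
  have hgT := isConj_le_sc hT hQT hQQ₀
  have hα₀ := inv_transport hES hQT hg hα hgT
  have hEn := fullyNormalized_sub hS hF hT hEi.1 hQ₀ hgT
  have hk' : (hg.trans rfl α) ^ p ^ k = 1 := by rw [← map_pow, hk, map_one]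
  obtain ⟨β, hβ, hβα⟩ := IsFullyAutomized.conj_le (sat_fullyAutomized hTp hE hEn)
    (K := Subgroup.zpowers (hg.trans rfl α)) (by rw [Subgroup.zpowers_le]; exact hα₀) (isPGroup_zpowers_of_pow hk')
  have h1 := autInducedBy_le_autGroup (F := D) hgT (hβα _ (Subgroup.mem_zpowers _))
  have hβF : β ∈ F.autGroup (img Q g) := (mem_autGroup_iff (hgT.trans hTS)).mpr
    (isSubsystemOf_iff.mp hEi.1 _ _ (isMap_ofAut hgT hβ))
  have h2 := inv_conj_mem hDS hgT hTS (Subgroup.inv_mem _ hβF) h1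
  have e : β⁻¹ * (β * (hg.trans rfl α) * β⁻¹) * β⁻¹⁻¹ = hg.trans rfl α := by group
  rw [e] at h2
  exact inv_transport_back hDS hT hQT hg h2

theorem tInv_of_strongInv (h : StrongInv E F) (hTS : T ≤ S) : TInv F E := by
  intro α hα P f hf
  obtain ⟨k, hk, hkx⟩ := h P T f (ofAut α) hf.le le_rfl hf (fun x hx => hf.mem hx) (isMap_ofAut hTS hα)
  refine hk.congr fun y hy => ?_
  obtain ⟨x, hx, rfl⟩ := (mem_img_ofAut α hf.le).mp hy
  rw [hkx x hx, cjf_apply α hf.le f hx]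

/-! ### Automorphisms of `T` modulo inner ones -/

theorem exists_pow_inner [Finite T] [Fact p.Prime] (hT : IsPGroup p T) (hE : E.IsSaturated p) {a : MulAut T}
    (ha : a ∈ E.autGroup T) : ∃ m : ℕ, m.Coprime p ∧ a ^ m ∈ autInducedBy T T := by
  have hfA := finite_mulAut (P := T)
  have hn : E.IsFullyNormalized T := ⟨le_rfl, fun R hR => by rw [isConj_self_iff.mp hR]⟩
  obtain ⟨-, R, hR⟩ := sat_fullyAutomized hT hE hn
  have hnorm : ((autInducedBy T T).subgroupOf (E.autGroup T)).Normal := by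
    refine ⟨fun x hx g => ?_⟩
    rw [Subgroup.mem_subgroupOf] at hx ⊢
    obtain ⟨t, ht, h⟩ := mem_autInducedBy'.mp hx
    refine mem_autInducedBy'.mpr ⟨ofAut (g : MulAut T) t, ofAut_mem _ ht, fun y hy => ?_⟩
    have hy' := ofAut_mem (g : MulAut T)⁻¹ hy
    show ofAut ((g : MulAut T) * (x : MulAut T) * (g : MulAut T)⁻¹) y = _
    rw [ofAut_mul _ _ hy, ofAut_mul _ _ hy', h _ hy', ofAut_map_mul _ (T.mul_mem ht hy') (T.inv_mem ht),
      ofAut_map_mul _ ht hy', ofAut_apply_inv _ hy, ofAut_map_inv' _ ht]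
  have hind : ¬ p ∣ ((autInducedBy T T).subgroupOf (E.autGroup T)).index := by
    rw [← hR]
    exact R.not_dvd_index
  refine ⟨((autInducedBy T T).subgroupOf (E.autGroup T)).index,
    ((Nat.Prime.coprime_iff_not_dvd Fact.out).mpr hind).symm, ?_⟩
  exact Subgroup.pow_index_mem ((autInducedBy T T).subgroupOf (E.autGroup T)) ⟨a, ha⟩

theorem exists_pow_mem_sup {X : Type*} [Group X] {A B I : Subgroup X} (hBA : ∀ b ∈ B, ∀ a ∈ A, b * a * b⁻¹ ∈ A)
    (hIA : I ≤ A) (hA : ∀ a ∈ A, ∃ m : ℕ, m.Coprime p ∧ a ^ m ∈ I) (hB : ∀ b ∈ B, ∃ m : ℕ, m.Coprime p ∧ b ^ m ∈ I)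
    {x : X} (hx : x ∈ A ⊔ B) : ∃ m : ℕ, m.Coprime p ∧ x ^ m ∈ I := by
  have hBn : B ≤ Subgroup.normalizer (A : Set X) := by
    intro b hb
    rw [Subgroup.mem_normalizer_iff]
    intro a
    refine ⟨hBA b hb a, fun h => ?_⟩
    have := hBA b⁻¹ (B.inv_mem hb) _ h
    have e : b⁻¹ * (b * a * b⁻¹) * b⁻¹⁻¹ = a := by group
    rwa [e] at this
  obtain ⟨a, ha, b, hb, rfl⟩ := (Cfsg.Agent.H85.mem_sup_iff_of_normalizes (N := A) (A := B) hBn).mp hx
  have key : ∀ m : ℕ, (a * b) ^ m * (b ^ m)⁻¹ ∈ A := by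
    intro m
    induction m with
    | zero => simp
    | succ m ih =>
      have e : (a * b) ^ (m + 1) * (b ^ (m + 1))⁻¹ = ((a * b) ^ m * (b ^ m)⁻¹) * (b ^ m * a * (b ^ m)⁻¹) := by
        rw [pow_succ, pow_succ]
        group
      rw [e]
      exact A.mul_mem ih (hBA _ (B.pow_mem hb m) a ha)
  obtain ⟨m, hm, hbm⟩ := hB b hb
  have h1 : (a * b) ^ m ∈ A := by
    have := A.mul_mem (key m) (hIA hbm)
    rwa [inv_mul_cancel_right] at this
  obtain ⟨n, hn, h2⟩ := hA _ h1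
  exact ⟨m * n, Nat.Coprime.mul_left hm hn, by rwa [pow_mul]⟩

/-! ### Systems of the form `A ∘ E` -/

/-- `f = α ∘ f₀` with `f₀` in `E` -/
def DecW (E : FusionSystem T) (α : MulAut T) (P : Subgroup Ω) (f : Ω → Ω) : Prop :=
  ∃ f₀, IsMap E P f₀ ∧ ∀ x ∈ P, f x = ofAut α (f₀ x)

theorem DecW.congr {α : MulAut T} {P : Subgroup Ω} {f g : Ω → Ω} (h : DecW E α P f) (hfg : ∀ x ∈ P, f x = g x) :
    DecW E α P g := by
  obtain ⟨f₀, hf₀, h1⟩ := h
  exact ⟨f₀, hf₀, fun x hx => by rw [← hfg x hx, h1 x hx]⟩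

theorem DecW.mono {α : MulAut T} {P Q : Subgroup Ω} {f : Ω → Ω} (h : DecW E α P f) (hQ : Q ≤ P) : DecW E α Q f := by
  obtain ⟨f₀, hf₀, h1⟩ := h
  exact ⟨f₀, hf₀.mono hQ, fun x hx => h1 x (hQ hx)⟩

theorem DecW.univ {α : MulAut T} {P : Subgroup Ω} {f : Ω → Ω} (h : DecW E α P f) : IsMap (univSys T) P f := by
  obtain ⟨f₀, hf₀, h1⟩ := h
  exact ((isMap_ofAut_univ α).comp hf₀.univ fun x hx => hf₀.mem hx).congr fun x hx => (h1 x hx).symm

theorem decW_comp {α β : MulAut T} (hα : AutInv α⁻¹ E) {P : Subgroup Ω} {f g : Ω → Ω}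
    (hf : DecW E α P f) (hg : DecW E β (img P f) g) : DecW E (β * α) P (fun x => g (f x)) := by
  obtain ⟨f₀, hf₀, h1⟩ := hf
  obtain ⟨g₀, hg₀, h2⟩ := hg
  have h3 := hα _ _ hg₀
  have e : img (img P f) (ofAut α⁻¹) = img P f₀ := by
    have e1 : img P f = img (img P f₀) (ofAut α) := by
      rw [img_congr h1, hf₀.img_comp]
    rw [e1, img_ofAut_inv' α hf₀.img_le]
  rw [e] at h3
  refine ⟨fun x => cjf α⁻¹ g₀ (f₀ x), h3.comp hf₀ fun x hx => subset_img hx, fun x hx => ?_⟩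
  have h4 : f x ∈ img P f := subset_img hx
  have h5 : cjf α⁻¹ g₀ (f₀ x) = ofAut α⁻¹ (g₀ (f x)) := by
    have e2 : f₀ x = ofAut α⁻¹ (f x) := by rw [h1 x hx, ofAut_inv_apply α (hf₀.mem hx)]
    rw [e2]
    exact cjf_apply α⁻¹ hg₀.le g₀ h4
  show g (f x) = ofAut (β * α) (cjf α⁻¹ g₀ (f₀ x))
  rw [h5, h2 _ h4, ofAut_mul _ _ (ofAut_mem _ (hg₀.mem h4)), ofAut_apply_inv α (hg₀.mem h4)]

theorem decW_minv {α : MulAut T} (hα : AutInv α E) {P : Subgroup Ω} {f : Ω → Ω}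
    (hf : DecW E α P f) : DecW E α⁻¹ (img P f) (minv P f) := by
  have hfm := hf.univ
  obtain ⟨f₀, hf₀, h1⟩ := hf
  have h3 := hα _ _ hf₀.minv_isMap
  have e : img (img P f₀) (ofAut α) = img P f := by
    rw [img_congr h1, hf₀.img_comp]
  rw [e] at h3
  refine ⟨_, h3, ?_⟩
  intro y hy
  obtain ⟨x, hx, rfl⟩ := hfm.mem_img.mp hy
  rw [hfm.minv_apply hx, h1 x hx, cjf_apply α hf₀.img_le _ (subset_img hx), hf₀.minv_apply hx,
    ofAut_inv_apply α (hf₀.le hx)]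

theorem decWSpec {A : Subgroup (MulAut T)} (hA : ∀ α ∈ A, AutInv α E) :
    MapSpec T (fun P f => ∃ α ∈ A, DecW E α P f) where
  congr := by
    rintro P f g ⟨α, hα, h⟩ hfg
    exact ⟨α, hα, h.congr hfg⟩
  le := by
    rintro P f ⟨α, hα, h⟩
    exact h.univ.le
  mem := by
    rintro P f ⟨α, hα, h⟩ x hx
    exact h.univ.mem hx
  mul := by
    rintro P f ⟨α, hα, h⟩ x hx y hy
    exact h.univ.map_mul hx hy
  inj := by
    rintro P f ⟨α, hα, h⟩ x hx y hy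
    exact h.univ.inj hx hy
  conj hP hg := ⟨1, A.one_mem, _, isMap_conj hP hg, fun x hx => by
    rw [ofAut_one (T.mul_mem (T.mul_mem hg (hP hx)) (T.inv_mem hg))]⟩
  comp := by
    rintro P Q f g ⟨α, hα, h1⟩ ⟨β, hβ, h2⟩ h
    exact ⟨β * α, A.mul_mem hβ hα, decW_comp (hA _ (A.inv_mem hα)) h1 (h2.mono (h1.univ.img_le_iff.mpr h))⟩
  inv := by
    rintro P f ⟨α, hα, h⟩
    exact ⟨minv P f, fun x hx => h.univ.minv_apply hx, α⁻¹, A.inv_mem hα, decW_minv (hA α hα) h⟩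

/-- the system of the maps `α ∘ e`, `α ∈ A`, `e` in `E` -/
def aSys {A : Subgroup (MulAut T)} (hA : ∀ α ∈ A, AutInv α E) : FusionSystem T := (decWSpec hA).toFS

theorem isMap_aSys {A : Subgroup (MulAut T)} {hA : ∀ α ∈ A, AutInv α E} {P : Subgroup Ω} {f : Ω → Ω} :
    IsMap (aSys hA) P f ↔ ∃ α ∈ A, DecW E α P f := (decWSpec hA).isMap_toFS

theorem le_aSys {A : Subgroup (MulAut T)} {hA : ∀ α ∈ A, AutInv α E} : E ≤ aSys hA :=
  le_iff.mpr fun _ f hf => isMap_aSys.mpr ⟨1, A.one_mem, f, hf, fun x hx => by rw [ofAut_one (hf.mem hx)]⟩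

theorem isMap_aSys_aut {A : Subgroup (MulAut T)} {hA : ∀ α ∈ A, AutInv α E} {α : MulAut T} (hα : α ∈ A) :
    IsMap (aSys hA) T (ofAut α) :=
  isMap_aSys.mpr ⟨α, hα, id, isMap_id le_rfl, fun _ _ => rfl⟩

theorem aSys_isMap {A : Subgroup (MulAut T)} {hA : ∀ α ∈ A, AutInv α E} (hTS : T ≤ S) (hAF : A ≤ F.autGroup T)
    (hE : E.IsSubsystemOf F) {P : Subgroup Ω} {f : Ω → Ω} (h : IsMap (aSys hA) P f) : IsMap F P f := by
  obtain ⟨α, hα, f₀, hf₀, h1⟩ := isMap_aSys.mp h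
  have h2 := isSubsystemOf_iff.mp hE _ _ hf₀
  exact ((isMap_ofAut hTS (hAF hα)).comp h2 fun x hx => hf₀.mem hx).congr fun x hx => (h1 x hx).symm

end Cfsg.Agent.Fus
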